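import Mathlib

/-!
# Residue field maps of `Spec.map φ` are surjective when `B` is generated suitably
-/

open CategoryTheory CategoryTheory.Limits AlgebraicGeometry Polynomial

namespace Groth.Agent.H25.ResFld

universe u

theorem residueFieldMap_surjective_of_generated {A B : Type u} [CommRing A] [CommRing B]
    (φ : A →+* B) (q : Spec (CommRingCat.of B))
    (hgen : ∀ (E : Subfield q.asIdeal.ResidueField),
      (∀ a, algebraMap B q.asIdeal.ResidueField (φ a) ∈ E) →
        ∀ b, algebraMap B q.asIdeal.ResidueField b ∈ E) :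
    Function.Surjective ((Spec.map (CommRingCat.ofHom φ)).residueFieldMap q) := by
  set f := Spec.map (CommRingCat.ofHom φ) with hf
  let ρ := f.residueFieldMap q
  let iso := Scheme.Spec.residueFieldIso (CommRingCat.of B) q
  let E : Subfield q.asIdeal.ResidueField := (iso.hom.hom.comp ρ.hom).fieldRange
  -- evaluation
  have hev : ∀ b : B, algebraMap B q.asIdeal.ResidueField b =
      iso.hom.hom ((Spec (CommRingCat.of B)).Γevaluation q ((Scheme.ΓSpecIso (CommRingCat.of B)).inv b)) := by
    intro b
    have h1 := Scheme.Spec.algebraMap_residueFieldIso_inv (CommRingCat.of B) q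
    have h2 := congr(($h1).hom b)
    simp only [CommRingCat.hom_comp, CommRingCat.hom_ofHom, RingHom.comp_apply] at h2
    change _ = iso.hom.hom ((Spec (CommRingCat.of B)).residue q
      (((Spec (CommRingCat.of B)).presheaf.germ ⊤ q trivial)
        ((Scheme.ΓSpecIso (CommRingCat.of B)).inv b)))
    erw [← h2]
    change _ = (iso.inv ≫ iso.hom).hom _
    rw [Iso.inv_hom_id]
    rfl
  have hA : ∀ a, algebraMap B q.asIdeal.ResidueField (φ a) ∈ E := by
    intro a
    rw [hev]
    have h1 := Scheme.ΓSpecIso_inv_naturality (CommRingCat.ofHom φ)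
    have h2 := congr(($h1).hom a)
    simp only [CommRingCat.hom_comp, CommRingCat.hom_ofHom, RingHom.comp_apply] at h2
    erw [h2]
    have h3 := Scheme.Γevaluation_naturality_apply f q ((Scheme.ΓSpecIso (CommRingCat.of A)).inv a)
    erw [← h3]
    exact ⟨_, rfl⟩
  have hB := hgen E hA
  have hall : ∀ z : q.asIdeal.ResidueField, z ∈ E := by
    intro z
    obtain ⟨b₁, b₂, -, rfl⟩ := IsFractionRing.div_surjective (B ⧸ q.asIdeal) z
    obtain ⟨b₁, rfl⟩ := Ideal.Quotient.mk_surjective b₁
    obtain ⟨b₂, rfl⟩ := Ideal.Quotient.mk_surjective b₂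
    have e1 : algebraMap (B ⧸ q.asIdeal) q.asIdeal.ResidueField (Ideal.Quotient.mk _ b₁) =
        algebraMap B _ b₁ := rfl
    have e2 : algebraMap (B ⧸ q.asIdeal) q.asIdeal.ResidueField (Ideal.Quotient.mk _ b₂) =
        algebraMap B _ b₂ := rfl
    rw [e1, e2]
    exact div_mem (hB b₁) (hB b₂)
  intro z
  obtain ⟨w, hw⟩ := hall (iso.hom.hom z)
  refine ⟨w, ?_⟩
  have hinj : Function.Injective iso.hom.hom := (ConcreteCategory.bijective_of_isIso iso.hom).1
  exact hinj hw

end Groth.Agent.H25.ResFld
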