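import Mathlib
import Groth.Prelude.Def_Flat
import Groth.Agent.S0415
import Groth.Agent.H25.ResFld1

/-!
# Ring-theoretic criteria for `Spec.map φ` and passage to filtered colimits
-/

open CategoryTheory CategoryTheory.Limits AlgebraicGeometry Polynomial

namespace Groth.Agent.H25.ColimUH

universe u

section criteria

variable {A B : Type u} [CommRing A] [CommRing B] (φ : A →+* B)

/-- uniqueness of field valued points -/
def PUI : Prop :=
  ∀ (F : Type u) [Field F] (ψ₁ ψ₂ : B →+* F), ψ₁.comp φ = ψ₂.comp φ → ψ₁ = ψ₂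

def PKer : Prop := ∀ a, φ a = 0 → IsNilpotent a

def PRes : Prop :=
  ∀ q : Ideal B, q.IsPrime → ∀ b, ∃ a₁ a₂ : A, φ a₂ ∉ q ∧ φ a₂ * b - φ a₁ ∈ q

theorem ui_iff : UniversallyInjective (Spec.map (CommRingCat.ofHom φ)) ↔ PUI φ := by
  have hT := (tfae_universallyInjective (Spec.map (CommRingCat.ofHom φ))).out 0 1
  rw [hT]
  constructor
  · intro h F _ ψ₁ ψ₂ h12
    have := @h F _ (Spec.map (CommRingCat.ofHom ψ₁)) (Spec.map (CommRingCat.ofHom ψ₂)) (by
      dsimp only
      rw [← Spec.map_comp, ← Spec.map_comp, ← CommRingCat.ofHom_comp, ← CommRingCat.ofHom_comp,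
        h12])
    rw [Spec.map_inj] at this
    exact congr(($this).hom)
  · intro huniq F _ g₁ g₂ hg
    dsimp only at hg
    obtain ⟨ψ₁, rfl⟩ : ∃ ψ, g₁ = Spec.map ψ := ⟨Spec.preimage g₁, (Spec.map_preimage g₁).symm⟩
    obtain ⟨ψ₂, rfl⟩ : ∃ ψ, g₂ = Spec.map ψ := ⟨Spec.preimage g₂, (Spec.map_preimage g₂).symm⟩
    rw [← Spec.map_comp, ← Spec.map_comp, Spec.map_inj] at hg
    congr 1
    ext s
    have h2 : ψ₁.hom.comp φ = ψ₂.hom.comp φ := by
      ext a
      have := congr(($hg).hom a)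
      simpa using this
    rw [huniq F ψ₁.hom ψ₂.hom h2]

theorem ker_of_surjective (h : Surjective (Spec.map (CommRingCat.ofHom φ))) : PKer φ := by
  intro a ha
  rw [← mem_nilradical, nilradical_eq_sInf, Ideal.mem_sInf]
  intro 𝔭 h𝔭
  obtain ⟨𝔮, h𝔮⟩ := h.surj ⟨𝔭, h𝔭⟩
  have : 𝔮.asIdeal.comap φ = 𝔭 := congr(($h𝔮).asIdeal)
  rw [← this, Ideal.mem_comap, ha]
  exact zero_mem _

theorem surjective_of_integral_of_ker (hint : φ.IsIntegral) (hker : PKer φ) :
    Surjective (Spec.map (CommRingCat.ofHom φ)) := by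
  refine ⟨fun 𝔭 => ?_⟩
  algebraize [φ]
  have : Algebra.IsIntegral A B := ⟨hint⟩
  obtain ⟨Q, _, hQ, hQ'⟩ := Ideal.exists_ideal_over_prime_of_isIntegral 𝔭.asIdeal (⊥ : Ideal B) (by
    intro a ha
    have h0 : φ a = 0 := ha
    obtain ⟨n, hn⟩ := hker a h0
    exact 𝔭.isPrime.mem_of_pow_mem n (hn ▸ zero_mem _))
  exact ⟨⟨Q, hQ⟩, PrimeSpectrum.ext hQ'⟩

theorem univHomeo_iff : FlatMor.IsUnivHomeo (Spec.map (CommRingCat.ofHom φ)) ↔
    φ.IsIntegral ∧ PUI φ ∧ PKer φ := by
  rw [Groth.Agent.S0415.result, IsIntegralHom.SpecMap_iff, ui_iff]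
  constructor
  · rintro ⟨h1, h2, h3⟩
    exact ⟨h1, h2, ker_of_surjective φ h3⟩
  · rintro ⟨h1, h2, h3⟩
    exact ⟨h1, h2, surjective_of_integral_of_ker φ h1 h3⟩

theorem univClosed_iff : UniversallyClosed (Spec.map (CommRingCat.ofHom φ)) ↔ φ.IsIntegral := by
  have h1 := IsIntegralHom.SpecMap_iff (φ := CommRingCat.ofHom φ)
  have h2 := IsIntegralHom.iff_universallyClosed_and_isAffineHom
    (f := Spec.map (CommRingCat.ofHom φ))
  constructor
  · intro h
    exact h1.1 (h2.2 ⟨h, inferInstance⟩)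
  · intro h
    exact (h2.1 (h1.2 h)).1

theorem res_of_pres (h : PRes φ) (q : Spec (CommRingCat.of B)) :
    Function.Surjective ((Spec.map (CommRingCat.ofHom φ)).residueFieldMap q) := by
  apply ResFld.residueFieldMap_surjective_of_generated
  intro E hE b
  obtain ⟨a₁, a₂, h2, h1⟩ := h q.asIdeal q.isPrime b
  have hne : algebraMap B q.asIdeal.ResidueField (φ a₂) ≠ 0 := by
    rwa [Ne, Ideal.algebraMap_residueField_eq_zero]
  have h0 : algebraMap B q.asIdeal.ResidueField (φ a₂ * b - φ a₁) = 0 := by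
    rwa [Ideal.algebraMap_residueField_eq_zero]
  rw [map_sub, map_mul, sub_eq_zero] at h0
  have : algebraMap B q.asIdeal.ResidueField b =
      algebraMap B q.asIdeal.ResidueField (φ a₁) / algebraMap B q.asIdeal.ResidueField (φ a₂) := by
    rw [eq_div_iff hne, mul_comm, h0]
  rw [this]
  exact div_mem (hE _) (hE _)

theorem pres_of_res
    (h : ∀ q : Spec (CommRingCat.of B),
      Function.Surjective ((Spec.map (CommRingCat.ofHom φ)).residueFieldMap q)) : PRes φ := by
  intro q' hq' b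
  let q : Spec (CommRingCat.of B) := ⟨q', hq'⟩
  set f := Spec.map (CommRingCat.ofHom φ) with hf
  let p : Spec (CommRingCat.of A) := f q
  have hp : p.asIdeal = q'.comap φ := rfl
  let ρ := f.residueFieldMap q
  let isoB := Scheme.Spec.residueFieldIso (CommRingCat.of B) q
  let isoA := Scheme.Spec.residueFieldIso (CommRingCat.of A) p
  have hev : ∀ (R : Type u) [CommRing R] (x : Spec (CommRingCat.of R)) (r : R),
      algebraMap R x.asIdeal.ResidueField r =
      (Scheme.Spec.residueFieldIso (CommRingCat.of R) x).hom.hom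
        ((Spec (CommRingCat.of R)).Γevaluation x ((Scheme.ΓSpecIso (CommRingCat.of R)).inv r)) := by
    intro R _ x r
    have h1 := Scheme.Spec.algebraMap_residueFieldIso_inv (CommRingCat.of R) x
    have h2 := congr(($h1).hom r)
    simp only [CommRingCat.hom_comp, CommRingCat.hom_ofHom, RingHom.comp_apply] at h2
    change _ = (Scheme.Spec.residueFieldIso (CommRingCat.of R) x).hom.hom
      ((Spec (CommRingCat.of R)).residue x
      (((Spec (CommRingCat.of R)).presheaf.germ ⊤ x trivial)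
        ((Scheme.ΓSpecIso (CommRingCat.of R)).inv r)))
    erw [← h2]
    change _ = ((Scheme.Spec.residueFieldIso (CommRingCat.of R) x).inv ≫
      (Scheme.Spec.residueFieldIso (CommRingCat.of R) x).hom).hom _
    rw [Iso.inv_hom_id]
    rfl
  let σ : p.asIdeal.ResidueField →+* q'.ResidueField :=
    (isoB.hom.hom.comp ρ.hom).comp isoA.inv.hom
  have hinvhom : ∀ w, isoA.inv.hom (isoA.hom.hom w) = w := fun w => by
    change (isoA.hom ≫ isoA.inv).hom w = w
    rw [Iso.hom_inv_id]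
    rfl
  have hσdef : ∀ w, σ w = isoB.hom.hom (ρ.hom (isoA.inv.hom w)) := fun w => rfl
  have hσ : ∀ a, σ (algebraMap A p.asIdeal.ResidueField a) = algebraMap B q'.ResidueField (φ a) := by
    intro a
    rw [hev A p a, hev B q (φ a)]
    rw [hσdef, hinvhom]
    have h1 := Scheme.ΓSpecIso_inv_naturality (CommRingCat.ofHom φ)
    have h2 := congr(($h1).hom a)
    simp only [CommRingCat.hom_comp, CommRingCat.hom_ofHom, RingHom.comp_apply] at h2
    erw [h2]
    have h3 := Scheme.Γevaluation_naturality_apply f q ((Scheme.ΓSpecIso (CommRingCat.of A)).inv a)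
    erw [← h3]
  have hsurj : Function.Surjective σ := by
    intro z
    obtain ⟨w, hw⟩ := h q (isoB.inv.hom z)
    refine ⟨isoA.hom.hom w, ?_⟩
    rw [hσdef, hinvhom]
    erw [hw]
    change (isoB.inv ≫ isoB.hom).hom z = z
    rw [Iso.inv_hom_id]
    rfl
  obtain ⟨w', hw'⟩ := hsurj (algebraMap B q'.ResidueField b)
  obtain ⟨a₁, a₂, ha₂, rfl⟩ := IsFractionRing.div_surjective (A ⧸ p.asIdeal) w'
  obtain ⟨a₁, rfl⟩ := Ideal.Quotient.mk_surjective a₁
  obtain ⟨a₂, rfl⟩ := Ideal.Quotient.mk_surjective a₂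
  have e1 : algebraMap (A ⧸ p.asIdeal) p.asIdeal.ResidueField (Ideal.Quotient.mk _ a₁) =
      algebraMap A _ a₁ := rfl
  have e2 : algebraMap (A ⧸ p.asIdeal) p.asIdeal.ResidueField (Ideal.Quotient.mk _ a₂) =
      algebraMap A _ a₂ := rfl
  rw [e1, e2, map_div₀, hσ, hσ] at hw'
  have ha₂' : a₂ ∉ p.asIdeal := by
    intro hmem
    have : Ideal.Quotient.mk p.asIdeal a₂ = 0 := Ideal.Quotient.eq_zero_iff_mem.2 hmem
    rw [this] at ha₂
    exact zero_notMem_nonZeroDivisors ha₂
  have hφa₂ : φ a₂ ∉ q' := fun hmem => ha₂' (hp ▸ hmem)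
  refine ⟨a₁, a₂, hφa₂, ?_⟩
  have hne : algebraMap B q'.ResidueField (φ a₂) ≠ 0 := by
    rwa [Ne, Ideal.algebraMap_residueField_eq_zero]
  rw [← Ideal.algebraMap_residueField_eq_zero (I := q'), map_sub, map_mul, ← hw',
    mul_div_cancel₀ _ hne, sub_self]

end criteria

section directed

variable {A B : Type u} [CommRing A] [CommRing B] (φ : A →+* B)
  {ι : Type u} [Nonempty ι] (Bj : ι → Type u) [∀ j, CommRing (Bj j)] (φj : ∀ j, A →+* Bj j)
  (uj : ∀ j, Bj j →+* B) (hcomp : ∀ j, (uj j).comp (φj j) = φ)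
  (hsurj : ∀ b, ∃ j bj, uj j bj = b)
  (hker : ∀ j (x : Bj j), uj j x = 0 → ∃ (k : ι) (t : Bj j →+* Bj k),
    t.comp (φj j) = φj k ∧ (uj k).comp t = uj j ∧ t x = 0)

include hcomp hsurj in
theorem integral_colim (h : ∀ j, (φj j).IsIntegral) : φ.IsIntegral := by
  intro b
  obtain ⟨j, bj, rfl⟩ := hsurj b
  obtain ⟨P, hP, hP0⟩ := h j bj
  refine ⟨P, hP, ?_⟩
  rw [← hcomp j, ← Polynomial.hom_eval₂, hP0, map_zero]

include hcomp hsurj in
theorem pui_colim (h : ∀ j, PUI (φj j)) : PUI φ := by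
  intro F _ ψ₁ ψ₂ h12
  ext b
  obtain ⟨j, bj, rfl⟩ := hsurj b
  have := h j F (ψ₁.comp (uj j)) (ψ₂.comp (uj j)) (by
    rw [RingHom.comp_assoc, RingHom.comp_assoc, hcomp j, h12])
  exact congr($this bj)

include hcomp hker in
theorem pker_colim (h : ∀ j, PKer (φj j)) : PKer φ := by
  intro a ha
  obtain ⟨j⟩ := ‹Nonempty ι›
  have h0 : uj j (φj j a) = 0 := by
    have := congr($(hcomp j) a)
    simp only [RingHom.comp_apply] at this
    rw [this, ha]
  obtain ⟨k, t, h1, h2, h3⟩ := hker j (φj j a) h0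
  apply h k a
  rw [← h1]
  exact h3

include hcomp hsurj in
theorem pres_colim (h : ∀ j, PRes (φj j)) : PRes φ := by
  intro q hq b
  obtain ⟨j, bj, rfl⟩ := hsurj b
  obtain ⟨a₁, a₂, h2, h1⟩ := h j (q.comap (uj j)) inferInstance bj
  refine ⟨a₁, a₂, ?_, ?_⟩
  · rw [← hcomp j]; exact h2
  · rw [← hcomp j]
    simpa [Ideal.mem_comap] using h1

end directed

section cat

variable (A : CommRingCat.{u}) {J : Type u} [SmallCategory J] [IsFiltered J]
  (F : J ⥤ Under A) (c : Cocone F) (hc : IsColimit c)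

include hc in
theorem cat_surj (b : c.pt.right) :
    ∃ (j : J) (bj : (F.obj j).right), (c.ι.app j).right.hom bj = b := by
  have hc1 := isColimitOfPreserves (Under.forget A) hc
  have hc2 := isColimitOfPreserves (forget CommRingCat) hc1
  obtain ⟨j, bj, h⟩ := Types.jointly_surjective_of_isColimit hc2 b
  exact ⟨j, bj, h⟩

include hc in
theorem cat_ker (j : J) (x : (F.obj j).right) (hx : (c.ι.app j).right.hom x = 0) :
    ∃ (k : J) (t : (F.obj j).right →+* (F.obj k).right),
      t.comp (F.obj j).hom.hom = (F.obj k).hom.hom ∧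
      ((c.ι.app k).right.hom).comp t = (c.ι.app j).right.hom ∧ t x = 0 := by
  have hc1 := isColimitOfPreserves (Under.forget A) hc
  have hc2 := isColimitOfPreserves (forget CommRingCat) hc1
  have h0 : (c.ι.app j).right.hom x = (c.ι.app j).right.hom 0 := by rw [hx, map_zero]
  obtain ⟨k, f, hf⟩ := (Types.FilteredColimit.isColimit_eq_iff' hc2 (x : ((F ⋙ Under.forget A) ⋙ forget CommRingCat).obj j) (0 : (F.obj j).right)).1 h0
  refine ⟨k, (F.map f).right.hom, ?_, ?_, ?_⟩
  · have := Under.w (F.map f)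
    exact congr(($this).hom)
  · have := c.w f
    have := congr(($this).right.hom)
    exact this
  · have : (F.map f).right.hom x = (F.map f).right.hom 0 := hf
    rw [this, map_zero]

theorem cat_comp (j : J) :
    ((c.ι.app j).right.hom).comp (F.obj j).hom.hom = c.pt.hom.hom := by
  have := Under.w (c.ι.app j)
  exact congr(($this).hom)

end cat

end Groth.Agent.H25.ColimUH
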