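import Mathlib

/-!
# Towers of elementary extensions inside an algebra
-/

namespace Groth.Agent.H25.Tower

universe u

variable {A B : Type u} [CommRing A] [CommRing B] [Algebra A B]

/-- the set of the first `n` entries of `l` -/
def pre (l : List B) (n : ℕ) : Set B := {b | ∃ j : Fin l.length, j.val < n ∧ b = l.get j}

variable (El : Subalgebra A B → B → Prop)

def IsTower (l : List B) : Prop :=
  ∀ i : Fin l.length, El (Algebra.adjoin A (pre l i.val)) (l.get i)

omit [CommRing A] [CommRing B] [Algebra A B] in
theorem pre_append (l : List B) (b : B) (n : ℕ) (hn : n ≤ l.length) :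
    pre (l ++ [b]) n = pre l n := by
  ext x
  constructor
  · rintro ⟨j, hj, rfl⟩
    have hjl : j.val < l.length := by omega
    refine ⟨⟨j.val, hjl⟩, hj, ?_⟩
    simp only [List.get_eq_getElem]
    exact List.getElem_append_left hjl
  · rintro ⟨j, hj, rfl⟩
    refine ⟨⟨j.val, by simp <;> omega⟩, hj, ?_⟩
    simp only [List.get_eq_getElem]
    exact (List.getElem_append_left j.isLt).symm

omit [CommRing A] [CommRing B] [Algebra A B] in
theorem pre_length (l : List B) : pre l l.length = {x | x ∈ l} := by
  ext x
  constructor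
  · rintro ⟨j, -, rfl⟩
    exact List.get_mem l j
  · intro hx
    obtain ⟨j, rfl⟩ := List.get_of_mem hx
    exact ⟨j, j.isLt, rfl⟩

theorem isTower_append (l : List B) (b : B) :
    IsTower El (l ++ [b]) ↔ IsTower El l ∧ El (Algebra.adjoin A {x | x ∈ l}) b := by
  constructor
  · intro h
    constructor
    · intro i
      have := h ⟨i.val, by simp <;> omega⟩
      rw [pre_append l b i.val (le_of_lt i.isLt)] at this
      simp only [List.get_eq_getElem] at this ⊢
      rwa [List.getElem_append_left i.isLt] at this
    · have := h ⟨l.length, by simp⟩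
      rw [pre_append l b l.length le_rfl, pre_length] at this
      simp only [List.get_eq_getElem] at this
      simpa using this
  · rintro ⟨h1, h2⟩ i
    have hi : i.val < l.length + 1 := by have := i.isLt; simpa using this
    by_cases hlt : i.val < l.length
    · have := h1 ⟨i.val, hlt⟩
      rw [pre_append l b i.val (le_of_lt hlt)]
      simp only [List.get_eq_getElem] at this ⊢
      rwa [List.getElem_append_left hlt]
    · have heq : i.val = l.length := by omega
      rw [heq, pre_append l b l.length le_rfl, pre_length]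
      simp only [List.get_eq_getElem]
      have : (l ++ [b])[i.val] = b := by
        simp [heq]
      rw [this]; exact h2

theorem isTower_nil : IsTower El ([] : List B) := fun i => i.elim0

variable {El}

theorem isTower_append_list (hmono : ∀ S S' b, S ≤ S' → El S b → El S' b) (l₁ l₂ : List B)
    (h₁ : IsTower El l₁) (h₂ : IsTower El l₂) : IsTower El (l₁ ++ l₂) := by
  induction l₂ using List.reverseRecOn with
  | nil => simpa using h₁
  | append_singleton l₂ b ih =>
    rw [isTower_append] at h₂
    rw [← List.append_assoc, isTower_append]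
    refine ⟨ih h₂.1, hmono _ _ b ?_ h₂.2⟩
    apply Algebra.adjoin_mono
    intro x hx
    exact List.mem_append_right _ hx

theorem tower_good (𝒢 : Subalgebra A B → Prop) (h0 : 𝒢 ⊥)
    (hstep : ∀ S b, 𝒢 S → El S b → 𝒢 (Algebra.adjoin A ((S : Set B) ∪ {b}))) :
    ∀ l : List B, IsTower El l → 𝒢 (Algebra.adjoin A {x | x ∈ l}) := by
  intro l
  induction l using List.reverseRecOn with
  | nil =>
    intro _
    have : {x : B | x ∈ ([] : List B)} = ∅ := by ext; simp
    rw [this, Algebra.adjoin_empty]; exact h0
  | append_singleton l b ih =>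
    intro h
    rw [isTower_append] at h
    have := hstep _ b (ih h.1) h.2
    have e : Algebra.adjoin A ((Algebra.adjoin A {x | x ∈ l} : Set B) ∪ {b}) =
        Algebra.adjoin A {x | x ∈ l ++ [b]} := by
      apply le_antisymm
      · apply Algebra.adjoin_le
        rintro x (hx | hx)
        · exact Algebra.adjoin_mono (fun y hy => List.mem_append_left _ hy) hx
        · apply Algebra.subset_adjoin
          simp only [Set.mem_singleton_iff] at hx
          simp [hx]
      · apply Algebra.adjoin_mono
        intro x hx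
        simp only [Set.mem_setOf_eq, List.mem_append, List.mem_singleton] at hx
        rcases hx with hx | hx
        · exact Or.inl (Algebra.subset_adjoin hx)
        · exact Or.inr hx
    rwa [e] at this

theorem tower_exists (hmono : ∀ S S' b, S ≤ S' → El S b → El S' b)
    (hfin : ∀ S b, El S b → ∃ E₀ : Finset B, (↑E₀ : Set B) ⊆ (S : Set B) ∧
      ∀ C : Subalgebra A B, (↑E₀ : Set B) ⊆ (C : Set B) → El C b)
    (hex : ∀ S : Subalgebra A B, S ≠ ⊤ → ∃ b, b ∉ S ∧ El S b) (E : Finset B) :
    ∃ l : List B, (↑E : Set B) ⊆ Algebra.adjoin A {x | x ∈ l} ∧ IsTower El l := by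
  classical
  -- the union of all towers
  let T : Subalgebra A B :=
    { carrier := {b | ∃ l : List B, IsTower El l ∧ b ∈ Algebra.adjoin A {x | x ∈ l}}
      mul_mem' := by
        rintro a b ⟨l₁, h₁, ha⟩ ⟨l₂, h₂, hb⟩
        refine ⟨l₁ ++ l₂, isTower_append_list hmono l₁ l₂ h₁ h₂, mul_mem ?_ ?_⟩
        · exact Algebra.adjoin_mono (fun y hy => List.mem_append_left _ hy) ha
        · exact Algebra.adjoin_mono (fun y hy => List.mem_append_right _ hy) hb
      add_mem' := by
        rintro a b ⟨l₁, h₁, ha⟩ ⟨l₂, h₂, hb⟩
        refine ⟨l₁ ++ l₂, isTower_append_list hmono l₁ l₂ h₁ h₂, add_mem ?_ ?_⟩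
        · exact Algebra.adjoin_mono (fun y hy => List.mem_append_left _ hy) ha
        · exact Algebra.adjoin_mono (fun y hy => List.mem_append_right _ hy) hb
      algebraMap_mem' := fun r => ⟨[], isTower_nil El, Subalgebra.algebraMap_mem _ r⟩ }
  have hTmem : ∀ b, b ∈ T ↔ ∃ l : List B, IsTower El l ∧ b ∈ Algebra.adjoin A {x | x ∈ l} :=
    fun b => Iff.rfl
  -- finite subsets of T lie in one tower
  have hfinT : ∀ E : Finset B, (↑E : Set B) ⊆ (T : Set B) →
      ∃ l : List B, (↑E : Set B) ⊆ Algebra.adjoin A {x | x ∈ l} ∧ IsTower El l := by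
    intro E
    induction E using Finset.induction_on with
    | empty => intro _; exact ⟨[], by simp, isTower_nil El⟩
    | insert e E' _ ih =>
      intro hE
      have he : e ∈ T := hE (by simp)
      obtain ⟨l₁, h₁, he₁⟩ := (hTmem e).1 he
      obtain ⟨l₂, hE₂, h₂⟩ := ih (fun x hx => hE (by simp only [Finset.coe_insert]; exact Or.inr hx))
      refine ⟨l₁ ++ l₂, ?_, isTower_append_list hmono l₁ l₂ h₁ h₂⟩
      intro x hx
      simp only [Finset.coe_insert, Set.mem_insert_iff] at hx
      rcases hx with rfl | hx
      · exact Algebra.adjoin_mono (fun y hy => List.mem_append_left _ hy) he₁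
      · exact Algebra.adjoin_mono (fun y hy => List.mem_append_right _ hy) (hE₂ hx)
  have hT : T = ⊤ := by
    by_contra hne
    obtain ⟨b, hbT, hEl⟩ := hex T hne
    obtain ⟨E₀, hE₀, hC⟩ := hfin T b hEl
    obtain ⟨l, hl, htl⟩ := hfinT E₀ hE₀
    apply hbT
    refine ⟨l ++ [b], (isTower_append El l b).2 ⟨htl, hC _ hl⟩, ?_⟩
    apply Algebra.subset_adjoin
    simp
  apply hfinT E
  rw [hT]
  intro x _
  exact Algebra.mem_top

end Groth.Agent.H25.Tower
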