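import Mathlib
import Groth.Agent.S7397
import Groth.Agent.H25.ColimUH

/-!
# Structure of universal homeomorphisms `A ⊆ B`: finding elementary sub-extensions
-/

open Polynomial

namespace Groth.Agent.H25.UHStruct

open Groth.Agent.H25.ColimUH

universe u

variable {A B : Type u} [CommRing A] [CommRing B] (φ : A →+* B)

/-- Elements of the extended conductor lie in the image. -/
theorem map_conductor_le (I : Ideal A) (hI : ∀ i ∈ I, ∀ b : B, φ i * b ∈ φ.range) :
    ∀ x ∈ I.map φ, x ∈ φ.range := by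
  intro x hx
  have key : ∀ b : B, b * x ∈ φ.range := by
    induction hx using Submodule.span_induction with
    | mem y hy =>
      obtain ⟨i, hi, rfl⟩ := hy
      intro b
      rw [mul_comm]; exact hI i hi b
    | zero => intro b; rw [mul_zero]; exact zero_mem _
    | add y z _ _ hy hz => intro b; rw [mul_add]; exact add_mem (hy b) (hz b)
    | smul c y _ hy =>
      intro b
      rw [smul_eq_mul, ← mul_assoc]; exact hy (b * c)
  simpa using key 1

/-- First dichotomy. -/
theorem core1 (hinj : Function.Injective φ) (hfin : φ.Finite)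
    (hinjS : ∀ q₁ q₂ : Ideal B, q₁.IsPrime → q₂.IsPrime → q₁.comap φ = q₂.comap φ → q₁ = q₂)
    (hns : ¬ Function.Surjective φ) :
    (∃ b : B, b ∉ φ.range ∧ b ^ 2 ∈ φ.range ∧ b ^ 3 ∈ φ.range) ∨
    ∃ q : Ideal B, q.IsPrime ∧ (∀ f ∈ q, ∃ s : A, s ∉ q.comap φ ∧ φ s * f ∈ φ.range) ∧
      ∃ b : B, ∀ s : A, s ∉ q.comap φ → φ s * b ∉ φ.range := by
  classical
  algebraize [φ]
  have hφ : algebraMap A B = φ := rfl
  let N : Submodule A B := LinearMap.range (Algebra.linearMap A B)
  have hN : ∀ x : B, x ∈ N ↔ x ∈ φ.range := by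
    intro x
    simp only [N, LinearMap.mem_range, Algebra.linearMap_apply, RingHom.mem_range, hφ]
  let I : Ideal A := Module.annihilator A (B ⧸ N)
  have hImem : ∀ i ∈ I, ∀ b : B, φ i * b ∈ φ.range := by
    intro i hi b
    have := Module.mem_annihilator.1 hi (N.mkQ b)
    rw [← map_smul, Submodule.mkQ_apply, Submodule.Quotient.mk_eq_zero, hN, Algebra.smul_def, hφ]
      at this
    exact this
  have hIne : I ≠ ⊤ := by
    intro h
    apply hns
    intro b
    have := hImem 1 (h ▸ Submodule.mem_top) b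
    rw [map_one, one_mul] at this
    exact this
  obtain ⟨𝔪, h𝔪, hI𝔪⟩ := Ideal.exists_le_maximal I hIne
  haveI := h𝔪.isPrime
  obtain ⟨p, hpmin, -⟩ := Ideal.exists_minimalPrimes_le hI𝔪
  have hpprime : p.IsPrime := hpmin.1.1
  have hIp : I ≤ p := hpmin.1.2
  -- the bad element
  have hsupp : (⟨p, hpprime⟩ : PrimeSpectrum A) ∈ Module.support A (B ⧸ N) :=
    Module.mem_support_iff_of_finite.2 hIp
  obtain ⟨m, hm⟩ := Module.mem_support_iff_exists_annihilator.1 hsupp
  obtain ⟨bs, rfl⟩ := N.mkQ_surjective m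
  have hbs : ∀ s : A, s ∉ p → φ s * bs ∉ φ.range := by
    intro s hs hmem
    apply hs
    apply hm
    rw [Submodule.mem_annihilator_span_singleton, ← map_smul, Submodule.mkQ_apply,
      Submodule.Quotient.mk_eq_zero, hN, Algebra.smul_def, hφ]
    exact hmem
  -- the prime over p
  have hint : Algebra.IsIntegral A B := Algebra.IsIntegral.of_finite A B
  obtain ⟨q, _, hq, hqp⟩ := Ideal.exists_ideal_over_prime_of_isIntegral p (⊥ : Ideal B) (by
    intro a ha
    have : algebraMap A B a = 0 := ha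
    rw [hφ] at this
    have : a = 0 := hinj (by rw [this, map_zero])
    rw [this]; exact zero_mem _)
  have hqp' : q.comap φ = p := hqp
  -- radical statement
  have hrad : ∀ f ∈ q, ∃ (n : ℕ) (s : A), s ∉ p ∧ φ s * f ^ n ∈ I.map φ := by
    intro f hf
    by_contra hcon
    push Not at hcon
    let S : Submonoid B := (p.primeCompl.map φ) ⊔ Submonoid.powers f
    have hdisj : Disjoint ((I.map φ : Ideal B) : Set B) (S : Set B) := by
      rw [Set.disjoint_left]
      intro x hx hxS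
      obtain ⟨y, hy, z, hz, rfl⟩ := Submonoid.mem_sup.1 hxS
      obtain ⟨s, hs, rfl⟩ := Submonoid.mem_map.1 hy
      obtain ⟨n, rfl⟩ := (Submonoid.mem_powers_iff _ _).1 hz
      exact hcon n s hs hx
    obtain ⟨q', hq'prime, hIq', hq'S⟩ := Ideal.exists_le_prime_disjoint (I.map φ) S hdisj
    have h1 : I ≤ q'.comap φ := Ideal.le_comap_of_map_le hIq'
    have h2 : q'.comap φ ≤ p := by
      intro a ha
      by_contra hap
      have hmem : φ a ∈ S := Submonoid.mem_sup_left (Submonoid.mem_map_of_mem φ hap)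
      exact Set.disjoint_left.1 hq'S ha hmem
    haveI : (q'.comap φ).IsPrime := Ideal.comap_isPrime φ q'
    have h3 : p ≤ q'.comap φ := hpmin.2 ⟨inferInstance, h1⟩ h2
    have h4 : q'.comap φ = q.comap φ := by rw [hqp']; exact le_antisymm h2 h3
    have h5 : q' = q := hinjS q' q hq'prime hq h4
    have hfS : f ∈ S := Submonoid.mem_sup_right (Submonoid.mem_powers f)
    exact Set.disjoint_left.1 hq'S (h5 ▸ hf) hfS
  have hIB := map_conductor_le φ I hImem
  by_cases hH : ∀ f ∈ q, ∃ s : A, s ∉ p ∧ φ s * f ∈ φ.range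
  · right
    refine ⟨q, hq, ?_, bs, ?_⟩
    · rw [hqp']; exact hH
    · rw [hqp']; exact hbs
  · left
    push Not at hH
    obtain ⟨f, hf, hfs⟩ := hH
    obtain ⟨n, s, hs, hmem⟩ := hrad f hf
    have hy : φ s * f ∉ φ.range := hfs s hs
    have e1 : (φ s * f) ^ (n + 2) = (φ s ^ (n + 1) * f ^ 2) * (φ s * f ^ n) := by ring
    have e2 : (φ s * f) ^ (n + 2 + 1) = (φ s ^ (n + 2) * f ^ 3) * (φ s * f ^ n) := by ring
    have h1 : (φ s * f) ^ (n + 2) ∈ φ.range := by
      rw [e1]; exact hIB _ (Ideal.mul_mem_left _ _ hmem)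
    have h2 : (φ s * f) ^ (n + 2 + 1) ∈ φ.range := by
      rw [e2]; exact hIB _ (Ideal.mul_mem_left _ _ hmem)
    exact Groth.Agent.S7397.result φ.range (φ s * f) hy (n + 2) (by omega) h1 h2

/-- "rationality" of `b` at `q`: the image of `b` in `κ(q)` lies in `κ(q ∩ A)`. -/
def Rat (q : Ideal B) (b : B) : Prop :=
  ∃ a₁ a₂ : A, φ a₂ ∉ q ∧ φ a₂ * b - φ a₁ ∈ q

theorem core2 (q : Ideal B) [q.IsPrime]
    (hH : ∀ f ∈ q, ∃ s : A, s ∉ q.comap φ ∧ φ s * f ∈ φ.range)
    (b : B) (hb : ∀ s : A, s ∉ q.comap φ → φ s * b ∉ φ.range) : ¬ Rat φ q b := by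
  rintro ⟨a₁, a₂, h2, h1⟩
  obtain ⟨s, hs, hmem⟩ := hH _ h1
  have hsa : s * a₂ ∉ q.comap φ := by
    intro h
    rcases Ideal.IsPrime.mem_or_mem inferInstance h with h | h
    · exact hs h
    · exact h2 h
  apply hb (s * a₂) hsa
  have : φ (s * a₂) * b = φ s * (φ a₂ * b - φ a₁) + φ (s * a₁) := by
    simp only [map_mul]; ring
  rw [this]
  exact add_mem hmem ⟨_, rfl⟩

theorem rat_iff (q : Ideal B) [q.IsPrime] (b : B) :
    Rat φ q b ↔ algebraMap B q.ResidueField b ∈
      (Ideal.ResidueField.map (q.comap φ) q φ rfl).range := by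
  set ι := Ideal.ResidueField.map (q.comap φ) q φ rfl with hι
  have hιa : ∀ a : A, ι (algebraMap A (q.comap φ).ResidueField a) =
      algebraMap B q.ResidueField (φ a) := fun a => Ideal.ResidueField.map_algebraMap _ _ _ _ a
  constructor
  · rintro ⟨a₁, a₂, h2, h1⟩
    have hne : algebraMap B q.ResidueField (φ a₂) ≠ 0 := by
      rwa [Ne, Ideal.algebraMap_residueField_eq_zero]
    have h0 : algebraMap B q.ResidueField (φ a₂ * b - φ a₁) = 0 := by
      rwa [Ideal.algebraMap_residueField_eq_zero]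
    rw [map_sub, map_mul, sub_eq_zero] at h0
    refine ⟨algebraMap A _ a₁ / algebraMap A _ a₂, ?_⟩
    rw [map_div₀, hιa, hιa, div_eq_iff hne, mul_comm, h0]
  · rintro ⟨w, hw⟩
    obtain ⟨a₁, a₂, ha₂, rfl⟩ := IsFractionRing.div_surjective (A ⧸ q.comap φ) w
    obtain ⟨a₁, rfl⟩ := Ideal.Quotient.mk_surjective a₁
    obtain ⟨a₂, rfl⟩ := Ideal.Quotient.mk_surjective a₂
    have e1 : algebraMap (A ⧸ q.comap φ) (q.comap φ).ResidueField (Ideal.Quotient.mk _ a₁) =
        algebraMap A _ a₁ := rfl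
    have e2 : algebraMap (A ⧸ q.comap φ) (q.comap φ).ResidueField (Ideal.Quotient.mk _ a₂) =
        algebraMap A _ a₂ := rfl
    rw [e1, e2, map_div₀, hιa, hιa] at hw
    have ha₂' : a₂ ∉ q.comap φ := by
      intro hmem
      have : Ideal.Quotient.mk (q.comap φ) a₂ = 0 := Ideal.Quotient.eq_zero_iff_mem.2 hmem
      rw [this] at ha₂
      exact zero_notMem_nonZeroDivisors ha₂
    have hφa₂ : φ a₂ ∉ q := ha₂'
    have hne : algebraMap B q.ResidueField (φ a₂) ≠ 0 := by
      rwa [Ne, Ideal.algebraMap_residueField_eq_zero]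
    refine ⟨a₁, a₂, hφa₂, ?_⟩
    rw [← Ideal.algebraMap_residueField_eq_zero (I := q), map_sub, map_mul, ← hw,
      mul_div_cancel₀ _ hne, sub_self]

/-- residue field extensions of a PUI map are purely inseparable -/
theorem pi_of_pui (hUI : PUI φ) (q : Ideal B) [q.IsPrime] :
    letI := (Ideal.ResidueField.map (q.comap φ) q φ rfl).toAlgebra
    IsPurelyInseparable (q.comap φ).ResidueField q.ResidueField := by
  letI := (Ideal.ResidueField.map (q.comap φ) q φ rfl).toAlgebra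
  rw [isPurelyInseparable_iff_subsingleton_emb]
  constructor
  intro σ₁ σ₂
  have hιa : ∀ a : A, algebraMap (q.comap φ).ResidueField q.ResidueField
      (algebraMap A (q.comap φ).ResidueField a) =
      algebraMap B q.ResidueField (φ a) := fun a => Ideal.ResidueField.map_algebraMap _ _ _ _ a
  have h12 := hUI (AlgebraicClosure q.ResidueField)
    (σ₁.toRingHom.comp (algebraMap B q.ResidueField))
    (σ₂.toRingHom.comp (algebraMap B q.ResidueField)) (by
      ext a
      simp only [RingHom.comp_apply, AlgHom.toRingHom_eq_coe, RingHom.coe_coe]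
      rw [← hιa, σ₁.commutes, σ₂.commutes])
  apply AlgHom.coe_ringHom_injective
  apply Ideal.ResidueField.ringHom_ext
  exact h12

theorem core3 (hUI : PUI φ) (q : Ideal B) [q.IsPrime]
    (hH : ∀ f ∈ q, ∃ s : A, s ∉ q.comap φ ∧ φ s * f ∈ φ.range)
    (b : B) (hb : ¬ Rat φ q b) :
    ∃ (p₀ : ℕ) (y : B), p₀.Prime ∧ y ∉ φ.range ∧ (p₀ : B) * y ∈ φ.range ∧ y ^ p₀ ∈ φ.range := by
  classical
  letI := (Ideal.ResidueField.map (q.comap φ) q φ rfl).toAlgebra
  haveI := pi_of_pui φ hUI q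
  obtain ⟨p₀, hp₀⟩ := ExpChar.exists (q.comap φ).ResidueField
  have hpow : ∀ x : q.ResidueField, ∃ n, x ^ p₀ ^ n ∈
      (algebraMap (q.comap φ).ResidueField q.ResidueField).range :=
    fun x => IsPurelyInseparable.pow_mem (q.comap φ).ResidueField p₀ x
  have hrange : (algebraMap (q.comap φ).ResidueField q.ResidueField).range =
      (Ideal.ResidueField.map (q.comap φ) q φ rfl).range := rfl
  have hβ : algebraMap B q.ResidueField b ∉
      (algebraMap (q.comap φ).ResidueField q.ResidueField).range := by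
    rw [hrange, ← rat_iff]; exact hb
  let P : ℕ → Prop := fun n => (algebraMap B q.ResidueField b) ^ p₀ ^ n ∈
    (algebraMap (q.comap φ).ResidueField q.ResidueField).range
  have hP : ∃ n, P n := hpow _
  have hm : P (Nat.find hP) := Nat.find_spec hP
  have hm0 : Nat.find hP ≠ 0 := by
    intro h
    rw [h] at hm
    simp only [P, pow_zero, pow_one] at hm
    exact hβ hm
  obtain ⟨m', hm'⟩ := Nat.exists_eq_succ_of_ne_zero hm0
  have hm'P : ¬ P m' := Nat.find_min hP (by omega)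
  have hb'1 : ¬ Rat φ q (b ^ p₀ ^ m') := by
    rw [rat_iff, ← hrange, map_pow]; exact hm'P
  have hb'2 : Rat φ q ((b ^ p₀ ^ m') ^ p₀) := by
    rw [rat_iff, ← hrange, map_pow, map_pow, ← pow_mul, ← pow_succ, ← Nat.succ_eq_add_one, ← hm']
    exact hm
  generalize b ^ p₀ ^ m' = b' at hb'1 hb'2
  cases hp₀ with
  | zero =>
    exfalso; apply hb'1; simpa using hb'2
  | prime hprime =>
    have hp₀A : ((p₀ : ℕ) : A) ∈ q.comap φ := by
      rw [← Ideal.algebraMap_residueField_eq_zero (I := q.comap φ), map_natCast]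
      exact CharP.cast_eq_zero _ p₀
    obtain ⟨r, hr⟩ : ∃ r, p₀ = r + 1 := ⟨p₀ - 1, by have := hprime.pos; omega⟩
    obtain ⟨a₁, a₂, h2, h1⟩ := hb'2
    have hb''1 : ¬ Rat φ q (φ a₂ * b') := by
      rintro ⟨c₁, c₂, hc2, hc1⟩
      apply hb'1
      refine ⟨c₁, c₂ * a₂, ?_, ?_⟩
      · rw [map_mul]
        intro h
        rcases Ideal.IsPrime.mem_or_mem inferInstance h with h | h
        · exact hc2 h
        · exact h2 h
      · rw [map_mul, mul_assoc]; exact hc1
    have hf : (φ a₂ * b') ^ p₀ - φ (a₂ ^ r * a₁) ∈ q := by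
      have : (φ a₂ * b') ^ p₀ - φ (a₂ ^ r * a₁) = φ a₂ ^ r * (φ a₂ * b' ^ p₀ - φ a₁) := by
        rw [hr]; simp only [map_mul, map_pow]; ring
      rw [this]
      exact Ideal.mul_mem_left _ _ h1
    obtain ⟨s, hs, hsf⟩ := hH _ hf
    have hg : (p₀ : B) * (φ a₂ * b') ∈ q := by
      apply Ideal.mul_mem_right
      have : (p₀ : B) = φ (p₀ : A) := (map_natCast φ p₀).symm
      rw [this]; exact hp₀A
    obtain ⟨s', hs', hsg⟩ := hH _ hg
    have hss' : s * s' ∉ q.comap φ := by
      intro h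
      rcases Ideal.IsPrime.mem_or_mem inferInstance h with h | h
      · exact hs h
      · exact hs' h
    refine ⟨p₀, φ (s * s') * (φ a₂ * b'), hprime, ?_, ?_, ?_⟩
    · rintro ⟨a', ha'⟩
      apply hb''1
      refine ⟨a', s * s', hss', ?_⟩
      rw [ha', sub_self]; exact zero_mem _
    · have : (p₀ : B) * (φ (s * s') * (φ a₂ * b')) = φ s * (φ s' * ((p₀ : B) * (φ a₂ * b'))) := by
        simp only [map_mul]; ring
      rw [this]
      exact mul_mem ⟨s, rfl⟩ hsg
    · have : (φ (s * s') * (φ a₂ * b')) ^ p₀ =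
          φ (s ^ r * s' ^ p₀) * (φ s * ((φ a₂ * b') ^ p₀ - φ (a₂ ^ r * a₁))) +
            φ ((s * s') ^ p₀ * (a₂ ^ r * a₁)) := by
        rw [hr]; simp only [map_mul, map_pow]; ring
      rw [this]
      exact add_mem (mul_mem ⟨_, rfl⟩ hsf) ⟨_, rfl⟩

open AlgebraicGeometry CategoryTheory in
theorem injS_of_univHomeo (h : FlatMor.IsUnivHomeo (Spec.map (CommRingCat.ofHom φ)))
    (q₁ q₂ : Ideal B) (h₁ : q₁.IsPrime) (h₂ : q₂.IsPrime) (he : q₁.comap φ = q₂.comap φ) :
    q₁ = q₂ := by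
  have hinj : Function.Injective ⇑(Spec.map (CommRingCat.ofHom φ)) :=
    (h _ _ _ IsPullback.of_id_snd).injective
  have := @hinj ⟨q₁, h₁⟩ ⟨q₂, h₂⟩ (PrimeSpectrum.ext he)
  exact congr(($this).asIdeal)

/-- The structure dichotomy for finite extensions. -/
theorem dichotomy_finite (hinj : Function.Injective φ) (hfin : φ.Finite)
    (hinjS : ∀ q₁ q₂ : Ideal B, q₁.IsPrime → q₂.IsPrime → q₁.comap φ = q₂.comap φ → q₁ = q₂)
    (hUI : PUI φ) (hns : ¬ Function.Surjective φ) :
    (∃ b : B, b ∉ φ.range ∧ b ^ 2 ∈ φ.range ∧ b ^ 3 ∈ φ.range) ∨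
    ((¬ PRes φ) ∧ ∃ (p₀ : ℕ) (y : B), p₀.Prime ∧ y ∉ φ.range ∧ (p₀ : B) * y ∈ φ.range ∧
      y ^ p₀ ∈ φ.range) := by
  rcases core1 φ hinj hfin hinjS hns with h | ⟨q, hq, hH, b, hb⟩
  · exact Or.inl h
  · right
    haveI := hq
    have hnr := core2 φ q hH b hb
    refine ⟨?_, core3 φ hUI q hH b hnr⟩
    intro hres
    exact hnr (hres q hq b)

end Groth.Agent.H25.UHStruct
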