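import Mathlib
import Groth.Prelude.Def_Flat

/-!
# Universal injectivity / universal homeomorphisms: cancelling a surjection on the left
-/

open CategoryTheory CategoryTheory.Limits AlgebraicGeometry

namespace Groth.Agent.H25.UH

universe u

theorem ui_of_comp_surjective {X Y Z : Scheme.{u}} (g : X ⟶ Y) (f' : Y ⟶ Z) [Surjective g]
    (h : UniversallyInjective (g ≫ f')) : UniversallyInjective f' := by
  constructor
  intro X' Y' i₁ i₂ f'' H
  have hinj : Function.Injective ⇑(pullback.fst i₁ g ≫ f'') :=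
    h.universally_injective _ _ _ ((IsPullback.of_hasPullback i₁ g).paste_horiz H)
  have hs : Function.Surjective ⇑(pullback.fst i₁ g) :=
    (MorphismProperty.pullback_fst (P := @Surjective) _ _ ‹_›).1
  intro a b hab
  obtain ⟨a', rfl⟩ := hs a
  obtain ⟨b', rfl⟩ := hs b
  have : (pullback.fst i₁ g ≫ f'') a' = (pullback.fst i₁ g ≫ f'') b' := by
    simpa using hab
  rw [hinj this]

theorem univHomeo_of_comp_surjective {X Y Z : Scheme.{u}} (g : X ⟶ Y) (f' : Y ⟶ Z) [Surjective g]
    (h : FlatMor.IsUnivHomeo (g ≫ f')) : FlatMor.IsUnivHomeo f' := by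
  have huc : UniversallyClosed (g ≫ f') :=
    ⟨fun X' Y' i₁ i₂ f'' sq => (h i₁ i₂ f'' sq).isClosedMap⟩
  have hui : UniversallyInjective (g ≫ f') :=
    ⟨fun X' Y' i₁ i₂ f'' sq => (h i₁ i₂ f'' sq).injective⟩
  have huc' : UniversallyClosed f' := UniversallyClosed.of_comp_surjective g f'
  have hui' : UniversallyInjective f' := ui_of_comp_surjective g f' hui
  intro X' Y' i₁ i₂ f'' H
  have hsurj : Function.Surjective ⇑(pullback.fst i₁ g ≫ f'') :=
    (h _ _ _ ((IsPullback.of_hasPullback i₁ g).paste_horiz H)).surjective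
  have hs'' : Function.Surjective ⇑f'' := by
    intro y
    obtain ⟨x, hx⟩ := hsurj y
    exact ⟨pullback.fst i₁ g x, by simpa using hx⟩
  exact isHomeomorph_iff_continuous_isClosedMap_bijective.2
    ⟨f''.continuous, huc'.universally_isClosedMap _ _ _ H,
      hui'.universally_injective _ _ _ H, hs''⟩

end Groth.Agent.H25.UH
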