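import Mathlib
import Groth.Agent.S7404
import Groth.Agent.H25.UHStruct

/-!
# Structure dichotomy for universal homeomorphisms `A ⊆ B` (general case)
-/

open AlgebraicGeometry CategoryTheory

namespace Groth.Agent.H25.UHStruct

open Groth.Agent.H25.ColimUH

universe u

variable {A B : Type u} [CommRing A] [CommRing B] (φ : A →+* B)

theorem dichotomy (hinj : Function.Injective φ)
    (hU : FlatMor.IsUnivHomeo (Spec.map (CommRingCat.ofHom φ))) (hns : ¬ Function.Surjective φ) :
    (∃ b : B, b ∉ φ.range ∧ b ^ 2 ∈ φ.range ∧ b ^ 3 ∈ φ.range) ∨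
    ((¬ ∀ x : Spec (CommRingCat.of B),
        Function.Surjective ((Spec.map (CommRingCat.ofHom φ)).residueFieldMap x)) ∧
      ∃ (p₀ : ℕ) (y : B), p₀.Prime ∧ y ∉ φ.range ∧ (p₀ : B) * y ∈ φ.range ∧
      y ^ p₀ ∈ φ.range) := by
  classical
  obtain ⟨b₀, hb₀⟩ : ∃ b₀, b₀ ∉ φ.range := by
    by_contra h
    push Not at h
    exact hns (fun b => h b)
  algebraize [φ]
  have hφ : algebraMap A B = φ := rfl
  have hUint := ((ColimUH.univHomeo_iff φ).1 hU).1
  have hb₀int : IsIntegral A b₀ := hUint b₀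
  let B₀ := Algebra.adjoin A {b₀}
  have h04 := Groth.Agent.S7404.result (A := A) (B := B) B₀
  have hU₀ : FlatMor.IsUnivHomeo (Spec.map (CommRingCat.ofHom (algebraMap A B₀))) := h04.1 hU
  have hfinM : Module.Finite A B₀ := Algebra.finite_adjoin_simple_of_isIntegral hb₀int
  have hfin₀ : (algebraMap A B₀).Finite := RingHom.finite_algebraMap.2 hfinM
  have hinj₀ : Function.Injective (algebraMap A B₀) := by
    intro x y h
    apply hinj
    have := congr(B₀.val $h)
    simpa [hφ] using this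
  have hns₀ : ¬ Function.Surjective (algebraMap A B₀) := by
    intro h
    obtain ⟨a, ha⟩ := h ⟨b₀, Algebra.subset_adjoin (Set.mem_singleton b₀)⟩
    apply hb₀
    refine ⟨a, ?_⟩
    have := congr(B₀.val $ha)
    simpa [hφ] using this
  have hUI₀ := ((ColimUH.univHomeo_iff _).1 hU₀).2.1
  have htrans : ∀ y : B₀, (y : B) ∈ φ.range ↔ y ∈ (algebraMap A B₀).range := by
    intro y
    constructor
    · rintro ⟨a, ha⟩
      exact ⟨a, Subtype.ext ha⟩
    · rintro ⟨a, ha⟩
      refine ⟨a, ?_⟩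
      have := congr(B₀.val $ha)
      simpa [hφ] using this
  rcases dichotomy_finite (algebraMap A B₀) hinj₀ hfin₀ (injS_of_univHomeo _ hU₀) hUI₀ hns₀ with
    ⟨b, h1, h2, h3⟩ | ⟨hnres, p₀, y, hp₀, h1, h2, h3⟩
  · left
    refine ⟨(b : B), ?_, ?_, ?_⟩
    · rw [htrans]; exact h1
    · have := (htrans (b ^ 2)).2 h2
      simpa using this
    · have := (htrans (b ^ 3)).2 h3
      simpa using this
  · right
    refine ⟨?_, p₀, (y : B), hp₀, ?_, ?_, ?_⟩
    · intro hres
      apply hnres
      exact ColimUH.pres_of_res _ (h04.2.1 ⟨hU, hres⟩).2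
    · rw [htrans]; exact h1
    · have := (htrans ((p₀ : B₀) * y)).2 h2
      simpa using this
    · have := (htrans (y ^ p₀)).2 h3
      simpa using this

end Groth.Agent.H25.UHStruct
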