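import Mathlib
import Groth.Prelude.Def_Flat
import Groth.Agent.H25.ColimUH

/-!
# Relative weak normalization / seminormalization as a subalgebra
-/

open CategoryTheory CategoryTheory.Limits AlgebraicGeometry Polynomial

namespace Groth.Agent.H25.WeakNorm

open Groth.Agent.H25.ColimUH

universe u

variable {A B : Type u} [CommRing A] [CommRing B] [Algebra A B]

theorem pker_of_dominant [IsDominant (Spec.map (CommRingCat.ofHom (algebraMap A B)))]
    (S : Subalgebra A B) : PKer (algebraMap A S) := by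
  intro a ha
  have hd : DenseRange (PrimeSpectrum.comap (algebraMap A B)) :=
    (‹IsDominant (Spec.map (CommRingCat.ofHom (algebraMap A B)))›).denseRange
  rw [PrimeSpectrum.denseRange_comap_iff_ker_le_nilRadical] at hd
  have h0 : algebraMap A B a = 0 := by
    have := congr((S.val) $ha)
    simpa using this
  exact hd h0

/-- integrality + PUI pass to the subalgebra generated by a family -/
theorem adjoin_good (𝒮 : Set (Subalgebra A B))
    (h : ∀ S ∈ 𝒮, (algebraMap A S).IsIntegral ∧ PUI (algebraMap A S)) :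
    (algebraMap A (Algebra.adjoin A (⋃ S ∈ 𝒮, (S : Set B)))).IsIntegral ∧
      PUI (algebraMap A (Algebra.adjoin A (⋃ S ∈ 𝒮, (S : Set B)))) := by
  set B' := Algebra.adjoin A (⋃ S ∈ 𝒮, (S : Set B)) with hB'
  constructor
  · have hle : B' ≤ integralClosure A B := by
      apply Algebra.adjoin_le
      intro b hb
      simp only [Set.mem_iUnion, SetLike.mem_coe, exists_prop] at hb
      obtain ⟨S, hS, hbS⟩ := hb
      have := (h S hS).1 ⟨b, hbS⟩
      have h2 : IsIntegral A (⟨b, hbS⟩ : S) := this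
      exact (h2.map S.val)
    rintro ⟨b, hb⟩
    have h1 : IsIntegral A b := hle hb
    exact (isIntegral_algHom_iff B'.val Subtype.val_injective).1 h1
  · intro F _ ψ₁ ψ₂ h12
    ext ⟨b, hb⟩
    induction hb using Algebra.adjoin_induction with
    | mem x hx =>
      simp only [Set.mem_iUnion, SetLike.mem_coe, exists_prop] at hx
      obtain ⟨S, hS, hxS⟩ := hx
      have hle : S ≤ B' := fun y hy => Algebra.subset_adjoin (by
        simp only [Set.mem_iUnion, SetLike.mem_coe, exists_prop]; exact ⟨S, hS, hy⟩)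
      have := (h S hS).2 F (ψ₁.comp (Subalgebra.inclusion hle).toRingHom)
        (ψ₂.comp (Subalgebra.inclusion hle).toRingHom) (by
          ext a
          exact congr($h12 a))
      exact congr($this ⟨x, hxS⟩)
    | algebraMap r => exact congr($h12 r)
    | add x y hx hy h1 h2 =>
      have e : (⟨x + y, add_mem hx hy⟩ : B') = ⟨x, hx⟩ + ⟨y, hy⟩ := rfl
      rw [e, map_add, map_add, h1, h2]
    | mul x y hx hy h1 h2 =>
      have e : (⟨x * y, mul_mem hx hy⟩ : B') = ⟨x, hx⟩ * ⟨y, hy⟩ := rfl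
      rw [e, map_mul, map_mul, h1, h2]

/-- closure of the "fraction" condition under sums and products -/
theorem pres_add_mul {R : Type*} [CommRing R] (φ : A →+* R) (q : Ideal R) [q.IsPrime] (b b' : R)
    (h : ∃ a₁ a₂ : A, φ a₂ ∉ q ∧ φ a₂ * b - φ a₁ ∈ q)
    (h' : ∃ a₁ a₂ : A, φ a₂ ∉ q ∧ φ a₂ * b' - φ a₁ ∈ q) :
    (∃ a₁ a₂ : A, φ a₂ ∉ q ∧ φ a₂ * (b + b') - φ a₁ ∈ q) ∧
    (∃ a₁ a₂ : A, φ a₂ ∉ q ∧ φ a₂ * (b * b') - φ a₁ ∈ q) := by
  obtain ⟨a₁, a₂, h2, h1⟩ := h
  obtain ⟨a₁', a₂', h2', h1'⟩ := h'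
  have hmul : φ (a₂ * a₂') ∉ q := by
    rw [map_mul]
    intro hm
    rcases Ideal.IsPrime.mem_or_mem ‹_› hm with h | h
    · exact h2 h
    · exact h2' h
  constructor
  · refine ⟨a₁ * a₂' + a₁' * a₂, a₂ * a₂', hmul, ?_⟩
    have : φ (a₂ * a₂') * (b + b') - φ (a₁ * a₂' + a₁' * a₂) =
        φ a₂' * (φ a₂ * b - φ a₁) + φ a₂ * (φ a₂' * b' - φ a₁') := by
      simp only [map_mul, map_add]; ring
    rw [this]
    exact add_mem (Ideal.mul_mem_left _ _ h1) (Ideal.mul_mem_left _ _ h1')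
  · refine ⟨a₁ * a₁', a₂ * a₂', hmul, ?_⟩
    have : φ (a₂ * a₂') * (b * b') - φ (a₁ * a₁') =
        (φ a₂ * b) * (φ a₂' * b' - φ a₁') + φ a₁' * (φ a₂ * b - φ a₁) := by
      simp only [map_mul]; ring
    rw [this]
    exact add_mem (Ideal.mul_mem_left _ _ h1') (Ideal.mul_mem_left _ _ h1)

theorem adjoin_res (𝒮 : Set (Subalgebra A B))
    (h : ∀ S ∈ 𝒮, PRes (algebraMap A S)) :
    PRes (algebraMap A (Algebra.adjoin A (⋃ S ∈ 𝒮, (S : Set B)))) := by
  set B' := Algebra.adjoin A (⋃ S ∈ 𝒮, (S : Set B)) with hB'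
  intro q hq
  rintro ⟨b, hb⟩
  induction hb using Algebra.adjoin_induction with
  | mem x hx =>
    simp only [Set.mem_iUnion, SetLike.mem_coe, exists_prop] at hx
    obtain ⟨S, hS, hxS⟩ := hx
    have hle : S ≤ B' := fun y hy => Algebra.subset_adjoin (by
      simp only [Set.mem_iUnion, SetLike.mem_coe, exists_prop]; exact ⟨S, hS, hy⟩)
    obtain ⟨a₁, a₂, h2, h1⟩ := h S hS (q.comap (Subalgebra.inclusion hle).toRingHom) inferInstance
      ⟨x, hxS⟩
    exact ⟨a₁, a₂, h2, h1⟩
  | algebraMap r =>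
    refine ⟨r, 1, ?_, ?_⟩
    · rw [map_one]; exact Ideal.IsPrime.one_notMem hq
    · rw [map_one, one_mul]
      have : (⟨algebraMap A B r, Subalgebra.algebraMap_mem _ r⟩ : B') = algebraMap A B' r := rfl
      rw [this, sub_self]; exact zero_mem _
  | add x y hx hy h1 h2 =>
    exact (pres_add_mul (algebraMap A B') q ⟨x, hx⟩ ⟨y, hy⟩ h1 h2).1
  | mul x y hx hy h1 h2 =>
    exact (pres_add_mul (algebraMap A B') q ⟨x, hx⟩ ⟨y, hy⟩ h1 h2).2

section range

variable {C : Type u} [CommRing C] [Algebra A C] (g : C →ₐ[A] B)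

theorem range_good (h : (algebraMap A C).IsIntegral ∧ PUI (algebraMap A C)) :
    (algebraMap A g.range).IsIntegral ∧ PUI (algebraMap A g.range) := by
  constructor
  · rintro ⟨b, c, rfl⟩
    have h1 : IsIntegral A c := h.1 c
    have h2 : IsIntegral A (g c) := h1.map g
    exact (isIntegral_algHom_iff g.range.val Subtype.val_injective).1 h2
  · intro F _ ψ₁ ψ₂ h12
    have := h.2 F (ψ₁.comp g.rangeRestrict.toRingHom) (ψ₂.comp g.rangeRestrict.toRingHom) (by
      ext a
      simp only [RingHom.comp_apply, AlgHom.toRingHom_eq_coe, RingHom.coe_coe, AlgHom.commutes]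
      exact congr($h12 a))
    ext ⟨b, c, rfl⟩
    exact congr($this c)

theorem range_res (h : PRes (algebraMap A C)) : PRes (algebraMap A g.range) := by
  intro q hq
  rintro ⟨b, c, rfl⟩
  obtain ⟨a₁, a₂, h2, h1⟩ := h (q.comap g.rangeRestrict.toRingHom) inferInstance c
  refine ⟨a₁, a₂, ?_, ?_⟩
  · intro hm
    apply h2
    rw [Ideal.mem_comap]
    simpa using hm
  · rw [Ideal.mem_comap] at h1
    simp only [map_sub, map_mul, AlgHom.toRingHom_eq_coe, RingHom.coe_coe, AlgHom.commutes] at h1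
    exact h1

end range

end Groth.Agent.H25.WeakNorm
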