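import Mathlib
import Groth.Agent.H25.ColimUH
import Groth.Agent.H25.WeakNorm1
import Groth.Agent.H25.UHStruct2
import Groth.Agent.H25.Tower1

/-!
# Elementary extension steps preserve the "good" properties
-/

open AlgebraicGeometry CategoryTheory Polynomial

namespace Groth.Agent.H25.Tower

open Groth.Agent.H25.ColimUH

universe u

variable {A B : Type u} [CommRing A] [CommRing B] [Algebra A B]

/-- elementary steps of the first kind -/
def El1 (S : Subalgebra A B) (b : B) : Prop := b ^ 2 ∈ S ∧ b ^ 3 ∈ S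

/-- elementary steps of the first or second kind -/
def El2 (S : Subalgebra A B) (b : B) : Prop :=
  (b ^ 2 ∈ S ∧ b ^ 3 ∈ S) ∨ ∃ p : ℕ, p.Prime ∧ (p : B) * b ∈ S ∧ b ^ p ∈ S

theorem el1_mono (S S' : Subalgebra A B) (b : B) (h : S ≤ S') (hb : El1 S b) : El1 S' b :=
  ⟨h hb.1, h hb.2⟩

theorem el2_mono (S S' : Subalgebra A B) (b : B) (h : S ≤ S') (hb : El2 S b) : El2 S' b := by
  rcases hb with hb | ⟨p, hp, h1, h2⟩
  · exact Or.inl ⟨h hb.1, h hb.2⟩
  · exact Or.inr ⟨p, hp, h h1, h h2⟩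

theorem el1_fin (S : Subalgebra A B) (b : B) (hb : El1 S b) :
    ∃ E₀ : Finset B, (↑E₀ : Set B) ⊆ (S : Set B) ∧
      ∀ C : Subalgebra A B, (↑E₀ : Set B) ⊆ (C : Set B) → El1 C b := by
  classical
  refine ⟨{b ^ 2, b ^ 3}, ?_, ?_⟩
  · intro x hx
    simp only [Finset.coe_insert, Finset.coe_singleton, Set.mem_insert_iff,
      Set.mem_singleton_iff] at hx
    rcases hx with rfl | rfl
    · exact hb.1
    · exact hb.2
  · intro C hC
    exact ⟨hC (by simp), hC (by simp)⟩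

theorem el2_fin (S : Subalgebra A B) (b : B) (hb : El2 S b) :
    ∃ E₀ : Finset B, (↑E₀ : Set B) ⊆ (S : Set B) ∧
      ∀ C : Subalgebra A B, (↑E₀ : Set B) ⊆ (C : Set B) → El2 C b := by
  classical
  rcases hb with hb | ⟨p, hp, h1, h2⟩
  · obtain ⟨E₀, h1, h2⟩ := el1_fin S b hb
    exact ⟨E₀, h1, fun C hC => Or.inl (h2 C hC)⟩
  · refine ⟨{(p : B) * b, b ^ p}, ?_, ?_⟩
    · intro x hx
      simp only [Finset.coe_insert, Finset.coe_singleton, Set.mem_insert_iff,
        Set.mem_singleton_iff] at hx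
      rcases hx with rfl | rfl
      · exact h1
      · exact h2
    · intro C hC
      exact Or.inr ⟨p, hp, hC (by simp), hC (by simp)⟩

/-- In a field an element is determined by its square and cube. -/
theorem field_eq_of_sq_cube {F : Type*} [Field F] (τ₁ τ₂ : F) (h2 : τ₁ ^ 2 = τ₂ ^ 2)
    (h3 : τ₁ ^ 3 = τ₂ ^ 3) : τ₁ = τ₂ := by
  by_cases h0 : τ₂ = 0
  · rw [h0] at h2 ⊢
    rw [zero_pow two_ne_zero] at h2
    exact pow_eq_zero_iff two_ne_zero |>.1 h2
  · have h20 : τ₂ ^ 2 ≠ 0 := pow_ne_zero _ h0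
    apply mul_right_cancel₀ h20
    calc τ₁ * τ₂ ^ 2 = τ₁ * τ₁ ^ 2 := by rw [h2]
      _ = τ₁ ^ 3 := by ring
      _ = τ₂ ^ 3 := h3
      _ = τ₂ * τ₂ ^ 2 := by ring

/-- In a field an element is determined by its `p`-th power and `p`-th multiple. -/
theorem field_eq_of_pow_p {F : Type*} [Field F] (p : ℕ) (hp : p.Prime) (τ₁ τ₂ : F)
    (h1 : (p : F) * τ₁ = (p : F) * τ₂) (h2 : τ₁ ^ p = τ₂ ^ p) : τ₁ = τ₂ := by
  by_cases hpF : (p : F) = 0
  · haveI : CharP F p := (CharP.charP_iff_prime_eq_zero hp).2 hpF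
    haveI : ExpChar F p := ExpChar.prime hp
    apply frobenius_inj F p
    rw [frobenius_def, frobenius_def, h2]
  · exact mul_left_cancel₀ hpF h1

/-- rationality of `β` from that of `β²`, `β³`. -/
theorem rat_of_sq_cube {R : Type*} [CommRing R] (φ : A →+* R) (q : Ideal R) [q.IsPrime] (β : R)
    (h2 : ∃ a₁ a₂ : A, φ a₂ ∉ q ∧ φ a₂ * β ^ 2 - φ a₁ ∈ q)
    (h3 : ∃ a₁ a₂ : A, φ a₂ ∉ q ∧ φ a₂ * β ^ 3 - φ a₁ ∈ q) :
    ∃ a₁ a₂ : A, φ a₂ ∉ q ∧ φ a₂ * β - φ a₁ ∈ q := by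
  by_cases hβ : β ∈ q
  · refine ⟨0, 1, ?_, ?_⟩
    · rw [map_one]; exact Ideal.IsPrime.one_notMem inferInstance
    · rw [map_one, map_zero, one_mul, sub_zero]; exact hβ
  · obtain ⟨a₁, a₂, ha₂, h2⟩ := h2
    obtain ⟨a₁', a₂', ha₂', h3⟩ := h3
    have ha₁ : φ a₁ ∉ q := by
      intro h
      have : φ a₂ * β ^ 2 ∈ q := by
        have := add_mem h2 h
        simpa using this
      rcases Ideal.IsPrime.mem_or_mem inferInstance this with h | h
      · exact ha₂ h
      · exact hβ (Ideal.IsPrime.mem_of_pow_mem inferInstance 2 h)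
    refine ⟨a₂ * a₁', a₁ * a₂', ?_, ?_⟩
    · rw [map_mul]
      intro h
      rcases Ideal.IsPrime.mem_or_mem inferInstance h with h | h
      · exact ha₁ h
      · exact ha₂' h
    · have : φ (a₁ * a₂') * β - φ (a₂ * a₁') =
          -(φ a₂' * β) * (φ a₂ * β ^ 2 - φ a₁) + φ a₂ * (φ a₂' * β ^ 3 - φ a₁') := by
        simp only [map_mul]; ring
      rw [this]
      exact add_mem (Ideal.mul_mem_left _ _ h2) (Ideal.mul_mem_left _ _ h3)

section step

variable (S : Subalgebra A B) (b : B)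

theorem step_le : S ≤ Algebra.adjoin A ((S : Set B) ∪ {b}) :=
  fun _ hx => Algebra.subset_adjoin (Or.inl hx)

theorem step_mem : b ∈ Algebra.adjoin A ((S : Set B) ∪ {b}) :=
  Algebra.subset_adjoin (Or.inr rfl)

theorem step_int (hS : (algebraMap A S).IsIntegral) (hb : El2 S b) :
    (algebraMap A (Algebra.adjoin A ((S : Set B) ∪ {b}))).IsIntegral := by
  haveI : Algebra.IsIntegral A S := ⟨hS⟩
  have hbS : IsIntegral S b := by
    rcases hb with hb | ⟨p, hp, h1, h2⟩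
    · refine ⟨X ^ 2 - C ⟨b ^ 2, hb.1⟩, monic_X_pow_sub_C _ two_ne_zero, ?_⟩
      simp only [eval₂_sub, eval₂_pow, eval₂_X, eval₂_C]
      change b ^ 2 - b ^ 2 = 0
      exact sub_self _
    · refine ⟨X ^ p - C ⟨b ^ p, h2⟩, monic_X_pow_sub_C _ hp.ne_zero, ?_⟩
      simp only [eval₂_sub, eval₂_pow, eval₂_X, eval₂_C]
      change b ^ p - b ^ p = 0
      exact sub_self _
  have hbA : IsIntegral A b := isIntegral_trans b hbS
  have hle : Algebra.adjoin A ((S : Set B) ∪ {b}) ≤ integralClosure A B := by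
    apply Algebra.adjoin_le
    rintro x (hx | hx)
    · have h1 : IsIntegral A (⟨x, hx⟩ : S) := hS ⟨x, hx⟩
      exact h1.map S.val
    · rw [Set.mem_singleton_iff] at hx
      rw [hx]; exact hbA
  rintro ⟨x, hx⟩
  have h1 : IsIntegral A x := hle hx
  exact (isIntegral_algHom_iff (Algebra.adjoin A ((S : Set B) ∪ {b})).val
    Subtype.val_injective).1 h1

theorem step_pui (hS : PUI (algebraMap A S)) (hb : El2 S b) :
    PUI (algebraMap A (Algebra.adjoin A ((S : Set B) ∪ {b}))) := by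
  set S' := Algebra.adjoin A ((S : Set B) ∪ {b}) with hS'
  intro F _ ψ₁ ψ₂ h12
  have hle : S ≤ S' := step_le S b
  have hSeq := hS F (ψ₁.comp (Subalgebra.inclusion hle).toRingHom)
    (ψ₂.comp (Subalgebra.inclusion hle).toRingHom) (by
      ext a
      exact congr($h12 a))
  have hSeq' : ∀ (x : B) (hx : x ∈ S), ψ₁ ⟨x, hle hx⟩ = ψ₂ ⟨x, hle hx⟩ :=
    fun x hx => congr($hSeq ⟨x, hx⟩)
  have hbS' : b ∈ S' := step_mem S b
  have hbeq : ψ₁ ⟨b, hbS'⟩ = ψ₂ ⟨b, hbS'⟩ := by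
    rcases hb with hb | ⟨p, hp, h1, h2⟩
    · apply field_eq_of_sq_cube
      · rw [← map_pow, ← map_pow]
        exact hSeq' (b ^ 2) hb.1
      · rw [← map_pow, ← map_pow]
        exact hSeq' (b ^ 3) hb.2
    · apply field_eq_of_pow_p p hp
      · have := hSeq' ((p : B) * b) h1
        have e : (⟨(p : B) * b, hle h1⟩ : S') = (p : S') * ⟨b, hbS'⟩ := by
          apply Subtype.ext
          simp
        rw [e, map_mul, map_mul, map_natCast, map_natCast] at this
        exact this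
      · rw [← map_pow, ← map_pow]
        exact hSeq' (b ^ p) h2
  ext ⟨x, hx⟩
  induction hx using Algebra.adjoin_induction with
  | mem y hy =>
    rcases hy with hy | hy
    · exact hSeq' y hy
    · rw [Set.mem_singleton_iff] at hy
      subst hy
      exact hbeq
  | algebraMap r => exact congr($h12 r)
  | add x y hx hy h1 h2 =>
    have e : (⟨x + y, add_mem hx hy⟩ : S') = ⟨x, hx⟩ + ⟨y, hy⟩ := rfl
    rw [e, map_add, map_add, h1, h2]
  | mul x y hx hy h1 h2 =>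
    have e : (⟨x * y, mul_mem hx hy⟩ : S') = ⟨x, hx⟩ * ⟨y, hy⟩ := rfl
    rw [e, map_mul, map_mul, h1, h2]

theorem step_res (hS : PRes (algebraMap A S)) (hb : El1 S b) :
    PRes (algebraMap A (Algebra.adjoin A ((S : Set B) ∪ {b}))) := by
  set S' := Algebra.adjoin A ((S : Set B) ∪ {b}) with hS'
  have hle : S ≤ S' := step_le S b
  intro q hq
  have hSrat : ∀ (x : B) (hx : x ∈ S), ∃ a₁ a₂ : A, algebraMap A S' a₂ ∉ q ∧
      algebraMap A S' a₂ * ⟨x, hle hx⟩ - algebraMap A S' a₁ ∈ q := by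
    intro x hx
    obtain ⟨a₁, a₂, h2, h1⟩ := hS (q.comap (Subalgebra.inclusion hle).toRingHom) inferInstance
      ⟨x, hx⟩
    exact ⟨a₁, a₂, h2, h1⟩
  have hbS' : b ∈ S' := step_mem S b
  have hbrat : ∃ a₁ a₂ : A, algebraMap A S' a₂ ∉ q ∧
      algebraMap A S' a₂ * ⟨b, hbS'⟩ - algebraMap A S' a₁ ∈ q := by
    apply rat_of_sq_cube (algebraMap A S') q ⟨b, hbS'⟩
    · exact hSrat (b ^ 2) hb.1
    · exact hSrat (b ^ 3) hb.2
  rintro ⟨x, hx⟩
  induction hx using Algebra.adjoin_induction with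
  | mem y hy =>
    rcases hy with hy | hy
    · exact hSrat y hy
    · rw [Set.mem_singleton_iff] at hy
      subst hy
      exact hbrat
  | algebraMap r =>
    refine ⟨r, 1, ?_, ?_⟩
    · rw [map_one]; exact Ideal.IsPrime.one_notMem hq
    · rw [map_one, one_mul]
      have : (⟨algebraMap A B r, Subalgebra.algebraMap_mem _ r⟩ : S') = algebraMap A S' r := rfl
      rw [this, sub_self]; exact zero_mem _
  | add x y hx hy h1 h2 =>
    exact (WeakNorm.pres_add_mul (algebraMap A S') q ⟨x, hx⟩ ⟨y, hy⟩ h1 h2).1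
  | mul x y hx hy h1 h2 =>
    exact (WeakNorm.pres_add_mul (algebraMap A S') q ⟨x, hx⟩ ⟨y, hy⟩ h1 h2).2

end step

end Groth.Agent.H25.Tower
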