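import Mathlib
import Groth.Agent.H25.Tower2

/-!
# Universal homeomorphisms of ring extensions as towers of elementary extensions
-/

open AlgebraicGeometry CategoryTheory Polynomial

namespace Groth.Agent.H25.Tower

open Groth.Agent.H25.ColimUH

universe u

variable {A B : Type u} [CommRing A] [CommRing B] [Algebra A B]

theorem bot_good : (algebraMap A (⊥ : Subalgebra A B)).IsIntegral ∧
    PUI (algebraMap A (⊥ : Subalgebra A B)) ∧ PRes (algebraMap A (⊥ : Subalgebra A B)) := by
  have hsurj : Function.Surjective (algebraMap A (⊥ : Subalgebra A B)) := by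
    rintro ⟨x, hx⟩
    obtain ⟨a, rfl⟩ := Algebra.mem_bot.1 hx
    exact ⟨a, rfl⟩
  refine ⟨?_, ?_, ?_⟩
  · exact RingHom.isIntegral_of_surjective _ hsurj
  · intro F _ ψ₁ ψ₂ h12
    ext x
    obtain ⟨a, rfl⟩ := hsurj x
    exact congr($h12 a)
  · intro q hq x
    obtain ⟨a, rfl⟩ := hsurj x
    refine ⟨a, 1, ?_, ?_⟩
    · rw [map_one]; exact Ideal.IsPrime.one_notMem hq
    · rw [map_one, one_mul, sub_self]; exact zero_mem _

section sub

variable (S : Subalgebra A B)

theorem sub_int (h : (algebraMap A B).IsIntegral) : S.val.toRingHom.IsIntegral := by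
  intro b
  have h1 : IsIntegral A b := h b
  exact h1.tower_top

theorem sub_pui (h : PUI (algebraMap A B)) : PUI S.val.toRingHom := by
  intro F _ ψ₁ ψ₂ h12
  apply h F
  ext a
  exact congr($h12 (algebraMap A S a))

theorem sub_pker : PKer S.val.toRingHom := by
  intro x hx
  have : x = 0 := Subtype.val_injective (by simpa using hx)
  rw [this]; exact IsNilpotent.zero

theorem sub_pres (h : PRes (algebraMap A B)) : PRes S.val.toRingHom := by
  intro q hq b
  obtain ⟨a₁, a₂, h2, h1⟩ := h q hq b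
  exact ⟨algebraMap A S a₁, algebraMap A S a₂, h2, h1⟩

theorem sub_univHomeo (h : FlatMor.IsUnivHomeo (Spec.map (CommRingCat.ofHom (algebraMap A B)))) :
    FlatMor.IsUnivHomeo (Spec.map (CommRingCat.ofHom S.val.toRingHom)) := by
  rw [ColimUH.univHomeo_iff] at h ⊢
  exact ⟨sub_int S h.1, sub_pui S h.2.1, sub_pker S⟩

theorem sub_range (b : B) : b ∈ S.val.toRingHom.range ↔ b ∈ S := by
  constructor
  · rintro ⟨x, rfl⟩
    exact x.2
  · intro hb
    exact ⟨⟨b, hb⟩, rfl⟩

theorem sub_inj : Function.Injective S.val.toRingHom := Subtype.val_injective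

theorem sub_not_surj (h : S ≠ ⊤) : ¬ Function.Surjective S.val.toRingHom := by
  intro hs
  apply h
  rw [eq_top_iff]
  intro b _
  obtain ⟨x, rfl⟩ := hs b
  exact x.2

end sub

/-- existence of an elementary step of the first kind -/
theorem hex1 (hU : FlatMor.IsUnivHomeo (Spec.map (CommRingCat.ofHom (algebraMap A B))))
    (hres : PRes (algebraMap A B)) (S : Subalgebra A B) (hS : S ≠ ⊤) :
    ∃ b, b ∉ S ∧ El1 S b := by
  rcases UHStruct.dichotomy S.val.toRingHom (sub_inj S) (sub_univHomeo S hU) (sub_not_surj S hS)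
    with ⟨b, h1, h2, h3⟩ | ⟨hn, -⟩
  · exact ⟨b, fun h => h1 ((sub_range S b).2 h), (sub_range S _).1 h2, (sub_range S _).1 h3⟩
  · exfalso
    apply hn
    exact fun x => ColimUH.res_of_pres _ (sub_pres S hres) x

/-- existence of an elementary step of the first or second kind -/
theorem hex2 (hU : FlatMor.IsUnivHomeo (Spec.map (CommRingCat.ofHom (algebraMap A B))))
    (S : Subalgebra A B) (hS : S ≠ ⊤) :
    ∃ b, b ∉ S ∧ El2 S b := by
  rcases UHStruct.dichotomy S.val.toRingHom (sub_inj S) (sub_univHomeo S hU) (sub_not_surj S hS)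
    with ⟨b, h1, h2, h3⟩ | ⟨-, p, b, hp, h1, h2, h3⟩
  · exact ⟨b, fun h => h1 ((sub_range S b).2 h),
      Or.inl ⟨(sub_range S _).1 h2, (sub_range S _).1 h3⟩⟩
  · exact ⟨b, fun h => h1 ((sub_range S b).2 h),
      Or.inr ⟨p, hp, (sub_range S _).1 h2, (sub_range S _).1 h3⟩⟩

/-- towers of the first kind are good -/
theorem tower1_good (l : List B) (h : IsTower (El1 (A := A)) l) :
    (algebraMap A (Algebra.adjoin A {x | x ∈ l})).IsIntegral ∧
    PUI (algebraMap A (Algebra.adjoin A {x | x ∈ l})) ∧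
    PRes (algebraMap A (Algebra.adjoin A {x | x ∈ l})) := by
  refine tower_good (El := El1)
    (fun S => (algebraMap A S).IsIntegral ∧ PUI (algebraMap A S) ∧ PRes (algebraMap A S))
    bot_good ?_ l h
  intro S b hS hb
  exact ⟨step_int S b hS.1 (Or.inl hb), step_pui S b hS.2.1 (Or.inl hb), step_res S b hS.2.2 hb⟩

theorem tower2_good (l : List B) (h : IsTower (El2 (A := A)) l) :
    (algebraMap A (Algebra.adjoin A {x | x ∈ l})).IsIntegral ∧
    PUI (algebraMap A (Algebra.adjoin A {x | x ∈ l})) := by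
  refine tower_good (El := El2)
    (fun S => (algebraMap A S).IsIntegral ∧ PUI (algebraMap A S))
    ⟨bot_good.1, bot_good.2.1⟩ ?_ l h
  intro S b hS hb
  exact ⟨step_int S b hS.1 hb, step_pui S b hS.2 hb⟩

/-- transfer from towers to `B` -/
theorem good_of_towers
    (hinj : Function.Injective (algebraMap A B))
    (h : ∀ b : B, ∃ S : Subalgebra A B, b ∈ S ∧ (algebraMap A S).IsIntegral ∧
      PUI (algebraMap A S)) :
    FlatMor.IsUnivHomeo (Spec.map (CommRingCat.ofHom (algebraMap A B))) := by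
  rw [ColimUH.univHomeo_iff]
  refine ⟨?_, ?_, ?_⟩
  · intro b
    obtain ⟨S, hb, hint, -⟩ := h b
    have h1 : IsIntegral A (⟨b, hb⟩ : S) := hint ⟨b, hb⟩
    exact h1.map S.val
  · intro F _ ψ₁ ψ₂ h12
    ext b
    obtain ⟨S, hb, -, hpui⟩ := h b
    have := hpui F (ψ₁.comp S.val.toRingHom) (ψ₂.comp S.val.toRingHom) (by
      ext a
      exact congr($h12 a))
    exact congr($this ⟨b, hb⟩)
  · intro a ha
    have : a = 0 := hinj (by rw [ha, map_zero])
    rw [this]; exact IsNilpotent.zero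

theorem pres_of_towers
    (h : ∀ b : B, ∃ S : Subalgebra A B, b ∈ S ∧ PRes (algebraMap A S)) :
    PRes (algebraMap A B) := by
  intro q hq b
  obtain ⟨S, hb, hres⟩ := h b
  obtain ⟨a₁, a₂, h2, h1⟩ := hres (q.comap S.val.toRingHom) inferInstance ⟨b, hb⟩
  exact ⟨a₁, a₂, h2, h1⟩

end Groth.Agent.H25.Tower
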