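import Mathlib
import Groth.Prelude.Def_Flat
import Groth.Agent.S0415

/-!
# A criterion for `Spec B → Spec A` to be a universal homeomorphism
-/

open CategoryTheory CategoryTheory.Limits AlgebraicGeometry Polynomial

namespace Groth.Agent.H25.UH

universe u

theorem spec_univHomeo_of_unique_ext {A B : Type u} [CommRing A] [CommRing B] (φ : A →+* B)
    (hint : φ.IsIntegral)
    (huniq : ∀ (F : Type u) [Field F] (ψ₁ ψ₂ : B →+* F), ψ₁.comp φ = ψ₂.comp φ → ψ₁ = ψ₂)
    (hex : ∀ (F : Type u) [Field F] [IsAlgClosed F] (χ : A →+* F), ∃ ψ : B →+* F, ψ.comp φ = χ) :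
    FlatMor.IsUnivHomeo (Spec.map (CommRingCat.ofHom φ)) := by
  rw [Groth.Agent.S0415.result]
  refine ⟨?_, ?_, ?_⟩
  · rw [IsIntegralHom.SpecMap_iff]
    exact hint
  · refine ((tfae_universallyInjective _).out 0 1).2 ?_
    intro F _ g₁ g₂ hg
    dsimp only at hg
    obtain ⟨ψ₁, rfl⟩ : ∃ ψ, g₁ = Spec.map ψ := ⟨Spec.preimage g₁, (Spec.map_preimage g₁).symm⟩
    obtain ⟨ψ₂, rfl⟩ : ∃ ψ, g₂ = Spec.map ψ := ⟨Spec.preimage g₂, (Spec.map_preimage g₂).symm⟩
    rw [← Spec.map_comp, ← Spec.map_comp, Spec.map_inj] at hg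
    congr 1
    ext s
    have h2 : ψ₁.hom.comp φ = ψ₂.hom.comp φ := by
      ext a
      have := congr(($hg).hom a)
      simpa using this
    rw [huniq F ψ₁.hom ψ₂.hom h2]
  · refine ⟨?_⟩
    intro 𝔭
    let F := AlgebraicClosure 𝔭.asIdeal.ResidueField
    let χ : A →+* F := (algebraMap 𝔭.asIdeal.ResidueField F).comp
      (algebraMap A 𝔭.asIdeal.ResidueField)
    obtain ⟨ψ, hψ⟩ := hex F χ
    refine ⟨⟨RingHom.ker ψ, RingHom.ker_isPrime ψ⟩, ?_⟩
    apply PrimeSpectrum.ext
    change (RingHom.ker ψ).comap φ = 𝔭.asIdeal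
    rw [RingHom.comap_ker, hψ, RingHom.ker_comp_of_injective _ (algebraMap 𝔭.asIdeal.ResidueField F).injective,
      Ideal.ker_algebraMap_residueField]

/-- The quotient `A[X]/I` is finite over `A` when `I` contains a monic polynomial. -/
theorem isIntegral_quotient_of_monic {A : Type u} [CommRing A] (I : Ideal A[X]) (f : A[X])
    (hf : f.Monic) (hfI : f ∈ I) : (algebraMap A (A[X] ⧸ I)).IsIntegral := by
  have hfin : Module.Finite A (A[X] ⧸ Ideal.span {f}) := hf.finite_adjoinRoot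
  have hle : Ideal.span {f} ≤ I := by
    rw [Ideal.span_le]; simpa using hfI
  have hsurj : Function.Surjective (Ideal.Quotient.factorₐ A hle) :=
    Ideal.Quotient.factor_surjective hle
  have : Module.Finite A (A[X] ⧸ I) :=
    Module.Finite.of_surjective (Ideal.Quotient.factorₐ A hle).toLinearMap hsurj
  exact fun s => Algebra.IsIntegral.isIntegral s

/-- Ring homs out of `A[X]/I` agreeing on `A` and on `X` are equal. -/
theorem quotient_hom_ext {A : Type u} [CommRing A] (I : Ideal A[X]) {F : Type*} [Semiring F]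
    (ψ₁ ψ₂ : (A[X] ⧸ I) →+* F)
    (h : ψ₁.comp (algebraMap A (A[X] ⧸ I)) = ψ₂.comp (algebraMap A (A[X] ⧸ I)))
    (hX : ψ₁ (Ideal.Quotient.mk I X) = ψ₂ (Ideal.Quotient.mk I X)) : ψ₁ = ψ₂ := by
  apply Ideal.Quotient.ringHom_ext
  apply Polynomial.ringHom_ext
  · intro a
    exact congr($h a)
  · exact hX

/-- Constructing a ring hom out of `A[X]/span S` from a root of all generators. -/
theorem exists_quotient_hom {A : Type u} [CommRing A] (S : Set A[X]) {F : Type*} [CommRing F]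
    (χ : A →+* F) (τ : F) (hτ : ∀ g ∈ S, g.eval₂ χ τ = 0) :
    ∃ ψ : (A[X] ⧸ Ideal.span S) →+* F, ψ.comp (algebraMap A (A[X] ⧸ Ideal.span S)) = χ := by
  have hker : ∀ g ∈ Ideal.span S, Polynomial.eval₂RingHom χ τ g = 0 := by
    intro g hg
    have : Ideal.span S ≤ RingHom.ker (Polynomial.eval₂RingHom χ τ) := by
      rw [Ideal.span_le]
      intro g hg
      exact hτ g hg
    exact this hg
  refine ⟨Ideal.Quotient.lift (Ideal.span S) (Polynomial.eval₂RingHom χ τ) hker, ?_⟩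
  ext a
  change Ideal.Quotient.lift (Ideal.span S) (Polynomial.eval₂RingHom χ τ) hker
    (Ideal.Quotient.mk _ (C a)) = _
  rw [Ideal.Quotient.lift_mk]
  simp

end Groth.Agent.H25.UH
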