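import Mathlib
import Groth.Prelude.Def_HTop2
import Groth.Agent.S7402
import Groth.Agent.S7403
import Groth.Agent.H25.Tower3

/-!
# Absolute weak normalization of rings: basic properties
-/

open AlgebraicGeometry CategoryTheory Polynomial

namespace Groth.Agent.H25.AWN

open Groth.Agent.H25.ColimUH

universe u

section basic

variable {A B C : Type u} [CommRing A] [CommRing B] [CommRing C]

theorem comp_uh (φ : A →+* B) (θ : B →+* C)
    (hφ : FlatMor.IsUnivHomeo (Spec.map (CommRingCat.ofHom φ)))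
    (hθ : FlatMor.IsUnivHomeo (Spec.map (CommRingCat.ofHom θ))) :
    FlatMor.IsUnivHomeo (Spec.map (CommRingCat.ofHom (θ.comp φ))) := by
  rw [ColimUH.univHomeo_iff] at hφ hθ ⊢
  refine ⟨hφ.1.trans _ _ hθ.1, ?_, ?_⟩
  · intro F _ ψ₁ ψ₂ h12
    apply hθ.2.1
    apply hφ.2.1
    rw [RingHom.comp_assoc, RingHom.comp_assoc]
    exact h12
  · intro a ha
    obtain ⟨n, hn⟩ := hθ.2.2 (φ a) ha
    rw [← map_pow] at hn
    obtain ⟨m, hm⟩ := hφ.2.2 _ hn
    exact ⟨n * m, by rw [pow_mul, hm]⟩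

theorem cancel_uh (ψ : A →+* B) (χ : B →+* C)
    (hφ : FlatMor.IsUnivHomeo (Spec.map (CommRingCat.ofHom (χ.comp ψ))))
    (hψ : FlatMor.IsUnivHomeo (Spec.map (CommRingCat.ofHom ψ))) :
    FlatMor.IsUnivHomeo (Spec.map (CommRingCat.ofHom χ)) := by
  have hinjS := UHStruct.injS_of_univHomeo ψ hψ
  rw [ColimUH.univHomeo_iff] at hφ hψ ⊢
  refine ⟨?_, ?_, ?_⟩
  · exact RingHom.IsIntegral.tower_top ψ χ hφ.1
  · intro F _ ψ₁ ψ₂ h12
    apply hφ.2.1
    rw [← RingHom.comp_assoc, ← RingHom.comp_assoc, h12]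
  · intro b hb
    rw [← mem_nilradical, nilradical_eq_sInf, Ideal.mem_sInf]
    intro 𝔮 h𝔮
    haveI : 𝔮.IsPrime := h𝔮
    -- a prime of C over 𝔮 ∩ A
    have hsurj := ColimUH.surjective_of_integral_of_ker (χ.comp ψ) hφ.1 hφ.2.2
    obtain ⟨𝔓, h𝔓⟩ := hsurj.surj ⟨𝔮.comap ψ, inferInstance⟩
    have h1 : 𝔓.asIdeal.comap (χ.comp ψ) = 𝔮.comap ψ := congr(($h𝔓).asIdeal)
    have h2 : (𝔓.asIdeal.comap χ).comap ψ = 𝔮.comap ψ := by
      rw [Ideal.comap_comap]; exact h1
    have h3 : 𝔓.asIdeal.comap χ = 𝔮 := hinjS _ _ inferInstance inferInstance h2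
    rw [← h3, Ideal.mem_comap, hb]
    exact zero_mem _

theorem surj_nil_uh (θ : B →+* C) (hs : Function.Surjective θ)
    (hk : ∀ b, θ b = 0 → IsNilpotent b) :
    FlatMor.IsUnivHomeo (Spec.map (CommRingCat.ofHom θ)) := by
  rw [ColimUH.univHomeo_iff]
  refine ⟨RingHom.isIntegral_of_surjective _ hs, ?_, hk⟩
  intro F _ ψ₁ ψ₂ h12
  ext c
  obtain ⟨b, rfl⟩ := hs c
  exact congr($h12 b)

end basic

section awn

variable {A W : Type u} [CommRing A] [CommRing W] (φ : A →+* W) (hφ : HTop.IsRingAWN φ)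

include hφ in
theorem retraction {C : Type u} [CommRing C] (θ : W →+* C)
    (hθ : FlatMor.IsUnivHomeo (Spec.map (CommRingCat.ofHom θ))) :
    ∃ ρ : C →+* W, ρ.comp θ = RingHom.id W := by
  obtain ⟨ρ, hρ, -⟩ := hφ.2 C (θ.comp φ) (comp_uh φ θ hφ.1 hθ)
  refine ⟨ρ, ?_⟩
  obtain ⟨χ', -, huniq⟩ := hφ.2 W φ hφ.1
  have h1 : ρ.comp θ = χ' := huniq _ (by
    show (ρ.comp θ).comp φ = φ
    rw [RingHom.comp_assoc]; exact hρ)
  have h2 : RingHom.id W = χ' := huniq _ (by
    show (RingHom.id W).comp φ = φ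
    exact RingHom.id_comp φ)
  rw [h1, h2]

include hφ in
theorem awn_reduced : IsReduced W := by
  have hθ : FlatMor.IsUnivHomeo (Spec.map (CommRingCat.ofHom (Ideal.Quotient.mk (nilradical W)))) := by
    apply surj_nil_uh _ Ideal.Quotient.mk_surjective
    intro b hb
    rw [Ideal.Quotient.eq_zero_iff_mem] at hb
    exact hb
  obtain ⟨ρ, hρ⟩ := retraction φ hφ _ hθ
  constructor
  intro x hx
  have h1 : Ideal.Quotient.mk (nilradical W) x = 0 := Ideal.Quotient.eq_zero_iff_mem.2 hx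
  have h2 := congr($hρ x)
  simp only [RingHom.comp_apply, RingHom.id_apply] at h2
  rw [← h2, h1, map_zero]

end awn

section reduced

variable {W : Type u} [CommRing W] [IsReduced W]

theorem eq_of_forall_prime (a a' : W)
    (h : ∀ (𝔭 : Ideal W) [𝔭.IsPrime], algebraMap W 𝔭.ResidueField a = algebraMap W 𝔭.ResidueField a') :
    a = a' := by
  rw [← sub_eq_zero]
  apply IsReduced.eq_zero
  rw [← mem_nilradical, nilradical_eq_sInf, Ideal.mem_sInf]
  intro 𝔭 h𝔭
  haveI : 𝔭.IsPrime := h𝔭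
  rw [← Ideal.algebraMap_residueField_eq_zero (I := 𝔭), map_sub, h 𝔭, sub_self]

theorem reduced_eq_of_sq_cube (a a' : W) (h2 : a ^ 2 = a' ^ 2) (h3 : a ^ 3 = a' ^ 3) : a = a' := by
  apply eq_of_forall_prime
  intro 𝔭 _
  apply Tower.field_eq_of_sq_cube
  · rw [← map_pow, ← map_pow, h2]
  · rw [← map_pow, ← map_pow, h3]

theorem reduced_eq_of_pow_p (p : ℕ) (hp : p.Prime) (a a' : W) (h1 : (p : W) * a = (p : W) * a')
    (h2 : a ^ p = a' ^ p) : a = a' := by
  apply eq_of_forall_prime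
  intro 𝔭 _
  apply Tower.field_eq_of_pow_p p hp
  · have := congr(algebraMap W 𝔭.ResidueField $h1)
    simpa using this
  · rw [← map_pow, ← map_pow, h2]

end reduced

section awnring

variable {A W : Type u} [CommRing A] [CommRing W] (φ : A →+* W) (hφ : HTop.IsRingAWN φ)

include hφ in
theorem awn_isAWNRing : HTop.IsAWNRing W := by
  haveI := awn_reduced φ hφ
  constructor
  · intro x y hxy
    set I := Ideal.span ({X ^ 2 - C x, X ^ 3 - C y} : Set W[X]) with hI
    have hθ := (Groth.Agent.S7402.result W x y hxy).1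
    obtain ⟨ρ, hρ⟩ := retraction φ hφ _ hθ
    have hm1 : Ideal.Quotient.mk I (X ^ 2 - C x) = 0 :=
      Ideal.Quotient.eq_zero_iff_mem.2 (Ideal.subset_span (by simp))
    have hm2 : Ideal.Quotient.mk I (X ^ 3 - C y) = 0 :=
      Ideal.Quotient.eq_zero_iff_mem.2 (Ideal.subset_span (by simp))
    have hρa : ∀ w : W, ρ (Ideal.Quotient.mk I (C w)) = w := fun w => congr($hρ w)
    refine ⟨ρ (Ideal.Quotient.mk I X), ⟨?_, ?_⟩, ?_⟩
    · have := congr(ρ $hm1)
      simp only [map_sub, map_pow, map_zero, sub_eq_zero, hρa] at this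
      exact this.symm
    · have := congr(ρ $hm2)
      simp only [map_sub, map_pow, map_zero, sub_eq_zero, hρa] at this
      exact this.symm
    · rintro a' ⟨h2, h3⟩
      apply reduced_eq_of_sq_cube
      · have := congr(ρ $hm1)
        simp only [map_sub, map_pow, map_zero, sub_eq_zero, hρa] at this
        rw [this, h2]
      · have := congr(ρ $hm2)
        simp only [map_sub, map_pow, map_zero, sub_eq_zero, hρa] at this
        rw [this, h3]
  · intro p hp x y hxy
    set I := Ideal.span ({X ^ p - C x, C (p : W) * X - C y} : Set W[X]) with hI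
    have hθ := Groth.Agent.S7403.result W p hp x y hxy
    obtain ⟨ρ, hρ⟩ := retraction φ hφ _ hθ
    have hm1 : Ideal.Quotient.mk I (X ^ p - C x) = 0 :=
      Ideal.Quotient.eq_zero_iff_mem.2 (Ideal.subset_span (by simp))
    have hm2 : Ideal.Quotient.mk I (C (p : W) * X - C y) = 0 :=
      Ideal.Quotient.eq_zero_iff_mem.2 (Ideal.subset_span (by simp))
    have hρa : ∀ w : W, ρ (Ideal.Quotient.mk I (C w)) = w := fun w => congr($hρ w)
    have e1 : ρ (Ideal.Quotient.mk I X) ^ p = x := by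
      have := congr(ρ $hm1)
      simp only [map_sub, map_pow, map_zero, sub_eq_zero, hρa] at this
      exact this
    have e2 : (p : W) * ρ (Ideal.Quotient.mk I X) = y := by
      have := congr(ρ $hm2)
      simp only [map_sub, map_mul, map_zero, sub_eq_zero, hρa] at this
      exact this
    refine ⟨ρ (Ideal.Quotient.mk I X), ⟨e1.symm, e2.symm⟩, ?_⟩
    rintro a' ⟨h2, h3⟩
    apply reduced_eq_of_pow_p p hp
    · rw [e2, h3]
    · rw [e1, h2]

end awnring

end Groth.Agent.H25.AWN
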