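import Mathlib

/-!
# Extending field valued points along integral ring maps
-/

namespace Groth.Agent.H25.FieldPts

universe u

theorem exists_extension {D B : Type u} [CommRing D] [CommRing B] (i : D →+* B)
    (hint : i.IsIntegral) {F : Type u} [Field F] (ψ : D →+* F)
    (hker : RingHom.ker i ≤ RingHom.ker ψ) :
    ∃ ψ' : B →+* AlgebraicClosure F, ψ'.comp i = (algebraMap F (AlgebraicClosure F)).comp ψ := by
  algebraize [i]
  have : Algebra.IsIntegral D B := ⟨hint⟩
  have hp : (RingHom.ker ψ).IsPrime := RingHom.ker_isPrime ψ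
  obtain ⟨𝔮, _, h𝔮, hover⟩ := Ideal.exists_ideal_over_prime_of_isIntegral (RingHom.ker ψ)
    (⊥ : Ideal B) (by
      intro d hd
      exact hker hd)
  haveI : 𝔮.LiesOver (RingHom.ker ψ) := ⟨hover.symm⟩
  let M := AlgebraicClosure F
  letI : Algebra (D ⧸ RingHom.ker ψ) M := ((algebraMap F M).comp (RingHom.kerLift ψ)).toAlgebra
  haveI : FaithfulSMul (D ⧸ RingHom.ker ψ) M :=
    (faithfulSMul_iff_algebraMap_injective _ _).2
      ((algebraMap F M).injective.comp (RingHom.kerLift_injective ψ))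
  haveI : IsDomain (B ⧸ 𝔮) := Ideal.Quotient.isDomain 𝔮
  haveI : IsDomain (D ⧸ RingHom.ker ψ) := Ideal.Quotient.isDomain _
  let l : (B ⧸ 𝔮) →ₐ[D ⧸ RingHom.ker ψ] M := IsAlgClosed.lift
  refine ⟨l.toRingHom.comp (Ideal.Quotient.mk 𝔮), ?_⟩
  ext d
  have := l.commutes (Ideal.Quotient.mk (RingHom.ker ψ) d)
  simp only [RingHom.comp_apply]
  exact this

end Groth.Agent.H25.FieldPts
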