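import Mathlib
import Groth.Prelude.Def_HTop2
import Groth.Agent.S7422
import Groth.Agent.S7423
import Groth.Agent.S7419
import Groth.Agent.H25.AWN1
import Groth.Agent.H25.ColimUH

/-!
# Functoriality of the ring-level absolute weak normalization
-/

open CategoryTheory AlgebraicGeometry Polynomial

namespace Groth.Agent.H25.AWNFun

open Groth.Agent.H25.ColimUH

universe u

section basic

variable {A W W' : Type u} [CommRing A] [CommRing W] [CommRing W']

/-- F1: maps out of a radicial algebra into a reduced ring are determined on the base -/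
theorem hom_ext_reduced [IsReduced W'] (φ : A →+* W) (hφ : PUI φ) (g₁ g₂ : W →+* W')
    (h : g₁.comp φ = g₂.comp φ) : g₁ = g₂ := by
  ext w
  apply AWN.eq_of_forall_prime
  intro 𝔭 _
  have := hφ 𝔭.ResidueField ((algebraMap W' 𝔭.ResidueField).comp g₁)
    ((algebraMap W' 𝔭.ResidueField).comp g₂) (by
      rw [RingHom.comp_assoc, RingHom.comp_assoc, h])
  exact congr($this w)

/-- F2 -/
theorem isRingAWN_iff (φ : A →+* W) :
    HTop.IsRingAWN φ ↔
      FlatMor.IsUnivHomeo (Spec.map (CommRingCat.ofHom φ)) ∧ HTop.IsAWNRing W := by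
  constructor
  · intro h
    exact ⟨h.1, AWN.awn_isAWNRing φ h⟩
  · rintro ⟨hU, hW⟩
    obtain ⟨W₀, _, φ₀, hφ₀⟩ := Groth.Agent.S7422.result A
    obtain ⟨χ, hχ, -⟩ := hφ₀.2 W φ hU
    have hbij : Function.Bijective χ := (Groth.Agent.S7423.result φ₀ hφ₀ φ hU χ hχ).2 hW
    let e : W ≃+* W₀ := RingEquiv.ofBijective χ hbij
    refine ⟨hU, fun C _ ψ hψ => ?_⟩
    obtain ⟨ρ, hρ, huniq⟩ := hφ₀.2 C ψ hψ
    refine ⟨e.symm.toRingHom.comp ρ, ?_, ?_⟩
    · ext a
      have h1 : ρ (ψ a) = φ₀ a := congr($hρ a)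
      have h2 : χ (φ a) = φ₀ a := congr($hχ a)
      change e.symm (ρ (ψ a)) = φ a
      rw [h1, ← h2]
      exact e.symm_apply_apply (φ a)
    · intro ρ' hρ'
      have h3 : χ.comp ρ' = ρ := huniq _ (by
        change (χ.comp ρ').comp ψ = φ₀
        rw [RingHom.comp_assoc, hρ', hχ])
      ext c
      change ρ' c = e.symm (ρ c)
      rw [← h3]
      exact (e.symm_apply_apply (ρ' c)).symm

end basic

section localization

variable {A W : Type u} [CommRing A] [CommRing W] (φ : A →+* W) (r : A)
  (Ar : Type u) [CommRing Ar] [Algebra A Ar] [IsLocalization.Away r Ar]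
  (Wr : Type u) [CommRing Wr] [Algebra W Wr] [IsLocalization.Away (φ r) Wr]

theorem map_comp_algebraMap :
    (IsLocalization.Away.map Ar Wr φ r).comp (algebraMap A Ar) = (algebraMap W Wr).comp φ := by
  ext a
  simp [IsLocalization.Away.map]

theorem loc_integral (hint : φ.IsIntegral) : (IsLocalization.Away.map Ar Wr φ r).IsIntegral := by
  have hcomp := map_comp_algebraMap φ r Ar Wr
  have hW : ∀ w : W, (IsLocalization.Away.map Ar Wr φ r).IsIntegralElem (algebraMap W Wr w) := by
    intro w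
    obtain ⟨P, hP, h0⟩ := hint w
    refine ⟨P.map (algebraMap A Ar), hP.map _, ?_⟩
    rw [Polynomial.eval₂_map, hcomp, ← Polynomial.hom_eval₂, h0, map_zero]
  intro x
  obtain ⟨⟨w, s⟩, hx⟩ := IsLocalization.surj (Submonoid.powers (φ r)) x
  obtain ⟨n, hn⟩ := s.2
  -- x * (φ r)^n = w
  have hunit : IsUnit (algebraMap A Ar r) := IsLocalization.Away.algebraMap_isUnit r
  obtain ⟨u, hu⟩ := hunit
  have h1 : (IsLocalization.Away.map Ar Wr φ r) ((↑(u⁻¹ ^ n) : Ar)) * algebraMap W Wr (φ r ^ n) = 1 := by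
    have : algebraMap W Wr (φ r ^ n) = (IsLocalization.Away.map Ar Wr φ r) ((↑(u ^ n) : Ar)) := by
      rw [Units.val_pow_eq_pow_val, hu, ← map_pow, ← map_pow]
      exact (congr($hcomp (r ^ n))).symm
    rw [this, ← map_mul, ← Units.val_mul, ← mul_pow, inv_mul_cancel, one_pow, Units.val_one, map_one]
  have hx' : x = (IsLocalization.Away.map Ar Wr φ r) ((↑(u⁻¹ ^ n) : Ar)) * algebraMap W Wr w := by
    simp only at hx
    rw [← hx, ← hn]
    calc x = x * ((IsLocalization.Away.map Ar Wr φ r) ((↑(u⁻¹ ^ n) : Ar)) *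
          algebraMap W Wr (φ r ^ n)) := by rw [h1, mul_one]
      _ = _ := by ring
  rw [hx']
  exact RingHom.IsIntegralElem.mul _ (RingHom.isIntegralElem_map _) (hW w)

theorem loc_pui (hui : PUI φ) : PUI (IsLocalization.Away.map Ar Wr φ r) := by
  intro F _ ψ₁ ψ₂ h12
  have hcomp := map_comp_algebraMap φ r Ar Wr
  have h1 : (ψ₁.comp (algebraMap W Wr)).comp φ = (ψ₂.comp (algebraMap W Wr)).comp φ := by
    rw [RingHom.comp_assoc, RingHom.comp_assoc, ← hcomp, ← RingHom.comp_assoc, ← RingHom.comp_assoc,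
      h12]
  have h2 := hui F _ _ h1
  exact IsLocalization.ringHom_ext (Submonoid.powers (φ r)) h2

theorem loc_pker (hker : PKer φ) : PKer (IsLocalization.Away.map Ar Wr φ r) := by
  intro x hx
  have hcomp := map_comp_algebraMap φ r Ar Wr
  obtain ⟨⟨a, s⟩, hxa⟩ := IsLocalization.surj (Submonoid.powers r) x
  simp only at hxa
  have h1 : algebraMap W Wr (φ a) = 0 := by
    have := congr($hcomp a)
    simp only [RingHom.comp_apply] at this
    rw [← this, ← hxa, map_mul, hx, zero_mul]
  obtain ⟨⟨m, hm⟩, hmw⟩ := (IsLocalization.map_eq_zero_iff (Submonoid.powers (φ r)) Wr _).1 h1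
  obtain ⟨k, rfl⟩ := hm
  simp only at hmw
  have h2 : φ (r ^ k * a) = 0 := by rw [map_mul, map_pow]; exact hmw
  obtain ⟨N, hN⟩ := hker _ h2
  have hunit : IsUnit (algebraMap A Ar r) := IsLocalization.Away.algebraMap_isUnit r
  have hs : IsUnit (algebraMap A Ar (s : A)) := IsLocalization.map_units Ar s
  refine ⟨N, ?_⟩
  have h3 : (algebraMap A Ar (r ^ k) * (x * algebraMap A Ar s)) ^ N = 0 := by
    rw [hxa, ← map_mul, ← map_pow, hN, map_zero]
  rw [mul_pow, mul_pow] at h3
  have hu1 : IsUnit (algebraMap A Ar (r ^ k) ^ N) := by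
    rw [map_pow]; exact (hunit.pow k).pow N
  have hu2 : IsUnit (algebraMap A Ar s ^ N) := hs.pow N
  have h4 := (hu1.mul_right_eq_zero).1 h3
  exact (hu2.mul_left_eq_zero).1 h4

theorem loc_uh (hU : FlatMor.IsUnivHomeo (Spec.map (CommRingCat.ofHom φ))) :
    FlatMor.IsUnivHomeo (Spec.map (CommRingCat.ofHom (IsLocalization.Away.map Ar Wr φ r))) := by
  rw [univHomeo_iff] at hU ⊢
  exact ⟨loc_integral φ r Ar Wr hU.1, loc_pui φ r Ar Wr hU.2.1, loc_pker φ r Ar Wr hU.2.2⟩

end localization

section choice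

open TensorProduct

instance instRespIso : (FlatMor.IsUnivHomeo : MorphismProperty Scheme.{u}).RespectsIso := by
  unfold FlatMor.IsUnivHomeo; infer_instance

instance instStableBC : (FlatMor.IsUnivHomeo : MorphismProperty Scheme.{u}).IsStableUnderBaseChange := by
  unfold FlatMor.IsUnivHomeo; infer_instance

theorem uh_baseChange (R S T : Type u) [CommRing R] [CommRing S] [CommRing T] [Algebra R S]
    [Algebra R T] (h : FlatMor.IsUnivHomeo (Spec.map (CommRingCat.ofHom (algebraMap R T)))) :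
    FlatMor.IsUnivHomeo (Spec.map (CommRingCat.ofHom
      (Algebra.TensorProduct.includeLeftRingHom : S →+* S ⊗[R] T))) := by
  rw [← pullbackSpecIso_inv_fst]
  exact (MorphismProperty.cancel_left_of_respectsIso FlatMor.IsUnivHomeo _ _).2
    (MorphismProperty.pullback_fst _ _ h)

/-- the chosen absolute weak normalization of a ring -/
noncomputable def awn (A : Type u) [CommRing A] : Type u := (Groth.Agent.S7422.result A).choose

noncomputable instance (A : Type u) [CommRing A] : CommRing (awn A) :=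
  (Groth.Agent.S7422.result A).choose_spec.choose

noncomputable def awnMap (A : Type u) [CommRing A] : A →+* awn A :=
  (Groth.Agent.S7422.result A).choose_spec.choose_spec.choose

theorem awnMap_spec (A : Type u) [CommRing A] : HTop.IsRingAWN (awnMap A) :=
  (Groth.Agent.S7422.result A).choose_spec.choose_spec.choose_spec

instance (A : Type u) [CommRing A] : IsReduced (awn A) := AWN.awn_reduced _ (awnMap_spec A)

theorem awn_isAWNRing (A : Type u) [CommRing A] : HTop.IsAWNRing (awn A) :=
  AWN.awn_isAWNRing _ (awnMap_spec A)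

theorem awnMap_pui (A : Type u) [CommRing A] : PUI (awnMap A) :=
  ((univHomeo_iff _).1 (awnMap_spec A).1).2.1

variable {A A' A'' : Type u} [CommRing A] [CommRing A'] [CommRing A'']

theorem exists_awnLift (f : A →+* A') :
    ∃ g : awn A →+* awn A', g.comp (awnMap A) = (awnMap A').comp f := by
  letI := f.toAlgebra
  letI := (awnMap A).toAlgebra
  have h := uh_baseChange A A' (awn A) (awnMap_spec A).1
  obtain ⟨χ, hχ, -⟩ := (awnMap_spec A').2 (A' ⊗[A] awn A) _ h
  refine ⟨χ.comp (Algebra.TensorProduct.includeRight : awn A →ₐ[A] A' ⊗[A] awn A).toRingHom, ?_⟩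
  ext a
  have h1 : ((1 : A') ⊗ₜ[A] (awnMap A a) : A' ⊗[A] awn A) = (f a) ⊗ₜ[A] (1 : awn A) := by
    have e1 : awnMap A a = a • (1 : awn A) := by
      rw [Algebra.smul_def, mul_one]; rfl
    have e2 : f a = a • (1 : A') := by
      rw [Algebra.smul_def, mul_one]; rfl
    rw [e1, e2, TensorProduct.smul_tmul]
  have h2 : χ ((f a) ⊗ₜ[A] (1 : awn A)) = awnMap A' (f a) := congr($hχ (f a))
  change χ ((1 : A') ⊗ₜ[A] (awnMap A a)) = awnMap A' (f a)
  rw [h1, h2]

noncomputable def awnLift (f : A →+* A') : awn A →+* awn A' := (exists_awnLift f).choose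

theorem awnLift_comm (f : A →+* A') : (awnLift f).comp (awnMap A) = (awnMap A').comp f :=
  (exists_awnLift f).choose_spec

theorem awnLift_unique (f : A →+* A') (g : awn A →+* awn A')
    (hg : g.comp (awnMap A) = (awnMap A').comp f) : g = awnLift f :=
  hom_ext_reduced (awnMap A) (awnMap_pui A) _ _ (hg.trans (awnLift_comm f).symm)

theorem awnLift_id : awnLift (RingHom.id A) = RingHom.id (awn A) :=
  (awnLift_unique _ _ (by rw [RingHom.id_comp, RingHom.comp_id])).symm

theorem awnLift_comp (f : A →+* A') (g : A' →+* A'') :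
    awnLift (g.comp f) = (awnLift g).comp (awnLift f) :=
  (awnLift_unique _ _ (by
    rw [RingHom.comp_assoc, awnLift_comm, ← RingHom.comp_assoc, awnLift_comm,
      RingHom.comp_assoc])).symm

theorem awnLift_isLocalization (r : A) (Ar : Type u) [CommRing Ar] [Algebra A Ar]
    [IsLocalization.Away r Ar] :
    letI := (awnLift (algebraMap A Ar)).toAlgebra
    IsLocalization.Away (awnMap A r) (awn Ar) := by
  letI := (awnLift (algebraMap A Ar)).toAlgebra
  let Wr := Localization.Away (awnMap A r)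
  let φr : Ar →+* Wr := IsLocalization.Away.map Ar Wr (awnMap A) r
  have hUr : FlatMor.IsUnivHomeo (Spec.map (CommRingCat.ofHom φr)) :=
    loc_uh (awnMap A) r Ar Wr (awnMap_spec A).1
  have hWr : HTop.IsAWNRing Wr := Groth.Agent.S7419.result.1 (awn A) (awnMap A r) (awn_isAWNRing A)
  obtain ⟨χ, hχ, -⟩ := (awnMap_spec Ar).2 Wr φr hUr
  have hbij : Function.Bijective χ :=
    (Groth.Agent.S7423.result (awnMap Ar) (awnMap_spec Ar) φr hUr χ hχ).2 hWr
  have hcomm : χ.comp (algebraMap (awn A) Wr) = awnLift (algebraMap A Ar) := by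
    apply awnLift_unique
    rw [RingHom.comp_assoc, ← map_comp_algebraMap (awnMap A) r Ar Wr, ← RingHom.comp_assoc, hχ]
  let e : Wr ≃ₐ[awn A] awn Ar :=
    AlgEquiv.ofRingEquiv (f := RingEquiv.ofBijective χ hbij) (fun x => congr($hcomm x))
  exact IsLocalization.isLocalization_of_algEquiv (Submonoid.powers (awnMap A r)) e

end choice

end Groth.Agent.H25.AWNFun
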