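import Mathlib
import Groth.Prelude.Def_HTop2
import Groth.Agent.H25.AWNFun

/-!
# The absolute weak normalization of a scheme: construction by relative gluing
-/

open CategoryTheory CategoryTheory.Limits AlgebraicGeometry
open AlgebraicGeometry.Scheme.AffineZariskiSite

namespace Groth.Agent.H25.AWNSch

open Groth.Agent.H25.AWNFun Groth.Agent.H25.ColimUH

universe u

variable (X : Scheme.{u})

/-- the presheaf of absolute weak normalizations on affine opens -/
noncomputable def awnDiagram : X.AffineZariskiSiteᵒᵖ ⥤ CommRingCat.{u} where
  obj U := CommRingCat.of (awn Γ(X, U.unop.toOpens))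
  map {U V} i := CommRingCat.ofHom (awnLift (((toOpensFunctor X).op ⋙ X.presheaf).map i).hom)
  map_id U := by
    apply CommRingCat.hom_ext
    have : (((toOpensFunctor X).op ⋙ X.presheaf).map (𝟙 U)).hom = RingHom.id _ := by
      rw [CategoryTheory.Functor.map_id]; rfl
    exact (congrArg awnLift this).trans awnLift_id
  map_comp i j := by
    apply CommRingCat.hom_ext
    have : (((toOpensFunctor X).op ⋙ X.presheaf).map (i ≫ j)).hom =
        (((toOpensFunctor X).op ⋙ X.presheaf).map j).hom.comp
          (((toOpensFunctor X).op ⋙ X.presheaf).map i).hom := by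
      rw [CategoryTheory.Functor.map_comp]; rfl
    exact (congrArg awnLift this).trans (awnLift_comp _ _)

/-- the structure map -/
noncomputable def awnDiagramMap : (toOpensFunctor X).op ⋙ X.presheaf ⟶ awnDiagram X where
  app U := CommRingCat.ofHom (awnMap Γ(X, U.unop.toOpens))
  naturality {U V} i := by
    apply CommRingCat.hom_ext
    exact (awnLift_comm _).symm

theorem coequifibered : (awnDiagramMap X).Coequifibered := by
  refine coequifibered_iff_forall_isLocalizationAway.mpr fun U r => ?_
  letI : Algebra Γ(X, U.toOpens) Γ(X, X.basicOpen r) :=
    (X.presheaf.map (homOfLE (X.basicOpen_le r)).op).hom.toAlgebra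
  haveI : IsLocalization.Away r Γ(X, X.basicOpen r) := U.2.isLocalization_basicOpen r
  exact awnLift_isLocalization r Γ(X, X.basicOpen r)

/-- the gluing data -/
noncomputable def glueData : (directedCover X).RelativeGluingData :=
  relativeGluingData (coequifibered X)

/-- the absolute weak normalization of `X` -/
noncomputable def Xawn : Scheme.{u} := (glueData X).glued

/-- the structure morphism -/
noncomputable def ν : Xawn X ⟶ X := (glueData X).toBase

end Groth.Agent.H25.AWNSch
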