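import Mathlib
import Groth.Prelude.Def_HTop2
import Groth.Agent.H25.AWNSch

/-!
# General scheme-level lemmas for universal homeomorphisms and AWN
-/

open CategoryTheory CategoryTheory.Limits AlgebraicGeometry
open AlgebraicGeometry.Scheme.AffineZariskiSite

namespace Groth.Agent.H25.AWNSch

open Groth.Agent.H25.AWNFun Groth.Agent.H25.ColimUH

universe u

instance instLocalUH : IsZariskiLocalAtTarget (FlatMor.IsUnivHomeo : MorphismProperty Scheme.{u}) := by
  unfold FlatMor.IsUnivHomeo
  apply universally_isZariskiLocalAtTarget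
  intro X Y f ι U hU H
  simp_rw [topologically, morphismRestrict_base] at H
  exact (hU.isHomeomorph_iff_restrictPreimage f.continuous).mpr H

theorem uh_integral {Y X : Scheme.{u}} {π : Y ⟶ X} (hπ : FlatMor.IsUnivHomeo π) : IsIntegralHom π :=
  ((Groth.Agent.S0415.result π).1 hπ).1

theorem uh_ui {Y X : Scheme.{u}} {π : Y ⟶ X} (hπ : FlatMor.IsUnivHomeo π) :
    UniversallyInjective π :=
  ((Groth.Agent.S0415.result π).1 hπ).2.1

theorem uh_surj {Y X : Scheme.{u}} {π : Y ⟶ X} (hπ : FlatMor.IsUnivHomeo π) : Surjective π :=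
  ((Groth.Agent.S0415.result π).1 hπ).2.2

/-- Lemma U: morphisms from a reduced scheme into a radicial separated `X`-scheme are determined
by their composites to `X`. -/
theorem hom_ext_of_reduced {Z Y X : Scheme.{u}} [IsReduced Z] (π : Y ⟶ X) [UniversallyInjective π]
    [IsSeparated π] (h h' : Z ⟶ Y) (e : h ≫ π = h' ≫ π) : h = h' := by
  let g : Z ⟶ pullback π π := pullback.lift h h' e
  haveI : Surjective (pullback.diagonal π) := (UniversallyInjective.iff_diagonal π).1 inferInstance
  haveI : IsClosedImmersion (pullback.diagonal π) := inferInstance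
  haveI : Surjective (pullback.snd (pullback.diagonal π) g) := inferInstance
  haveI : IsClosedImmersion (pullback.snd (pullback.diagonal π) g) := inferInstance
  haveI : IsIso (pullback.snd (pullback.diagonal π) g) :=
    isIso_of_isClosedImmersion_of_surjective _
  rw [← cancel_epi (pullback.snd (pullback.diagonal π) g)]
  have c : pullback.fst (pullback.diagonal π) g ≫ pullback.diagonal π =
      pullback.snd (pullback.diagonal π) g ≫ g := pullback.condition
  have c1 := congr($c ≫ pullback.fst π π)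
  have c2 := congr($c ≫ pullback.snd π π)
  simp only [Category.assoc, pullback.diagonal_fst, pullback.diagonal_snd, Category.comp_id, g,
    pullback.lift_fst, pullback.lift_snd] at c1 c2
  rw [← c1, ← c2]

theorem isAWNRing_of_equiv {A B : Type u} [CommRing A] [CommRing B] (e : A ≃+* B)
    (hA : HTop.IsAWNRing A) : HTop.IsAWNRing B := by
  constructor
  · intro x y hxy
    obtain ⟨a, ⟨h1, h2⟩, huniq⟩ := hA.1 (e.symm x) (e.symm y) (by
      rw [← map_pow, ← map_pow, hxy])
    refine ⟨e a, ⟨?_, ?_⟩, ?_⟩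
    · rw [← map_pow, ← h1, e.apply_symm_apply]
    · rw [← map_pow, ← h2, e.apply_symm_apply]
    · rintro b ⟨hb1, hb2⟩
      have := huniq (e.symm b) ⟨by rw [← map_pow, ← hb1], by rw [← map_pow, ← hb2]⟩
      rw [← this, e.apply_symm_apply]
  · intro p hp x y hxy
    obtain ⟨a, ⟨h1, h2⟩, huniq⟩ := hA.2 p hp (e.symm x) (e.symm y) (by
      have := congr(e.symm $hxy)
      simpa using this)
    refine ⟨e a, ⟨?_, ?_⟩, ?_⟩
    · rw [← map_pow, ← h1, e.apply_symm_apply]
    · have := congr(e $h2)
      simpa using this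
    · rintro b ⟨hb1, hb2⟩
      have := huniq (e.symm b) ⟨by rw [← map_pow, ← hb1], by
        have := congr(e.symm $hb2)
        simpa using this⟩
      rw [← this, e.apply_symm_apply]

theorem id_isRingAWN {W : Type u} [CommRing W] (hW : HTop.IsAWNRing W) :
    HTop.IsRingAWN (RingHom.id W) := by
  rw [isRingAWN_iff]
  refine ⟨?_, hW⟩
  rw [univHomeo_iff]
  refine ⟨RingHom.isIntegral_of_surjective _ (fun x => ⟨x, rfl⟩), ?_, ?_⟩
  · intro F _ ψ₁ ψ₂ h
    simpa using h
  · intro a ha
    rw [show a = 0 from ha]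
    exact IsNilpotent.zero

/-- sections of universal homeomorphisms over affine AWN schemes -/
theorem exists_section {P Z : Scheme.{u}} [IsAffine Z] (hZ : HTop.IsAWNRing Γ(Z, ⊤))
    (p : P ⟶ Z) (hp : FlatMor.IsUnivHomeo p) : ∃ s : Z ⟶ P, s ≫ p = 𝟙 Z := by
  haveI : IsIntegralHom p := uh_integral hp
  haveI : IsAffine P := isAffine_of_isAffineHom p
  have hp' : FlatMor.IsUnivHomeo (Spec.map p.appTop) :=
    (MorphismProperty.arrow_mk_iso_iff _ (arrowIsoSpecΓOfIsAffine p)).1 hp
  obtain ⟨ρ, hρ⟩ := AWN.retraction (RingHom.id Γ(Z, ⊤)) (id_isRingAWN hZ) p.appTop.hom hp'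
  refine ⟨Z.isoSpec.hom ≫ Spec.map (CommRingCat.ofHom ρ) ≫ P.isoSpec.inv, ?_⟩
  rw [Category.assoc, Category.assoc, ← Scheme.isoSpec_inv_naturality, ← Category.assoc (Spec.map _),
    ← Spec.map_comp]
  have : p.appTop ≫ CommRingCat.ofHom ρ = 𝟙 _ := by
    apply CommRingCat.hom_ext
    exact hρ
  rw [this, Spec.map_id, Category.id_comp, Iso.hom_inv_id]

/-- Lemma E: lifting morphisms from affine AWN schemes along universal homeomorphisms -/
theorem exists_lift {Y X Z : Scheme.{u}} [IsAffine Z] (hZ : HTop.IsAWNRing Γ(Z, ⊤))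
    (π : Y ⟶ X) (hπ : FlatMor.IsUnivHomeo π) (g : Z ⟶ X) : ∃ h : Z ⟶ Y, h ≫ π = g := by
  have hp : FlatMor.IsUnivHomeo (pullback.snd π g) := MorphismProperty.pullback_snd _ _ hπ
  obtain ⟨s, hs⟩ := exists_section hZ (pullback.snd π g) hp
  refine ⟨s ≫ pullback.fst π g, ?_⟩
  rw [Category.assoc, pullback.condition, ← Category.assoc, hs, Category.id_comp]

end Groth.Agent.H25.AWNSch
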