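import Mathlib
import Groth.Prelude.Def_HTop2
import Groth.Agent.H25.AWNSch2

/-!
# The absolute weak normalization of a scheme: properties
-/

open CategoryTheory CategoryTheory.Limits AlgebraicGeometry
open AlgebraicGeometry.Scheme.AffineZariskiSite

namespace Groth.Agent.H25.AWNSch

open Groth.Agent.H25.AWNFun Groth.Agent.H25.ColimUH

universe u

variable (X : Scheme.{u})

instance instLD : ((glueData X).functor ⋙ Scheme.forget).IsLocallyDirected :=
  Scheme.Cover.RelativeGluingData.instIsLocallyDirectedI₀CompFunctorForgetOfIsThin ..

theorem ν_uh : FlatMor.IsUnivHomeo (ν X) := by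
  rw [IsZariskiLocalAtTarget.iff_of_openCover (P := FlatMor.IsUnivHomeo) (directedCover X)]
  intro U
  have hpb := ((glueData X).isPullback_natTrans_ι_toBase U).flip
  have e : hpb.isoPullback.hom ≫ pullback.snd (glueData X).toBase ((directedCover X).f U) =
      (glueData X).natTrans.app U := hpb.isoPullback_hom_snd
  have h1 : FlatMor.IsUnivHomeo ((glueData X).natTrans.app U) := by
    change FlatMor.IsUnivHomeo (Spec.map ((awnDiagramMap X).app (.op U)) ≫
      (restrictIsoSpec X).inv.app U)
    exact (MorphismProperty.cancel_right_of_respectsIso FlatMor.IsUnivHomeo _ _).2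
      (awnMap_spec _).1
  rw [← e] at h1
  exact (MorphismProperty.cancel_left_of_respectsIso FlatMor.IsUnivHomeo _ _).1 h1

/-- the pieces of the cover -/
theorem piece_eq (U : X.AffineZariskiSite) :
    (glueData X).functor.obj U = Spec (CommRingCat.of (awn Γ(X, U.toOpens))) := rfl

instance (U : X.AffineZariskiSite) : IsAffine ((glueData X).functor.obj U) := by
  rw [piece_eq]; infer_instance

instance (U : X.AffineZariskiSite) : IsReduced ((glueData X).functor.obj U) := by
  rw [piece_eq]; infer_instance

theorem piece_awn (U : X.AffineZariskiSite) :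
    HTop.IsAWNRing Γ((glueData X).functor.obj U, ⊤) := by
  change HTop.IsAWNRing Γ(Spec (CommRingCat.of (awn Γ(X, U.toOpens))), ⊤)
  exact isAWNRing_of_equiv (Scheme.ΓSpecIso (CommRingCat.of (awn Γ(X, U.toOpens)))).symm.commRingCatIsoToRingEquiv
    (awn_isAWNRing _)

instance : IsReduced (Xawn X) := by
  haveI : ∀ i, IsReduced ((glueData X).cover.X i) := fun i => by
    change IsReduced ((glueData X).functor.obj i); infer_instance
  exact IsReduced.of_openCover _ (glueData X).cover

theorem ν_isAWNormalization : HTop.IsAWNormalization (ν X) := by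
  refine ⟨ν_uh X, fun Y π hπ => ?_⟩
  haveI : IsIntegralHom π := uh_integral hπ
  haveI : UniversallyInjective π := uh_ui hπ
  choose hU hhU using fun U : X.AffineZariskiSite =>
    exists_lift (piece_awn X U) π hπ (colimit.ι (glueData X).functor U ≫ ν X)
  let c : Cocone (glueData X).functor :=
    { pt := Y
      ι :=
        { app := hU
          naturality := fun U V i => by
            simp only [Functor.const_obj_obj, Functor.const_obj_map, Category.comp_id]
            apply hom_ext_of_reduced π
            rw [Category.assoc, hhU, hhU, colimit.w_assoc] } }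
  have hdesc : colimit.desc (glueData X).functor c ≫ π = ν X := by
    apply colimit.hom_ext
    intro U
    rw [colimit.ι_desc_assoc]
    exact hhU U
  refine ⟨colimit.desc (glueData X).functor c, hdesc, ?_⟩
  intro h' hh'
  haveI : IsReduced (colimit (glueData X).functor) := inferInstanceAs (IsReduced (Xawn X))
  apply hom_ext_of_reduced π
  rw [hh']
  exact hdesc.symm

end Groth.Agent.H25.AWNSch
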