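import Mathlib
import Groth.Prelude.Def_HTop2
import Groth.Agent.H25.AWNSch3
import Groth.Agent.S7420

/-!
# AWN schemes: further properties
-/

open CategoryTheory CategoryTheory.Limits AlgebraicGeometry
open AlgebraicGeometry.Scheme.AffineZariskiSite

namespace Groth.Agent.H25.AWNSch

open Groth.Agent.H25.AWNFun Groth.Agent.H25.ColimUH

universe u

/-- transport of AWN sections along an open immersion -/
theorem awn_image {Z X : Scheme.{u}} (f : Z ⟶ X) [IsOpenImmersion f] (U : Z.Opens)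
    (hU : IsAffineOpen U) (h : HTop.IsAWNRing Γ(Z, U)) :
    IsAffineOpen (f ''ᵁ U) ∧ HTop.IsAWNRing Γ(X, f ''ᵁ U) :=
  ⟨hU.image_of_isOpenImmersion f,
    isAWNRing_of_equiv (f.appIso U).symm.commRingCatIsoToRingEquiv h⟩

theorem isAWN_of_openCover {X : Scheme.{u}} (𝒰 : X.OpenCover) [∀ i, IsAffine (𝒰.X i)]
    (h : ∀ i, HTop.IsAWNRing Γ(𝒰.X i, ⊤)) : HTop.IsAWN X := by
  intro x
  obtain ⟨z, hz⟩ := 𝒰.covers x
  obtain ⟨h1, h2⟩ := awn_image (𝒰.f (𝒰.idx x)) ⊤ (isAffineOpen_top _) (h _)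
  exact ⟨⟨_, h1⟩, ⟨z, trivial, hz⟩, h2⟩

theorem isAWN_of_iso {X Y : Scheme.{u}} (e : X ≅ Y) (hX : HTop.IsAWN X) : HTop.IsAWN Y := by
  intro y
  obtain ⟨U, hxU, hU⟩ := hX (e.inv y)
  obtain ⟨h1, h2⟩ := awn_image e.hom U.1 U.2 hU
  refine ⟨⟨_, h1⟩, ⟨e.inv y, hxU, ?_⟩, h2⟩
  change e.hom (e.inv y) = y
  rw [← Scheme.Hom.comp_apply, e.inv_hom_id]
  rfl

theorem isAWN_Xawn (X : Scheme.{u}) : HTop.IsAWN (Xawn X) := by
  haveI : ∀ i, IsAffine ((glueData X).cover.X i) := fun i => by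
    change IsAffine ((glueData X).functor.obj i); infer_instance
  exact isAWN_of_openCover (glueData X).cover (fun i => piece_awn X i)

/-- a universal homeomorphism from a reduced ring to... : ring-level iso criterion -/
theorem bijective_of_awn_reduced {A C : Type u} [CommRing A] [CommRing C] [IsReduced C]
    (hA : HTop.IsAWNRing A) (θ : A →+* C)
    (hθ : FlatMor.IsUnivHomeo (Spec.map (CommRingCat.ofHom θ))) : Function.Bijective θ := by
  obtain ⟨ρ, hρ⟩ := AWN.retraction (RingHom.id A) (id_isRingAWN hA) θ hθ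
  have hρU : FlatMor.IsUnivHomeo (Spec.map (CommRingCat.ofHom ρ)) := by
    apply AWN.cancel_uh θ ρ _ hθ
    rw [hρ]
    exact (id_isRingAWN hA).1
  have hρker := ((univHomeo_iff ρ).1 hρU).2.2
  have hρinj : Function.Injective ρ := by
    rw [injective_iff_map_eq_zero]
    intro c hc
    exact IsReduced.eq_zero _ (hρker c hc)
  refine ⟨fun a b hab => ?_, fun c => ⟨ρ c, ?_⟩⟩
  · have := congr(ρ $hab)
    rwa [show ρ (θ a) = a from congr($hρ a), show ρ (θ b) = b from congr($hρ b)] at this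
  · apply hρinj
    exact congr($hρ (ρ c))

theorem uh_restrict {Y X : Scheme.{u}} {π : Y ⟶ X} (hπ : FlatMor.IsUnivHomeo π) (U : X.Opens) :
    FlatMor.IsUnivHomeo (π ∣_ U) :=
  IsZariskiLocalAtTarget.restrict hπ U

/-- (b)(→) -/
theorem isIso_of_isAWN {Y X : Scheme.{u}} (hX : HTop.IsAWN X) (π : Y ⟶ X)
    (hπ : FlatMor.IsUnivHomeo π) [IsReduced Y] : IsIso π := by
  haveI : IsIntegralHom π := uh_integral hπ
  have hall := (Groth.Agent.S7420.result X).2.1 hX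
  rw [← MorphismProperty.isomorphisms.iff,
    HasAffineProperty.eq_targetAffineLocally (P := MorphismProperty.isomorphisms Scheme)]
  intro U
  have hAff : IsAffine (π ⁻¹ᵁ U.1) := U.2.preimage π
  refine ⟨hAff, ?_⟩
  have hg : FlatMor.IsUnivHomeo (π ∣_ U.1) := uh_restrict hπ U.1
  haveI : IsAffine (U.1 : Scheme.{u}) := U.2
  have hg' : FlatMor.IsUnivHomeo (Spec.map (π ∣_ U.1).appTop) :=
    (MorphismProperty.arrow_mk_iso_iff _ (arrowIsoSpecΓOfIsAffine (π ∣_ U.1))).1 hg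
  have hAU : HTop.IsAWNRing Γ(X, U.1.ι ''ᵁ ⊤) :=
    hall ⟨U.1.ι ''ᵁ ⊤, by rw [Scheme.Opens.ι_image_top]; exact U.2⟩
  haveI : IsReduced ((π ⁻¹ᵁ U.1 : Y.Opens) : Scheme.{u}) := inferInstance
  haveI : _root_.IsReduced Γ((π ⁻¹ᵁ U.1 : Y.Opens), ⊤) := inferInstance
  have hbij := bijective_of_awn_reduced hAU (π ∣_ U.1).appTop.hom hg'
  exact (ConcreteCategory.isIso_iff_bijective _).2 hbij

end Groth.Agent.H25.AWNSch
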