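import Mathlib
import Groth.Prelude.Def_HTop2
import Groth.Agent.H25.AWNSch4

/-!
# AWN schemes: cancellation and comparison
-/

open CategoryTheory CategoryTheory.Limits AlgebraicGeometry

namespace Groth.Agent.H25.AWNSch

universe u

theorem uh_id (X : Scheme.{u}) : FlatMor.IsUnivHomeo (𝟙 X) := by
  rw [Groth.Agent.S0415.result]
  exact ⟨inferInstance, inferInstance, inferInstance⟩

theorem ui_of_comp {X Y Z : Scheme.{u}} (f : X ⟶ Y) (g : Y ⟶ Z) [UniversallyInjective (f ≫ g)] :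
    UniversallyInjective f := by
  have h1 : UniversallyInjective f ↔ ∀ (K : Type u) [Field K],
      Function.Injective (fun t : Spec (.of K) ⟶ X ↦ t ≫ f) :=
    (tfae_universallyInjective f).out 0 1
  have h2 : UniversallyInjective (f ≫ g) ↔ ∀ (K : Type u) [Field K],
      Function.Injective (fun t : Spec (.of K) ⟶ X ↦ t ≫ f ≫ g) :=
    (tfae_universallyInjective (f ≫ g)).out 0 1
  refine h1.2 ?_
  intro K _ a b hab
  apply h2.1 inferInstance K
  change a ≫ f ≫ g = b ≫ f ≫ g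
  have hab' : a ≫ f = b ≫ f := hab
  rw [← Category.assoc, hab', Category.assoc]

theorem cancel_uh_scheme {X' Y X : Scheme.{u}} (h : X' ⟶ Y) (π : Y ⟶ X)
    (hπ : FlatMor.IsUnivHomeo π) (hν : FlatMor.IsUnivHomeo (h ≫ π)) : FlatMor.IsUnivHomeo h := by
  rw [Groth.Agent.S0415.result] at hν ⊢
  obtain ⟨i1, i2, i3⟩ := hν
  haveI := uh_integral hπ
  haveI := uh_ui hπ
  refine ⟨IsIntegralHom.of_comp h π, ui_of_comp h π, ⟨fun y => ?_⟩⟩
  obtain ⟨x', hx'⟩ := i3.surj (π y)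
  refine ⟨x', ?_⟩
  apply π.injective
  rw [← Scheme.Hom.comp_apply]
  exact hx'

/-- any absolute weak normalization is isomorphic to the constructed one -/
theorem exists_iso_Xawn {X' X : Scheme.{u}} (ν' : X' ⟶ X) (hν : HTop.IsAWNormalization ν') :
    ∃ e : X' ≅ Xawn X, e.hom ≫ ν X = ν' := by
  obtain ⟨a, ha, -⟩ := hν.2 _ (ν X) (ν_uh X)
  obtain ⟨b, hb, -⟩ := (ν_isAWNormalization X).2 _ ν' hν.1
  have hab : a ≫ b = 𝟙 X' := by
    obtain ⟨k, -, kuniq⟩ := hν.2 _ ν' hν.1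
    rw [kuniq (a ≫ b) (by show (a ≫ b) ≫ ν' = ν'; rw [Category.assoc, hb, ha]),
      ← kuniq (𝟙 _) (Category.id_comp _)]
  have hba : b ≫ a = 𝟙 (Xawn X) := by
    obtain ⟨k, -, kuniq⟩ := (ν_isAWNormalization X).2 _ (ν X) (ν_uh X)
    rw [kuniq (b ≫ a) (by show (b ≫ a) ≫ ν X = ν X; rw [Category.assoc, ha, hb]),
      ← kuniq (𝟙 _) (Category.id_comp _)]
  exact ⟨⟨a, b, hab, hba⟩, ha⟩

end Groth.Agent.H25.AWNSch
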