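import Groth.Prelude.Def_AlgSp4

/-!
# Algebraic spaces toolkit, part 1: field points as morphisms, points of pullbacks
-/

universe u

open CategoryTheory CategoryTheory.Limits AlgebraicGeometry Opposite AlgSp

namespace Groth.Agent.H25.AS

variable {S : Scheme.{u}}

/-- Yoneda for the big fppf site, universe-pinned. -/
noncomputable abbrev yE {F : Sp S} {U : Over S} : ((yon S).obj U ⟶ F) ≃ F.obj.obj (op U) :=
  (J S).uliftYonedaEquiv.{u+1}

/-- The field-valued point attached to a morphism `h_{Spec K} ⟶ F`. -/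
noncomputable def fpOf {F : Sp S} (K : Type u) [Field K] (str : Spec (CommRingCat.of K) ⟶ S)
    (m : (yon S).obj (Over.mk str) ⟶ F) : FieldPt F :=
  ⟨K, str, yE m⟩

theorem exists_fpOf {F : Sp S} (x : Points F) :
    ∃ (K : Type u) (_ : Field K) (str : Spec (CommRingCat.of K) ⟶ S)
      (m : (yon S).obj (Over.mk str) ⟶ F), x = Points.mk (fpOf K str m) := by
  induction x using Points.ind with | h p => ?_
  obtain ⟨K, str, v⟩ := p
  refine ⟨K, inferInstance, str, yE.symm v, ?_⟩
  simp only [fpOf]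
  rw [Equiv.apply_symm_apply]

theorem map_fpOf {F G : Sp S} (f : F ⟶ G) (K : Type u) [Field K]
    (str : Spec (CommRingCat.of K) ⟶ S) (m : (yon S).obj (Over.mk str) ⟶ F) :
    Points.map f (Points.mk (fpOf K str m)) = Points.mk (fpOf K str (m ≫ f)) := by
  rw [Points.map_mk]
  congr 1

theorem mk_fpOf_eq_iff {F : Sp S} {K L : Type u} [Field K] [Field L]
    {str : Spec (CommRingCat.of K) ⟶ S} {str' : Spec (CommRingCat.of L) ⟶ S}
    (m : (yon S).obj (Over.mk str) ⟶ F) (m' : (yon S).obj (Over.mk str') ⟶ F) :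
    Points.mk (fpOf K str m) = Points.mk (fpOf L str' m') ↔
      ∃ (Ω : Type u) (_ : Field Ω) (w : Spec (CommRingCat.of Ω) ⟶ S)
        (a : Over.mk w ⟶ Over.mk str) (b : Over.mk w ⟶ Over.mk str'),
        (yon S).map a ≫ m = (yon S).map b ≫ m' := by
  rw [Points.mk_eq_mk_iff]
  constructor
  · rintro ⟨Ω, _, w, a, b, h⟩
    refine ⟨Ω, inferInstance, w, a, b, ?_⟩
    apply yE.injective
    have h1 := (J S).uliftYonedaEquiv_naturality.{u+1} m a
    have h2 := (J S).uliftYonedaEquiv_naturality.{u+1} m' b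
    exact h1.symm.trans (h.trans h2)
  · rintro ⟨Ω, _, w, a, b, h⟩
    refine ⟨Ω, inferInstance, w, a, b, ?_⟩
    have h1 := (J S).uliftYonedaEquiv_naturality.{u+1} m a
    have h2 := (J S).uliftYonedaEquiv_naturality.{u+1} m' b
    exact h1.trans ((congrArg yE h).trans h2.symm)

theorem mk_fpOf_eq {F : Sp S} {K L : Type u} [Field K] [Field L]
    {str : Spec (CommRingCat.of K) ⟶ S} {str' : Spec (CommRingCat.of L) ⟶ S}
    (m : (yon S).obj (Over.mk str) ⟶ F) (m' : (yon S).obj (Over.mk str') ⟶ F)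
    (φ : Over.mk str' ⟶ Over.mk str) (h : (yon S).map φ ≫ m = m') :
    Points.mk (fpOf L str' m') = Points.mk (fpOf K str m) := by
  rw [mk_fpOf_eq_iff]
  refine ⟨L, inferInstance, str', 𝟙 _, φ, ?_⟩
  rw [h, (yon S).map_id, Category.id_comp]

/-- The residue-field point of a scheme over `S`, as a morphism over `S`. -/
noncomputable abbrev resPt (T : Over S) (t : ↥T.left) :
    Over.mk (T.left.fromSpecResidueField t ≫ T.hom) ⟶ T :=
  Over.homMk (T.left.fromSpecResidueField t) rfl

theorem ofPt_eq_mk {F : Sp S} {T : Over S} (g : (yon S).obj T ⟶ F) (t : ↥T.left) :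
    Points.ofPt g t = Points.mk (fpOf (T.left.residueField t)
      (T.left.fromSpecResidueField t ≫ T.hom) ((yon S).map (resPt T t) ≫ g)) := by
  unfold Points.ofPt
  congr 1

/-- Points of pullbacks of sheaves: `|P| → |H| ×_{|G|} |F|` is surjective. -/
theorem exists_of_isPullback {F G H P : Sp S} {f : F ⟶ G} {g : H ⟶ G} {fst : P ⟶ H}
    {snd : P ⟶ F} (h : IsPullback fst snd g f) (z : Points H) (x : Points F)
    (e : Points.map g z = Points.map f x) :
    ∃ p : Points P, Points.map fst p = z ∧ Points.map snd p = x := by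
  obtain ⟨K, _, str, m, rfl⟩ := exists_fpOf z
  obtain ⟨L, _, str', m', rfl⟩ := exists_fpOf x
  rw [map_fpOf, map_fpOf, mk_fpOf_eq_iff] at e
  obtain ⟨Ω, _, w, a, b, hab⟩ := e
  have hab' : ((yon S).map a ≫ m) ≫ g = ((yon S).map b ≫ m') ≫ f := by
    simpa only [Category.assoc] using hab
  refine ⟨Points.mk (fpOf Ω w (h.lift _ _ hab')), ?_, ?_⟩
  · rw [map_fpOf, h.lift_fst]
    exact mk_fpOf_eq _ _ a rfl
  · rw [map_fpOf, h.lift_snd]
    exact mk_fpOf_eq _ _ b rfl

end Groth.Agent.H25.AS
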