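import Groth.Agent.H25.AlgSp9

/-!
# Algebraic spaces toolkit, part 10: monomorphisms
-/

universe u

open CategoryTheory CategoryTheory.Limits AlgebraicGeometry Opposite AlgSp

namespace Groth.Agent.H25.AS

variable {S : Scheme.{u}}

/-- Morphisms of sheaves are determined by their precompositions with maps from representables. -/
theorem hom_ext_yon {W F : Sp S} {a b : W ⟶ F}
    (h : ∀ (T : Over S) (c : (yon S).obj T ⟶ W), c ≫ a = c ≫ b) : a = b :=
  GrothendieckTopology.hom_ext_uliftYoneda.{u+1} (J := J S) h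

/-- To check that `f` is a monomorphism of sheaves it is enough to test against representables. -/
theorem mono_of_yon {F G : Sp S} (f : F ⟶ G)
    (h : ∀ (T : Over S) (a b : (yon S).obj T ⟶ F), a ≫ f = b ≫ f → a = b) : Mono f :=
  ⟨fun _ _ hab => hom_ext_yon fun T c => h T _ _ (by simp only [Category.assoc, hab])⟩

/-- A morphism representable by monomorphisms of schemes is a monomorphism of sheaves. -/
theorem mono_of_repWith (P : MorphismProperty Scheme.{u})
    (hP : ∀ {A B : Scheme.{u}} (g : A ⟶ B), P g → Mono g) {F G : Sp S} (f : F ⟶ G)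
    (hf : RepWith P f) : Mono f := by
  refine mono_of_yon f fun T a b hab => ?_
  have sq := hf.rep.isPullback (a ≫ f)
  have hm : Mono (hf.rep.snd (a ≫ f)).left := hP _ (hf.property_snd (a ≫ f))
  obtain ⟨sa, hsa1, hsa2⟩ := sq.exists_lift a (𝟙 _) (by simp)
  obtain ⟨sb, hsb1, hsb2⟩ := sq.exists_lift b (𝟙 _) (by simp [hab])
  obtain ⟨σa, rfl⟩ := (yon S).map_surjective sa
  obtain ⟨σb, rfl⟩ := (yon S).map_surjective sb
  have e1 : σa ≫ hf.rep.snd (a ≫ f) = 𝟙 _ := (yon S).map_injective (by
    rw [Functor.map_comp, hsa2]; exact ((yon S).map_id _).symm)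
  have e2 : σb ≫ hf.rep.snd (a ≫ f) = 𝟙 _ := (yon S).map_injective (by
    rw [Functor.map_comp, hsb2]; exact ((yon S).map_id _).symm)
  have e3 : σa = σb := by
    apply Over.OverMorphism.ext
    rw [← cancel_mono (hf.rep.snd (a ≫ f)).left, ← Over.comp_left, ← Over.comp_left, e1, e2]
  rw [← hsa1, ← hsb1, e3]

end Groth.Agent.H25.AS

namespace Groth.Agent.H25.AS

variable {S : Scheme.{u}}

/-- Sections of a sheaf agreeing on a covering sieve are equal, in terms of maps from
representables. -/
theorem yon_hom_ext_of_covering {F : Sp S} {T : Over S} (a b : (yon S).obj T ⟶ F)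
    (R : Sieve T) (hR : R ∈ J S T)
    (h : ∀ ⦃T' : Over S⦄ (r : T' ⟶ T), R r → (yon S).map r ≫ a = (yon S).map r ≫ b) : a = b := by
  apply yE.injective
  have hsep := ((isSheaf_iff_isSheaf_of_type (J S) F.obj).1 F.property).isSeparated
  refine (hsep R hR).ext fun T' r hr => ?_
  have h1 := (J S).uliftYonedaEquiv_naturality.{u+1} a r
  have h2 := (J S).uliftYonedaEquiv_naturality.{u+1} b r
  exact h1.trans ((congrArg yE (h r hr)).trans h2.symm)

/-- Being a monomorphism descends along a locally surjective base change. -/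
theorem mono_of_isPullback_of_isLocallySurjective {F G H P : Sp S} (f : F ⟶ G) (p : H ⟶ G)
    [Sheaf.IsLocallySurjective p] (fst : P ⟶ F) (snd : P ⟶ H) (sq : IsPullback fst snd f p)
    [Mono snd] : Mono f := by
  refine mono_of_yon f fun T a b hab => ?_
  have hcov := Presheaf.imageSieve_mem (J S) p.hom (U := op T) (yE (a ≫ f))
  refine yon_hom_ext_of_covering a b _ hcov fun T' r hr => ?_
  obtain ⟨s, hs⟩ := hr
  have hc : yE.symm s ≫ p = (yon S).map r ≫ a ≫ f := by
    apply yE.injective
    have h1 := (J S).uliftYonedaEquiv_comp.{u+1} (yE.symm s) p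
    have h2 := (J S).uliftYonedaEquiv_naturality.{u+1} (a ≫ f) r
    rw [h1, ← h2]
    simpa using hs
  obtain ⟨la, hla1, hla2⟩ := sq.exists_lift ((yon S).map r ≫ a) (yE.symm s) (by
    rw [Category.assoc, hc])
  obtain ⟨lb, hlb1, hlb2⟩ := sq.exists_lift ((yon S).map r ≫ b) (yE.symm s) (by
    rw [Category.assoc, hc, hab])
  have : la = lb := by
    rw [← cancel_mono snd, hla2, hlb2]
  rw [← hla1, ← hlb1, this]

end Groth.Agent.H25.AS
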