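import Groth.Agent.H25.AlgSp99

/-!
# Algebraic spaces toolkit, part 100: local finiteness of irreducible components
-/

set_option linter.style.haveILetI false

universe u

open CategoryTheory CategoryTheory.Limits AlgebraicGeometry Opposite AlgSp MorphismProperty
open Topology

namespace Groth.Agent.H25.AS

theorem finite_irreducibleComponents_meeting_image {P : Type*} [TopologicalSpace P] {U : Type*}
    [TopologicalSpace U] (a : U → P) (ha : Continuous a) (hao : IsOpenMap a) (T : Set P)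
    (N : Set U) (hN : IsOpen N) (hNS : TopologicalSpace.NoetherianSpace ↥N) :
    {Z : ↥(irreducibleComponents ↥T) |
      ((((↑) : ↥T → P) '' (Z : Set ↥T)) ∩ a '' N).Nonempty}.Finite := by
  let T' : Set U := (a ⁻¹' T) ∩ N
  haveI hNS' : TopologicalSpace.NoetherianSpace ↥T' := by
    rw [TopologicalSpace.noetherianSpace_set_iff]
    intro t ht
    exact (TopologicalSpace.noetherianSpace_set_iff N).1 hNS t
      (ht.trans Set.inter_subset_right)
  have hfin : (irreducibleComponents ↥T').Finite :=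
    TopologicalSpace.NoetherianSpace.finite_irreducibleComponents
  let φ : ↥T' → ↥T := fun n => ⟨a n.1, n.2.1⟩
  have hφ : Continuous φ := (ha.comp continuous_subtype_val).subtype_mk _
  have hc : ∀ Z' : ↥(irreducibleComponents ↥T'), ∃ C ∈ irreducibleComponents ↥T,
      φ '' (Z' : Set ↥T') ⊆ C := fun Z' =>
    exists_mem_irreducibleComponents_subset_of_isIrreducible _
      (Z'.2.1.image φ hφ.continuousOn)
  choose g hg1 hg2 using hc
  haveI : Finite ↥(irreducibleComponents ↥T') := hfin.to_subtype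
  have hfr : (Set.range g).Finite := Set.finite_range g
  refine (hfr.preimage (Subtype.val_injective.injOn)).subset ?_
  rintro Z ⟨p, ⟨q, hqZ, rfl⟩, ⟨n, hnN, hn⟩⟩
  have hOopen : IsOpen (((↑) : ↥T → P) ⁻¹' (a '' N)) :=
    (hao N hN).preimage continuous_subtype_val
  have hne : ((Z : Set ↥T) ∩ ((↑) : ↥T → P) ⁻¹' (a '' N)).Nonempty :=
    ⟨q, hqZ, ⟨n, hnN, hn⟩⟩
  have hdense := subset_closure_inter_of_isPreirreducible_of_isOpen Z.2.1.isPreirreducible
    hOopen hne
  have hcl : IsClosed (⋃₀ Set.range g) := by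
    rw [Set.sUnion_eq_biUnion]
    refine hfr.isClosed_biUnion ?_
    rintro _ ⟨Z', rfl⟩
    exact isClosed_of_mem_irreducibleComponents _ (hg1 Z')
  have hsub : (Z : Set ↥T) ∩ ((↑) : ↥T → P) ⁻¹' (a '' N) ⊆ ⋃₀ Set.range g := by
    rintro q' ⟨-, ⟨n', hn'N, hn'⟩⟩
    have hn'T : n' ∈ T' := ⟨by rw [Set.mem_preimage, hn']; exact q'.2, hn'N⟩
    let Z' : ↥(irreducibleComponents ↥T') :=
      ⟨irreducibleComponent (⟨n', hn'T⟩ : ↥T'), irreducibleComponent_mem_irreducibleComponents _⟩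
    refine ⟨g Z', ⟨Z', rfl⟩, hg2 Z' ⟨⟨n', hn'T⟩, mem_irreducibleComponent, ?_⟩⟩
    exact Subtype.ext hn'
  have hZsub : (Z : Set ↥T) ⊆ ⋃₀ Set.range g :=
    hdense.trans (hcl.closure_subset_iff.2 hsub)
  obtain ⟨C, hC, hZC⟩ := (isIrreducible_iff_sUnion_isClosed.1 Z.2.1) hfr.toFinset
    (fun W hW => by
      rw [hfr.mem_toFinset] at hW
      obtain ⟨Z', rfl⟩ := hW
      exact isClosed_of_mem_irreducibleComponents _ (hg1 Z'))
    (hfr.coe_toFinset.symm ▸ hZsub)
  rw [hfr.mem_toFinset] at hC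
  obtain ⟨Z', rfl⟩ := hC
  have : (Z : Set ↥T) = g Z' := Set.Subset.antisymm hZC (Z.2.2 (hg1 Z').1 hZC)
  exact ⟨Z', this.symm⟩

end Groth.Agent.H25.AS
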