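import Groth.Agent.H25.AlgSp100

/-!
# Algebraic spaces toolkit, part 101: locally constructible sets
-/

set_option linter.style.haveILetI false

universe u

open CategoryTheory CategoryTheory.Limits AlgebraicGeometry Opposite AlgSp MorphismProperty
open Topology TopologicalSpace Set.Notation

namespace Groth.Agent.H25.AS

theorem isLocallyConstructible_preimage {X Y : Scheme.{u}} (f : X ⟶ Y) {s : Set Y}
    (hs : IsLocallyConstructible s) : IsLocallyConstructible (f ⁻¹' s) := by
  have hcov : IsOpenCover (fun V : Y.affineOpens => f ⁻¹ᵁ V.1) := by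
    apply IsOpenCover.mk
    rw [← Scheme.Hom.preimage_iSup, iSup_affineOpens_eq_top]
    rfl
  refine .of_isOpenCover hcov fun V => ?_
  have h1 : IsLocallyConstructible ((V.1 : Set Y) ↓∩ s) :=
    hs.preimage_of_isOpenEmbedding V.1.2.isOpenEmbedding_subtypeVal
  haveI : IsAffine V.1.toScheme := V.2
  have h2 : IsConstructible ((V.1 : Set Y) ↓∩ s) :=
    IsLocallyConstructible.isConstructible (X := V.1.toScheme) h1
  have h3 := (f ∣_ V.1).isConstructible_preimage h2
  have e : ((f ⁻¹ᵁ V.1 : X.Opens) : Set X) ↓∩ (f ⁻¹' s) =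
      (⇑(f ∣_ V.1) ⁻¹' ((V.1 : Set Y) ↓∩ s) : Set ↥(f ⁻¹ᵁ V.1)) := by
    ext x
    have hx := morphismRestrict_base_coe f V.1 x
    constructor
    · intro h
      change ((f ∣_ V.1) x).1 ∈ s
      rw [hx]; exact h
    · intro h
      change f x.1 ∈ s
      rw [← hx]; exact h
  rw [e]
  exact h3.isLocallyConstructible

theorem lift_apply_coe {W V : Scheme.{u}} (V₀ : V.Opens) (g : W ⟶ V)
    (H : Set.range g ⊆ Set.range V₀.ι) (w : W) :
    V₀.ι ((IsOpenImmersion.lift V₀.ι g H) w) = g w := by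
  have e : (IsOpenImmersion.lift V₀.ι g H ≫ V₀.ι) w = g w := by
    rw [IsOpenImmersion.lift_fac]
  rwa [Scheme.Hom.comp_apply] at e

/-- Chevalley on an affine target from a quasi-compact open of the source. -/
theorem isLocallyConstructible_image_restrict {W V : Scheme.{u}} (h : W ⟶ V)
    [LocallyOfFinitePresentation h] (V₀ : V.Opens) (hV₀ : IsAffineOpen V₀) (W₀ : W.Opens)
    (hW₀c : IsCompact (W₀ : Set W)) (hW₀V : (W₀ : Set W) ⊆ h ⁻¹' V₀) {t : Set W}
    (ht : IsLocallyConstructible t) :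
    IsLocallyConstructible ((V₀ : Set V) ↓∩ (h '' (t ∩ W₀))) := by
  have hrange : Set.range (W₀.ι ≫ h) ⊆ Set.range V₀.ι := by
    rintro _ ⟨w, rfl⟩
    rw [Scheme.Opens.range_ι]
    exact hW₀V w.2
  let l : W₀.toScheme ⟶ V₀.toScheme := IsOpenImmersion.lift V₀.ι (W₀.ι ≫ h) hrange
  have hl : l ≫ V₀.ι = W₀.ι ≫ h := IsOpenImmersion.lift_fac _ _ _
  haveI : LocallyOfFinitePresentation l := by
    refine MorphismProperty.of_postcomp (W := @LocallyOfFinitePresentation)
      (W' := MorphismProperty.monomorphisms Scheme.{u}) l V₀.ι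
      (MorphismProperty.monomorphisms.infer_property _) ?_
    rw [hl]; infer_instance
  haveI : IsAffine V₀.toScheme := hV₀
  haveI : CompactSpace W₀.toScheme := isCompact_iff_compactSpace.mp hW₀c
  haveI : QuasiCompact l := HasAffineProperty.iff_of_isAffine.mpr
    (inferInstance : CompactSpace W₀.toScheme)
  have ht' : IsLocallyConstructible (W₀.ι ⁻¹' t) :=
    ht.preimage_of_isOpenEmbedding W₀.ι.isOpenEmbedding
  have := l.isLocallyConstructible_image ht'
  have e : ((V₀ : Set V) ↓∩ (h '' (t ∩ W₀))) = (⇑l '' (W₀.ι ⁻¹' t) : Set ↥V₀) := by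
    ext v
    constructor
    · rintro ⟨w, ⟨hwt, hwW₀⟩, hwv⟩
      refine ⟨⟨w, hwW₀⟩, hwt, Subtype.ext ?_⟩
      change V₀.ι (l ⟨w, hwW₀⟩) = _
      rw [lift_apply_coe, Scheme.Hom.comp_apply]
      exact hwv
    · rintro ⟨w, hw, rfl⟩
      refine ⟨w.1, ⟨hw, w.2⟩, ?_⟩
      change _ = V₀.ι (l w)
      rw [lift_apply_coe, Scheme.Hom.comp_apply]
      rfl
  rw [e]
  exact this

theorem isLocallyConstructible_of_etale_surjective {W V : Scheme.{u}} (h : W ⟶ V) [Etale h]
    [Surjective h] {s : Set V} (hs : IsLocallyConstructible (h ⁻¹' s)) :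
    IsLocallyConstructible s := by
  have hcov : IsOpenCover (fun V₀ : V.affineOpens => V₀.1) :=
    IsOpenCover.mk (iSup_affineOpens_eq_top V)
  refine .of_isOpenCover hcov fun V₀ => ?_
  obtain ⟨W₀, hW₀c, hsub, hW₀V⟩ := exists_compact_open_of_isOpenMap (U := W) h h.isOpenMap
    h.continuous (V₀.1 : Set V) V₀.1 V₀.2.isCompact V₀.1.2 subset_rfl
    (fun y _ => h.surjective y)
  have := isLocallyConstructible_image_restrict h V₀.1 V₀.2 W₀ hW₀c hW₀V hs
  convert this using 1
  ext v
  constructor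
  · intro hv
    obtain ⟨w, hwW₀, hwv⟩ := hsub v.2
    exact ⟨w, ⟨by rw [Set.mem_preimage, hwv]; exact hv, hwW₀⟩, hwv⟩
  · rintro ⟨w, ⟨hw, -⟩, hwv⟩
    rw [Set.mem_preimage, ← hwv]
    exact hw

variable {S : Scheme.{u}}

/-- Local constructibility of the inverse image on one étale surjective chart gives it on all
étale charts. -/
theorem isLocallyConstructible_chart {X : Sp S} (E : Set (Points X)) {U : Over S}
    (p : (yon S).obj U ⟶ X) (hp : RepWith @Etale p) (hs : RepWith @Surjective p)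
    (hE : IsLocallyConstructible (Points.ofPt p ⁻¹' E))
    {V : Over S} (a : (yon S).obj V ⟶ X) (ha : RepWith @Etale a) :
    IsLocallyConstructible (Points.ofPt a ⁻¹' E) := by
  have sq := ha.rep.isPullback' p
  haveI h2 : Etale (ha.rep.snd p).left := ha.property_snd p
  haveI h1e : Etale (ha.rep.fst' p).left :=
    (repWith_yon_map_iff _ _).1 (repWith_fst_of_isPullback sq hp)
  haveI h1s : Surjective (ha.rep.fst' p).left :=
    (repWith_yon_map_iff _ _).1 (repWith_fst_of_isPullback sq hs)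
  apply isLocallyConstructible_of_etale_surjective (ha.rep.fst' p).left
  have h3 := isLocallyConstructible_preimage (ha.rep.snd p).left hE
  convert h3 using 1
  ext w
  simp only [Set.mem_preimage]
  rw [← ofPt_map_comp, ← ofPt_map_comp, sq.w]

end Groth.Agent.H25.AS
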