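import Groth.Agent.H25.AlgSp101

/-!
# Algebraic spaces toolkit, part 102: finiteness of isolated points of quasi-compact fibres
-/

set_option linter.style.haveILetI false

universe u

open CategoryTheory CategoryTheory.Limits AlgebraicGeometry Opposite AlgSp MorphismProperty
open Topology

namespace Groth.Agent.H25.AS

variable {S : Scheme.{u}}

theorem JN.finite_isolated_points {A : Sp S} (hjn : JN A) (hq : IsQuasiCompactSp A) :
    {a : Points A | IsOpen ({a} : Set (Points A))}.Finite := by
  obtain ⟨U, u, hUaff, hue, hus⟩ := exists_affine_chart hq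
  haveI : IsAffine U.left := hUaff
  haveI := hjn.noeth U u hue
  haveI : IsNoetherian U.left := { }
  have hfin := finite_isOpen_singleton (F := ↥U.left)
  refine (hfin.image (Points.ofPt u)).subset ?_
  intro a ha
  obtain ⟨w, hw⟩ := ofPt_surjective u hus a
  exact ⟨w, (hjn.chart_fibre_of_isOpen u hue a ha).2 w hw, hw⟩

/-- The points of a fibre product over a pair of points, when the first morphism is of finite
type and quasi-finite at the first point. -/
theorem finite_points_over_pair {X Y Z W : Sp S} (hX : IsAlgSpace X) (hY : IsAlgSpace Y)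
    (hZ : IsAlgSpace Z) (hWa : IsAlgSpace W) {f : X ⟶ Y} {g : Z ⟶ Y} {p : W ⟶ X} {q : W ⟶ Z}
    (hW : IsPullback p q f g) (x : Points X) (z : Points Z)
    (hft : IsFiniteTypeMor f)
    (hf : HasAtMor (NearP (@LocallyQuasiFinite ⊓ @LocallyOfFiniteType)) f x) :
    {w : Points W | Points.map p w = x ∧ Points.map q w = z}.Finite := by
  obtain ⟨r, rfl⟩ := Points.mk_surjective z
  have sqA := IsPullback.of_hasPullback q r.toHom
  have hA : IsAlgSpace (pullback q r.toHom) :=
    isAlgSpace_of_isPullback hZ.diag hWa (IsAlgSpace.yon_obj _) sqA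
  have sqB : IsPullback (pullback.fst q r.toHom ≫ p) (pullback.snd q r.toHom) f
      (r.map g).toHom := by
    rw [FieldPt.toHom_map]
    exact sqA.paste_horiz hW
  have hjn : JN (pullback q r.toHom) := jn_fibre hX hY hft.1 (r.map g) sqB
  have hAq : IsQuasiCompactSp (pullback q r.toHom) := by
    refine hft.2 (IsAlgSpace.yon_obj _) ?_ (r.map g).toHom _ _ sqB
    exact (isQuasiCompactSp_yon_iff _).2
      (inferInstance : CompactSpace ↥(Spec (CommRingCat.of r.K)))
  refine ((hjn.finite_isolated_points hAq).image (Points.map (pullback.fst q r.toHom))).subset ?_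
  rintro w ⟨hwx, hwz⟩
  have e : Points.map q w = Points.map r.toHom
      (Points.ofScheme r.pt (show ↥r.pt.left from IsLocalRing.closedPoint r.K)) := by
    rw [← Points.ofPt_eq_map_ofScheme, Points.ofPt_toHom]
    exact hwz
  obtain ⟨a, ha, -⟩ := exists_of_isPullback sqA w _ e
  refine ⟨a, ?_, ha⟩
  change IsOpen ({a} : Set (Points (pullback q r.toHom)))
  rw [hjn.isOpen_iff_hasAt_localDim hA a,
    hasAt_localDim_iff_qfNear_fibre hX hY hA hft.1 (r.map g) sqB a, Points.map_comp, ha, hwx]
  exact hf

end Groth.Agent.H25.AS
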