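import Groth.Agent.H25.AlgSp31

/-!
# Algebraic spaces toolkit, part 32: permanence of separatedness, finite type and properness;
etale locality on the source
-/

universe u

open CategoryTheory CategoryTheory.Limits AlgebraicGeometry Opposite AlgSp MorphismProperty

namespace Groth.Agent.H25.AS

variable {S : Scheme.{u}}

theorem isSeparatedMor_comp {X Y Z : Sp S} (f : X ⟶ Y) (g : Y ⟶ Z) (hf : IsSeparatedMor f)
    (hg : IsSeparatedMor g) : IsSeparatedMor (f ≫ g) :=
  (RepWith (S := S) @IsClosedImmersion).diagonal.comp_mem f g hf hg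

theorem isQuasiSeparatedMor_comp {X Y Z : Sp S} (f : X ⟶ Y) (g : Y ⟶ Z)
    (hf : IsQuasiSeparatedMor f) (hg : IsQuasiSeparatedMor g) : IsQuasiSeparatedMor (f ≫ g) :=
  (RepWith (S := S) @QuasiCompact).diagonal.comp_mem f g hf hg

theorem isSeparatedMor_of_isPullback {X Y Y' X' : Sp S} {f : X ⟶ Y} {g : Y' ⟶ Y} {fst : X' ⟶ X}
    {f' : X' ⟶ Y'} (sq : IsPullback fst f' f g) (hf : IsSeparatedMor f) : IsSeparatedMor f' :=
  MorphismProperty.of_isPullback (P := (RepWith (S := S) @IsClosedImmersion).diagonal) sq hf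

theorem isQuasiSeparatedMor_of_isPullback {X Y Y' X' : Sp S} {f : X ⟶ Y} {g : Y' ⟶ Y}
    {fst : X' ⟶ X} {f' : X' ⟶ Y'} (sq : IsPullback fst f' f g) (hf : IsQuasiSeparatedMor f) :
    IsQuasiSeparatedMor f' :=
  MorphismProperty.of_isPullback (P := (RepWith (S := S) @QuasiCompact).diagonal) sq hf

theorem isFiniteTypeMor_comp {X Y Z : Sp S} (hX : IsAlgSpace X) (hY : IsAlgSpace Y)
    (hZ : IsAlgSpace Z) (f : X ⟶ Y) (g : Y ⟶ Z) (hf : IsFiniteTypeMor f)
    (hg : IsFiniteTypeMor g) : IsFiniteTypeMor (f ≫ g) :=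
  ⟨locP_comp etLoc_locallyOfFiniteType hX hY hZ f g hf.1 hg.1,
    isQuasiCompactMor_comp hY hZ.diag f g hf.2 hg.2⟩

theorem isFiniteTypeMor_of_isPullback {X Y Y' X' : Sp S} (hX : IsAlgSpace X) (hY : IsAlgSpace Y)
    (hY' : IsAlgSpace Y') {f : X ⟶ Y} {g : Y' ⟶ Y} {fst : X' ⟶ X} {f' : X' ⟶ Y'}
    (sq : IsPullback fst f' f g) (hf : IsFiniteTypeMor f) : IsFiniteTypeMor f' :=
  ⟨locP_of_isPullback etLoc_locallyOfFiniteType hX hY hY' sq hf.1,
    isQuasiCompactMor_of_isPullback sq hf.2⟩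

theorem isFinitePresentationMor_comp {X Y Z : Sp S} (hX : IsAlgSpace X) (hY : IsAlgSpace Y)
    (hZ : IsAlgSpace Z) (f : X ⟶ Y) (g : Y ⟶ Z) (hf : IsFinitePresentationMor f)
    (hg : IsFinitePresentationMor g) : IsFinitePresentationMor (f ≫ g) :=
  ⟨locP_comp etLoc_locallyOfFinitePresentation hX hY hZ f g hf.1 hg.1,
    isQuasiCompactMor_comp hY hZ.diag f g hf.2.1 hg.2.1,
    isQuasiSeparatedMor_comp f g hf.2.2 hg.2.2⟩

theorem isFinitePresentationMor_of_isPullback {X Y Y' X' : Sp S} (hX : IsAlgSpace X)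
    (hY : IsAlgSpace Y) (hY' : IsAlgSpace Y') {f : X ⟶ Y} {g : Y' ⟶ Y} {fst : X' ⟶ X}
    {f' : X' ⟶ Y'} (sq : IsPullback fst f' f g) (hf : IsFinitePresentationMor f) :
    IsFinitePresentationMor f' :=
  ⟨locP_of_isPullback etLoc_locallyOfFinitePresentation hX hY hY' sq hf.1,
    isQuasiCompactMor_of_isPullback sq hf.2.1, isQuasiSeparatedMor_of_isPullback sq hf.2.2⟩

theorem isProperMor_comp {X Y Z : Sp S} (hX : IsAlgSpace X) (hY : IsAlgSpace Y)
    (hZ : IsAlgSpace Z) (f : X ⟶ Y) (g : Y ⟶ Z) (hf : IsProperMor f) (hg : IsProperMor g) :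
    IsProperMor (f ≫ g) :=
  ⟨isSeparatedMor_comp f g hf.1 hg.1, isFiniteTypeMor_comp hX hY hZ f g hf.2.1 hg.2.1,
    isUnivClosedMor_comp hY hZ.diag f g hf.2.2 hg.2.2⟩

theorem isProperMor_of_isPullback {X Y Y' X' : Sp S} (hX : IsAlgSpace X) (hY : IsAlgSpace Y)
    (hY' : IsAlgSpace Y') {f : X ⟶ Y} {g : Y' ⟶ Y} {fst : X' ⟶ X} {f' : X' ⟶ Y'}
    (sq : IsPullback fst f' f g) (hf : IsProperMor f) : IsProperMor f' :=
  ⟨isSeparatedMor_of_isPullback sq hf.1, isFiniteTypeMor_of_isPullback hX hY hY' sq hf.2.1,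
    univSp_of_isPullback sq hf.2.2⟩

/-- `LocP P` is etale local on the source, for `P` etale local on the source-and-target. -/
theorem isLocalOnSource_etCover_locP {P : MorphismProperty Scheme.{u}} (hP : EtLoc P) :
    IsLocalOnSource (IsEtCover (S := S)) (LocP P) := by
  intro ι X Xi g hX hXi hcov Y f hY
  obtain ⟨hge, hsurj⟩ := hcov
  constructor
  · intro hf i
    exact locP_etale_comp hP (hXi i) hX hY (g i)
      (locP_of_isEtaleMor (fun _ h => h) (hge i)) f hf
  · intro h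
    exact locP_of_etale_family hP Xi g hX hXi hY
      (fun i => locP_of_isEtaleMor (fun _ h => h) (hge i)) hsurj f h

theorem isLocalOnSource_etCover_isEtaleMor :
    IsLocalOnSource (IsEtCover (S := S)) IsEtaleMor := by
  intro ι X Xi g hX hXi hcov Y f hY
  rw [isEtaleMor_iff_locP hY f, isLocalOnSource_etCover_locP etLoc_etale Xi g hX hXi hcov f hY]
  exact forall_congr' fun i => (isEtaleMor_iff_locP hY (g i ≫ f)).symm

theorem locP_id {P : MorphismProperty Scheme.{u}}
    (hP : ∀ {A B : Scheme.{u}} (g : A ⟶ B), Etale g → P g) (X : Sp S) : LocP P (𝟙 X) :=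
  locP_of_isEtaleMor hP (fun U φ hφ => by rwa [Category.comp_id])

/-- The diagonal of a morphism locally of finite type is locally of finite presentation. -/
theorem locP_lfp_diagonal {X Y : Sp S} (hX : IsAlgSpace X) (hY : IsAlgSpace Y) (f : X ⟶ Y)
    (hf : LocP @LocallyOfFiniteType f) :
    LocP @LocallyOfFinitePresentation (pullback.diagonal f) := by
  have hXX : IsAlgSpace (pullback f f) :=
    isAlgSpace_of_isPullback hY.diag hX hX (IsPullback.of_hasPullback f f)
  have h1 : LocP @LocallyOfFiniteType (pullback.snd f f) :=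
    locP_of_isPullback etLoc_locallyOfFiniteType hX hY hX (IsPullback.of_hasPullback f f) hf
  have h2 : LocP @LocallyOfFinitePresentation (pullback.diagonal f ≫ pullback.snd f f) := by
    rw [pullback.diagonal_snd]
    exact locP_id (fun g (hg : Etale g) => (inferInstance : LocallyOfFinitePresentation g)) X
  exact locP_cancel (Q := @LocallyOfFiniteType) etLoc_locallyOfFinitePresentation
    (fun h k hk hhk => lfp_of_comp h k hhk hk) hX hXX hX (pullback.diagonal f)
    (pullback.snd f f) h1 h2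

theorem isQuasiSeparatedMor_of_mono {X Y : Sp S} (m : X ⟶ Y) [Mono m] :
    IsQuasiSeparatedMor m :=
  (RepWith (S := S) @QuasiCompact).of_isIso (pullback.diagonal m)

theorem isSeparatedMor_of_mono {X Y : Sp S} (m : X ⟶ Y) [Mono m] :
    IsSeparatedMor m :=
  (RepWith (S := S) @IsClosedImmersion).of_isIso (pullback.diagonal m)

theorem isFinitePresentationMor_diagonal {X Y : Sp S} (hX : IsAlgSpace X) (hY : IsAlgSpace Y)
    (f : X ⟶ Y) (hf : LocP @LocallyOfFiniteType f) (hq : IsQuasiSeparatedMor f) :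
    IsFinitePresentationMor (pullback.diagonal f) :=
  ⟨locP_lfp_diagonal hX hY f hf, isQuasiCompactMor_of_repWith _ hq,
    isQuasiSeparatedMor_of_mono _⟩

end Groth.Agent.H25.AS
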