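import Groth.Agent.H25.AlgSp24

/-!
# Algebraic spaces toolkit, part 25: closed immersions and proper morphisms
-/

universe u

open CategoryTheory CategoryTheory.Limits AlgebraicGeometry Opposite AlgSp MorphismProperty

namespace Groth.Agent.H25.AS

variable {S : Scheme.{u}}

/-- A closed immersion of sheaves is proper. -/
theorem isProperMor_of_repWith_isClosedImmersion {F G : Sp S} (i : F ⟶ G)
    (hi : RepWith @IsClosedImmersion i) : IsProperMor i := by
  refine ⟨?_, ⟨?_, ?_⟩, ?_⟩
  · exact (isSeparatedMor_iff_repWith i hi.rep).2 (repWith_mono
      (fun _ _ g (_ : IsClosedImmersion g) => (inferInstance : IsSeparated g)) hi)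
  · exact locP_of_repWith (P := @LocallyOfFiniteType)
      (fun g (_ : Etale g) => (inferInstance : LocallyOfFiniteType g))
      (repWith_mono (fun _ _ g (_ : IsClosedImmersion g) =>
        (inferInstance : LocallyOfFiniteType g)) hi)
  · exact isQuasiCompactMor_of_repWith _ (repWith_mono
      (fun _ _ g (_ : IsClosedImmersion g) => (inferInstance : QuasiCompact g)) hi)
  · exact (repWith_universallyClosed_iff i hi.rep).1 (repWith_mono
      (fun _ _ g (_ : IsClosedImmersion g) => (inferInstance : UniversallyClosed g)) hi)

/-- A representable monomorphism locally of finite type that is universally closed is a closed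
immersion. -/
theorem repWith_isClosedImmersion_of_univClosed {F G : Sp S} (i : F ⟶ G)
    (h1 : RepWith @UniversallyClosed i) (h2 : RepWith (monomorphisms Scheme.{u}) i)
    (h3 : RepWith @LocallyOfFiniteType i) : RepWith @IsClosedImmersion i :=
  ⟨h1.rep, fun _ _ g fst snd sq => isClosedImmersion_of_univClosed_mono_lft snd.left
    (h1.property g fst snd sq) (h2.property g fst snd sq) (h3.property g fst snd sq)⟩

/-- A morphism of algebraic spaces is separated iff its diagonal is universally closed. -/
theorem isSeparatedMor_iff_isUnivClosedMor_diagonal {X Y : Sp S} (hX : IsAlgSpace X)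
    (f : X ⟶ Y) : IsSeparatedMor f ↔ IsUnivClosedMor (pullback.diagonal f) := by
  obtain ⟨hrep, hlft, hmono, -, -⟩ := repWith_diagonal_all hX f
  constructor
  · intro h
    exact (repWith_universallyClosed_iff _ hrep).1 (repWith_mono
      (fun _ _ g (_ : IsClosedImmersion g) => (inferInstance : UniversallyClosed g)) h)
  · intro h
    exact repWith_isClosedImmersion_of_univClosed _
      ((repWith_universallyClosed_iff _ hrep).2 h) hmono hlft

/-- An immersion with closed image is a closed immersion. -/
theorem repWith_isClosedImmersion_of_isClosed_range {F G : Sp S} (i : F ⟶ G)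
    (hi : RepWith @IsImmersion i) (hc : IsClosed (Set.range (Points.map i))) :
    RepWith @IsClosedImmersion i := by
  refine ⟨hi.rep, fun U V g fst snd sq => ?_⟩
  have him : IsImmersion snd.left := hi.property g fst snd sq
  have e := preimage_image_map sq Set.univ
  have hr : IsClosed (Set.range snd.left) := by
    rw [← Set.image_univ, ← Set.preimage_univ (f := Points.ofPt fst), ← e, Set.image_univ]
    exact hc.preimage (Points.continuous_ofPt g)
  exact IsClosedImmersion.of_isPreimmersion snd.left hr

theorem isClosed_range_of_repWith_isClosedImmersion {F G : Sp S} (i : F ⟶ G)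
    (h : RepWith @IsClosedImmersion i) : IsClosed (Set.range (Points.map i)) := by
  have h1 : RepWith @UniversallyClosed i := repWith_mono
    (fun _ _ g (_ : IsClosedImmersion g) => (inferInstance : UniversallyClosed g)) h
  rw [← Set.image_univ]
  exact isClosedMap_map_of_repWith i h1 _ isClosed_univ

end Groth.Agent.H25.AS
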