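import Groth.Agent.H25.AlgSp49
import Groth.Agent.H25.AlgSp25

/-!
# Algebraic spaces toolkit, part 50: separatedness along morphisms of thickenings
-/

universe u

open CategoryTheory CategoryTheory.Limits AlgebraicGeometry Opposite AlgSp MorphismProperty
open TopologicalSpace

namespace Groth.Agent.H25.AS

variable {S : Scheme.{u}}

instance thick_isStableUnderComposition : (thick.{u}).IsStableUnderComposition where
  comp_mem f g hf hg := by
    have : IsClosedImmersion f := hf.1
    have : IsClosedImmersion g := hg.1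
    have : Surjective f := hf.2
    have : Surjective g := hg.2
    exact ⟨inferInstance, inferInstance⟩

theorem isThickMor_comp {A B C : Sp S} (f : A ⟶ B) (g : B ⟶ C) (hf : IsThickMor f)
    (hg : IsThickMor g) : IsThickMor (f ≫ g) :=
  (RepWith (S := S) thick).comp_mem _ _ hf hg

/-- Comparison of the base changes, with both projections recorded. -/
theorem thick_comparison' {X X' Y Y' Z P P' : Sp S} (i : X ⟶ X') (j : Y ⟶ Y') (f : X ⟶ Y)
    (f' : X' ⟶ Y') (hi : IsThickMor i) [Mono j] (w : i ≫ f' = f ≫ j) (g : Z ⟶ Y)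
    {fst : P ⟶ X} {snd : P ⟶ Z} (sq : IsPullback fst snd f g) {fst' : P' ⟶ X'} {snd' : P' ⟶ Z}
    (sq' : IsPullback fst' snd' f' (g ≫ j)) :
    ∃ t : P ⟶ P', IsThickMor t ∧ t ≫ snd' = snd ∧ t ≫ fst' = fst ≫ i := by
  have hc : (fst ≫ i) ≫ f' = snd ≫ g ≫ j := by
    rw [Category.assoc, w, ← Category.assoc, sq.w, Category.assoc]
  refine ⟨sq'.lift (fst ≫ i) snd hc, ?_, sq'.lift_snd _ _ _, sq'.lift_fst _ _ _⟩
  have sqt : IsPullback fst (sq'.lift (fst ≫ i) snd hc) i fst' := by
    refine isPullback_of_lift (sq'.lift_fst _ _ _).symm (fun {T} a b hab => ?_)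
      (fun {T} l l' h1 h2 => ?_)
    · have h3 : a ≫ f = (b ≫ snd') ≫ g := by
        rw [← cancel_mono j, Category.assoc, ← w, ← Category.assoc, hab, Category.assoc, sq'.w,
          Category.assoc, Category.assoc]
      refine ⟨sq.lift a (b ≫ snd') h3, sq.lift_fst _ _ _, ?_⟩
      apply sq'.hom_ext
      · rw [Category.assoc, sq'.lift_fst, ← Category.assoc, sq.lift_fst, hab]
      · rw [Category.assoc, sq'.lift_snd, sq.lift_snd]
    · apply sq.hom_ext h1
      have := congrArg (· ≫ snd') h2
      simpa only [Category.assoc, sq'.lift_snd] using this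
  exact repWith_snd_of_isPullback sqt hi

/-- The thickening of self fibre products induced by a morphism of thickenings, compatible with
the diagonals. -/
theorem exists_thick_diagonal {X X' Y Y' : Sp S} (i : X ⟶ X') (j : Y ⟶ Y') (f : X ⟶ Y)
    (f' : X' ⟶ Y') (hi : IsThickMor i) (hj : IsThickMor j) (w : i ≫ f' = f ≫ j) :
    ∃ J : pullback f f ⟶ pullback f' f', IsThickMor J ∧
      i ≫ pullback.diagonal f' = pullback.diagonal f ≫ J := by
  have := thick_mono j hj
  have sq := IsPullback.of_hasPullback f f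
  have sq' := IsPullback.of_hasPullback f' (f ≫ j)
  obtain ⟨t₁, ht₁, h1, h2⟩ := thick_comparison' i j f f' hi w f sq sq'
  -- second step: base change of `i` along the second projection
  have sq'' := IsPullback.of_hasPullback f' f'
  have hc : pullback.fst f' (f ≫ j) ≫ f' = (pullback.snd f' (f ≫ j) ≫ i) ≫ f' := by
    rw [Category.assoc, w, pullback.condition]
  let J₂ : pullback f' (f ≫ j) ⟶ pullback f' f' :=
    sq''.lift (pullback.fst f' (f ≫ j)) (pullback.snd f' (f ≫ j) ≫ i) hc
  have sqJ : IsPullback J₂ (pullback.snd f' (f ≫ j)) (pullback.snd f' f') i := by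
    refine isPullback_of_lift (sq''.lift_snd _ _ _) (fun {T} a b hab => ?_)
      (fun {T} l l' h1 h2 => ?_)
    · have h3 : (a ≫ pullback.fst f' f') ≫ f' = b ≫ f ≫ j := by
        rw [Category.assoc, pullback.condition, ← Category.assoc, hab, Category.assoc, w]
      refine ⟨sq'.lift (a ≫ pullback.fst f' f') b h3, ?_, sq'.lift_snd _ _ _⟩
      apply sq''.hom_ext
      · rw [Category.assoc, sq''.lift_fst, sq'.lift_fst]
      · rw [Category.assoc, sq''.lift_snd, ← Category.assoc, sq'.lift_snd, hab]
    · apply sq'.hom_ext _ h2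
      have := congrArg (· ≫ pullback.fst f' f') h1
      simpa only [Category.assoc, J₂, sq''.lift_fst] using this
  have hJ₂ : IsThickMor J₂ := repWith_fst_of_isPullback sqJ hi
  refine ⟨t₁ ≫ J₂, isThickMor_comp t₁ J₂ ht₁ hJ₂, ?_⟩
  apply sq''.hom_ext
  · rw [Category.assoc, pullback.diagonal_fst, Category.comp_id, Category.assoc, Category.assoc,
      sq''.lift_fst, h2, ← Category.assoc, pullback.diagonal_fst, Category.id_comp]
  · rw [Category.assoc, pullback.diagonal_snd, Category.comp_id, Category.assoc, Category.assoc,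
      sq''.lift_snd, ← Category.assoc t₁, h1, ← Category.assoc, pullback.diagonal_snd,
      Category.id_comp]

end Groth.Agent.H25.AS

namespace Groth.Agent.H25.AS

variable {S : Scheme.{u}}

theorem isSeparatedMor_iff_of_thick {X X' Y Y' : Sp S} (hX : IsAlgSpace X) (hX' : IsAlgSpace X')
    (hY : IsAlgSpace Y) (hY' : IsAlgSpace Y') (i : X ⟶ X') (j : Y ⟶ Y') (f : X ⟶ Y)
    (f' : X' ⟶ Y') (hi : IsThickMor i) (hj : IsThickMor j) (w : i ≫ f' = f ≫ j) :
    (IsSeparatedMor f ↔ IsSeparatedMor f') ∧ (IsQuasiSeparatedMor f ↔ IsQuasiSeparatedMor f') := by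
  obtain ⟨J, hJ, hw⟩ := exists_thick_diagonal i j f f' hi hj w
  have hP : IsAlgSpace (pullback f f) :=
    isAlgSpace_of_isPullback hY.diag hX hX (IsPullback.of_hasPullback f f)
  have hP' : IsAlgSpace (pullback f' f') :=
    isAlgSpace_of_isPullback hY'.diag hX' hX' (IsPullback.of_hasPullback f' f')
  constructor
  · rw [isSeparatedMor_iff_isUnivClosedMor_diagonal hX f,
      isSeparatedMor_iff_isUnivClosedMor_diagonal hX' f']
    exact ⟨univSp_to_thick homeoInv_isClosedMap hP hP' i J _ _ hi hJ hw,
      univSp_of_thick homeoInv_isClosedMap i J _ _ hi hJ hw⟩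
  · have hr := (repWith_diagonal_all hX f).1
    have hr' := (repWith_diagonal_all hX' f').1
    change RepWith @QuasiCompact (pullback.diagonal f) ↔ RepWith @QuasiCompact (pullback.diagonal f')
    rw [repWith_quasiCompact_iff _ hr, repWith_quasiCompact_iff _ hr']
    exact ⟨isQuasiCompactMor_to_thick hX hX' hP hP' i J _ _ hi hJ hw,
      isQuasiCompactMor_of_thick hX hX' hP hP' i J _ _ hi hJ hw⟩

end Groth.Agent.H25.AS
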