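import Groth.Agent.H25.AlgSp102
import Groth.Agent.H25.AlgSp50
import Groth.Agent.H25.AlgSp32

/-!
# Algebraic spaces toolkit, part 103: properness only depends on the support of a closed subspace
-/

set_option linter.style.haveILetI false

universe u

open CategoryTheory CategoryTheory.Limits AlgebraicGeometry Opposite AlgSp MorphismProperty
open Topology

namespace Groth.Agent.H25.AS

variable {S : Scheme.{u}}

instance thick_containsIdentities : (thick.{u}).ContainsIdentities where
  id_mem X := ⟨(inferInstance : IsClosedImmersion (𝟙 X)), (inferInstance : Surjective (𝟙 X))⟩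

instance thick_isMultiplicative : (thick.{u}).IsMultiplicative where

theorem isThickMor_id (Y : Sp S) : IsThickMor (𝟙 Y) :=
  (RepWith (S := S) thick).id_mem Y

/-- Properness passes from the source of a thickening to its target (for a morphism locally of
finite type). -/
theorem isProperMor_of_thick {W Z' Y : Sp S} (hW : IsAlgSpace W) (hZ' : IsAlgSpace Z')
    (hY : IsAlgSpace Y) (t : W ⟶ Z') (ht : IsThickMor t) (g : Z' ⟶ Y)
    (hg : LocP @LocallyOfFiniteType g) (h : IsProperMor (t ≫ g)) : IsProperMor g := by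
  have w : t ≫ g = (t ≫ g) ≫ 𝟙 Y := by rw [Category.comp_id]
  obtain ⟨h1, ⟨-, h3⟩, h4⟩ := h
  refine ⟨?_, ⟨hg, ?_⟩, ?_⟩
  · exact (isSeparatedMor_iff_of_thick hW hZ' hY hY t (𝟙 Y) (t ≫ g) g ht (isThickMor_id Y) w).1.1 h1
  · exact isQuasiCompactMor_to_thick hW hZ' hY hY t (𝟙 Y) (t ≫ g) g ht (isThickMor_id Y) w h3
  · exact univSp_to_thick homeoInv_isClosedMap hY hY t (𝟙 Y) (t ≫ g) g ht (isThickMor_id Y) w h4

/-- Two closed subspaces with the same support: the projection from their intersection is a
thickening. -/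
theorem isThickMor_snd_of_range_eq {Z Z' X P : Sp S} {i : Z ⟶ X} {i' : Z' ⟶ X} {p : P ⟶ Z}
    {p' : P ⟶ Z'} (sq : IsPullback p p' i i') (hi : RepWith @IsClosedImmersion i)
    (heq : Set.range (Points.map i') ⊆ Set.range (Points.map i)) : IsThickMor p' := by
  have h1 : RepWith @IsClosedImmersion p' := repWith_snd_of_isPullback sq hi
  have h2 : IsSurjectiveMor p' := by
    intro z'
    obtain ⟨z, hz⟩ := heq ⟨z', rfl⟩
    obtain ⟨q, -, hq⟩ := exists_of_isPullback sq z z' hz
    exact ⟨q, hq⟩
  exact repWith_inf h1 (repWith_surjective_of_isSurjectiveMor p' h1.rep h2)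

/-- Properness over the base only depends on the support of a closed subspace. -/
theorem isProperMor_of_range_eq {X Y Z Z' : Sp S} (hX : IsAlgSpace X) (hY : IsAlgSpace Y)
    (hZ : IsAlgSpace Z) (hZ' : IsAlgSpace Z') (f : X ⟶ Y) (hf : LocP @LocallyOfFiniteType f)
    (i : Z ⟶ X) (i' : Z' ⟶ X) (hi : RepWith @IsClosedImmersion i)
    (hi' : RepWith @IsClosedImmersion i')
    (heq : Set.range (Points.map i') ⊆ Set.range (Points.map i))
    (h : IsProperMor (i ≫ f)) : IsProperMor (i' ≫ f) := by
  have sq := IsPullback.of_hasPullback i i'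
  have hP : IsAlgSpace (pullback i i') := isAlgSpace_of_isPullback hX.diag hZ hZ' sq
  have ht : IsThickMor (pullback.snd i i') := isThickMor_snd_of_range_eq sq hi heq
  have hfst : RepWith @IsClosedImmersion (pullback.fst i i') := repWith_fst_of_isPullback sq hi'
  have h1 : IsProperMor (pullback.fst i i' ≫ i ≫ f) :=
    isProperMor_comp hP hZ hY _ _ (isProperMor_of_repWith_isClosedImmersion _ hfst) h
  have e : pullback.fst i i' ≫ i ≫ f = pullback.snd i i' ≫ i' ≫ f := by
    rw [← Category.assoc, sq.w, Category.assoc]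
  rw [e] at h1
  have hlft : LocP @LocallyOfFiniteType (i' ≫ f) :=
    locP_comp etLoc_locallyOfFiniteType hZ' hX hY i' f
      (isProperMor_of_repWith_isClosedImmersion _ hi').2.1.1 hf
  exact isProperMor_of_thick hP hZ' hY _ ht _ hlft h1

end Groth.Agent.H25.AS
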