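import Groth.Agent.H25.AlgSp103

/-!
# Algebraic spaces toolkit, part 104: dimension and integral morphisms
-/

set_option linter.style.haveILetI false

universe u

open CategoryTheory CategoryTheory.Limits AlgebraicGeometry Opposite AlgSp MorphismProperty
open Topology

namespace Groth.Agent.H25.AS

theorem ringKrullDim_le_of_isIntegral (R A : Type*) [CommRing R] [CommRing A] [Algebra R A]
    [Algebra.IsIntegral R A] : ringKrullDim A ≤ ringKrullDim R := by
  refine Order.krullDim_le_of_strictMono
    (fun I : PrimeSpectrum A => PrimeSpectrum.comap (algebraMap R A) I) ?_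
  intro P Q hPQ
  have h : P.asIdeal < Q.asIdeal := hPQ
  exact Ideal.IsIntegral.comap_lt_comap (R := R) h

theorem topologicalKrullDim_eq_ringKrullDim_of_isAffine (X : Scheme.{u}) [IsAffine X] :
    topologicalKrullDim X = ringKrullDim Γ(X, ⊤) := by
  rw [← PrimeSpectrum.topologicalKrullDim_eq_ringKrullDim Γ(X, ⊤)]
  exact IsHomeomorph.topologicalKrullDim_eq _ X.isoSpec.hom.homeomorph.isHomeomorph

theorem topologicalKrullDim_le_of_isIntegralHom {W V : Scheme.{u}} [IsAffine W] [IsAffine V]
    (h : W ⟶ V) [IsIntegralHom h] : topologicalKrullDim W ≤ topologicalKrullDim V := by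
  rw [topologicalKrullDim_eq_ringKrullDim_of_isAffine, topologicalKrullDim_eq_ringKrullDim_of_isAffine]
  have hi : (h.appTop).hom.IsIntegral := h.isIntegral_app ⊤ (isAffineOpen_top V)
  letI := (h.appTop).hom.toAlgebra
  haveI : Algebra.IsIntegral Γ(V, ⊤) Γ(W, ⊤) := ⟨hi⟩
  exact ringKrullDim_le_of_isIntegral _ _

variable {S : Scheme.{u}}

theorem le_dim_of_etale {F : Sp S} {U : Over S} (a : (yon S).obj U ⟶ F) (ha : RepWith @Etale a) :
    topologicalKrullDim ↥U.left ≤ AlgSp.dim F :=
  le_iSup_of_le U (le_iSup_of_le a (le_iSup_of_le ha le_rfl))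

theorem dim_le_of_isIntegralMor {X Y : Sp S} (hY : IsAlgSpace Y) (f : X ⟶ Y)
    (hf : IsIntegralMor f) : AlgSp.dim X ≤ AlgSp.dim Y := by
  refine iSup_le fun U => iSup_le fun a => iSup_le fun ha => ?_
  rw [topologicalKrullDim_eq_iSup_stalk]
  refine iSup_le fun u => ?_
  obtain ⟨ι, V, g, hVa, hge, hcov⟩ := exists_affine_etale_cover hY
  obtain ⟨i, v, hv⟩ := hcov (Points.map f (Points.ofPt a u))
  obtain ⟨W, j, fst, sq, hWa, hj⟩ := hf (hVa i) (g i)
  have hfst : RepWith @Etale fst := repWith_fst_of_isPullback sq (hge i)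
  obtain ⟨w, hw1, hw2⟩ := exists_point_of_isPullback sq v (Points.ofPt a u) hv
  have e1 := stalk_dim_chart_indep a fst ha hfst u w hw2.symm
  rw [e1]
  haveI := hWa
  haveI := hVa i
  calc ringKrullDim (W.left.presheaf.stalk w)
      ≤ topologicalKrullDim ↥W.left := by
        rw [topologicalKrullDim_eq_iSup_stalk]
        exact le_iSup (fun w : ↥W.left => ringKrullDim (W.left.presheaf.stalk w)) w
    _ ≤ topologicalKrullDim ↥(V i).left := topologicalKrullDim_le_of_isIntegralHom j.left
    _ ≤ AlgSp.dim Y := le_dim_of_etale (g i) (hge i)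

end Groth.Agent.H25.AS

namespace Groth.Agent.H25.AS

theorem exists_ltSeries_of_isIntegral (R A : Type*) [CommRing R] [CommRing A] [Algebra R A]
    [Algebra.IsIntegral R A]
    (hs : Function.Surjective (PrimeSpectrum.comap (algebraMap R A)))
    (l : LTSeries (PrimeSpectrum R)) :
    ∃ L : LTSeries (PrimeSpectrum A), L.length = l.length ∧
      PrimeSpectrum.comap (algebraMap R A) L.last = l.last := by
  induction l using RelSeries.inductionOn' with
  | singleton q =>
    obtain ⟨Q, hQ⟩ := hs q
    exact ⟨RelSeries.singleton _ Q, by simp, by simpa using hQ⟩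
  | snoc l q lt ih =>
    obtain ⟨L, hlen, hlast⟩ := ih
    have hle : L.last.asIdeal.comap (algebraMap R A) ≤ q.asIdeal := by
      have h1 : (PrimeSpectrum.comap (algebraMap R A) L.last).asIdeal ≤ q.asIdeal := by
        rw [hlast]; exact (le_of_lt lt)
      exact h1
    obtain ⟨Q, hQge, hQp, hQ⟩ :=
      Ideal.exists_ideal_over_prime_of_isIntegral q.asIdeal L.last.asIdeal hle
    have hlt : L.last < (⟨Q, hQp⟩ : PrimeSpectrum A) := by
      refine lt_of_le_of_ne hQge ?_
      intro heq
      have h2 : PrimeSpectrum.comap (algebraMap R A) L.last = q := by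
        rw [heq]; exact PrimeSpectrum.ext hQ
      rw [hlast] at h2
      exact (ne_of_lt lt) h2
    refine ⟨L.snoc ⟨Q, hQp⟩ hlt, by simp [hlen], ?_⟩
    rw [RelSeries.last_snoc, RelSeries.last_snoc]
    exact PrimeSpectrum.ext hQ

theorem ringKrullDim_le_of_isIntegral_surjective (R A : Type*) [CommRing R] [CommRing A]
    [Algebra R A] [Algebra.IsIntegral R A]
    (hs : Function.Surjective (PrimeSpectrum.comap (algebraMap R A))) :
    ringKrullDim R ≤ ringKrullDim A := by
  unfold ringKrullDim Order.krullDim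
  refine iSup_le fun l => ?_
  obtain ⟨L, hL, -⟩ := exists_ltSeries_of_isIntegral R A hs l
  refine le_trans ?_ (le_iSup (fun p : LTSeries (PrimeSpectrum A) => (p.length : WithBot ℕ∞)) L)
  rw [hL]

end Groth.Agent.H25.AS

namespace Groth.Agent.H25.AS

theorem topologicalKrullDim_le_of_isIntegralHom_surjective {W V : Scheme.{u}} [IsAffine W]
    [IsAffine V] (h : W ⟶ V) [IsIntegralHom h] [Surjective h] :
    topologicalKrullDim V ≤ topologicalKrullDim W := by
  rw [topologicalKrullDim_eq_ringKrullDim_of_isAffine, topologicalKrullDim_eq_ringKrullDim_of_isAffine]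
  have hi : (h.appTop).hom.IsIntegral := h.isIntegral_app ⊤ (isAffineOpen_top V)
  have hs : Surjective (Spec.map h.appTop) :=
    (MorphismProperty.arrow_mk_iso_iff @Surjective (arrowIsoSpecΓOfIsAffine h)).1 inferInstance
  letI := (h.appTop).hom.toAlgebra
  haveI : Algebra.IsIntegral Γ(V, ⊤) Γ(W, ⊤) := ⟨hi⟩
  refine ringKrullDim_le_of_isIntegral_surjective _ _ ?_
  intro p
  obtain ⟨q, hq⟩ := hs.surj p
  exact ⟨q, hq⟩

variable {S : Scheme.{u}}

theorem dim_le_of_isIntegralMor_surjective {X Y : Sp S} (f : X ⟶ Y)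
    (hf : IsIntegralMor f) (hs : IsSurjectiveMor f) : AlgSp.dim Y ≤ AlgSp.dim X := by
  refine iSup_le fun V => iSup_le fun b => iSup_le fun hb => ?_
  rw [topologicalKrullDim_eq_iSup_stalk]
  refine iSup_le fun v => ?_
  obtain ⟨_, ⟨V', hV', rfl⟩, hv, -⟩ :=
    V.left.isBasis_affineOpens.exists_subset_of_mem_open (Set.mem_univ v) isOpen_univ
  have hb' : RepWith @Etale ((yon S).map (openIncl V V') ≫ b) :=
    repWith_etale_comp (repWith_etale_openIncl V V') hb
  obtain ⟨W, j, fst, sq, hWa, hj⟩ := hf (Z := openOver V V') hV' ((yon S).map (openIncl V V') ≫ b)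
  have hfst : RepWith @Etale fst := repWith_fst_of_isPullback sq hb'
  have hjs : Surjective j.left := by
    have h1 : IsSurjectiveMor ((yon S).map j) := isSurjectiveMor_of_isPullback sq hs
    have h2 : RepWith @Surjective ((yon S).map j) :=
      repWith_surjective_of_isSurjectiveMor _ (representable_yon_map j) h1
    exact (repWith_yon_map_iff @Surjective j).1 h2
  haveI : IsAffine (openOver V V').left := hV'
  haveI := hWa
  have e1 : ringKrullDim (V.left.presheaf.stalk v) =
      ringKrullDim ((openOver V V').left.presheaf.stalk (⟨v, hv⟩ : ↥V')) := by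
    refine stalk_dim_chart_indep b ((yon S).map (openIncl V V') ≫ b) hb hb' v ⟨v, hv⟩ ?_
    rw [ofPt_map_comp]
    rfl
  rw [e1]
  calc ringKrullDim ((openOver V V').left.presheaf.stalk (⟨v, hv⟩ : ↥V'))
      ≤ topologicalKrullDim ↥(openOver V V').left := by
        rw [topologicalKrullDim_eq_iSup_stalk]
        exact le_iSup (fun w : ↥(openOver V V').left =>
          ringKrullDim ((openOver V V').left.presheaf.stalk w)) ⟨v, hv⟩
    _ ≤ topologicalKrullDim ↥W.left := topologicalKrullDim_le_of_isIntegralHom_surjective j.left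
    _ ≤ AlgSp.dim X := le_dim_of_etale fst hfst

end Groth.Agent.H25.AS
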