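import Groth.Agent.H25.AlgSp33

/-!
# Algebraic spaces toolkit, part 34: fppf coverings are fpqc coverings
-/

universe u

open CategoryTheory CategoryTheory.Limits AlgebraicGeometry Opposite AlgSp MorphismProperty

namespace Groth.Agent.H25.AS

variable {S : Scheme.{u}}

/-- An fppf covering of an algebraic space by algebraic spaces is an fpqc covering. -/
theorem isFpqcCover_of_isFppfCover {ι : Type u} {X : Sp S} (hX : IsAlgSpace X) (Xi : ι → Sp S)
    (hXi : ∀ i, IsAlgSpace (Xi i)) (g : ∀ i, Xi i ⟶ X) (h : IsFppfCover Xi g) :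
    IsFpqcCover Xi g := by
  refine ⟨fun i => (h.1 i).1, ?_⟩
  intro Z hZ k
  have hZa : IsAlgSpace ((yon S).obj Z) := IsAlgSpace.yon_obj Z
  have sq := fun i => IsPullback.of_hasPullback (g i) k
  have hPa : ∀ i, IsAlgSpace (pullback (g i) k) := fun i =>
    isAlgSpace_of_isPullback hX.diag (hXi i) hZa (sq i)
  choose W p hpe hps using fun i => (hPa i).atlas
  choose c hc using fun i => (yon S).map_surjective (p i ≫ pullback.snd (g i) k)
  have hcf : ∀ i, Flat (c i).left := fun i =>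
    (locP_of_isPullback etLoc_flat (hXi i) hX hZa (sq i) (h.1 i).1) (p i) (𝟙 _) (c i) (hpe i)
      (repWith_id _ Z) (by rw [hc, Category.comp_id])
  have hcp : ∀ i, LocallyOfFinitePresentation (c i).left := fun i =>
    (locP_of_isPullback etLoc_locallyOfFinitePresentation (hXi i) hX hZa (sq i) (h.1 i).2) (p i)
      (𝟙 _) (c i) (hpe i) (repWith_id _ Z) (by rw [hc, Category.comp_id])
  have hsurj : ∀ z : Z.left, ∃ (i : ι) (w : (W i).left), (c i).left w = z := by
    intro z
    obtain ⟨i, xi, hxi⟩ := h.2 (Points.ofPt k z)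
    rw [Points.ofPt_eq_map_ofScheme] at hxi
    obtain ⟨q, -, hq⟩ := exists_of_isPullback (sq i) xi (Points.ofScheme Z z) hxi
    obtain ⟨w, rfl⟩ := ofPt_surjective (p i) (hps i) q
    refine ⟨i, w, ?_⟩
    apply ofScheme_injective Z
    rw [← ofPt_yon_map, hc, ← Points.map_ofPt, hq]
  have hV : ∀ (i : ι) (w : (W i).left), ∃ V : (W i).left.Opens, IsAffineOpen V ∧ w ∈ V :=
    fun i w => by
      obtain ⟨_, ⟨V, hV, rfl⟩, hw, -⟩ :=
        (W i).left.isBasis_affineOpens.exists_subset_of_mem_open (Set.mem_univ w) isOpen_univ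
      exact ⟨V, hV, hw⟩
  choose V hVa hVw using hV
  have hopen : ∀ x : (Σ i, (W i).left), IsOpen ((c x.1).left '' (V x.1 x.2 : Set (W x.1).left)) :=
    fun x => by
      have := hcf x.1
      have := hcp x.1
      exact (c x.1).left.isOpenMap _ (V x.1 x.2).isOpen
  have : IsAffine Z.left := hZ
  obtain ⟨t, ht⟩ := isCompact_univ.elim_finite_subcover
    (fun x : (Σ i, (W i).left) => (c x.1).left '' (V x.1 x.2 : Set (W x.1).left)) hopen
    (fun z _ => by
      obtain ⟨i, w, rfl⟩ := hsurj z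
      exact Set.mem_iUnion.2 ⟨⟨i, w⟩, w, hVw i w, rfl⟩)
  refine ⟨t.card, fun j => openOver (W (t.equivFin.symm j).1.1)
      (V (t.equivFin.symm j).1.1 (t.equivFin.symm j).1.2),
    fun j => openIncl (W (t.equivFin.symm j).1.1)
      (V (t.equivFin.symm j).1.1 (t.equivFin.symm j).1.2) ≫ c (t.equivFin.symm j).1.1,
    fun j => hVa _ _, fun j => ?_, fun z => ?_, fun j => ⟨(t.equivFin.symm j).1.1,
      (yon S).map (openIncl (W (t.equivFin.symm j).1.1)
        (V (t.equivFin.symm j).1.1 (t.equivFin.symm j).1.2)) ≫ p (t.equivFin.symm j).1.1 ≫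
        pullback.fst (g (t.equivFin.symm j).1.1) k, ?_⟩⟩
  · rw [Over.comp_left]
    have := hcf (t.equivFin.symm j).1.1
    exact (inferInstance : Flat ((V (t.equivFin.symm j).1.1 (t.equivFin.symm j).1.2).ι ≫
      (c (t.equivFin.symm j).1.1).left))
  · obtain ⟨x, hx, w, hw, rfl⟩ := Set.mem_iUnion₂.1 (ht (Set.mem_univ z))
    refine ⟨t.equivFin ⟨x, hx⟩, ?_⟩
    have key : ∀ y : {x // x ∈ t}, y = ⟨x, hx⟩ → (c x.1).left w ∈
        Set.range (openIncl (W y.1.1) (V y.1.1 y.1.2) ≫ c y.1.1).left := by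
      rintro y rfl
      exact ⟨⟨w, hw⟩, rfl⟩
    exact key _ (Equiv.symm_apply_apply _ _)
  · rw [Category.assoc, Category.assoc, (sq _).w, Functor.map_comp, Category.assoc, hc,
      Category.assoc]

end Groth.Agent.H25.AS
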