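import Groth.Agent.H25.AlgSp34
import Mathlib.AlgebraicGeometry.Morphisms.LocalFlatDescent

/-!
# Algebraic spaces toolkit, part 35: fpqc locality on the base of `LocP P`
-/

universe u

open CategoryTheory CategoryTheory.Limits AlgebraicGeometry Opposite AlgSp MorphismProperty

namespace Groth.Agent.H25.AS

theorem ringHom_flat_codescendsAlong_faithfullyFlat :
    RingHom.CodescendsAlong RingHom.Flat RingHom.FaithfullyFlat := by
  apply RingHom.CodescendsAlong.mk _ RingHom.Flat.respectsIso
  introv h H
  rw [RingHom.faithfullyFlat_algebraMap_iff] at h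
  rw [RingHom.flat_algebraMap_iff] at H ⊢
  exact Module.Flat.of_flat_tensorProduct R T S

instance flat_descendsAlong_fpqc :
    DescendsAlong @Flat (@Surjective ⊓ @Flat ⊓ @QuasiCompact) :=
  HasRingHomProperty.descendsAlong_flat ringHom_flat_codescendsAlong_faithfullyFlat

variable {S : Scheme.{u}}

/-- `LocP P` descends along families with the fpqc refinement property. -/
theorem locP_of_fpqcRefine {P : MorphismProperty Scheme.{u}} (hP : EtLoc P)
    [P.DescendsAlong (@Surjective ⊓ @Flat ⊓ @QuasiCompact)] [IsZariskiLocalAtTarget P]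
    {X Y : Sp S} (hX : IsAlgSpace X) (hY : IsAlgSpace Y) (f : X ⟶ Y)
    {ι : Type u} (Yi : ι → Sp S) (g : ∀ i, Yi i ⟶ Y) (hYi : ∀ i, IsAlgSpace (Yi i))
    (href : FpqcRefine Yi g)
    (Xi : ι → Sp S) (hXi : ∀ i, IsAlgSpace (Xi i)) (p : ∀ i, Xi i ⟶ Yi i) (q : ∀ i, Xi i ⟶ X)
    (sq : ∀ i, IsPullback (q i) (p i) f (g i)) (hp : ∀ i, LocP P (p i)) : LocP P f := by
  obtain ⟨V, v, hve, hvs⟩ := hY.atlas
  obtain ⟨U, u, h₀, hue, hus, hh₀⟩ := exists_chart_over hX hY.diag f v
  have sqV := IsPullback.of_hasPullback f v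
  refine locP_of_chart hP f (u ≫ pullback.fst f v) v h₀
    (repWith_etale_comp hue (repWith_fst_of_isPullback sqV hve))
    (repWith_surjective_comp hus (repWith_fst_of_isPullback sqV hvs)) hve
    (by rw [Category.assoc, sqV.w, ← Category.assoc, hh₀]) ?_
  refine prop_of_local_flat_families' P h₀.left fun i => ?_
  obtain ⟨m, W, c, hW, hc, hsurj, hl⟩ := href (Over.mk (V.left.affineCover.f i ≫ V.hom))
    (by dsimp; infer_instance) ((yon S).map (Over.homMk (V.left.affineCover.f i) rfl) ≫ v)
  refine ⟨ULift.{u} (Fin m), inferInstance, fun k => (W k.down).left,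
    fun k => (c k.down).left, fun k => hW k.down, fun k => hc k.down, fun z => ?_, fun k => ?_⟩
  · obtain ⟨k, hk'⟩ := hsurj z
    exact ⟨⟨k⟩, hk'⟩
  · obtain ⟨i', l, hl'⟩ := hl k.down
    have hrep := representable_yon_map h₀
    have sqA := hrep.isPullback'
      ((yon S).map (c k.down ≫ Over.homMk (V.left.affineCover.f i) rfl))
    have sqS := (hrep.isPullback_of_map
      (c k.down ≫ Over.homMk (V.left.affineCover.f i) rfl)).map (Over.forget S)
    refine ⟨_, _, _, sqS, ?_⟩
    have e : (yon S).map (c k.down ≫ Over.homMk (V.left.affineCover.f i) rfl) ≫ v =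
        l ≫ g i' := by
      rw [hl', Functor.map_comp, Category.assoc]
    have sqW := IsPullback.of_hasPullback f
      ((yon S).map (c k.down ≫ Over.homMk (V.left.affineCover.f i) rfl) ≫ v)
    have hLW : LocP P (pullback.snd f
        ((yon S).map (c k.down ≫ Over.homMk (V.left.affineCover.f i) rfl) ≫ v)) := by
      have big : IsPullback (pullback.fst f
          ((yon S).map (c k.down ≫ Over.homMk (V.left.affineCover.f i) rfl) ≫ v))
          (pullback.snd f
          ((yon S).map (c k.down ≫ Over.homMk (V.left.affineCover.f i) rfl) ≫ v)) f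
          (l ≫ g i') := by
        rw [← e]
        exact sqW
      have hw : pullback.fst f
          ((yon S).map (c k.down ≫ Over.homMk (V.left.affineCover.f i) rfl) ≫ v) ≫ f =
          (pullback.snd f
          ((yon S).map (c k.down ≫ Over.homMk (V.left.affineCover.f i) rfl) ≫ v) ≫ l) ≫ g i' := by
        rw [Category.assoc]
        exact big.w
      have sqL : IsPullback ((sq i').lift _ _ hw) (pullback.snd f
          ((yon S).map (c k.down ≫ Over.homMk (V.left.affineCover.f i) rfl) ≫ v)) (p i') l := by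
        refine IsPullback.of_right ?_ ((sq i').lift_snd _ _ hw) (sq i')
        rw [(sq i').lift_fst]
        exact big
      exact locP_of_isPullback hP (hXi i') (hYi i') (IsAlgSpace.yon_obj _) sqL (hp i')
    have sqM := isPullback_lift_of_isPullback
      (IsPullback.of_horiz_isIso ⟨by simp⟩ : IsPullback (𝟙 X) f f (𝟙 Y)) v
      ((yon S).map (c k.down ≫ Over.homMk (V.left.affineCover.f i) rfl) ≫ v)
      ((yon S).map (c k.down ≫ Over.homMk (V.left.affineCover.f i) rfl))
      (by rw [Category.comp_id])
    have sqA' : IsPullback ((yon S).map (hrep.fst'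
          ((yon S).map (c k.down ≫ Over.homMk (V.left.affineCover.f i) rfl))))
        ((yon S).map (hrep.snd
          ((yon S).map (c k.down ≫ Over.homMk (V.left.affineCover.f i) rfl))))
        (u ≫ pullback.snd f v)
        ((yon S).map (c k.down ≫ Over.homMk (V.left.affineCover.f i) rfl)) := by
      rw [← hh₀]
      exact sqA
    have sqχ := IsPullback.of_bot' sqA' sqM
    refine hLW _ (𝟙 _) _ (repWith_snd_of_isPullback sqχ hue) (repWith_id _ _) ?_
    exact (sqM.lift_snd _ _ _).trans (Category.comp_id _).symm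

/-- `LocP P` is fpqc local on the base. -/
theorem isLocalOnBase_fpqc_locP {P : MorphismProperty Scheme.{u}} (hP : EtLoc P)
    [P.DescendsAlong (@Surjective ⊓ @Flat ⊓ @QuasiCompact)] [IsZariskiLocalAtTarget P] :
    IsLocalOnBase (IsFpqcCover (S := S)) (LocP P) := by
  intro ι Y Yi g hY hYi hcov X f hX Xi p q hXi sq
  constructor
  · intro hf i
    exact locP_of_isPullback hP hX hY (hYi i) (sq i) hf
  · intro h
    exact locP_of_fpqcRefine hP hX hY f Yi g hYi hcov.2 Xi hXi p q sq h

theorem isLocalOnBase_fpqc_isEtaleMor :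
    IsLocalOnBase (IsFpqcCover (S := S)) IsEtaleMor := by
  intro ι Y Yi g hY hYi hcov X f hX Xi p q hXi sq
  rw [isEtaleMor_iff_locP hY f,
    isLocalOnBase_fpqc_locP etLoc_etale Yi g hY hYi hcov f hX Xi p q hXi sq]
  exact forall_congr' fun i => (isEtaleMor_iff_locP (hYi i) (p i)).symm

end Groth.Agent.H25.AS
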