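import Groth.Agent.H25.AlgSp13
import Groth.Prelude.Def_AlgSpCov
import Mathlib.AlgebraicGeometry.Limits

/-!
# Algebraic spaces toolkit, part 14: fpqc coverings are universally submersive on points
-/

universe u

open CategoryTheory CategoryTheory.Limits AlgebraicGeometry Opposite AlgSp

namespace Groth.Agent.H25.AS

/-- A finite jointly surjective family of flat morphisms from affine schemes to an affine scheme
is submersive. -/
theorem isOpen_of_finite_flat_family {Z : Scheme.{u}} [IsAffine Z] {κ : Type u} [Finite κ]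
    (W : κ → Scheme.{u}) (c : ∀ j, W j ⟶ Z) [∀ j, IsAffine (W j)] [∀ j, Flat (c j)]
    (hsurj : ∀ z : Z, ∃ j, z ∈ Set.range (c j)) (A : Set Z)
    (hA : ∀ j, IsOpen ((c j) ⁻¹' A)) : IsOpen A := by
  let q : ∐ W ⟶ Z := Sigma.desc c
  have hq : ∀ j, Sigma.ι W j ≫ q = c j := fun j => Sigma.ι_desc _ _
  have h1 : Flat q := by
    rw [IsZariskiLocalAtSource.iff_of_openCover (P := @Flat) (sigmaOpenCover _)]
    intro j
    change Flat (Sigma.ι W j ≫ q)
    rw [hq]
    infer_instance
  have h2 : Surjective q := ⟨fun z => by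
    obtain ⟨j, y, rfl⟩ := hsurj z
    exact ⟨Sigma.ι W j y, by rw [← Scheme.Hom.comp_apply, hq]⟩⟩
  have h3 : QuasiCompact q := inferInstance
  have hquot := Flat.isQuotientMap_of_surjective q
  rw [← hquot.isOpen_preimage]
  have key := (sigmaMk W).isOpen_preimage (s := (q ⁻¹' A : Set ↥(∐ W)))
  rw [← key, isOpen_sigma_iff]
  intro j
  convert hA j using 1
  ext y
  simp only [Set.mem_preimage, sigmaMk_mk, ← Scheme.Hom.comp_apply, hq]

variable {S : Scheme.{u}}

/-- The refinement half of the definition of an fpqc covering. -/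
def FpqcRefine {ι : Type u} {X : Sp S} (Y : ι → Sp S) (g : ∀ i, Y i ⟶ X) : Prop :=
  ∀ (Z : Over S), IsAffine Z.left → ∀ (h : (yon S).obj Z ⟶ X),
    ∃ (m : ℕ) (W : Fin m → Over S) (c : ∀ j, W j ⟶ Z),
      (∀ j, IsAffine (W j).left) ∧ (∀ j, Flat (c j).left) ∧
      (∀ z : ↥Z.left, ∃ j, z ∈ Set.range (c j).left) ∧
      ∀ j, ∃ (i : _) (l : (yon S).obj (W j) ⟶ Y i), l ≫ g i = (yon S).map (c j) ≫ h

theorem fpqcRefine_of_isFpqcCover {ι : Type u} {X : Sp S} {Y : ι → Sp S} {g : ∀ i, Y i ⟶ X}
    (h : IsFpqcCover Y g) : FpqcRefine Y g := h.2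

/-- Base change of the refinement property. -/
theorem fpqcRefine_pullback {ι : Type u} {X : Sp S} {Y : ι → Sp S} {g : ∀ i, Y i ⟶ X}
    (h : FpqcRefine Y g) {Z : Sp S} (k : Z ⟶ X) (Zi : ι → Sp S) (c : ∀ i, Zi i ⟶ Z)
    (b : ∀ i, Zi i ⟶ Y i) (sq : ∀ i, IsPullback (c i) (b i) k (g i)) : FpqcRefine Zi c := by
  intro T hT t
  obtain ⟨m, W, w, hW, hw, hsurj, hl⟩ := h T hT (t ≫ k)
  refine ⟨m, W, w, hW, hw, hsurj, fun j => ?_⟩
  obtain ⟨i, l, hl'⟩ := hl j
  refine ⟨i, (sq i).lift ((yon S).map (w j) ≫ t) l (by rw [Category.assoc, hl']), ?_⟩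
  exact (sq i).lift_fst _ _ _

/-- An fpqc refinable family is jointly surjective on points. -/
theorem exists_of_fpqcRefine {ι : Type u} {X : Sp S} {Y : ι → Sp S} {g : ∀ i, Y i ⟶ X}
    (h : FpqcRefine Y g) (x : Points X) : ∃ i y, Points.map (g i) y = x := by
  obtain ⟨K, _, str, m, rfl⟩ := exists_fpOf x
  obtain ⟨n, W, c, hW, hc, hsurj, hl⟩ := h (Over.mk str) (by dsimp; infer_instance) m
  obtain ⟨j, w, hw⟩ := hsurj (IsLocalRing.closedPoint K)
  obtain ⟨i, l, hl'⟩ := hl j
  refine ⟨i, Points.ofPt l w, ?_⟩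
  rw [Points.map_ofPt, hl', ofPt_map_comp, hw, mk_fpOf_eq_ofPt_id]

/-- An fpqc refinable family is submersive on points. -/
theorem isOpen_of_fpqcRefine {ι : Type u} {X : Sp S} {Y : ι → Sp S} {g : ∀ i, Y i ⟶ X}
    (h : FpqcRefine Y g) (A : Set (Points X)) (hA : ∀ i, IsOpen (Points.map (g i) ⁻¹' A)) :
    IsOpen A := by
  rw [Points.isOpen_iff]
  intro T t
  rw [isOpen_iff_forall_mem_open]
  intro x hx
  obtain ⟨_, ⟨T'o, hT'o, rfl⟩, hxT', -⟩ := (T.left.isBasis_affineOpens).exists_subset_of_mem_open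
    (Set.mem_univ x) isOpen_univ
  let T' : T.left.affineOpens := ⟨T'o, hT'o⟩
  let hh : (yon S).obj (openOver T T'.1) ⟶ X := (yon S).map (openIncl T T'.1) ≫ t
  have hhx : ∀ w : ↥(openOver T T'.1).left, Points.ofPt hh w = Points.ofPt t (T'.1.ι w) :=
    fun w => ofPt_map_comp _ _ _
  suffices hopen : IsOpen (Points.ofPt hh ⁻¹' A) by
    refine ⟨T'.1.ι '' (Points.ofPt hh ⁻¹' A), ?_, T'.1.ι.isOpenEmbedding.isOpenMap _ hopen, ?_⟩
    · rintro _ ⟨w, hw, rfl⟩
      rw [Set.mem_preimage, ← hhx]
      exact hw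
    · refine ⟨⟨x, hxT'⟩, ?_, rfl⟩
      rw [Set.mem_preimage, hhx]
      exact hx
  obtain ⟨m, W, c, hW, hc, hsurj, hl⟩ := h (openOver T T'.1) T'.2 hh
  have : IsAffine (openOver T T'.1).left := T'.2
  refine isOpen_of_finite_flat_family (Z := (openOver T T'.1).left)
    (fun j : ULift.{u} (Fin m) => (W j.down).left)
    (fun j => (c j.down).left) (fun z => by
      obtain ⟨j, hj⟩ := hsurj z
      exact ⟨⟨j⟩, hj⟩) _ fun j => ?_
  obtain ⟨i, l, hl'⟩ := hl j.down
  have e2 : (c j.down).left ⁻¹' (Points.ofPt hh ⁻¹' A) = Points.ofPt l ⁻¹' (Points.map (g i) ⁻¹' A) := by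
    ext w
    simp only [Set.mem_preimage]
    rw [← ofPt_map_comp, ← hl', Points.map_ofPt]
  rw [e2]
  exact (hA i).preimage (Points.continuous_ofPt l)

section Topology

variable {A : Type*} {B : Type*} [TopologicalSpace A] [TopologicalSpace B] (f : A → B)
  {ι : Type*} {H : ι → Type*} {P : ι → Type*} [∀ i, TopologicalSpace (H i)]
  [∀ i, TopologicalSpace (P i)]
  (c : ∀ i, H i → B) (s : ∀ i, P i → H i) (t : ∀ i, P i → A)

omit [TopologicalSpace A] [TopologicalSpace B] [∀ i, TopologicalSpace (H i)]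
  [∀ i, TopologicalSpace (P i)] in
include c s t in
theorem preimage_image_of_cart (comm : ∀ i π, c i (s i π) = f (t i π))
    (cart : ∀ i h a, c i h = f a → ∃ π, s i π = h ∧ t i π = a) (W : Set A) (i : ι) :
    c i ⁻¹' (f '' W) = s i '' (t i ⁻¹' W) := by
  ext h
  simp only [Set.mem_preimage, Set.mem_image]
  constructor
  · rintro ⟨a, ha, hah⟩
    obtain ⟨π, hπ1, hπ2⟩ := cart i h a hah.symm
    exact ⟨π, by rw [hπ2]; exact ha, hπ1⟩
  · rintro ⟨π, hπ, rfl⟩
    exact ⟨t i π, hπ, (comm i π).symm⟩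

include c s t in
theorem isOpenMap_of_family' (hco : ∀ W : Set B, (∀ i, IsOpen (c i ⁻¹' W)) → IsOpen W)
    (ht : ∀ i, Continuous (t i)) (hs : ∀ i, IsOpenMap (s i))
    (comm : ∀ i π, c i (s i π) = f (t i π))
    (cart : ∀ i h a, c i h = f a → ∃ π, s i π = h ∧ t i π = a) : IsOpenMap f := by
  intro W hW
  refine hco _ fun i => ?_
  rw [preimage_image_of_cart f c s t comm cart]
  exact hs i _ (hW.preimage (ht i))

include c s t in
theorem isClosedMap_of_family' (hco : ∀ W : Set B, (∀ i, IsOpen (c i ⁻¹' W)) → IsOpen W)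
    (ht : ∀ i, Continuous (t i)) (hs : ∀ i, IsClosedMap (s i))
    (comm : ∀ i π, c i (s i π) = f (t i π))
    (cart : ∀ i h a, c i h = f a → ∃ π, s i π = h ∧ t i π = a) : IsClosedMap f := by
  intro C hC
  rw [← isOpen_compl_iff]
  refine hco _ fun i => ?_
  rw [Set.preimage_compl, preimage_image_of_cart f c s t comm cart]
  exact (hs i _ (hC.preimage (ht i))).isOpen_compl

include c s t in
theorem isQuotientMap_of_family' (hf : Continuous f)
    (hco : ∀ W : Set B, (∀ i, IsOpen (c i ⁻¹' W)) → IsOpen W)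
    (hsurj : ∀ b, ∃ i h, c i h = b)
    (hs : ∀ i, Topology.IsQuotientMap (s i))
    (comm : ∀ i π, c i (s i π) = f (t i π))
    (ht : ∀ i, Continuous (t i)) : Topology.IsQuotientMap f := by
  refine ⟨Topology.isCoinducing_iff.2 fun W => ?_,
    surjective_of_family f c s t hsurj (fun i => (hs i).surjective) comm⟩
  refine ⟨fun hW => ?_, fun hW => hW.preimage hf⟩
  refine hco _ fun i => ?_
  rw [← (hs i).isCoinducing.isOpen_preimage]
  have : s i ⁻¹' (c i ⁻¹' W) = t i ⁻¹' (f ⁻¹' W) := by
    ext π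
    simp only [Set.mem_preimage, comm]
  rw [this]
  exact hW.preimage (ht i)

end Topology

/-- A property of morphisms of sheaves (in practice: of the induced maps on points) descends along
jointly surjective families of morphisms that are jointly coinducing on points. -/
def CoindFam (Q : MorphismProperty (Sp S)) : Prop :=
  ∀ ⦃Z Z' : Sp S⦄ (snd : Z' ⟶ Z) (ι : Type u) (H P : ι → Sp S) (c : ∀ i, H i ⟶ Z)
    (t : ∀ i, P i ⟶ Z') (s : ∀ i, P i ⟶ H i),
    (∀ i, IsPullback (t i) (s i) snd (c i)) →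
    (∀ W : Set (Points Z), (∀ i, IsOpen (Points.map (c i) ⁻¹' W)) → IsOpen W) →
    (∀ z : Points Z, ∃ i h, Points.map (c i) h = z) → (∀ i, Q (s i)) → Q snd

theorem coindFam_isOpenMor : CoindFam (S := S) IsOpenMor :=
  fun _ _ snd _ _ _ c t s sq hco _ hs =>
    isOpenMap_of_family' (Points.map snd) (fun i => Points.map (c i)) (fun i => Points.map (s i))
      (fun i => Points.map (t i)) hco (fun _ => Points.continuous_map _) hs
      (fun i => comm_of_isPullback (sq i)) (fun i => cart_of_isPullback (sq i))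

theorem coindFam_isClosedMor : CoindFam (S := S) IsClosedMor :=
  fun _ _ snd _ _ _ c t s sq hco _ hs =>
    isClosedMap_of_family' (Points.map snd) (fun i => Points.map (c i))
      (fun i => Points.map (s i))
      (fun i => Points.map (t i)) hco (fun _ => Points.continuous_map _) hs
      (fun i => comm_of_isPullback (sq i)) (fun i => cart_of_isPullback (sq i))

theorem coindFam_injective :
    CoindFam (S := S) (fun _ _ f => Function.Injective (Points.map f)) :=
  fun _ _ snd _ _ _ c t s sq _ hsurj hs =>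
    injective_of_family (Points.map snd) (fun i => Points.map (c i)) (fun i => Points.map (s i))
      (fun i => Points.map (t i)) hsurj hs (fun i => cart_of_isPullback (sq i))

theorem coindFam_isSubmersiveMor : CoindFam (S := S) IsSubmersiveMor :=
  fun _ _ snd _ _ _ c t s sq hco hsurj hs =>
    isQuotientMap_of_family' (Points.map snd) (fun i => Points.map (c i))
      (fun i => Points.map (s i))
      (fun i => Points.map (t i)) (Points.continuous_map _) hco hsurj hs
      (fun i => comm_of_isPullback (sq i)) (fun _ => Points.continuous_map _)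

theorem coindFam_isHomeomorph :
    CoindFam (S := S) (fun _ _ f => IsHomeomorph (Points.map f)) := by
  intro Z Z' snd ι H P c t s sq hco hsurj hs
  refine ⟨Points.continuous_map _, ?_, ?_, ?_⟩
  · exact coindFam_isOpenMor snd ι H P c t s sq hco hsurj (fun i => (hs i).isOpenMap)
  · exact coindFam_injective snd ι H P c t s sq hco hsurj (fun i => (hs i).injective)
  · exact surjective_of_family (Points.map snd) (fun i => Points.map (c i))
      (fun i => Points.map (s i)) (fun i => Points.map (t i)) hsurj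
      (fun i => (hs i).surjective) (fun i => comm_of_isPullback (sq i))

/-- `UnivSp Q` is fpqc local on the base, for `Q` descending along coinducing families. -/
theorem isLocalOnBase_fpqc_univSp {Q : MorphismProperty (Sp S)} (hQ : CoindFam Q) :
    IsLocalOnBase (IsFpqcCover (S := S)) (UnivSp Q) := by
  intro ι Y Yi g hY hYi hcov X f _ Xi p q _ sq
  refine ⟨fun hf i => univSp_of_isPullback (sq i) hf, fun hp => ?_⟩
  intro Z Z' hZ k fst snd sqZ
  have sqc : ∀ i, IsPullback (pullback.fst k (g i)) (pullback.snd k (g i)) k (g i) :=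
    fun i => IsPullback.of_hasPullback k (g i)
  have hZi : ∀ i, IsAlgSpace (pullback k (g i)) := fun i =>
    isAlgSpace_of_isPullback hY.diag hZ (hYi i) (sqc i)
  have sqP : ∀ i, IsPullback (pullback.fst snd (pullback.fst k (g i)))
      (pullback.snd snd (pullback.fst k (g i))) snd (pullback.fst k (g i)) :=
    fun i => IsPullback.of_hasPullback snd (pullback.fst k (g i))
  have href := fpqcRefine_pullback hcov.2 k _ _ _ sqc
  refine hQ snd ι (fun i => pullback k (g i)) (fun i => pullback snd (pullback.fst k (g i)))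
    (fun i => pullback.fst k (g i)) (fun i => pullback.fst snd (pullback.fst k (g i)))
    (fun i => pullback.snd snd (pullback.fst k (g i))) sqP
    (isOpen_of_fpqcRefine href) (exists_of_fpqcRefine href) fun i => ?_
  have big := (sqP i).paste_horiz sqZ
  have hw : (pullback.fst snd (pullback.fst k (g i)) ≫ fst) ≫ f =
      (pullback.snd snd (pullback.fst k (g i)) ≫ pullback.snd k (g i)) ≫ g i := by
    rw [big.w, Category.assoc, (sqc i).w]
  have e1 : (sq i).lift _ _ hw ≫ q i = pullback.fst snd (pullback.fst k (g i)) ≫ fst :=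
    (sq i).lift_fst _ _ hw
  have e2 : (sq i).lift _ _ hw ≫ p i =
      pullback.snd snd (pullback.fst k (g i)) ≫ pullback.snd k (g i) :=
    (sq i).lift_snd _ _ hw
  rw [← e1, (sqc i).w] at big
  exact hp i (hZi i) _ _ _ (IsPullback.of_right big e2 (sq i))

/-- An algebraic space covered by finitely many quasi-compact sheaves is quasi-compact. -/
theorem isQuasiCompactSp_of_finite_family {F : Sp S} (hF : IsAlgSpace F) {κ : Type*} [Finite κ]
    (P : κ → Sp S) (c : ∀ j, P j ⟶ F) (hP : ∀ j, IsQuasiCompactSp (P j))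
    (hsurj : ∀ x : Points F, ∃ j y, Points.map (c j) y = x) : IsQuasiCompactSp F := by
  rw [isQuasiCompactSp_iff_compactSpace hF]
  constructor
  have e : (Set.univ : Set (Points F)) = ⋃ j, Set.range (Points.map (c j)) := by
    ext x
    simp only [Set.mem_univ, Set.mem_iUnion, Set.mem_range, true_iff]
    exact hsurj x
  rw [e]
  refine isCompact_iUnion fun j => ?_
  have := compactSpace_of_isQuasiCompactSp (hP j)
  exact isCompact_range (Points.continuous_map _)

/-- Quasi-compactness of morphisms is fpqc local on the base. -/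
theorem isLocalOnBase_fpqc_isQuasiCompactMor :
    IsLocalOnBase (IsFpqcCover (S := S)) IsQuasiCompactMor := by
  intro ι Y Yi g hY _ hcov X f hX Xi p q _ sq
  refine ⟨fun hf i => isQuasiCompactMor_of_isPullback (sq i) hf, fun hp => ?_⟩
  refine isQuasiCompactMor_of_affine f fun Z hZ k P fst snd sqZ => ?_
  obtain ⟨m, W, c, hW, _, hsurj, hl⟩ := hcov.2 Z hZ k
  have hP : IsAlgSpace P := isAlgSpace_of_isPullback hY.diag hX (IsAlgSpace.yon_obj Z) sqZ
  have sqP : ∀ j, IsPullback (pullback.fst snd ((yon S).map (c j)))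
      (pullback.snd snd ((yon S).map (c j))) snd ((yon S).map (c j)) :=
    fun j => IsPullback.of_hasPullback snd ((yon S).map (c j))
  refine isQuasiCompactSp_of_finite_family hP (fun j => pullback snd ((yon S).map (c j)))
    (fun j => pullback.fst snd ((yon S).map (c j))) (fun j => ?_) (fun x => ?_)
  · obtain ⟨i, l, hl'⟩ := hl j
    have big := (sqP j).paste_horiz sqZ
    have hw : (pullback.fst snd ((yon S).map (c j)) ≫ fst) ≫ f =
        (pullback.snd snd ((yon S).map (c j)) ≫ l) ≫ g i := by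
      rw [big.w, Category.assoc, hl']
    have e1 : (sq i).lift _ _ hw ≫ q i = pullback.fst snd ((yon S).map (c j)) ≫ fst :=
      (sq i).lift_fst _ _ hw
    have e2 : (sq i).lift _ _ hw ≫ p i = pullback.snd snd ((yon S).map (c j)) ≫ l :=
      (sq i).lift_snd _ _ hw
    rw [← e1, ← hl'] at big
    have hWj : IsAffine (W j).left := hW j
    exact hp i (IsAlgSpace.yon_obj (W j)) ((isQuasiCompactSp_yon_iff (W j)).2 inferInstance) _ _ _
      (IsPullback.of_right big e2 (sq i))
  · obtain ⟨z₀, hz₀⟩ := exists_ofScheme (Points.map snd x)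
    obtain ⟨j, w, hw⟩ := hsurj z₀
    obtain ⟨y, -, hy⟩ := exists_of_isPullback (sqP j).flip (Points.ofScheme (W j) w) x (by
      rw [map_yon_map_ofScheme, hw, hz₀])
    exact ⟨j, y, hy⟩

end Groth.Agent.H25.AS
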