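import Groth.Agent.H25.AlgSp28

/-!
# Algebraic spaces toolkit, part 29: descent along standard fpqc families
-/

universe u

open CategoryTheory CategoryTheory.Limits AlgebraicGeometry Opposite AlgSp MorphismProperty

namespace Groth.Agent.H25.AS

/-- Descent of a property along a finite jointly surjective family of flat morphisms between
affine schemes. -/
theorem prop_of_finite_flat_family (P : MorphismProperty Scheme.{u})
    [P.DescendsAlong (@Surjective ⊓ @Flat ⊓ @QuasiCompact)] [IsZariskiLocalAtTarget P]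
    {Z : Scheme.{u}} [IsAffine Z] {κ : Type u} [Finite κ]
    (W : κ → Scheme.{u}) (c : ∀ j, W j ⟶ Z) [∀ j, IsAffine (W j)] [∀ j, Flat (c j)]
    (hsurj : ∀ z : Z, ∃ j, z ∈ Set.range (c j))
    {A : Scheme.{u}} (g : A ⟶ Z) (Aj : κ → Scheme.{u}) (fst : ∀ j, Aj j ⟶ A)
    (snd : ∀ j, Aj j ⟶ W j) (sq : ∀ j, IsPullback (fst j) (snd j) g (c j))
    (h : ∀ j, P (snd j)) : P g := by
  let q : ∐ W ⟶ Z := Sigma.desc c
  have hq : ∀ j, Sigma.ι W j ≫ q = c j := fun j => Sigma.ι_desc _ _
  have h1 : Flat q := by
    rw [IsZariskiLocalAtSource.iff_of_openCover (P := @Flat) (sigmaOpenCover _)]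
    intro j
    change Flat (Sigma.ι W j ≫ q)
    rw [hq]
    infer_instance
  have h2 : Surjective q := ⟨fun z => by
    obtain ⟨j, y, rfl⟩ := hsurj z
    exact ⟨Sigma.ι W j y, by rw [← Scheme.Hom.comp_apply, hq]⟩⟩
  have h3 : QuasiCompact q := inferInstance
  refine MorphismProperty.of_pullback_snd_of_descendsAlong
    (Q := @Surjective ⊓ @Flat ⊓ @QuasiCompact) (f := g) (g := q) ⟨⟨h2, h1⟩, h3⟩ ?_
  rw [IsZariskiLocalAtTarget.iff_of_openCover (P := P) (sigmaOpenCover W)]
  intro j
  change P (pullback.snd (pullback.snd g q) (Sigma.ι W j))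
  have big := (IsPullback.of_hasPullback (pullback.snd g q) (Sigma.ι W j)).paste_horiz
    (IsPullback.of_hasPullback g q)
  rw [hq] at big
  have e := big.isoIsPullback _ _ (sq j)
  have he : (big.isoIsPullback _ _ (sq j)).hom ≫ snd j =
      pullback.snd (pullback.snd g q) (Sigma.ι W j) := IsPullback.isoIsPullback_hom_snd _ _ _ _
  rw [← he, P.cancel_left_of_respectsIso]
  exact h j

/-- A monomorphism to an affine scheme through which a finite jointly surjective flat affine
family factors is an isomorphism. -/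
theorem isIso_of_mono_of_finite_flat_family {E Z : Scheme.{u}} [IsAffine Z] (e : E ⟶ Z) [Mono e]
    {κ : Type u} [Finite κ] (W : κ → Scheme.{u}) (c : ∀ j, W j ⟶ Z) [∀ j, IsAffine (W j)]
    [∀ j, Flat (c j)] (hsurj : ∀ z : Z, ∃ j, z ∈ Set.range (c j))
    (s : ∀ j, W j ⟶ E) (hs : ∀ j, s j ≫ e = c j) : IsIso e := by
  refine prop_of_finite_flat_family (MorphismProperty.isomorphisms Scheme.{u}) W c hsurj e
    (fun j => pullback e (c j)) (fun j => pullback.fst _ _) (fun j => pullback.snd _ _)
    (fun j => IsPullback.of_hasPullback _ _) fun j => ?_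
  have : IsSplitEpi (pullback.snd e (c j)) :=
    IsSplitEpi.mk' ⟨pullback.lift (s j) (𝟙 _) (by rw [hs, Category.id_comp]), pullback.lift_snd _ _ _⟩
  exact isIso_of_mono_of_isSplitEpi _

/-- Descent of a property along flat affine families given locally on the target. -/
theorem prop_of_local_flat_families (P : MorphismProperty Scheme.{u})
    [P.DescendsAlong (@Surjective ⊓ @Flat ⊓ @QuasiCompact)] [IsZariskiLocalAtTarget P]
    {A T : Scheme.{u}} (g : A ⟶ T)
    (h : ∀ i : T.affineCover.I₀, ∃ (κ : Type u) (_ : Finite κ) (W : κ → Scheme.{u})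
      (c : ∀ j, W j ⟶ T.affineCover.X i), (∀ j, IsAffine (W j)) ∧ (∀ j, Flat (c j)) ∧
      (∀ z : T.affineCover.X i, ∃ j, z ∈ Set.range (c j)) ∧
      ∀ j, P (pullback.snd g (c j ≫ T.affineCover.f i))) : P g := by
  rw [IsZariskiLocalAtTarget.iff_of_openCover (P := P) T.affineCover]
  intro i
  change P (pullback.snd g (T.affineCover.f i))
  obtain ⟨κ, _, W, c, hW, hc, hsurj, hP⟩ := h i
  have sqr := IsPullback.of_hasPullback g (T.affineCover.f i)
  refine prop_of_finite_flat_family P W c hsurj (pullback.snd g (T.affineCover.f i))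
    (fun j => pullback g (c j ≫ T.affineCover.f i))
    (fun j => sqr.lift (pullback.fst _ _) (pullback.snd _ _ ≫ c j)
      (by rw [Category.assoc, pullback.condition]))
    (fun j => pullback.snd _ _) (fun j => ?_) hP
  refine IsPullback.of_right ?_ (sqr.lift_snd _ _ _) sqr
  rw [sqr.lift_fst]
  exact IsPullback.of_hasPullback g (c j ≫ T.affineCover.f i)

/-- A monomorphism of schemes through which flat affine families factor locally on the target is
an isomorphism. -/
theorem isIso_of_mono_of_local_flat_families {E T : Scheme.{u}} (e : E ⟶ T) [Mono e]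
    (h : ∀ i : T.affineCover.I₀, ∃ (κ : Type u) (_ : Finite κ) (W : κ → Scheme.{u})
      (c : ∀ j, W j ⟶ T.affineCover.X i) (s : ∀ j, W j ⟶ E),
      (∀ j, IsAffine (W j)) ∧ (∀ j, Flat (c j)) ∧
      (∀ z : T.affineCover.X i, ∃ j, z ∈ Set.range (c j)) ∧
      ∀ j, s j ≫ e = c j ≫ T.affineCover.f i) : IsIso e := by
  refine prop_of_local_flat_families (MorphismProperty.isomorphisms Scheme.{u}) e fun i => ?_
  obtain ⟨κ, hκ, W, c, s, hW, hc, hsurj, hs⟩ := h i
  refine ⟨κ, hκ, W, c, hW, hc, hsurj, fun j => ?_⟩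
  have : IsSplitEpi (pullback.snd e (c j ≫ T.affineCover.f i)) :=
    IsSplitEpi.mk' ⟨pullback.lift (s j) (𝟙 _) (by rw [hs, Category.id_comp]),
      pullback.lift_snd _ _ _⟩
  exact isIso_of_mono_of_isSplitEpi _

/-- Variant of `prop_of_local_flat_families` with arbitrary pullback squares. -/
theorem prop_of_local_flat_families' (P : MorphismProperty Scheme.{u})
    [P.DescendsAlong (@Surjective ⊓ @Flat ⊓ @QuasiCompact)] [IsZariskiLocalAtTarget P]
    {A T : Scheme.{u}} (g : A ⟶ T)
    (h : ∀ i : T.affineCover.I₀, ∃ (κ : Type u) (_ : Finite κ) (W : κ → Scheme.{u})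
      (c : ∀ j, W j ⟶ T.affineCover.X i), (∀ j, IsAffine (W j)) ∧ (∀ j, Flat (c j)) ∧
      (∀ z : T.affineCover.X i, ∃ j, z ∈ Set.range (c j)) ∧
      ∀ j, ∃ (B : Scheme.{u}) (fst : B ⟶ A) (snd : B ⟶ W j),
        IsPullback fst snd g (c j ≫ T.affineCover.f i) ∧ P snd) : P g := by
  refine prop_of_local_flat_families P g fun i => ?_
  obtain ⟨κ, hκ, W, c, hW, hc, hsurj, hB⟩ := h i
  refine ⟨κ, hκ, W, c, hW, hc, hsurj, fun j => ?_⟩
  obtain ⟨B, fst, snd, sqB, hP⟩ := hB j
  have he : (sqB.isoIsPullback _ _ (IsPullback.of_hasPullback _ _)).hom ≫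
      pullback.snd g (c j ≫ T.affineCover.f i) = snd := IsPullback.isoIsPullback_hom_snd _ _ _ _
  rw [← P.cancel_left_of_respectsIso (sqB.isoIsPullback _ _ (IsPullback.of_hasPullback _ _)).hom,
    he]
  exact hP

variable {S : Scheme.{u}}

/-- Two sections of a sheaf with representable diagonal over a scheme agree as soon as they agree
on flat affine families given locally on the scheme. -/
theorem eq_of_local_flat_families {X : Sp S} (hd : Representable (Limits.diag X)) {T : Over S}
    (a b : (yon S).obj T ⟶ X)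
    (h : ∀ (V : Over S) (j : V ⟶ T), IsAffine V.left → IsOpenImmersion j.left →
      ∃ (m : ℕ) (W : Fin m → Over S) (c : ∀ k, W k ⟶ V),
        (∀ k, IsAffine (W k).left) ∧ (∀ k, Flat (c k).left) ∧
        (∀ z : ↥V.left, ∃ k, z ∈ Set.range (c k).left) ∧
        ∀ k, (yon S).map (c k ≫ j) ≫ a = (yon S).map (c k ≫ j) ≫ b) : a = b := by
  have sqE := hd.isPullback (prod.lift a b)
  have e1 : (yon S).map (hd.snd (prod.lift a b)) ≫ a = hd.fst (prod.lift a b) := by
    have := congrArg (· ≫ prod.fst) sqE.w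
    simpa only [Category.assoc, Limits.diag, prod.lift_fst, Category.comp_id] using this.symm
  have e2 : (yon S).map (hd.snd (prod.lift a b)) ≫ b = hd.fst (prod.lift a b) := by
    have := congrArg (· ≫ prod.snd) sqE.w
    simpa only [Category.assoc, Limits.diag, prod.lift_snd, Category.comp_id] using this.symm
  have hm : Mono (hd.snd (prod.lift a b)).left :=
    (repWith_diag_monomorphisms hd).2 _ _ _ sqE
  have hiso : IsIso (hd.snd (prod.lift a b)).left := by
    refine isIso_of_mono_of_local_flat_families _ fun i => ?_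
    obtain ⟨m, W, c, hW, hc, hsurj, hk⟩ := h (Over.mk (T.left.affineCover.f i ≫ T.hom))
      (Over.homMk (T.left.affineCover.f i) rfl) (by dsimp; infer_instance)
      (show IsOpenImmersion (T.left.affineCover.f i) from inferInstance)
    refine ⟨ULift.{u} (Fin m), inferInstance, fun k => (W k.down).left,
      fun k => (c k.down).left, fun k => ((yon S).preimage (sqE.lift
        ((yon S).map (c k.down ≫ Over.homMk (T.left.affineCover.f i) rfl) ≫ a)
        ((yon S).map (c k.down ≫ Over.homMk (T.left.affineCover.f i) rfl)) (by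
          apply Limits.prod.hom_ext
          · simp only [Category.assoc, Limits.diag, prod.lift_fst, Category.comp_id]
          · simp only [Category.assoc, Limits.diag, prod.lift_snd, Category.comp_id]
            exact hk k.down))).left, fun k => hW k.down, fun k => hc k.down, fun z => ?_,
      fun k => ?_⟩
    · obtain ⟨k, hk'⟩ := hsurj z
      exact ⟨⟨k⟩, hk'⟩
    · have hh : (yon S).preimage (sqE.lift
          ((yon S).map (c k.down ≫ Over.homMk (T.left.affineCover.f i) rfl) ≫ a)
          ((yon S).map (c k.down ≫ Over.homMk (T.left.affineCover.f i) rfl)) (by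
            apply Limits.prod.hom_ext
            · simp only [Category.assoc, Limits.diag, prod.lift_fst, Category.comp_id]
            · simp only [Category.assoc, Limits.diag, prod.lift_snd, Category.comp_id]
              exact hk k.down)) ≫ hd.snd (prod.lift a b) =
          c k.down ≫ Over.homMk (T.left.affineCover.f i) rfl := by
        apply (yon S).map_injective
        rw [Functor.map_comp, Functor.map_preimage, sqE.lift_snd]
      exact congrArg (·.left) hh
  have hiso' : IsIso (hd.snd (prod.lift a b)) := by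
    have : IsIso ((Over.forget S).map (hd.snd (prod.lift a b))) := hiso
    exact isIso_of_reflects_iso _ (Over.forget S)
  rw [← cancel_epi ((yon S).map (hd.snd (prod.lift a b))), e1, e2]

/-- Being a monomorphism descends along families with the fpqc refinement property. -/
theorem mono_of_fpqcRefine {X Y : Sp S} (hX : Representable (Limits.diag X)) (f : X ⟶ Y)
    {ι : Type u} (Yi : ι → Sp S) (g : ∀ i, Yi i ⟶ Y) (href : FpqcRefine Yi g)
    (Xi : ι → Sp S) (p : ∀ i, Xi i ⟶ Yi i) (q : ∀ i, Xi i ⟶ X)
    (sq : ∀ i, IsPullback (q i) (p i) f (g i)) (hp : ∀ i, Mono (p i)) : Mono f := by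
  refine mono_of_yon f fun T a b hab => ?_
  refine eq_of_local_flat_families hX a b fun V j hV _ => ?_
  obtain ⟨m, W, c, hW, hc, hsurj, hl⟩ := href V hV ((yon S).map j ≫ a ≫ f)
  refine ⟨m, W, c, hW, hc, hsurj, fun k => ?_⟩
  obtain ⟨i, l, hl'⟩ := hl k
  have ha : ((yon S).map (c k ≫ j) ≫ a) ≫ f = l ≫ g i := by
    rw [hl', Functor.map_comp]
    simp only [Category.assoc]
  have hb : ((yon S).map (c k ≫ j) ≫ b) ≫ f = l ≫ g i := by
    rw [hl', Functor.map_comp, hab]
    simp only [Category.assoc]
  have := hp i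
  have e : (sq i).lift _ _ ha = (sq i).lift _ _ hb := by
    rw [← cancel_mono (p i), (sq i).lift_snd, (sq i).lift_snd]
  rw [← (sq i).lift_fst _ _ ha, ← (sq i).lift_fst _ _ hb, e]

/-- `UnivSp Q` descends along families with the fpqc refinement property. -/
theorem univSp_of_fpqcRefine {Q : MorphismProperty (Sp S)} (hQ : CoindFam Q) {X Y : Sp S}
    (hY : Representable (Limits.diag Y)) (f : X ⟶ Y)
    {ι : Type u} (Yi : ι → Sp S) (g : ∀ i, Yi i ⟶ Y) (hYi : ∀ i, IsAlgSpace (Yi i))
    (href : FpqcRefine Yi g)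
    (Xi : ι → Sp S) (p : ∀ i, Xi i ⟶ Yi i) (q : ∀ i, Xi i ⟶ X)
    (sq : ∀ i, IsPullback (q i) (p i) f (g i)) (hp : ∀ i, UnivSp Q (p i)) : UnivSp Q f := by
  intro Z Z' hZ k fst snd sqZ
  have sqc : ∀ i, IsPullback (pullback.fst k (g i)) (pullback.snd k (g i)) k (g i) :=
    fun i => IsPullback.of_hasPullback k (g i)
  have hZi : ∀ i, IsAlgSpace (pullback k (g i)) := fun i =>
    isAlgSpace_of_isPullback hY hZ (hYi i) (sqc i)
  have sqP : ∀ i, IsPullback (pullback.fst snd (pullback.fst k (g i)))
      (pullback.snd snd (pullback.fst k (g i))) snd (pullback.fst k (g i)) :=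
    fun i => IsPullback.of_hasPullback snd (pullback.fst k (g i))
  have href' := fpqcRefine_pullback href k _ _ _ sqc
  refine hQ snd ι (fun i => pullback k (g i)) (fun i => pullback snd (pullback.fst k (g i)))
    (fun i => pullback.fst k (g i)) (fun i => pullback.fst snd (pullback.fst k (g i)))
    (fun i => pullback.snd snd (pullback.fst k (g i))) sqP
    (isOpen_of_fpqcRefine href') (exists_of_fpqcRefine href') fun i => ?_
  have big := (sqP i).paste_horiz sqZ
  have hw : (pullback.fst snd (pullback.fst k (g i)) ≫ fst) ≫ f =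
      (pullback.snd snd (pullback.fst k (g i)) ≫ pullback.snd k (g i)) ≫ g i := by
    rw [big.w, Category.assoc, (sqc i).w]
  have e1 : (sq i).lift _ _ hw ≫ q i = pullback.fst snd (pullback.fst k (g i)) ≫ fst :=
    (sq i).lift_fst _ _ hw
  have e2 : (sq i).lift _ _ hw ≫ p i =
      pullback.snd snd (pullback.fst k (g i)) ≫ pullback.snd k (g i) :=
    (sq i).lift_snd _ _ hw
  rw [← e1, (sqc i).w] at big
  exact hp i (hZi i) _ _ _ (IsPullback.of_right big e2 (sq i))

/-- Quasi-compactness of morphisms descends along families with the fpqc refinement property. -/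
theorem isQuasiCompactMor_of_fpqcRefine {X Y : Sp S} (hX : IsAlgSpace X)
    (hY : Representable (Limits.diag Y)) (f : X ⟶ Y)
    {ι : Type u} (Yi : ι → Sp S) (g : ∀ i, Yi i ⟶ Y) (href : FpqcRefine Yi g)
    (Xi : ι → Sp S) (p : ∀ i, Xi i ⟶ Yi i) (q : ∀ i, Xi i ⟶ X)
    (sq : ∀ i, IsPullback (q i) (p i) f (g i)) (hp : ∀ i, IsQuasiCompactMor (p i)) :
    IsQuasiCompactMor f := by
  refine isQuasiCompactMor_of_affine f fun Z hZ k P fst snd sqZ => ?_
  obtain ⟨m, W, c, hW, _, hsurj, hl⟩ := href Z hZ k
  have hP : IsAlgSpace P := isAlgSpace_of_isPullback hY hX (IsAlgSpace.yon_obj Z) sqZ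
  have sqP : ∀ j, IsPullback (pullback.fst snd ((yon S).map (c j)))
      (pullback.snd snd ((yon S).map (c j))) snd ((yon S).map (c j)) :=
    fun j => IsPullback.of_hasPullback snd ((yon S).map (c j))
  refine isQuasiCompactSp_of_finite_family hP (fun j => pullback snd ((yon S).map (c j)))
    (fun j => pullback.fst snd ((yon S).map (c j))) (fun j => ?_) (fun x => ?_)
  · obtain ⟨i, l, hl'⟩ := hl j
    have big := (sqP j).paste_horiz sqZ
    have hw : (pullback.fst snd ((yon S).map (c j)) ≫ fst) ≫ f =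
        (pullback.snd snd ((yon S).map (c j)) ≫ l) ≫ g i := by
      rw [big.w, Category.assoc, hl']
    have e1 : (sq i).lift _ _ hw ≫ q i = pullback.fst snd ((yon S).map (c j)) ≫ fst :=
      (sq i).lift_fst _ _ hw
    have e2 : (sq i).lift _ _ hw ≫ p i = pullback.snd snd ((yon S).map (c j)) ≫ l :=
      (sq i).lift_snd _ _ hw
    rw [← e1, ← hl'] at big
    have hWj : IsAffine (W j).left := hW j
    exact hp i (IsAlgSpace.yon_obj (W j)) ((isQuasiCompactSp_yon_iff (W j)).2 inferInstance) _ _ _
      (IsPullback.of_right big e2 (sq i))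
  · obtain ⟨z₀, hz₀⟩ := exists_ofScheme (Points.map snd x)
    obtain ⟨j, w, hw⟩ := hsurj z₀
    obtain ⟨y, -, hy⟩ := exists_of_isPullback (sqP j).flip (Points.ofScheme (W j) w) x (by
      rw [map_yon_map_ofScheme, hw, hz₀])
    exact ⟨j, y, hy⟩

/-- The family of fibre squares of the base changes of `f`, mapping to the fibre square of `f`,
inherits the fpqc refinement property. -/
theorem fpqcRefine_pullback_map {X Y : Sp S} (f : X ⟶ Y)
    {ι : Type u} (Yi : ι → Sp S) (g : ∀ i, Yi i ⟶ Y) (href : FpqcRefine Yi g)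
    (Xi : ι → Sp S) (p : ∀ i, Xi i ⟶ Yi i) (q : ∀ i, Xi i ⟶ X)
    (sq : ∀ i, IsPullback (q i) (p i) f (g i)) :
    FpqcRefine (fun i => pullback (p i) (p i))
      (fun i => pullback.map (p i) (p i) f f (q i) (q i) (g i) (sq i).w.symm (sq i).w.symm) :=
  fpqcRefine_pullback href (pullback.fst f f ≫ f) _ _ _
    fun i => isPullback_pullback_map_of_isPullback (sq i)

/-- Being an isomorphism descends along families with the fpqc refinement property. -/
theorem isIso_of_fpqcRefine {X Y : Sp S} (hX : IsAlgSpace X) (hY : IsAlgSpace Y) (f : X ⟶ Y)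
    {ι : Type u} (Yi : ι → Sp S) (g : ∀ i, Yi i ⟶ Y) (href : FpqcRefine Yi g)
    (Xi : ι → Sp S) (p : ∀ i, Xi i ⟶ Yi i) (q : ∀ i, Xi i ⟶ X)
    (sq : ∀ i, IsPullback (q i) (p i) f (g i)) (hp : ∀ i, IsIso (p i)) : IsIso f := by
  have hm : Mono f := mono_of_fpqcRefine hX.diag f Yi g href Xi p q sq fun i => inferInstance
  obtain ⟨V, v, hve, hvs⟩ := hY.atlas
  have sqV := IsPullback.of_hasPullback f v
  have hXV : IsAlgSpace (pullback f v) :=
    isAlgSpace_of_isPullback hY.diag hX (IsAlgSpace.yon_obj V) sqV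
  obtain ⟨U, u, hue, hus⟩ := hXV.atlas
  obtain ⟨h₀, hh₀⟩ := (yon S).map_surjective (u ≫ pullback.snd f v)
  have key : ∀ (P : MorphismProperty Scheme.{u})
      [P.DescendsAlong (@Surjective ⊓ @Flat ⊓ @QuasiCompact)] [IsZariskiLocalAtTarget P],
      RepWith P u → P h₀.left := by
    intro P _ _ hPu
    refine prop_of_local_flat_families' P h₀.left fun i => ?_
    obtain ⟨m, W, c, hW, hc, hsurj, hl⟩ := href (Over.mk (V.left.affineCover.f i ≫ V.hom))
      (by dsimp; infer_instance) ((yon S).map (Over.homMk (V.left.affineCover.f i) rfl) ≫ v)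
    refine ⟨ULift.{u} (Fin m), inferInstance, fun k => (W k.down).left,
      fun k => (c k.down).left, fun k => hW k.down, fun k => hc k.down, fun z => ?_, fun k => ?_⟩
    · obtain ⟨k, hk'⟩ := hsurj z
      exact ⟨⟨k⟩, hk'⟩
    · obtain ⟨i', l, hl'⟩ := hl k.down
      have := hp i'
      have hw : (l ≫ inv (p i') ≫ q i') ≫ f =
          (yon S).map (c k.down ≫ Over.homMk (V.left.affineCover.f i) rfl) ≫ v := by
        rw [Category.assoc, Category.assoc, (sq i').w, IsIso.inv_hom_id_assoc, hl',
          Functor.map_comp, Category.assoc]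
      have hrep := representable_yon_map h₀
      have sqA := hrep.isPullback'
        ((yon S).map (c k.down ≫ Over.homMk (V.left.affineCover.f i) rfl))
      have sqS := (hrep.isPullback_of_map
        (c k.down ≫ Over.homMk (V.left.affineCover.f i) rfl)).map (Over.forget S)
      refine ⟨_, _, _, sqS, ?_⟩
      have e1 : (yon S).map h₀ = u ≫ pullback.snd f v := hh₀
      have e2 : (yon S).map (c k.down ≫ Over.homMk (V.left.affineCover.f i) rfl) =
          pullback.lift _ _ hw ≫ pullback.snd f v := (pullback.lift_snd _ _ hw).symm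
      have sqA' : IsPullback ((yon S).map (hrep.fst'
            ((yon S).map (c k.down ≫ Over.homMk (V.left.affineCover.f i) rfl))))
          ((yon S).map (hrep.snd
            ((yon S).map (c k.down ≫ Over.homMk (V.left.affineCover.f i) rfl))))
          (u ≫ pullback.snd f v) (pullback.lift _ _ hw ≫ pullback.snd f v) := by
        rw [← e1, ← e2]
        exact sqA
      exact hPu.2 _ _ _ (isPullback_of_comp_mono sqA')
  have h1 : Etale h₀.left := key @Etale hue
  have h2 : Surjective h₀.left := key @Surjective hus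
  have hepi : Epi ((yon S).map h₀) :=
    epi_of_etale _ ((repWith_yon_map_iff _ _).2 h1) ((repWith_yon_map_iff _ _).2 h2)
  rw [hh₀] at hepi
  have hepi2 : Epi (pullback.snd f v) := epi_of_epi u _
  have hepi3 : Epi v := epi_of_etale v hve hvs
  have hepi4 : Epi (pullback.fst f v ≫ f) := by
    rw [sqV.w]
    exact epi_comp _ _
  have hepi5 : Epi f := epi_of_epi (pullback.fst f v) f
  exact isIso_of_mono_of_epi f

end Groth.Agent.H25.AS
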