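import Groth.Agent.H25.AlgSp46
import Groth.Agent.H25.AlgSp34
import Groth.Agent.S10536

/-!
# Algebraic spaces toolkit, part 47: affine etale coverings; properness tested on affines
-/

universe u

open CategoryTheory CategoryTheory.Limits AlgebraicGeometry Opposite AlgSp MorphismProperty
open TopologicalSpace

namespace Groth.Agent.H25.AS

variable {S : Scheme.{u}}

/-- Every algebraic space has an etale covering by affine schemes (indexed by a small type). -/
theorem exists_affine_etale_cover {Y : Sp S} (hY : IsAlgSpace Y) :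
    ∃ (ι : Type u) (V : ι → Over S) (g : ∀ i, (yon S).obj (V i) ⟶ Y),
      (∀ i, IsAffine (V i).left) ∧ (∀ i, RepWith @Etale (g i)) ∧
      ∀ y : Points Y, ∃ (i : ι) (v : ↥(V i).left), Points.ofPt (g i) v = y := by
  obtain ⟨U, p, hpe, hps⟩ := hY.atlas
  have hV : ∀ u : ↥U.left, ∃ V : U.left.Opens, IsAffineOpen V ∧ u ∈ V := fun u => by
    obtain ⟨_, ⟨V, hV, rfl⟩, hw, -⟩ :=
      U.left.isBasis_affineOpens.exists_subset_of_mem_open (Set.mem_univ u) isOpen_univ
    exact ⟨V, hV, hw⟩
  choose V hVa hVu using hV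
  refine ⟨↥U.left, fun u => openOver U (V u), fun u => (yon S).map (openIncl U (V u)) ≫ p,
    fun u => hVa u, fun u => repWith_etale_comp (repWith_etale_openIncl U (V u)) hpe,
    fun y => ?_⟩
  obtain ⟨u, rfl⟩ := ofPt_surjective p hps y
  refine ⟨u, (⟨u, hVu u⟩ : ↥(V u)), ?_⟩
  rw [ofPt_map_comp]
  rfl

/-- An etale covering by schemes is an fppf covering. -/
theorem isFppfCover_of_etale_charts {Y : Sp S} {ι : Type u} (V : ι → Over S)
    (g : ∀ i, (yon S).obj (V i) ⟶ Y) (hg : ∀ i, RepWith @Etale (g i))
    (hs : ∀ y : Points Y, ∃ (i : ι) (v : ↥(V i).left), Points.ofPt (g i) v = y) :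
    IsFppfCover (fun i => (yon S).obj (V i)) g := by
  refine ⟨fun i => ⟨locP_of_repWith (P := @Flat)
      (fun k hk => by have : Etale k := hk; exact (inferInstance : Flat k))
      (repWith_mono (fun _ _ k hk => by
        have : Etale k := hk; exact (inferInstance : Flat k)) (hg i)),
    locP_of_repWith (P := @LocallyOfFinitePresentation)
      (fun k hk => by have : Etale k := hk; exact (inferInstance : LocallyOfFinitePresentation k))
      (repWith_mono (fun _ _ k hk => by
        have : Etale k := hk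
        exact (inferInstance : LocallyOfFinitePresentation k)) (hg i))⟩, fun y => ?_⟩
  obtain ⟨i, v, rfl⟩ := hs y
  exact ⟨i, Points.ofScheme (V i) v, (Points.ofPt_eq_map_ofScheme (g i) v).symm⟩

/-- Properness can be tested after base change to affine schemes. -/
theorem isProperMor_of_affine {X Y : Sp S} (hX : IsAlgSpace X) (hY : IsAlgSpace Y) (f : X ⟶ Y)
    (h : ∀ (Z : Over S), IsAffine Z.left → ∀ (g : (yon S).obj Z ⟶ Y) (P : Sp S) (fst : P ⟶ X)
      (snd : P ⟶ (yon S).obj Z), IsPullback fst snd f g → IsProperMor snd) : IsProperMor f := by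
  obtain ⟨ι, V, g, hVa, hge, hgs⟩ := exists_affine_etale_cover hY
  have hVsp : ∀ i, IsAlgSpace ((yon S).obj (V i)) := fun i => IsAlgSpace.yon_obj (V i)
  have hcov : IsFpqcCover (fun i => (yon S).obj (V i)) g :=
    isFpqcCover_of_isFppfCover hY _ hVsp g (isFppfCover_of_etale_charts V g hge hgs)
  have sq := fun i => IsPullback.of_hasPullback f (g i)
  have hP : ∀ i, IsAlgSpace (pullback f (g i)) := fun i =>
    isAlgSpace_of_isPullback hY.diag hX (hVsp i) (sq i)
  exact (Groth.Agent.S10536.result S _ g hY hVsp hcov f hX _ (fun i => pullback.snd f (g i))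
    (fun i => pullback.fst f (g i)) hP sq).2 fun i => h (V i) (hVa i) (g i) _ _ _ (sq i)

end Groth.Agent.H25.AS
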