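import Groth.Agent.H25.AlgSp104
import Groth.Agent.H25.AlgSp47

/-!
# Algebraic spaces toolkit, part 105: finite = affine + proper
-/

set_option linter.style.haveILetI false

universe u

open CategoryTheory CategoryTheory.Limits AlgebraicGeometry Opposite AlgSp MorphismProperty
open Topology

namespace Groth.Agent.H25.AS

variable {S : Scheme.{u}}

theorem isProperMor_yon_map_iff {U V : Over S} (i : U ⟶ V) :
    IsProperMor ((yon S).map i) ↔ IsProper i.left := by
  have hr := representable_yon_map i
  constructor
  · rintro ⟨h1, ⟨h2, h3⟩, h4⟩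
    have : IsSeparated i.left :=
      (repWith_yon_map_iff @IsSeparated i).1 ((isSeparatedMor_iff_repWith _ hr).1 h1)
    have : LocallyOfFiniteType i.left := locP_yon_map h2
    have : QuasiCompact i.left :=
      (repWith_yon_map_iff @QuasiCompact i).1 ((repWith_quasiCompact_iff _ hr).2 h3)
    have : UniversallyClosed i.left :=
      (repWith_yon_map_iff @UniversallyClosed i).1 ((repWith_universallyClosed_iff _ hr).2 h4)
    exact {}
  · intro h
    refine ⟨?_, ⟨?_, ?_⟩, ?_⟩
    · exact (isSeparatedMor_iff_repWith _ hr).2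
        ((repWith_yon_map_iff @IsSeparated i).2 inferInstance)
    · exact locP_of_repWith (P := @LocallyOfFiniteType)
        (fun g (_ : Etale g) => (inferInstance : LocallyOfFiniteType g))
        ((repWith_yon_map_iff @LocallyOfFiniteType i).2 inferInstance)
    · exact (repWith_quasiCompact_iff _ hr).1
        ((repWith_yon_map_iff @QuasiCompact i).2 inferInstance)
    · exact (repWith_universallyClosed_iff _ hr).1
        ((repWith_yon_map_iff @UniversallyClosed i).2 inferInstance)

theorem isFiniteMor_iff_affine_proper {X Y : Sp S} (hX : IsAlgSpace X) (hY : IsAlgSpace Y)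
    (f : X ⟶ Y) : IsFiniteMor f ↔ (IsAffineMor f ∧ IsProperMor f) := by
  constructor
  · intro h
    refine ⟨fun Z hZ g => ?_, ?_⟩
    · obtain ⟨W, i, fst, sq, hW, -⟩ := h hZ g
      exact ⟨W, i, fst, sq, hW⟩
    · refine isProperMor_of_affine hX hY f ?_
      intro Z hZ g P fst snd sq
      obtain ⟨W, i, fst', sq', hW, hfin⟩ := h hZ g
      have hp : IsProperMor ((yon S).map i) := (isProperMor_yon_map_iff i).2 inferInstance
      let e := sq.isoIsPullback _ _ sq'
      have he : e.hom ≫ (yon S).map i = snd := sq.isoIsPullback_hom_snd _ _ sq'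
      have sq2 : IsPullback e.hom snd ((yon S).map i) (𝟙 _) :=
        IsPullback.of_horiz_isIso ⟨by rw [he, Category.comp_id]⟩
      exact isProperMor_of_isPullback (IsAlgSpace.yon_obj W) (IsAlgSpace.yon_obj Z)
        (IsAlgSpace.yon_obj Z) sq2 hp
  · rintro ⟨ha, hp⟩ Z hZ g
    obtain ⟨W, i, fst, sq, hW⟩ := ha hZ g
    refine ⟨W, i, fst, sq, hW, ?_⟩
    have h1 : IsProperMor ((yon S).map i) :=
      isProperMor_of_isPullback hX hY (IsAlgSpace.yon_obj Z) sq hp
    have h2 : IsProper i.left := (isProperMor_yon_map_iff i).1 h1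
    haveI : IsAffine Z.left := hZ
    haveI : IsAffine W.left := hW
    have h3 : IsIntegralHom i.left := by
      rw [IsIntegralHom.iff_universallyClosed_and_isAffineHom]
      exact ⟨inferInstance, inferInstance⟩
    exact (IsFinite.iff_isIntegralHom_and_locallyOfFiniteType _).2 ⟨h3, inferInstance⟩

end Groth.Agent.H25.AS
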