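import Groth.Agent.H25.AlgSp105

/-!
# Algebraic spaces toolkit, part 106: specializations and finite morphisms
-/

set_option linter.style.haveILetI false

universe u

open CategoryTheory CategoryTheory.Limits AlgebraicGeometry Opposite AlgSp MorphismProperty
open Topology

namespace Groth.Agent.H25.AS

theorem eq_of_specializes_of_lqf {W V : Scheme.{u}} (j : W ⟶ V) [LocallyQuasiFinite j] {w w' : W}
    (h : w' ⤳ w) (e : j w = j w') : w = w' := by
  have hd := j.isDiscrete_preimage_singleton (j w)
  rw [isDiscrete_iff_forall_mem_exists_isOpen] at hd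
  obtain ⟨u, hu, hu'⟩ := hd w rfl
  have hw : w ∈ u := (hu'.ge rfl).1
  have hw' : w' ∈ u ∩ j ⁻¹' {j w} := ⟨h.mem_open hu hw, e.symm⟩
  rw [hu'] at hw'
  exact hw'.symm

variable {S : Scheme.{u}}

theorem isUnivClosedMor_of_isIntegralMor {X Y : Sp S} (f : X ⟶ Y) (h : IsIntegralMor f) :
    IsUnivClosedMor f := by
  apply univSp_of_affine descFam_isClosedMor
  intro Z hZ g P fst snd sq
  obtain ⟨W, i, fst', sq', hW, hint⟩ := h hZ g
  have he : snd = (sq.isoIsPullback _ _ sq').hom ≫ (yon S).map i :=
    (sq.isoIsPullback_hom_snd _ _ sq').symm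
  have h1 : IsClosedMap (Points.map ((yon S).map i)) :=
    isClosedMap_map_of_repWith _
      ((repWith_yon_map_iff _ _).2 (inferInstance : UniversallyClosed i.left))
  let e := sq.isoIsPullback _ _ sq'
  let hm : Points P ≃ₜ Points ((yon S).obj W) :=
    { toFun := Points.map e.hom
      invFun := Points.map e.inv
      left_inv := fun x => by rw [← Points.map_comp, e.hom_inv_id, Points.map_id]
      right_inv := fun x => by rw [← Points.map_comp, e.inv_hom_id, Points.map_id]
      continuous_toFun := Points.continuous_map _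
      continuous_invFun := Points.continuous_map _ }
  change IsClosedMap (Points.map snd)
  have : Points.map snd = Points.map ((yon S).map i) ∘ hm := by
    funext x
    rw [he, Points.map_comp]
    rfl
  rw [this]
  exact h1.comp hm.isClosedMap

theorem isClosedMap_of_isUnivClosedMor {X Y : Sp S} (hY : IsAlgSpace Y) (f : X ⟶ Y)
    (h : IsUnivClosedMor f) : IsClosedMap (Points.map f) :=
  h hY (𝟙 Y) (𝟙 X) f (IsPullback.id_horiz f)

theorem isIntegralMor_of_isFiniteMor {X Y : Sp S} (f : X ⟶ Y) (h : IsFiniteMor f) :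
    IsIntegralMor f := by
  intro Z hZ g
  obtain ⟨W, i, fst, sq, hW, hfin⟩ := h hZ g
  exact ⟨W, i, fst, sq, hW, inferInstance⟩

/-- The fibres of a finite morphism between decent spaces have no nontrivial specializations. -/
theorem eq_of_specializes_of_isFiniteMor {Y X : Sp S} (hXa : IsAlgSpace X)
    (hY : IsDecent Y) (hX : IsDecent X) (f : Y ⟶ X) (hf : IsFiniteMor f) {a c : Points Y}
    (h : a ⤳ c) (e : Points.map f a = Points.map f c) : a = c := by
  obtain ⟨ι, V, g, hVa, hge, hcov⟩ := exists_affine_etale_cover hXa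
  obtain ⟨i, v, hv⟩ := hcov (Points.map f c)
  obtain ⟨W, j, fst, sq, hWa, hj⟩ := hf (hVa i) (g i)
  have hfst : RepWith @Etale fst := repWith_fst_of_isPullback sq (hge i)
  obtain ⟨wc, hwc1, hwc2⟩ := exists_point_of_isPullback sq v c hv
  obtain ⟨pa, hpa, -, hqa⟩ := hY a
  obtain ⟨wa, hwa1, hwa2⟩ := exists_generization_of_qc_point h pa hpa hqa fst hfst wc hwc2
  have h1 : j.left wa ⤳ j.left wc := hwa1.map j.left.continuous
  have h2 : Points.ofPt (g i) (j.left wa) = Points.map f c := by
    rw [← ofPt_map_comp, ← sq.w, ← Points.map_ofPt, hwa2, e]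
  obtain ⟨px, hpx, -, hqx⟩ := hX (Points.map f c)
  have h3 : j.left wc = j.left wa :=
    eq_of_specializes_of_finite_fibre (Points.map f c)
      (fun V b hV hb => hpx ▸ finite_fibre_of_qc_point px hqx hV b hb) (g i) (hge i)
      (j.left wc) (j.left wa) (by rw [hwc1]; exact hv) h2 h1
  have h4 : wc = wa := eq_of_specializes_of_lqf j.left hwa1 h3
  rw [← hwa2, ← hwc2, h4]

end Groth.Agent.H25.AS
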