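import Groth.Agent.H25.AlgSp73

/-!
# Algebraic spaces toolkit, part 74: reduced spaces mapping to a point factor through it
-/

universe u

open CategoryTheory CategoryTheory.Limits AlgebraicGeometry Opposite AlgSp MorphismProperty
open scoped Topology

namespace Groth.Agent.H25.AS

variable {S : Scheme.{u}}

/-- A morphism from a reduced scheme with one-point image factors through the residue field. -/
theorem exists_lift_residueField_of_isReduced {T U : Scheme.{u}} [IsReduced T] (ψ : T ⟶ U)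
    (u : U) (h : ∀ t : T, ψ t = u) :
    ∃ g : T ⟶ Spec (U.residueField u), g ≫ U.fromSpecResidueField u = ψ := by
  have hpre : IsPreimmersion (pullback.fst ψ (U.fromSpecResidueField u)) := inferInstance
  have hs : Surjective (pullback.fst ψ (U.fromSpecResidueField u)) := by
    refine ⟨fun t => ?_⟩
    obtain ⟨z, hz, -⟩ := Scheme.Pullback.exists_preimage_pullback (f := ψ)
      (g := U.fromSpecResidueField u) t (IsLocalRing.closedPoint (U.residueField u))
      ((h t).trans (Scheme.fromSpecResidueField_apply u _).symm)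
    exact ⟨z, hz⟩
  have hci : IsClosedImmersion (pullback.fst ψ (U.fromSpecResidueField u)) :=
    .of_isPreimmersion _ (by rw [hs.1.range_eq]; exact isClosed_univ)
  have hiso : IsIso (pullback.fst ψ (U.fromSpecResidueField u)) :=
    isIso_of_isClosedImmersion_of_surjective _
  refine ⟨inv (pullback.fst ψ (U.fromSpecResidueField u)) ≫ pullback.snd _ _, ?_⟩
  rw [Category.assoc, ← pullback.condition, IsIso.inv_hom_id_assoc]

/-- A point of an étale chart over a point represented by a quasi-compact morphism from the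
spectrum of a field is isolated in its fibre. -/
theorem exists_open_isolating_fibre_point {X : Sp S} (p : FieldPt X)
    (hq : RepWith @QuasiCompact p.toHom) {U : Over S} (b : (yon S).obj U ⟶ X)
    (hb : RepWith @Etale b) (u : ↥U.left) (hu : Points.ofPt b u = Points.mk p) :
    ∃ N : U.left.Opens, u ∈ N ∧ ∀ u' ∈ N, Points.ofPt b u' = Points.mk p → u' = u := by
  obtain ⟨U1, hU1, huU1, -⟩ := exists_isAffineOpen_mem_and_subset (X := U.left) (x := u)
    (U := ⊤) trivial
  have hb1 : RepWith @Etale ((yon S).map (openIncl U U1) ≫ b) :=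
    repWith_etale_comp (repWith_etale_openIncl U U1) hb
  have hfin : (Points.ofPt ((yon S).map (openIncl U U1) ≫ b) ⁻¹' {Points.mk p}).Finite :=
    finite_fibre_of_qc_point (V := openOver U U1) p hq hU1 _ hb1
  have hval : ∀ w : ↥(openOver U U1).left,
      Points.ofPt ((yon S).map (openIncl U U1) ≫ b) w = Points.ofPt b (U1.ι w) :=
    fun w => ofPt_map_comp (openIncl U U1) b w
  let F : Set ↥U.left :=
    ((fun w : ↥(openOver U U1).left => U1.ι w) ''
      (Points.ofPt ((yon S).map (openIncl U U1) ≫ b) ⁻¹' {Points.mk p})) \ {u}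
  have hFfin : F.Finite := (hfin.image _).subset Set.diff_subset
  have hF : ∀ u' ∈ F, Points.ofPt b u' = Points.mk p ∧ u' ≠ u := by
    rintro u' ⟨⟨w, hw, rfl⟩, hne⟩
    exact ⟨(hval w).symm.trans hw, hne⟩
  have hucl : u ∉ closure F := by
    have h1 : F = ⋃ u' ∈ F, ({u'} : Set ↥U.left) := (Set.biUnion_of_singleton F).symm
    rw [h1, hFfin.closure_biUnion]
    simp only [Set.mem_iUnion, not_exists]
    intro u' hu' hmem
    have hs : u' ⤳ u := specializes_iff_mem_closure.2 hmem
    obtain ⟨h2, h3⟩ := hF u' hu'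
    exact h3 (eq_of_specializes_of_finite_fibre (Points.mk p)
      (fun V b' hV hb' => finite_fibre_of_qc_point p hq hV b' hb') b hb u u' hu h2 hs).symm
  refine ⟨U1 ⊓ ⟨(closure F)ᶜ, isClosed_closure.isOpen_compl⟩, ⟨huU1, hucl⟩, ?_⟩
  rintro u' ⟨hu'1, hu'2⟩ hu'
  by_contra hne
  apply hu'2
  apply subset_closure
  refine ⟨⟨⟨u', hu'1⟩, ?_, rfl⟩, hne⟩
  exact (hval ⟨u', hu'1⟩).trans hu'

theorem mono_fst_of_isPullback_gen {C : Type*} [Category C] {F G H Q : C} {f : F ⟶ G}
    {g : H ⟶ G} {fst : Q ⟶ F} {snd : Q ⟶ H} (sq : IsPullback fst snd f g) [Mono g] :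
    Mono fst := by
  refine ⟨fun a b hab => sq.hom_ext hab ?_⟩
  rw [← cancel_mono g, Category.assoc, Category.assoc, ← sq.w, ← Category.assoc, hab,
    Category.assoc]

/-- A reduced scheme mapping into the fibre of an étale chart over a point represented by a
quasi-compact monomorphism from the spectrum of a field factors through that point. -/
theorem exists_factor_of_reduced_scheme {X : Sp S} (p : FieldPt X) (hm : Mono p.toHom)
    (hq : RepWith @QuasiCompact p.toHom) {T U : Over S} (hT : IsReduced T.left)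
    (b : (yon S).obj U ⟶ X) (hb : RepWith @Etale b) (t2 : T ⟶ U)
    (hpt : ∀ t : ↥T.left, Points.ofPt b (t2.left t) = Points.mk p) :
    ∃ G : (yon S).obj T ⟶ (yon S).obj p.pt, G ≫ p.toHom = (yon S).map t2 ≫ b := by
  have sqR := hq.rep.isPullback' ((yon S).map t2 ≫ b)
  have hmono : Mono ((yon S).map (hq.rep.snd ((yon S).map t2 ≫ b))) :=
    mono_snd_of_isPullback sqR
  have hmj : Mono (hq.rep.snd ((yon S).map t2 ≫ b)) := (yon S).mono_of_mono_map hmono
  have hmjl : Mono (hq.rep.snd ((yon S).map t2 ≫ b)).left := inferInstance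
  have hiso : IsIso (hq.rep.snd ((yon S).map t2 ≫ b)).left := by
    apply IsZariskiLocalAtTarget.of_forall_exists_morphismRestrict
      (P := MorphismProperty.isomorphisms Scheme.{u})
    intro t
    obtain ⟨N, huN, hN⟩ := exists_open_isolating_fibre_point p hq b hb (t2.left t) (hpt t)
    refine ⟨t2.left ⁻¹ᵁ N, huN, ?_⟩
    have hψ : ∀ t' : ↥((t2.left ⁻¹ᵁ N : T.left.Opens) : Scheme.{u}),
        ((t2.left ⁻¹ᵁ N).ι ≫ t2.left) t' = t2.left t := by
      intro t'
      rw [Scheme.Hom.comp_apply]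
      exact hN _ t'.2 (hpt _)
    obtain ⟨g, hg⟩ := exists_lift_residueField_of_isReduced ((t2.left ⁻¹ᵁ N).ι ≫ t2.left)
      (t2.left t) hψ
    obtain ⟨e, -, he⟩ := exists_factor_through_mono_point p hm b hb (t2.left t) (hpt t)
    let go : openOver T (t2.left ⁻¹ᵁ N) ⟶
        Over.mk (U.left.fromSpecResidueField (t2.left t) ≫ U.hom) :=
      Over.homMk g (by
        change g ≫ U.left.fromSpecResidueField (t2.left t) ≫ U.hom = (t2.left ⁻¹ᵁ N).ι ≫ T.hom
        rw [← Category.assoc, hg, Category.assoc, Over.w t2])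
    have hgo : go ≫ resPt U (t2.left t) = openIncl T (t2.left ⁻¹ᵁ N) ≫ t2 := by
      apply Over.OverMorphism.ext
      exact hg
    have hw : (yon S).map (go ≫ e) ≫ p.toHom =
        (yon S).map (openIncl T (t2.left ⁻¹ᵁ N)) ≫ (yon S).map t2 ≫ b := by
      rw [Functor.map_comp, Category.assoc, he, ← Category.assoc, ← Functor.map_comp, hgo,
        Functor.map_comp, Category.assoc]
    obtain ⟨σ, hσ⟩ := (yon S).map_surjective
      (sqR.lift ((yon S).map (go ≫ e)) ((yon S).map (openIncl T (t2.left ⁻¹ᵁ N))) hw)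
    have hσj : σ ≫ hq.rep.snd ((yon S).map t2 ≫ b) = openIncl T (t2.left ⁻¹ᵁ N) :=
      (yon S).map_injective (by rw [Functor.map_comp, hσ, sqR.lift_snd])
    have hσl : σ.left ≫ (hq.rep.snd ((yon S).map t2 ≫ b)).left = (t2.left ⁻¹ᵁ N).ι :=
      congrArg (fun m => m.left) hσj
    have sqM := isPullback_morphismRestrict (hq.rep.snd ((yon S).map t2 ≫ b)).left
      (t2.left ⁻¹ᵁ N)
    have hmr : Mono ((hq.rep.snd ((yon S).map t2 ≫ b)).left ∣_ (t2.left ⁻¹ᵁ N)) :=
      mono_fst_of_isPullback_gen sqM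
    have hse : IsSplitEpi ((hq.rep.snd ((yon S).map t2 ≫ b)).left ∣_ (t2.left ⁻¹ᵁ N)) :=
      ⟨⟨sqM.lift (𝟙 _) σ.left (by rw [hσl, Category.id_comp]), sqM.lift_fst _ _ _⟩⟩
    exact isIso_of_mono_of_isSplitEpi _
  have hiso' : IsIso ((Over.forget S).map (hq.rep.snd ((yon S).map t2 ≫ b))) := hiso
  have hisoj : IsIso (hq.rep.snd ((yon S).map t2 ≫ b)) :=
    isIso_of_reflects_iso _ (Over.forget S)
  have : IsIso ((yon S).map (hq.rep.snd ((yon S).map t2 ≫ b))) := inferInstance
  refine ⟨inv ((yon S).map (hq.rep.snd ((yon S).map t2 ≫ b))) ≫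
    (yon S).map (hq.rep.fst' ((yon S).map t2 ≫ b)), ?_⟩
  rw [Category.assoc, sqR.w, IsIso.inv_hom_id_assoc]

/-- A reduced algebraic space mapping to a point represented by a quasi-compact monomorphism
from the spectrum of a field factors through that point. -/
theorem exists_factor_of_reduced {Y X : Sp S} (hYa : IsAlgSpace Y) (hXa : IsAlgSpace X)
    (f : Y ⟶ X) (p : FieldPt X) (hm : Mono p.toHom) (hq : RepWith @QuasiCompact p.toHom)
    (hY : IsReducedSp Y) (hf : ∀ y : Points Y, Points.map f y = Points.mk p) :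
    ∃ g : Y ⟶ (yon S).obj p.pt, g ≫ p.toHom = f := by
  obtain ⟨W, a, hae, has⟩ := hYa.atlas
  obtain ⟨U, b, hbe, hbs⟩ := hXa.atlas
  have sqT := hbe.rep.isPullback' (a ≫ f)
  have het1 : Etale (hbe.rep.snd (a ≫ f)).left := hbe.property_snd (a ≫ f)
  have hst1 : Surjective (hbe.rep.snd (a ≫ f)).left := hbs.property _ _ _ sqT
  have hce : RepWith @Etale ((yon S).map (hbe.rep.snd (a ≫ f)) ≫ a) :=
    repWith_etale_comp ((repWith_yon_map_iff _ _).2 het1) hae
  have hcs : RepWith @Surjective ((yon S).map (hbe.rep.snd (a ≫ f)) ≫ a) :=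
    repWith_surjective_comp ((repWith_yon_map_iff _ _).2 hst1) has
  have hred : IsReduced (hbe.rep.pullback (a ≫ f)).left := isReduced_of_chart hY _ hce
  have hpt : ∀ t, Points.ofPt b ((hbe.rep.fst' (a ≫ f)).left t) = Points.mk p := by
    intro t
    rw [← ofPt_map_comp, sqT.w, ← Category.assoc, ← Points.map_ofPt]
    exact hf _
  obtain ⟨G, hG⟩ := exists_factor_of_reduced_scheme p hm hq hred b hbe
    (hbe.rep.fst' (a ≫ f)) hpt
  have hepi : Epi ((yon S).map (hbe.rep.snd (a ≫ f)) ≫ a) := epi_of_etale _ hce hcs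
  have hmpr : Mono (pullback.fst f p.toHom) := inferInstance
  have hfac : pullback.lift ((yon S).map (hbe.rep.snd (a ≫ f)) ≫ a) G
      (by rw [Category.assoc, hG, sqT.w]) ≫ pullback.fst f p.toHom =
      (yon S).map (hbe.rep.snd (a ≫ f)) ≫ a := pullback.lift_fst _ _ _
  have hepi' : Epi (pullback.fst f p.toHom) := epi_of_epi_fac hfac
  have hiso : IsIso (pullback.fst f p.toHom) := isIso_of_mono_of_epi _
  refine ⟨inv (pullback.fst f p.toHom) ≫ pullback.snd f p.toHom, ?_⟩
  rw [Category.assoc, ← pullback.condition, IsIso.inv_hom_id_assoc]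

end Groth.Agent.H25.AS
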