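import Groth.Agent.H25.AlgSp106
import Groth.Agent.H25.AlgSp74

/-!
# Algebraic spaces toolkit, part 107: reduced spaces and closed subspaces
-/

set_option linter.style.haveILetI false

universe u

open CategoryTheory CategoryTheory.Limits AlgebraicGeometry Opposite AlgSp MorphismProperty
open Topology

namespace Groth.Agent.H25.AS

variable {S : Scheme.{u}}

/-- A thickening of a reduced algebraic space is an isomorphism. -/
theorem isIso_of_thick_of_reduced {P Y : Sp S} (hYa : IsAlgSpace Y) (hY : IsReducedSp Y)
    (t : P ⟶ Y) (ht : IsThickMor t) : IsIso t := by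
  obtain ⟨W, a, hae, has⟩ := hYa.atlas
  have hred : IsReduced W.left := isReduced_of_chart hY a hae
  have sq := ht.rep.isPullback a
  have hth : thick (ht.rep.snd a).left := ht.property_snd a
  have h1 : IsClosedImmersion (ht.rep.snd a).left := hth.1
  have h2 : Surjective (ht.rep.snd a).left := hth.2
  have hiso : IsIso (ht.rep.snd a).left := isIso_of_isClosedImmersion_of_surjective _
  have hiso' : IsIso ((Over.forget S).map (ht.rep.snd a)) := hiso
  have hisoj : IsIso (ht.rep.snd a) := isIso_of_reflects_iso _ (Over.forget S)
  have : IsIso ((yon S).map (ht.rep.snd a)) := inferInstance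
  have hepi : Epi a := epi_of_etale _ hae has
  have hfac : (inv ((yon S).map (ht.rep.snd a)) ≫ ht.rep.fst a) ≫ t = a := by
    rw [Category.assoc, sq.w, IsIso.inv_hom_id_assoc]
  have hepi' : Epi t := epi_of_epi_fac hfac
  have hmono : Mono t := thick_mono t ht
  exact isIso_of_mono_of_epi t

/-- A morphism from a reduced algebraic space factors through a closed subspace as soon as it
does so on points. -/
theorem exists_factor_closed_of_reduced {X Y Z : Sp S} (hYa : IsAlgSpace Y)
    (hY : IsReducedSp Y) (i : Z ⟶ X) (hi : RepWith @IsClosedImmersion i) (f : Y ⟶ X)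
    (h : Set.range (Points.map f) ⊆ Set.range (Points.map i)) : ∃ g : Y ⟶ Z, g ≫ i = f := by
  have sq := IsPullback.of_hasPullback i f
  have ht : IsThickMor (pullback.snd i f) := isThickMor_snd_of_range_eq sq hi h
  have : IsIso (pullback.snd i f) := isIso_of_thick_of_reduced hYa hY _ ht
  refine ⟨inv (pullback.snd i f) ≫ pullback.fst i f, ?_⟩
  rw [Category.assoc, pullback.condition, IsIso.inv_hom_id_assoc]

end Groth.Agent.H25.AS
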