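import Groth.Agent.H25.AlgSp107

/-!
# Algebraic spaces toolkit, part 108: immersions are embeddings with locally closed image
-/

set_option linter.style.haveILetI false

universe u

open CategoryTheory CategoryTheory.Limits AlgebraicGeometry Opposite AlgSp MorphismProperty
open Topology

namespace Groth.Agent.H25.AS

variable {S : Scheme.{u}}

theorem isEmbedding_of_repWith_isImmersion {Z X : Sp S} (hXa : IsAlgSpace X) (i : Z ⟶ X)
    (hi : RepWith @IsImmersion i) :
    IsEmbedding (Points.map i) ∧ IsLocallyClosed (Set.range (Points.map i)) := by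
  obtain ⟨U, a, hae, has⟩ := hXa.atlas
  have sq := hi.rep.isPullback a
  have him : IsImmersion (hi.rep.snd a).left := hi.property_snd a
  set r := hi.rep.snd a with hr
  set c := hi.rep.fst a with hc
  have hce : RepWith @Etale c := repWith_fst_of_isPullback sq hae
  have hcs : RepWith @Surjective c := repWith_fst_of_isPullback sq has
  have hmono : Mono i := mono_of_repWith @IsImmersion (fun g hg => by
    have : IsImmersion g := hg
    exact (inferInstance : Mono g)) i hi
  have hcomm : ∀ w, Points.map i (Points.ofPt c w) = Points.ofPt a (r.left w) := by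
    intro w
    rw [Points.map_ofPt, sq.w, ofPt_map_comp]
  have hlift : ∀ (u : ↥U.left) (z : Points Z), Points.ofPt a u = Points.map i z →
      ∃ w, r.left w = u ∧ Points.ofPt c w = z := fun u z e => exists_point_of_isPullback sq u z e
  refine ⟨⟨⟨?_⟩, injective_map_of_mono i⟩, ?_⟩
  · -- inducing
    refine TopologicalSpace.ext_iff.2 fun A => ?_
    rw [isOpen_induced_iff]
    constructor
    · intro hA
      have hAU : IsOpen (Points.ofPt c ⁻¹' A) := (Points.continuous_ofPt c).isOpen_preimage A hA
      obtain ⟨BU, hBU, hBA⟩ := r.left.isEmbedding.isInducing.isOpen_iff.1 hAU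
      refine ⟨Points.ofPt a '' BU, isOpenMap_ofPt a hae BU hBU, ?_⟩
      ext z
      constructor
      · rintro ⟨u, hu, e⟩
        obtain ⟨w, hw1, hw2⟩ := hlift u z e
        have : w ∈ Points.ofPt c ⁻¹' A := by
          rw [← hBA]; change r.left w ∈ BU; rw [hw1]; exact hu
        rw [← hw2]; exact this
      · intro hz
        obtain ⟨w, rfl⟩ := ofPt_surjective c hcs z
        have hw : w ∈ r.left ⁻¹' BU := by rw [hBA]; exact hz
        exact ⟨r.left w, hw, (hcomm w).symm⟩
    · rintro ⟨B, hB, rfl⟩
      exact (Points.continuous_map i).isOpen_preimage B hB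
  · -- locally closed range
    have hpre : Points.ofPt a ⁻¹' Set.range (Points.map i) = Set.range r.left := by
      ext u
      constructor
      · rintro ⟨z, hz⟩
        obtain ⟨w, hw, -⟩ := hlift u z hz.symm
        exact ⟨w, hw⟩
      · rintro ⟨w, rfl⟩
        exact ⟨Points.ofPt c w, hcomm w⟩
    have hlc : IsLocallyClosed (Points.ofPt a ⁻¹' Set.range (Points.map i)) := by
      rw [hpre]; exact IsImmersion.isLocallyClosed_range (f := r.left)
    rw [isLocallyClosed_iff_isOpen_coborder] at hlc ⊢
    rw [coborder_preimage (isOpenMap_ofPt a hae) (Points.continuous_ofPt a)] at hlc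
    exact ((isOpenMap_ofPt a hae).isQuotientMap (Points.continuous_ofPt a)
      (ofPt_surjective a has)).isOpen_preimage.1 hlc

end Groth.Agent.H25.AS
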