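import Groth.Agent.H25.AlgSp108

/-!
# Algebraic spaces toolkit, part 109: cartesian squares descend along étale surjections
-/

set_option linter.style.haveILetI false

universe u

open CategoryTheory CategoryTheory.Limits AlgebraicGeometry Opposite AlgSp MorphismProperty
open Topology

namespace Groth.Agent.H25.AS

variable {S : Scheme.{u}}

theorem epi_of_isEtaleMor_of_isSurjectiveMor {B D : Sp S} (hB : IsAlgSpace B) (bd : B ⟶ D)
    (het : IsEtaleMor bd) (hs : IsSurjectiveMor bd) : Epi bd := by
  obtain ⟨U, a, hae, has⟩ := hB.atlas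
  have h1 : RepWith @Etale (a ≫ bd) := het a hae
  have h2 : RepWith @Surjective (a ≫ bd) := by
    refine repWith_surjective_of_isSurjectiveMor _ h1.rep ?_
    intro y
    obtain ⟨x, rfl⟩ := hs y
    obtain ⟨u, rfl⟩ := isSurjectiveMor_of_repWith a has x
    exact ⟨u, Points.map_comp a bd u⟩
  have : Epi (a ≫ bd) := epi_of_etale _ h1 h2
  exact epi_of_epi a bd

theorem isEtaleMor_of_isPullback {X Y Y' X' : Sp S} (hX : IsAlgSpace X) (hY : IsAlgSpace Y)
    (hY' : IsAlgSpace Y') {f : X ⟶ Y} {g : Y' ⟶ Y} {fst : X' ⟶ X} {f' : X' ⟶ Y'}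
    (sq : IsPullback fst f' f g) (hf : IsEtaleMor f) : IsEtaleMor f' :=
  (isEtaleMor_iff_locP hY' f').2
    (locP_of_isPullback etLoc_etale hX hY hY' sq ((isEtaleMor_iff_locP hY f).1 hf))

/-- If the left square and the outer rectangle are cartesian and `B ⟶ D` is étale surjective,
then the right square is cartesian. -/
theorem isPullback_of_left_of_outer {A B C D E F : Sp S} (hA : IsAlgSpace A) (hB : IsAlgSpace B)
    (hD : IsAlgSpace D) (hE : IsAlgSpace E) (hF : IsAlgSpace F)
    (ac : A ⟶ C) (ab : A ⟶ B) (cd : C ⟶ D) (bd : B ⟶ D)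
    (ce : C ⟶ E) (df : D ⟶ F) (ef : E ⟶ F) (hl : IsPullback ac ab cd bd)
    (hcomm : cd ≫ df = ce ≫ ef) (hout : IsPullback (ac ≫ ce) ab ef (bd ≫ df))
    (hsurj : IsSurjectiveMor bd) (het : IsEtaleMor bd) : IsPullback ce cd ef df := by
  have hepibd : Epi bd := epi_of_isEtaleMor_of_isSurjectiveMor hB bd het hsurj
  let k : C ⟶ pullback ef df := pullback.lift ce cd hcomm.symm
  have hk1 : k ≫ pullback.fst ef df = ce := pullback.lift_fst _ _ _
  have hk2 : k ≫ pullback.snd ef df = cd := pullback.lift_snd _ _ _
  have hP : IsAlgSpace (pullback ef df) :=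
    isAlgSpace_of_isPullback hF.diag hE hD (IsPullback.of_hasPullback ef df)
  -- mono
  have hmono : Mono k := by
    refine mono_of_yon k fun T a b hab => ?_
    have h1 : a ≫ ce = b ≫ ce := by
      rw [← hk1, ← Category.assoc, hab, Category.assoc]
    have h2 : a ≫ cd = b ≫ cd := by
      rw [← hk2, ← Category.assoc, hab, Category.assoc]
    obtain ⟨W, u, w, hue, hus, hw⟩ := exists_chart_over hB hD.diag bd (a ≫ cd)
    have sqQ := IsPullback.of_hasPullback bd (a ≫ cd)
    have hsndE : IsEtaleMor (pullback.snd bd (a ≫ cd)) :=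
      isEtaleMor_of_isPullback hB hD (IsAlgSpace.yon_obj T) sqQ het
    have hsndS : IsSurjectiveMor (pullback.snd bd (a ≫ cd)) :=
      isSurjectiveMor_of_isPullback sqQ hsurj
    have hwe : RepWith @Etale ((yon S).map w) := by rw [hw]; exact hsndE u hue
    have hws : RepWith @Surjective ((yon S).map w) := by
      refine repWith_surjective_of_isSurjectiveMor _ (representable_yon_map w) ?_
      intro y
      obtain ⟨x, rfl⟩ := hsndS y
      obtain ⟨z, rfl⟩ := isSurjectiveMor_of_repWith u hus x
      exact ⟨z, by rw [hw]; exact Points.map_comp _ _ z⟩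
    have hepi : Epi ((yon S).map w) := epi_of_etale _ hwe hws
    let b' := u ≫ pullback.fst bd (a ≫ cd)
    have hb' : b' ≫ bd = (yon S).map w ≫ a ≫ cd := by
      rw [Category.assoc, pullback.condition, ← Category.assoc, ← hw]
    let α := hl.lift ((yon S).map w ≫ a) b' (by rw [Category.assoc, hb'])
    let β := hl.lift ((yon S).map w ≫ b) b' (by rw [Category.assoc, ← h2, hb'])
    have hαβ : α = β := by
      apply hout.hom_ext
      · rw [← Category.assoc, ← Category.assoc, hl.lift_fst, hl.lift_fst, Category.assoc,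
          Category.assoc, h1]
      · rw [hl.lift_snd, hl.lift_snd]
    have h3 : (yon S).map w ≫ a = (yon S).map w ≫ b := by
      rw [← hl.lift_fst ((yon S).map w ≫ a) b' (by rw [Category.assoc, hb']),
        ← hl.lift_fst ((yon S).map w ≫ b) b' (by rw [Category.assoc, ← h2, hb'])]
      exact congrArg (· ≫ ac) hαβ
    exact (cancel_epi _).1 h3
  -- epi
  have hepi : Epi k := by
    have sqQ := IsPullback.of_hasPullback bd (pullback.snd ef df)
    have hπE : IsEtaleMor (pullback.snd bd (pullback.snd ef df)) :=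
      isEtaleMor_of_isPullback hB hD hP sqQ het
    have hπS : IsSurjectiveMor (pullback.snd bd (pullback.snd ef df)) :=
      isSurjectiveMor_of_isPullback sqQ hsurj
    have hQ : IsAlgSpace (pullback bd (pullback.snd ef df)) :=
      isAlgSpace_of_isPullback hD.diag hB hP sqQ
    have hπepi : Epi (pullback.snd bd (pullback.snd ef df)) :=
      epi_of_isEtaleMor_of_isSurjectiveMor hQ _ hπE hπS
    let l := hout.lift (pullback.snd bd (pullback.snd ef df) ≫ pullback.fst ef df)
      (pullback.fst bd (pullback.snd ef df)) (by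
        rw [Category.assoc, pullback.condition, ← Category.assoc, ← pullback.condition,
          Category.assoc])
    have hl1 : l ≫ ac ≫ ce = pullback.snd bd (pullback.snd ef df) ≫ pullback.fst ef df :=
      hout.lift_fst _ _ _
    have hl2 : l ≫ ab = pullback.fst bd (pullback.snd ef df) := hout.lift_snd _ _ _
    have hfac : (l ≫ ac) ≫ k = pullback.snd bd (pullback.snd ef df) := by
      apply pullback.hom_ext
      · rw [Category.assoc, hk1, Category.assoc, hl1]
      · rw [Category.assoc, hk2, Category.assoc, hl.w, ← Category.assoc, hl2, pullback.condition]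
    exact epi_of_epi_fac hfac
  have hiso : IsIso k := isIso_of_mono_of_epi k
  exact IsPullback.of_iso_pullback ⟨hcomm.symm⟩ (asIso k) hk1 hk2

end Groth.Agent.H25.AS
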