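import Groth.Agent.H25.AlgSp10
import Mathlib.AlgebraicGeometry.Morphisms.Descent

/-!
# Algebraic spaces toolkit, part 11: refinement of charts
-/

universe u

open CategoryTheory CategoryTheory.Limits AlgebraicGeometry Opposite AlgSp

namespace Groth.Agent.H25.AS

variable {S : Scheme.{u}}

theorem repWith_surjective_comp {F G H : Sp S} {f : F ⟶ G} {g : G ⟶ H}
    (hf : RepWith @Surjective f) (hg : RepWith @Surjective g) : RepWith @Surjective (f ≫ g) :=
  (RepWith (S := S) @Surjective).comp_mem _ _ hf hg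

/-- Refinement of a chart of the source along a chart of the target. -/
theorem exists_chart_refinement_of_chart {F G : Sp S} {U₀ : Over S} (p₀ : (yon S).obj U₀ ⟶ F)
    (a : F ⟶ G) {V : Over S}
    (q : (yon S).obj V ⟶ G) (hqe : RepWith @Etale q) (hqs : RepWith @Surjective q) :
    ∃ (U : Over S) (r : U ⟶ U₀) (α : U ⟶ V), Etale r.left ∧ Surjective r.left ∧
      ((yon S).map r ≫ p₀) ≫ a = (yon S).map α ≫ q := by
  have sq := hqe.rep.isPullback (p₀ ≫ a)
  obtain ⟨α, hα⟩ := (yon S).map_surjective (hqe.rep.fst (p₀ ≫ a))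
  refine ⟨_, hqe.rep.snd (p₀ ≫ a), α, hqe.property_snd _, hqs.property _ _ _ sq, ?_⟩
  rw [hα, Category.assoc, sq.w]

/-- Refinement of charts: an atlas of the source compatible with a given atlas of the target. -/
theorem exists_chart_refinement {F G : Sp S} (hF : IsAlgSpace F) (a : F ⟶ G) {V : Over S}
    (q : (yon S).obj V ⟶ G) (hqe : RepWith @Etale q) (hqs : RepWith @Surjective q) :
    ∃ (U : Over S) (p : (yon S).obj U ⟶ F) (α : U ⟶ V),
      RepWith @Etale p ∧ RepWith @Surjective p ∧ p ≫ a = (yon S).map α ≫ q := by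
  obtain ⟨U₀, p₀, h1, h2⟩ := hF.atlas
  obtain ⟨U, r, α, hr1, hr2, hr3⟩ := exists_chart_refinement_of_chart p₀ a q hqe hqs
  exact ⟨U, (yon S).map r ≫ p₀, α, repWith_etale_comp ((repWith_yon_map_iff _ _).2 hr1) h1,
    repWith_surjective_comp ((repWith_yon_map_iff _ _).2 hr2) h2, hr3⟩

/-- Over a quasi-compact scheme, a surjective etale map can be refined by one from an affine
scheme. -/
theorem exists_affine_etale_surjective {X Y : Scheme.{u}} (s : X ⟶ Y) [Etale s] [Surjective s]
    [CompactSpace ↥Y] :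
    ∃ (A : Scheme.{u}) (t : A ⟶ X), IsAffine A ∧ Etale t ∧ Surjective (t ≫ s) := by
  obtain ⟨W : X.Opens, hW, e⟩ := s.isOpenMap.exists_opens_image_eq_of_prespectralSpace
    s.continuous (U := Set.univ) (by
      intro y _
      exact s.surjective y) isOpen_univ isCompact_univ
  have : CompactSpace ↥(W : Scheme.{u}) := isCompact_iff_compactSpace.mp hW
  obtain ⟨A, t, ht1, ht2, ht3⟩ :=
    Scheme.exists_hom_isAffine_of_isZariskiLocalAtSource @Etale (W : Scheme.{u})
  refine ⟨A, t ≫ W.ι, ht3, inferInstance, ⟨fun y => ?_⟩⟩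
  have hy : y ∈ s '' (W : Set ↥X) := by rw [e]; trivial
  obtain ⟨x, hx, rfl⟩ := hy
  obtain ⟨a, ha⟩ := t.surjective ⟨x, hx⟩
  refine ⟨a, ?_⟩
  simp only [Scheme.Hom.comp_apply, ha]
  rfl

/-- A quasi-compact sheaf has an affine atlas. -/
theorem exists_affine_chart {F : Sp S} (hF : IsQuasiCompactSp F) :
    ∃ (U : Over S) (p : (yon S).obj U ⟶ F),
      IsAffine U.left ∧ RepWith @Etale p ∧ RepWith @Surjective p := by
  obtain ⟨U, p, hpe, hps, hc⟩ := hF
  have : CompactSpace ↥U.left := hc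
  obtain ⟨Y, q, hq1, hq2, hq3⟩ :=
    Scheme.exists_hom_isAffine_of_isZariskiLocalAtSource @Etale U.left
  let U' : Over S := Over.mk (q ≫ U.hom)
  let φ : U' ⟶ U := Over.homMk q rfl
  exact ⟨U', (yon S).map φ ≫ p, hq3,
    repWith_etale_comp ((repWith_yon_map_iff _ _).2 hq2) hpe,
    repWith_surjective_comp ((repWith_yon_map_iff _ _).2 hq1) hps⟩

/-- Refinement of charts for a quasi-compact source: the refined atlas can be taken affine. -/
theorem exists_affine_chart_refinement {F G : Sp S} (hF : IsQuasiCompactSp F) (a : F ⟶ G)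
    {V : Over S} (q : (yon S).obj V ⟶ G) (hqe : RepWith @Etale q) (hqs : RepWith @Surjective q) :
    ∃ (U : Over S) (p : (yon S).obj U ⟶ F) (α : U ⟶ V), IsAffine U.left ∧
      RepWith @Etale p ∧ RepWith @Surjective p ∧ p ≫ a = (yon S).map α ≫ q := by
  obtain ⟨U₀, p₀, hU₀, h1, h2⟩ := exists_affine_chart hF
  obtain ⟨U, r, α, hr1, hr2, hr3⟩ := exists_chart_refinement_of_chart p₀ a q hqe hqs
  obtain ⟨A, t, hA, ht1, ht2⟩ := exists_affine_etale_surjective r.left
  let U' : Over S := Over.mk (t ≫ U.hom)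
  let φ : U' ⟶ U := Over.homMk t rfl
  have e1 : RepWith @Etale ((yon S).map (φ ≫ r)) :=
    (repWith_yon_map_iff _ _).2 (show Etale (t ≫ r.left) from inferInstance)
  have e2 : RepWith @Surjective ((yon S).map (φ ≫ r)) :=
    (repWith_yon_map_iff _ _).2 (show Surjective (t ≫ r.left) from ht2)
  refine ⟨U', (yon S).map (φ ≫ r) ≫ p₀, φ ≫ α, hA, repWith_etale_comp e1 h1,
    repWith_surjective_comp e2 h2, ?_⟩
  rw [Functor.map_comp, Functor.map_comp, Category.assoc, Category.assoc, Category.assoc,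
    ← Category.assoc ((yon S).map r), hr3]

end Groth.Agent.H25.AS
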