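import Groth.Agent.H25.AlgSp109
import Groth.Prelude.Def_AlgSpGpd

/-!
# Algebraic spaces toolkit, part 110: invariant open subspaces of a groupoid
-/

set_option linter.style.haveILetI false

universe u

open CategoryTheory CategoryTheory.Limits AlgebraicGeometry Opposite AlgSp MorphismProperty
open Topology

namespace Groth.Agent.H25.AS

variable {S : Scheme.{u}}

theorem groupoid_c_s {B : Sp S} (G : GroupoidSp B) :
    G.c ≫ G.s = pullback.snd G.s G.t ≫ G.s := by
  have h := G.comp_s (pullback.fst G.s G.t) (pullback.snd G.s G.t) pullback.condition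
  have e : pullback.lift (pullback.fst G.s G.t) (pullback.snd G.s G.t) pullback.condition =
      𝟙 _ := by
    apply pullback.hom_ext <;> simp
  rw [e, Category.id_comp] at h
  exact h

theorem groupoid_c_t {B : Sp S} (G : GroupoidSp B) :
    G.c ≫ G.t = pullback.fst G.s G.t ≫ G.t := by
  have h := G.comp_t (pullback.fst G.s G.t) (pullback.snd G.s G.t) pullback.condition
  have e : pullback.lift (pullback.fst G.s G.t) (pullback.snd G.s G.t) pullback.condition =
      𝟙 _ := by
    apply pullback.hom_ext <;> simp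
  rw [e, Category.id_comp] at h
  exact h

/-- The saturation `s(t⁻¹(W))` of a set of points is stable under the groupoid. -/
theorem groupoid_saturation_iff {B : Sp S} (G : GroupoidSp B) (Wset : Set (Points G.U))
    (ρ : Points G.R) :
    Points.map G.t ρ ∈ Points.map G.s '' (Points.map G.t ⁻¹' Wset) ↔
      Points.map G.s ρ ∈ Points.map G.s '' (Points.map G.t ⁻¹' Wset) := by
  have sq := IsPullback.of_hasPullback G.s G.t
  have key : ∀ ρ₁ ρ' : Points G.R, Points.map G.t ρ' ∈ Wset →
      Points.map G.s ρ' = Points.map G.t ρ₁ →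
      Points.map G.s ρ₁ ∈ Points.map G.s '' (Points.map G.t ⁻¹' Wset) := by
    intro ρ₁ ρ' hW he
    obtain ⟨π, hπ1, hπ2⟩ := exists_of_isPullback sq ρ' ρ₁ he
    refine ⟨Points.map G.c π, ?_, ?_⟩
    · change Points.map G.t (Points.map G.c π) ∈ Wset
      rw [← Points.map_comp, groupoid_c_t, Points.map_comp, hπ1]
      exact hW
    · rw [← Points.map_comp, groupoid_c_s, Points.map_comp, hπ2]
  constructor
  · rintro ⟨ρ', hW, he⟩
    exact key ρ ρ' hW he
  · rintro ⟨ρ', hW, he⟩
    have h1 : Points.map G.s ρ' = Points.map G.t (Points.map G.i ρ) := by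
      rw [← Points.map_comp, G.i_t]; exact he
    have h2 := key (Points.map G.i ρ) ρ' hW h1
    rwa [← Points.map_comp, G.i_s] at h2

theorem groupoid_isInvariant_of_range {B : Sp S} (G : GroupoidSp B) {W' : Sp S} (w' : W' ⟶ G.U)
    (hw' : RepWith @IsOpenImmersion w') (Wset : Set (Points G.U))
    (himg : Set.range (Points.map w') = Points.map G.s '' (Points.map G.t ⁻¹' Wset)) :
    G.IsInvariant w' := by
  intro T r
  constructor
  · rintro ⟨a, ha⟩
    apply exists_factor_of_range_subset w' hw' (r ≫ G.s)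
    rintro _ ⟨τ, rfl⟩
    rw [himg, Points.map_comp, ← groupoid_saturation_iff, ← himg, ← Points.map_comp, ← ha,
      Points.map_comp]
    exact ⟨_, rfl⟩
  · rintro ⟨a, ha⟩
    apply exists_factor_of_range_subset w' hw' (r ≫ G.t)
    rintro _ ⟨τ, rfl⟩
    rw [himg, Points.map_comp, groupoid_saturation_iff, ← himg, ← Points.map_comp, ← ha,
      Points.map_comp]
    exact ⟨_, rfl⟩

end Groth.Agent.H25.AS

namespace Groth.Agent.H25.AS

variable {S : Scheme.{u}}

/-- Every point of an algebraic space has a quasi-compact open neighbourhood. -/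
theorem exists_qc_open_subspace {X : Sp S} (hX : IsAlgSpace X) (x : Points X) :
    ∃ Wset : Set (Points X), IsOpen Wset ∧ x ∈ Wset ∧ IsQuasiCompactSp (openSp X Wset) := by
  obtain ⟨U, a, hae, has⟩ := hX.atlas
  obtain ⟨u, rfl⟩ := ofPt_surjective a has x
  obtain ⟨V, hVa, hVu, -⟩ := exists_isAffineOpen_mem_and_subset (X := U.left) (x := u)
    (U := ⊤) trivial
  have hopen : IsOpen (Points.ofPt a '' (V : Set ↥U.left)) := isOpenMap_ofPt a hae _ V.2
  refine ⟨Points.ofPt a '' (V : Set ↥U.left), hopen, ⟨u, hVu, rfl⟩, ?_⟩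
  set T := openOver U V with hT
  set g := (yon S).map (openIncl U V) ≫ a with hg
  have hge : RepWith @Etale g := repWith_etale_comp (repWith_etale_openIncl U V) hae
  obtain ⟨top, sq⟩ := exists_isPullback_openSp (Points.ofPt a '' (V : Set ↥U.left)) g
    (⊤ : T.left.Opens) (fun t => by
      constructor
      · intro _
        rw [hg, ofPt_map_comp]
        exact ⟨t.1, t.2, rfl⟩
      · intro _; trivial)
  have htope : RepWith @Etale top := repWith_fst_of_isPullback sq hge
  have htops : RepWith @Surjective top := by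
    refine repWith_surjective_of_isSurjectiveMor top htope.rep ?_
    intro x'
    have hx' : Points.map (openSpι X (Points.ofPt a '' (V : Set ↥U.left))) x' ∈
        Points.ofPt a '' (V : Set ↥U.left) :=
      (range_map_openSpι hopen).le ⟨x', rfl⟩
    obtain ⟨v, hv, hvx⟩ := hx'
    have e : Points.ofPt g (⟨v, hv⟩ : ↥V) =
        Points.map (openSpι X (Points.ofPt a '' (V : Set ↥U.left))) x' := by
      rw [hg, ofPt_map_comp]; exact hvx
    obtain ⟨w, -, hw⟩ := exists_point_of_isPullback sq (⟨v, hv⟩ : ↥V) x' e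
    exact ⟨Points.ofScheme _ w, (Points.ofPt_eq_map_ofScheme top w).symm.trans hw⟩
  refine ⟨openOver T ⊤, top, htope, htops, ?_⟩
  haveI : IsAffine T.left := hVa
  haveI : IsAffine (openOver T ⊤).left := isAffineOpen_top T.left
  change CompactSpace ↥(openOver T ⊤).left
  infer_instance

/-- Invariant quasi-compact open neighbourhoods in a groupoid with open quasi-compact source and
target. -/
theorem groupoid_exists_invariant_qc_open {B : Sp S} (G : GroupoidSp B) (hU : IsAlgSpace G.U)
    (hR : IsAlgSpace G.R) (hs : IsOpenMor G.s) (ht : IsQuasiCompactMor G.t) (x : Points G.U) :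
    ∃ (W : Sp S) (w : W ⟶ G.U), RepWith @IsOpenImmersion w ∧ G.IsInvariant w ∧
      IsQuasiCompactSp W ∧ x ∈ Set.range (Points.map w) := by
  obtain ⟨W₀, hW₀o, hxW₀, hW₀q⟩ := exists_qc_open_subspace hU x
  set W' : Set (Points G.U) := Points.map G.s '' (Points.map G.t ⁻¹' W₀) with hW'
  have hW'o : IsOpen W' := hs _ (hW₀o.preimage (Points.continuous_map G.t))
  have hrange : Set.range (Points.map (openSpι G.U W')) = W' := range_map_openSpι hW'o
  have hopenSp : IsAlgSpace (openSp G.U W') := isAlgSpace_openSp hU hW'o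
  refine ⟨openSp G.U W', openSpι G.U W', repWith_isOpenImmersion_openSpι hW'o,
    groupoid_isInvariant_of_range G _ (repWith_isOpenImmersion_openSpι hW'o) W₀ hrange, ?_, ?_⟩
  · -- quasi-compactness
    have sq := IsPullback.of_hasPullback G.t (openSpι G.U W₀)
    have hW₀a : IsAlgSpace (openSp G.U W₀) := isAlgSpace_openSp hU hW₀o
    have hQq : IsQuasiCompactSp (pullback G.t (openSpι G.U W₀)) :=
      ht hW₀a hW₀q (openSpι G.U W₀) _ _ sq
    have hsub : Set.range (Points.map (pullback.fst G.t (openSpι G.U W₀) ≫ G.s)) ⊆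
        Set.range (Points.map (openSpι G.U W')) := by
      rw [hrange]
      rintro _ ⟨q, rfl⟩
      refine ⟨Points.map (pullback.fst G.t (openSpι G.U W₀)) q, ?_, (Points.map_comp _ _ q).symm⟩
      change Points.map G.t (Points.map (pullback.fst G.t (openSpι G.U W₀)) q) ∈ W₀
      rw [← Points.map_comp, pullback.condition, Points.map_comp]
      exact (range_map_openSpι hW₀o).le ⟨_, rfl⟩
    obtain ⟨k, hk⟩ := exists_factor_of_range_subset (openSpι G.U W')
      (repWith_isOpenImmersion_openSpι hW'o) _ hsub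
    refine isQuasiCompactSp_of_isSurjectiveMor hopenSp k ?_ hQq
    intro y
    have hy : Points.map (openSpι G.U W') y ∈ W' := hrange.le ⟨y, rfl⟩
    obtain ⟨ρ, hρ, hρy⟩ := hy
    have hρ' : Points.map G.t ρ ∈ Set.range (Points.map (openSpι G.U W₀)) := by
      rw [range_map_openSpι hW₀o]; exact hρ
    obtain ⟨z, hz⟩ := hρ'
    obtain ⟨q, -, hq2⟩ := exists_of_isPullback sq.flip z ρ hz
    refine ⟨q, ?_⟩
    have := mono_of_isOpenImmersion (openSpι G.U W') (repWith_isOpenImmersion_openSpι hW'o)
    apply injective_map_of_mono (openSpι G.U W')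
    rw [← Points.map_comp, hk, Points.map_comp, hq2, hρy]
  · rw [hrange]
    refine ⟨Points.map G.e x, ?_, ?_⟩
    · change Points.map G.t (Points.map G.e x) ∈ W₀
      rw [← Points.map_comp, G.e_t, Points.map_id]; exact hxW₀
    · rw [← Points.map_comp, G.e_s, Points.map_id]

end Groth.Agent.H25.AS
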