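import Groth.Agent.H25.AlgSp110

/-!
# Algebraic spaces toolkit, part 111: restriction of a groupoid, source and target maps
-/

set_option linter.style.haveILetI false

universe u

open CategoryTheory CategoryTheory.Limits AlgebraicGeometry Opposite AlgSp MorphismProperty
open Topology

namespace Groth.Agent.H25.AS

variable {S : Scheme.{u}}

/-- For a restriction `G'` of `G` along `g : U' ⟶ U`, `R' = U' ×_{g,U,t} (R ×_{s,U,g} U')`. -/
theorem restr_isPullback_s {B : Sp S} {G G' : GroupoidSp B} (φ : GroupoidSp.Hom G' G)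
    (hφ : φ.IsRestriction) :
    IsPullback (pullback.lift φ.fR G'.s φ.comm_s : G'.R ⟶ pullback G.s φ.fU) G'.t
      (pullback.fst G.s φ.fU ≫ G.t) φ.fU := by
  have w : (pullback.lift φ.fR G'.s φ.comm_s : G'.R ⟶ pullback G.s φ.fU) ≫
      (pullback.fst G.s φ.fU ≫ G.t) = G'.t ≫ φ.fU := by
    rw [← Category.assoc, pullback.lift_fst, φ.comm_t]
  have key : ∀ (c : PullbackCone (pullback.fst G.s φ.fU ≫ G.t) φ.fU),
      c.snd ≫ G'.pU = (c.fst ≫ pullback.snd G.s φ.fU) ≫ G'.pU := by
    intro c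
    have h1 := c.condition
    calc c.snd ≫ G'.pU = (c.snd ≫ φ.fU) ≫ G.pU := by rw [Category.assoc, φ.fU_over]
      _ = (c.fst ≫ pullback.fst G.s φ.fU ≫ G.t) ≫ G.pU := by rw [h1]
      _ = c.fst ≫ pullback.fst G.s φ.fU ≫ G.s ≫ G.pU := by
        simp only [Category.assoc, G.t_over, G.s_over]
      _ = c.fst ≫ (pullback.fst G.s φ.fU ≫ G.s) ≫ G.pU := by simp only [Category.assoc]
      _ = (c.fst ≫ pullback.snd G.s φ.fU) ≫ G'.pU := by
        rw [pullback.condition]; simp only [Category.assoc, φ.fU_over]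
  have key2 : ∀ (c : PullbackCone (pullback.fst G.s φ.fU ≫ G.t) φ.fU),
      (c.fst ≫ pullback.fst G.s φ.fU) ≫ G.j =
        pullback.lift c.snd (c.fst ≫ pullback.snd G.s φ.fU) (key c) ≫ φ.prodMap := by
    intro c
    apply pullback.hom_ext
    · simp only [Category.assoc, GroupoidSp.j_fst, GroupoidSp.Hom.prodMap, pullback.lift_fst,
        pullback.lift_fst_assoc]
      exact c.condition
    · simp only [Category.assoc, GroupoidSp.j_snd, GroupoidSp.Hom.prodMap, pullback.lift_snd,
        pullback.lift_snd_assoc]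
      rw [pullback.condition]
  refine ⟨⟨w⟩, ⟨PullbackCone.IsLimit.mk w
    (fun c => hφ.lift (c.fst ≫ pullback.fst G.s φ.fU)
      (pullback.lift c.snd (c.fst ≫ pullback.snd G.s φ.fU) (key c)) (key2 c)) ?_ ?_ ?_⟩⟩
  · intro c
    apply pullback.hom_ext
    · rw [Category.assoc, pullback.lift_fst, hφ.lift_fst]
    · rw [Category.assoc, pullback.lift_snd, ← G'.j_snd, hφ.lift_snd_assoc, pullback.lift_snd]
  · intro c
    rw [← G'.j_fst, hφ.lift_snd_assoc, pullback.lift_fst]
  · intro c m hm1 hm2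
    apply hφ.hom_ext
    · rw [hφ.lift_fst, ← hm1, Category.assoc, pullback.lift_fst]
    · rw [hφ.lift_snd]
      apply pullback.hom_ext
      · rw [Category.assoc, G'.j_fst, pullback.lift_fst, hm2]
      · rw [Category.assoc, G'.j_snd, pullback.lift_snd, ← hm1, Category.assoc, pullback.lift_snd]

/-- For a restriction `G'` of `G` along `g : U' ⟶ U`, `R' = (U' ×_{g,U,t} R) ×_{s,U,g} U'`. -/
theorem restr_isPullback_t {B : Sp S} {G G' : GroupoidSp B} (φ : GroupoidSp.Hom G' G)
    (hφ : φ.IsRestriction) :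
    IsPullback (pullback.lift φ.fR G'.t φ.comm_t : G'.R ⟶ pullback G.t φ.fU) G'.s
      (pullback.fst G.t φ.fU ≫ G.s) φ.fU := by
  have w : (pullback.lift φ.fR G'.t φ.comm_t : G'.R ⟶ pullback G.t φ.fU) ≫
      (pullback.fst G.t φ.fU ≫ G.s) = G'.s ≫ φ.fU := by
    rw [← Category.assoc, pullback.lift_fst, φ.comm_s]
  have key : ∀ (c : PullbackCone (pullback.fst G.t φ.fU ≫ G.s) φ.fU),
      (c.fst ≫ pullback.snd G.t φ.fU) ≫ G'.pU = c.snd ≫ G'.pU := by
    intro c
    have h1 := c.condition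
    symm
    calc c.snd ≫ G'.pU = (c.snd ≫ φ.fU) ≫ G.pU := by rw [Category.assoc, φ.fU_over]
      _ = (c.fst ≫ pullback.fst G.t φ.fU ≫ G.s) ≫ G.pU := by rw [h1]
      _ = c.fst ≫ pullback.fst G.t φ.fU ≫ G.t ≫ G.pU := by
        simp only [Category.assoc, G.t_over, G.s_over]
      _ = c.fst ≫ (pullback.fst G.t φ.fU ≫ G.t) ≫ G.pU := by simp only [Category.assoc]
      _ = (c.fst ≫ pullback.snd G.t φ.fU) ≫ G'.pU := by
        rw [pullback.condition]; simp only [Category.assoc, φ.fU_over]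
  have key2 : ∀ (c : PullbackCone (pullback.fst G.t φ.fU ≫ G.s) φ.fU),
      (c.fst ≫ pullback.fst G.t φ.fU) ≫ G.j =
        pullback.lift (c.fst ≫ pullback.snd G.t φ.fU) c.snd (key c) ≫ φ.prodMap := by
    intro c
    apply pullback.hom_ext
    · simp only [Category.assoc, GroupoidSp.j_fst, GroupoidSp.Hom.prodMap, pullback.lift_fst,
        pullback.lift_fst_assoc]
      rw [pullback.condition]
    · simp only [Category.assoc, GroupoidSp.j_snd, GroupoidSp.Hom.prodMap, pullback.lift_snd,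
        pullback.lift_snd_assoc]
      exact c.condition
  refine ⟨⟨w⟩, ⟨PullbackCone.IsLimit.mk w
    (fun c => hφ.lift (c.fst ≫ pullback.fst G.t φ.fU)
      (pullback.lift (c.fst ≫ pullback.snd G.t φ.fU) c.snd (key c)) (key2 c)) ?_ ?_ ?_⟩⟩
  · intro c
    apply pullback.hom_ext
    · rw [Category.assoc, pullback.lift_fst, hφ.lift_fst]
    · rw [Category.assoc, pullback.lift_snd, ← G'.j_fst, hφ.lift_snd_assoc, pullback.lift_fst]
  · intro c
    rw [← G'.j_snd, hφ.lift_snd_assoc, pullback.lift_snd]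
  · intro c m hm1 hm2
    apply hφ.hom_ext
    · rw [hφ.lift_fst, ← hm1, Category.assoc, pullback.lift_fst]
    · rw [hφ.lift_snd]
      apply pullback.hom_ext
      · rw [Category.assoc, G'.j_fst, pullback.lift_fst, ← hm1, Category.assoc, pullback.lift_snd]
      · rw [Category.assoc, G'.j_snd, pullback.lift_snd, hm2]

/-- The source and target maps of a restriction inherit any `EtLoc` property from `s, t, g`. -/
theorem restr_locP {P : MorphismProperty Scheme.{u}} (hP : EtLoc P) {B : Sp S}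
    {G G' : GroupoidSp B} (hU : IsAlgSpace G.U) (hR : IsAlgSpace G.R)
    (hU' : IsAlgSpace G'.U) (hR' : IsAlgSpace G'.R) (φ : GroupoidSp.Hom G' G)
    (hφ : φ.IsRestriction) (hs : LocP P G.s) (ht : LocP P G.t) (hg : LocP P φ.fU) :
    LocP P G'.s ∧ LocP P G'.t := by
  constructor
  · have sq0 := IsPullback.of_hasPullback G.s φ.fU
    have hQ : IsAlgSpace (pullback G.s φ.fU) := isAlgSpace_of_isPullback hU.diag hR hU' sq0
    have h1 : LocP P (pullback.snd G.s φ.fU) := locP_of_isPullback hP hR hU hU' sq0 hs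
    have h2 := locP_of_isPullback hP hU' hU hQ (restr_isPullback_s φ hφ).flip hg
    have h3 := locP_comp hP hR' hQ hU' _ _ h2 h1
    rwa [pullback.lift_snd] at h3
  · have sq0 := IsPullback.of_hasPullback G.t φ.fU
    have hQ : IsAlgSpace (pullback G.t φ.fU) := isAlgSpace_of_isPullback hU.diag hR hU' sq0
    have h1 : LocP P (pullback.snd G.t φ.fU) := locP_of_isPullback hP hR hU hU' sq0 ht
    have h2 := locP_of_isPullback hP hU' hU hQ (restr_isPullback_t φ hφ).flip hg
    have h3 := locP_comp hP hR' hQ hU' _ _ h2 h1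
    rwa [pullback.lift_snd] at h3

end Groth.Agent.H25.AS
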