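import Groth.Agent.H25.AlgSp111

/-!
# Algebraic spaces toolkit, part 112: group algebraic spaces, unit section and diagonal
-/

set_option linter.style.haveILetI false

universe u

open CategoryTheory CategoryTheory.Limits AlgebraicGeometry Opposite AlgSp MorphismProperty
open Topology
open MonoidalCategory CartesianMonoidalCategory MonObj

namespace Groth.Agent.H25.AS

variable {S : Scheme.{u}}

theorem section_lift_cond {G B : Sp S} (p : G ⟶ B) (e : B ⟶ G) (h : e ≫ p = 𝟙 B) :
    𝟙 G ≫ p = (p ≫ e) ≫ p := by
  simp only [Category.id_comp, Category.assoc, h, Category.comp_id]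

/-- A section `e` of `p` is a base change of the diagonal of `p`. -/
theorem isPullback_section_diagonal {G B : Sp S} (p : G ⟶ B) (e : B ⟶ G) (h : e ≫ p = 𝟙 B) :
    IsPullback e e (pullback.lift (𝟙 G) (p ≫ e) (section_lift_cond p e h))
      (pullback.diagonal p) := by
  have h' : e ≫ p ≫ e = e := by rw [← Category.assoc, h, Category.id_comp]
  have w : e ≫ pullback.lift (𝟙 G) (p ≫ e) (section_lift_cond p e h) =
      e ≫ pullback.diagonal p := by
    apply pullback.hom_ext
    · rw [Category.assoc, pullback.lift_fst, Category.assoc, pullback.diagonal_fst]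
    · rw [Category.assoc, pullback.lift_snd, Category.assoc, pullback.diagonal_snd, h',
        Category.comp_id]
  refine ⟨⟨w⟩, ⟨PullbackCone.IsLimit.mk w (fun c => c.fst ≫ p) ?_ ?_ ?_⟩⟩
  · intro c
    have h1 := c.condition
    have h2 := congrArg (· ≫ pullback.fst p p) h1
    have h3 := congrArg (· ≫ pullback.snd p p) h1
    simp only [Category.assoc, pullback.lift_fst, pullback.lift_snd, Category.comp_id,
      pullback.diagonal_fst, pullback.diagonal_snd] at h2 h3
    rw [Category.assoc, h3, h2]
  · intro c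
    have h1 := c.condition
    have h3 := congrArg (· ≫ pullback.snd p p) h1
    simp only [Category.assoc, pullback.lift_snd, Category.comp_id,
      pullback.diagonal_snd] at h3
    rw [Category.assoc, h3]
  · intro c m hm1 _
    calc m = m ≫ (e ≫ p) := by rw [h, Category.comp_id]
      _ = c.fst ≫ p := by rw [← Category.assoc, hm1]

/-- Abstract form: the diagonal of `p` is the base change of a section `e` along a "difference"
map `d`. -/
theorem isPullback_diagonal_of_difference {G B : Sp S} (p : G ⟶ B) (e : B ⟶ G)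
    (d : pullback p p ⟶ G) (he : e ≫ p = 𝟙 B) (hd : d ≫ p = pullback.fst p p ≫ p)
    (w : pullback.diagonal p ≫ d = p ≫ e)
    (key : ∀ {T : Sp S} (a : T ⟶ pullback p p), a ≫ d = (a ≫ pullback.fst p p ≫ p) ≫ e →
      a ≫ pullback.fst p p = a ≫ pullback.snd p p) :
    IsPullback (pullback.diagonal p) p d e := by
  have hsnd : ∀ (c : PullbackCone d e), c.snd = c.fst ≫ pullback.fst p p ≫ p := by
    intro c
    have hc := c.condition
    calc c.snd = (c.snd ≫ e) ≫ p := by rw [Category.assoc, he, Category.comp_id]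
      _ = c.fst ≫ pullback.fst p p ≫ p := by rw [← hc, Category.assoc, hd]
  refine ⟨⟨w⟩, ⟨PullbackCone.IsLimit.mk w (fun c => c.fst ≫ pullback.fst p p) ?_ ?_ ?_⟩⟩
  · intro c
    have hk := key c.fst (by rw [c.condition, hsnd c])
    apply pullback.hom_ext
    · rw [Category.assoc, pullback.diagonal_fst, Category.comp_id]
    · rw [Category.assoc, pullback.diagonal_snd, Category.comp_id, hk]
  · intro c
    rw [Category.assoc, ← hsnd c]
  · intro c m hm1 _
    rw [← hm1, Category.assoc, pullback.diagonal_fst, Category.comp_id]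

/-- For a group object `G` over `B`, the diagonal of `G ⟶ B` is a base change of the unit
section, along `(g, h) ↦ g⁻¹ h`. -/
theorem grp_isPullback_diagonal {B : Sp S} (G : Over B) [GrpObj G] :
    IsPullback (pullback.diagonal G.hom) G.hom ((ι[G] ▷ G ≫ μ[G]).left) (η[G]).left := by
  have hη : (η[G]).left ≫ G.hom = 𝟙 B := Over.w η[G]
  have hd : (ι[G] ▷ G ≫ μ[G]).left ≫ G.hom = pullback.fst G.hom G.hom ≫ G.hom :=
    Over.w (ι[G] ▷ G ≫ μ[G])
  have h0 : lift (𝟙 G) (𝟙 G) ≫ (ι[G] ▷ G ≫ μ[G]) = toUnit G ≫ η[G] := by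
    rw [← Category.assoc, lift_whiskerRight, Category.id_comp]
    exact GrpObj.left_inv G
  have w : pullback.diagonal G.hom ≫ (ι[G] ▷ G ≫ μ[G]).left = G.hom ≫ (η[G]).left :=
    congrArg (fun t => t.left) h0
  refine isPullback_diagonal_of_difference (S := S) (G := G.left) (B := B) G.hom (η[G]).left
    ((ι[G] ▷ G ≫ μ[G]).left) hη hd w ?_
  intro T a ha
  let T' : Over B := Over.mk (a ≫ pullback.fst G.hom G.hom ≫ G.hom)
  let g : T' ⟶ G := Over.homMk (a ≫ pullback.fst G.hom G.hom) (by simp [T'])
  let k : T' ⟶ G := Over.homMk (a ≫ pullback.snd G.hom G.hom)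
    (by simp [T', pullback.condition])
  have claim : lift (g ≫ ι[G]) k ≫ μ[G] = toUnit T' ≫ η[G] := by
    rw [← lift_whiskerRight, Category.assoc]
    apply Over.OverMorphism.ext
    have e1 : (lift g k).left = a := by
      rw [Over.lift_left]
      apply pullback.hom_ext
      · rw [pullback.lift_fst]; rfl
      · rw [pullback.lift_snd]; rfl
    change (lift g k).left ≫ (ι[G] ▷ G ≫ μ[G]).left = T'.hom ≫ (η[G]).left
    rw [e1]
    exact ha
  have h2 := (GrpObj.lift_inv_left_eq g k (toUnit T' ≫ η[G])).mp claim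
  rw [lift_comp_one_right] at h2
  exact (congrArg (fun t => t.left) h2).symm

end Groth.Agent.H25.AS
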