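import Groth.Agent.H25.AlgSp112
import Groth.Agent.H28.GrpdSpAlg

/-!
# Algebraic spaces toolkit, part 113: the diagonal of `j` of a groupoid and the unit of the
stabilizer
-/

set_option linter.style.haveILetI false

universe u

open CategoryTheory CategoryTheory.Limits AlgebraicGeometry Opposite AlgSp MorphismProperty
open Topology
open Groth.Agent.H28.GrpdSpAlg

namespace Groth.Agent.H25.AS

variable {S : Scheme.{u}}

section

variable {B : Sp S} (G : GroupoidSp B)

theorem gpd_p_t : pullback.fst G.j G.j ≫ G.t = pullback.snd G.j G.j ≫ G.t := by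
  have h := congrArg (· ≫ pullback.fst G.pU G.pU) (pullback.condition (f := G.j) (g := G.j))
  simpa only [Category.assoc, GroupoidSp.j_fst] using h

theorem gpd_p_s : pullback.fst G.j G.j ≫ G.s = pullback.snd G.j G.j ≫ G.s := by
  have h := congrArg (· ≫ pullback.snd G.pU G.pU) (pullback.condition (f := G.j) (g := G.j))
  simpa only [Category.assoc, GroupoidSp.j_snd] using h

theorem gpd_diag_fst : G.diag ≫ pullback.fst G.pU G.pU = 𝟙 _ := pullback.lift_fst _ _ _

theorem gpd_diag_snd : G.diag ≫ pullback.snd G.pU G.pU = 𝟙 _ := pullback.lift_snd _ _ _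

theorem gpd_comp_cond :
    (pullback.fst G.j G.j ≫ G.i) ≫ G.s = pullback.snd G.j G.j ≫ G.t := by
  rw [Category.assoc, G.i_s, gpd_p_t]

/-- `(r, r') ↦ r⁻¹ ∘ r'` -/
noncomputable def gpdDiff₀ : pullback G.j G.j ⟶ G.R :=
  cmp G (pullback.fst G.j G.j ≫ G.i) (pullback.snd G.j G.j)

theorem gpdDiff₀_s : gpdDiff₀ G ≫ G.s = pullback.snd G.j G.j ≫ G.s :=
  cmp_s (gpd_comp_cond G)

theorem gpdDiff₀_t : gpdDiff₀ G ≫ G.t = pullback.snd G.j G.j ≫ G.s := by
  unfold gpdDiff₀
  rw [cmp_t (gpd_comp_cond G), Category.assoc, G.i_t, gpd_p_s]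

theorem gpdDiff₀_j : gpdDiff₀ G ≫ G.j = (pullback.snd G.j G.j ≫ G.s) ≫ G.diag := by
  apply pullback.hom_ext
  · rw [Category.assoc, G.j_fst, gpdDiff₀_t, Category.assoc, gpd_diag_fst, Category.comp_id]
  · rw [Category.assoc, G.j_snd, gpdDiff₀_s, Category.assoc, gpd_diag_snd, Category.comp_id]

/-- `(r, r') ↦ r⁻¹ ∘ r'` as a map to the stabilizer. -/
noncomputable def gpdDiff : pullback G.j G.j ⟶ G.stabilizer :=
  pullback.lift (gpdDiff₀ G) (pullback.snd G.j G.j ≫ G.s) (gpdDiff₀_j G)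

theorem gpdDiff_ι : gpdDiff G ≫ G.stabilizerι = gpdDiff₀ G := pullback.lift_fst _ _ _

theorem gpdDiff_toU : gpdDiff G ≫ G.stabilizerToU = pullback.snd G.j G.j ≫ G.s :=
  pullback.lift_snd _ _ _

variable {G}

theorem gpd_unit_toU (eG : G.U ⟶ G.stabilizer) (heG : eG ≫ G.stabilizerι = G.e) :
    eG ≫ G.stabilizerToU = 𝟙 _ := by
  have h1 : G.stabilizerι ≫ G.j = G.stabilizerToU ≫ G.diag := pullback.condition
  calc eG ≫ G.stabilizerToU = eG ≫ G.stabilizerToU ≫ G.diag ≫ pullback.fst G.pU G.pU := by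
        rw [gpd_diag_fst, Category.comp_id]
    _ = (eG ≫ G.stabilizerι) ≫ G.j ≫ pullback.fst G.pU G.pU := by
        rw [← Category.assoc G.stabilizerToU, ← h1]; simp only [Category.assoc]
    _ = 𝟙 _ := by rw [heG, G.j_fst, G.e_t]

/-- The diagonal of `j` is the base change of the unit section of the stabilizer along
`(r, r') ↦ r⁻¹ ∘ r'`. -/
theorem gpd_isPullback_diagonal_j (eG : G.U ⟶ G.stabilizer) (heG : eG ≫ G.stabilizerι = G.e) :
    IsPullback (pullback.diagonal G.j) G.s (gpdDiff G) eG := by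
  have hu := gpd_unit_toU eG heG
  have w : pullback.diagonal G.j ≫ gpdDiff G = G.s ≫ eG := by
    apply pullback.hom_ext
    · change (pullback.diagonal G.j ≫ gpdDiff G) ≫ G.stabilizerι = (G.s ≫ eG) ≫ G.stabilizerι
      rw [Category.assoc, gpdDiff_ι, Category.assoc, heG]
      unfold gpdDiff₀
      rw [comp_cmp _ (gpd_comp_cond G), ← Category.assoc, pullback.diagonal_fst,
        pullback.diagonal_snd]
      have := i_cmp (G := G) (𝟙 G.R)
      simpa only [Category.id_comp] using this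
    · change (pullback.diagonal G.j ≫ gpdDiff G) ≫ G.stabilizerToU =
        (G.s ≫ eG) ≫ G.stabilizerToU
      rw [Category.assoc, gpdDiff_toU, ← Category.assoc, pullback.diagonal_snd, Category.id_comp,
        Category.assoc, hu, Category.comp_id]
  have hsnd : ∀ (c : PullbackCone (gpdDiff G) eG),
      c.snd = c.fst ≫ pullback.snd G.j G.j ≫ G.s := by
    intro c
    calc c.snd = (c.snd ≫ eG) ≫ G.stabilizerToU := by rw [Category.assoc, hu, Category.comp_id]
      _ = c.fst ≫ pullback.snd G.j G.j ≫ G.s := by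
        rw [← c.condition, Category.assoc, gpdDiff_toU]
  have key : ∀ (c : PullbackCone (gpdDiff G) eG),
      c.fst ≫ pullback.fst G.j G.j = c.fst ≫ pullback.snd G.j G.j := by
    intro c
    have h1 : c.fst ≫ gpdDiff₀ G = c.snd ≫ G.e := by
      rw [← gpdDiff_ι, ← Category.assoc, c.condition, Category.assoc, heG]
    have h2 : c.fst ≫ gpdDiff₀ G =
        cmp G ((c.fst ≫ pullback.fst G.j G.j) ≫ G.i) (c.fst ≫ pullback.snd G.j G.j) := by
      unfold gpdDiff₀
      rw [comp_cmp _ (gpd_comp_cond G), Category.assoc]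
    have ht : (c.fst ≫ pullback.fst G.j G.j) ≫ G.t = (c.fst ≫ pullback.snd G.j G.j) ≫ G.t := by
      rw [Category.assoc, Category.assoc, gpd_p_t]
    have h3 := cmp_i_cmp' ht
    rw [← h2, h1, hsnd c] at h3
    have h4 : (c.fst ≫ pullback.snd G.j G.j ≫ G.s) ≫ G.e =
        (c.fst ≫ pullback.fst G.j G.j) ≫ G.s ≫ G.e := by
      rw [← gpd_p_s]; simp only [Category.assoc]
    rw [h4, cmp_e] at h3
    exact h3
  refine ⟨⟨w⟩, ⟨PullbackCone.IsLimit.mk w (fun c => c.fst ≫ pullback.fst G.j G.j) ?_ ?_ ?_⟩⟩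
  · intro c
    apply pullback.hom_ext
    · rw [Category.assoc, pullback.diagonal_fst, Category.comp_id]
    · rw [Category.assoc, pullback.diagonal_snd, Category.comp_id, key c]
  · intro c
    rw [hsnd c, Category.assoc, gpd_p_s]
  · intro c m hm1 _
    rw [← hm1, Category.assoc, pullback.diagonal_fst, Category.comp_id]

end

end Groth.Agent.H25.AS
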