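import Groth.Agent.H25.AlgSp113

/-!
# Algebraic spaces toolkit, part 114: algebraic spaces over a field are flat and universally open
over it; the multiplication of a group object is a base change of the structure map
-/

set_option linter.style.haveILetI false

universe u

open CategoryTheory CategoryTheory.Limits AlgebraicGeometry Opposite AlgSp MorphismProperty
open Topology
open MonoidalCategory CartesianMonoidalCategory MonObj

namespace Groth.Agent.H25.AS

variable {S : Scheme.{u}}

/-- Openness on points can be checked after precomposing with a morphism surjective on points. -/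
theorem isOpenMor_of_comp_surjective {P' P Z : Sp S} (c : P' ⟶ P) (snd : P ⟶ Z)
    (hc : IsSurjectiveMor c) (h : IsOpenMor (c ≫ snd)) : IsOpenMor snd := by
  intro O hO
  have e : Points.map snd '' O = Points.map (c ≫ snd) '' (Points.map c ⁻¹' O) := by
    ext z
    constructor
    · rintro ⟨x, hx, rfl⟩
      obtain ⟨y, rfl⟩ := hc x
      exact ⟨y, hx, Points.map_comp c snd y⟩
    · rintro ⟨y, hy, rfl⟩
      exact ⟨Points.map c y, hy, (Points.map_comp c snd y).symm⟩
  rw [e]
  exact h _ (hO.preimage (Points.continuous_map c))

/-- Universal openness is local on the source for representable surjective morphisms. -/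
theorem isUnivOpenMor_of_comp_surjective {W X Y : Sp S} (a : W ⟶ X) (f : X ⟶ Y)
    (has : RepWith @Surjective a) (h : IsUnivOpenMor (a ≫ f)) : IsUnivOpenMor f := by
  intro Z Z' hZ g fst snd sq
  have sq1 := IsPullback.of_hasPullback a fst
  have big : IsPullback (pullback.fst a fst) (pullback.snd a fst ≫ snd) (a ≫ f) g :=
    sq1.paste_vert sq
  have h1 : IsOpenMor (pullback.snd a fst ≫ snd) := h hZ g _ _ big
  exact isOpenMor_of_comp_surjective (pullback.snd a fst) snd
    (isSurjectiveMor_of_repWith _ (repWith_snd_of_isPullback sq1 has)) h1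

/-- An algebraic space over the spectrum of a field is flat and universally open over it. -/
theorem flat_univOpen_of_field {k : Type u} [Field k] (σ : Spec (CommRingCat.of k) ⟶ S)
    {X : Sp S} (hX : IsAlgSpace X) (q : X ⟶ (yon S).obj (Over.mk σ)) :
    LocP @Flat q ∧ IsUnivOpenMor q := by
  obtain ⟨W, a, hae, has⟩ := hX.atlas
  obtain ⟨w, hw⟩ := (yon S).map_surjective (a ≫ q)
  haveI : IsIntegral (Over.mk σ).left := (inferInstance : IsIntegral (Spec (CommRingCat.of k)))
  haveI : Subsingleton ↥(Over.mk σ).left :=
    (inferInstance : Subsingleton ↥(Spec (CommRingCat.of k)))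
  constructor
  · refine locP_of_chart etLoc_flat q a (𝟙 _) w hae has (repWith_id _ _) ?_ inferInstance
    rw [Category.comp_id, hw]
  · refine isUnivOpenMor_of_comp_surjective a q has ?_
    rw [← hw]
    exact (repWith_universallyOpen_iff _ (representable_yon_map w)).mp
      ((repWith_yon_map_iff @UniversallyOpen w).2 inferInstance)

/-- The same, for a target only isomorphic to the spectrum of a field. -/
theorem flat_univOpen_of_field_iso {k : Type u} [Field k] (σ : Spec (CommRingCat.of k) ⟶ S)
    {X U : Sp S} (hX : IsAlgSpace X) (eU : U ≅ (yon S).obj (Over.mk σ)) (q : X ⟶ U) :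
    LocP @Flat q ∧ IsUnivOpenMor q := by
  have hU : IsAlgSpace U := (IsAlgSpace.yon_obj (Over.mk σ)).of_iso eU.symm
  obtain ⟨h1, h2⟩ := flat_univOpen_of_field σ hX (q ≫ eU.hom)
  have sq : IsPullback (𝟙 X) q (q ≫ eU.hom) eU.hom :=
    IsPullback.of_horiz_isIso ⟨by rw [Category.id_comp]⟩
  exact ⟨locP_of_isPullback etLoc_flat hX (IsAlgSpace.yon_obj _) hU sq h1,
    univSp_of_isPullback sq h2⟩

end Groth.Agent.H25.AS
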