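import Groth.Agent.H25.AlgSp114

/-!
# Algebraic spaces toolkit, part 115: the multiplication of a group object over `B` is a base
change of its structure map
-/

set_option linter.style.haveILetI false

universe u

open CategoryTheory CategoryTheory.Limits AlgebraicGeometry Opposite AlgSp MorphismProperty
open Topology
open MonoidalCategory CartesianMonoidalCategory MonObj

namespace Groth.Agent.H25.AS

variable {S : Scheme.{u}}

/-- `(g, h) ↦ (g h, h)` identifies `G ×_B G` with itself: the multiplication is the base change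
of `G ⟶ B` along `G ⟶ B`. -/
theorem grp_isPullback_mul {B : Sp S} (G : Over B) [GrpObj G] :
    IsPullback (μ[G]).left (pullback.snd G.hom G.hom) G.hom G.hom := by
  have hμ : (μ[G]).left ≫ G.hom = pullback.fst G.hom G.hom ≫ G.hom := Over.w μ[G]
  have w : (μ[G]).left ≫ G.hom = pullback.snd G.hom G.hom ≫ G.hom := by
    rw [hμ, pullback.condition]
  -- T-points
  have mk : ∀ {T : Sp S} (a b : T ⟶ G.left) (hab : a ≫ G.hom = b ≫ G.hom),
      ∃ m : T ⟶ pullback G.hom G.hom, m ≫ (μ[G]).left = a ∧ m ≫ pullback.snd G.hom G.hom = b ∧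
        ∀ m' : T ⟶ pullback G.hom G.hom, m' ≫ (μ[G]).left = a →
          m' ≫ pullback.snd G.hom G.hom = b → m' = m := by
    intro T a b hab
    let T' : Over B := Over.mk (a ≫ G.hom)
    let g : T' ⟶ G := Over.homMk a rfl
    let k : T' ⟶ G := Over.homMk b hab.symm
    refine ⟨(lift (g * k⁻¹) k).left, ?_, ?_, ?_⟩
    · have h1 : lift (g * k⁻¹) k ≫ μ[G] = g := by
        rw [← Hom.mul_def, inv_mul_cancel_right]
      exact congrArg (fun t => t.left) h1
    · have h1 : lift (g * k⁻¹) k ≫ snd G G = k := lift_snd _ _
      exact congrArg (fun t => t.left) h1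
    · intro m' hm1 hm2
      have hx : (m' ≫ pullback.fst G.hom G.hom) ≫ G.hom = T'.hom := by
        rw [Category.assoc, pullback.condition, ← Category.assoc, hm2]
        exact hab.symm
      let x : T' ⟶ G := Over.homMk (m' ≫ pullback.fst G.hom G.hom) hx
      have e1 : (lift x k).left = m' := by
        rw [Over.lift_left]
        apply pullback.hom_ext
        · rw [pullback.lift_fst]; rfl
        · rw [pullback.lift_snd]; exact hm2.symm
      have h2 : x * k = g := by
        rw [Hom.mul_def]
        apply Over.OverMorphism.ext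
        change (lift x k).left ≫ (μ[G]).left = a
        rw [e1, hm1]
      have h3 : x = g * k⁻¹ := eq_mul_inv_of_mul_eq h2
      rw [← e1, h3]
  refine ⟨⟨w⟩, ⟨PullbackCone.IsLimit.mk w
    (fun c => (mk c.fst c.snd c.condition).choose) ?_ ?_ ?_⟩⟩
  · intro c
    exact (mk c.fst c.snd c.condition).choose_spec.1
  · intro c
    exact (mk c.fst c.snd c.condition).choose_spec.2.1
  · intro c m hm1 hm2
    exact (mk c.fst c.snd c.condition).choose_spec.2.2 m hm1 hm2

end Groth.Agent.H25.AS
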