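import Groth.Agent.H25.AlgSp115

/-!
# Algebraic spaces toolkit, part 116: affine morphisms (base change, composition), surjectivity
and openness of composites
-/

set_option linter.style.haveILetI false

universe u

open CategoryTheory CategoryTheory.Limits AlgebraicGeometry Opposite AlgSp MorphismProperty
open Topology

namespace Groth.Agent.H25.AS

variable {S : Scheme.{u}}

theorem isAffineMor_of_repWith {F G : Sp S} (f : F ⟶ G) (hf : RepWith @IsAffineHom f) :
    IsAffineMor f := by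
  intro Z hZ g
  have : IsAffineHom (hf.rep.snd g).left := hf.property_snd g
  have : IsAffine Z.left := hZ
  exact ⟨_, hf.rep.snd g, hf.rep.fst g, hf.rep.isPullback g,
    isAffine_of_isAffineHom (hf.rep.snd g).left⟩

theorem isAffineMor_of_isPullback {F G H P : Sp S} {f : F ⟶ G} {g : H ⟶ G} {fst : P ⟶ F}
    {snd : P ⟶ H} (sq : IsPullback fst snd f g) (hf : IsAffineMor f) : IsAffineMor snd := by
  intro Z hZ k
  obtain ⟨W, i, fstW, sqW, hW⟩ := hf hZ (k ≫ g)
  have hw : fstW ≫ f = ((yon S).map i ≫ k) ≫ g := by rw [sqW.w, Category.assoc]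
  refine ⟨W, i, sq.lift fstW ((yon S).map i ≫ k) hw, ?_, hW⟩
  have big : IsPullback (sq.lift fstW ((yon S).map i ≫ k) hw ≫ fst) ((yon S).map i) f (k ≫ g) := by
    rw [sq.lift_fst]; exact sqW
  exact IsPullback.of_right big (sq.lift_snd _ _ hw) sq

theorem isAffineMor_comp {F G H : Sp S} (f : F ⟶ G) (g : G ⟶ H) (hf : IsAffineMor f)
    (hg : IsAffineMor g) : IsAffineMor (f ≫ g) := by
  intro Z hZ k
  obtain ⟨W₁, i₁, fst₁, sq₁, hW₁⟩ := hg hZ k
  obtain ⟨W₂, i₂, fst₂, sq₂, hW₂⟩ := hf hW₁ fst₁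
  refine ⟨W₂, i₂ ≫ i₁, fst₂, ?_, hW₂⟩
  rw [CategoryTheory.Functor.map_comp]
  exact sq₂.paste_vert sq₁

theorem isAffineMor_of_isIso {F G : Sp S} (f : F ⟶ G) [IsIso f] : IsAffineMor f := by
  intro Z hZ k
  refine ⟨Z, 𝟙 Z, k ≫ inv f, ?_, hZ⟩
  rw [CategoryTheory.Functor.map_id]
  exact IsPullback.of_vert_isIso ⟨by rw [Category.assoc, IsIso.inv_hom_id, Category.comp_id,
    Category.id_comp]⟩

theorem isSurjectiveMor_comp {F G H : Sp S} (f : F ⟶ G) (g : G ⟶ H) (hf : IsSurjectiveMor f)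
    (hg : IsSurjectiveMor g) : IsSurjectiveMor (f ≫ g) := by
  intro z
  obtain ⟨y, rfl⟩ := hg z
  obtain ⟨x, rfl⟩ := hf y
  exact ⟨x, Points.map_comp f g x⟩

theorem isSurjectiveMor_of_isIso {F G : Sp S} (f : F ⟶ G) [IsIso f] : IsSurjectiveMor f := by
  intro y
  refine ⟨Points.map (inv f) y, ?_⟩
  rw [← Points.map_comp, IsIso.inv_hom_id, Points.map_id]

theorem isSurjectiveMor_of_section {F G : Sp S} (f : F ⟶ G) (e : G ⟶ F) (h : e ≫ f = 𝟙 G) :
    IsSurjectiveMor f := by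
  intro y
  refine ⟨Points.map e y, ?_⟩
  rw [← Points.map_comp, h, Points.map_id]

theorem isOpenMor_comp {A B C : Sp S} (a : A ⟶ B) (b : B ⟶ C) (ha : IsOpenMor a)
    (hb : IsOpenMor b) : IsOpenMor (a ≫ b) := by
  have e : Points.map (a ≫ b) = Points.map b ∘ Points.map a := by
    funext x; exact Points.map_comp a b x
  change IsOpenMap (Points.map (a ≫ b))
  rw [e]
  exact hb.comp ha

/-- The three properties surjective, flat, universally open. -/
def Good {F G : Sp S} (f : F ⟶ G) : Prop :=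
  IsSurjectiveMor f ∧ LocP @Flat f ∧ IsUnivOpenMor f

theorem good_of_isPullback {X Y Y' X' : Sp S} (hX : IsAlgSpace X) (hY : IsAlgSpace Y)
    (hY' : IsAlgSpace Y') {f : X ⟶ Y} {g : Y' ⟶ Y} {fst : X' ⟶ X} {f' : X' ⟶ Y'}
    (sq : IsPullback fst f' f g) (hf : Good f) : Good f' :=
  ⟨isSurjectiveMor_of_isPullback sq hf.1, locP_of_isPullback etLoc_flat hX hY hY' sq hf.2.1,
    univSp_of_isPullback sq hf.2.2⟩

theorem good_comp {X Y Z : Sp S} (hX : IsAlgSpace X) (hY : IsAlgSpace Y) (hZ : IsAlgSpace Z)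
    (f : X ⟶ Y) (g : Y ⟶ Z) (hf : Good f) (hg : Good g) : Good (f ≫ g) :=
  ⟨isSurjectiveMor_comp f g hf.1 hg.1, locP_comp etLoc_flat hX hY hZ f g hf.2.1 hg.2.1,
    univSp_comp (fun a b ha hb => isOpenMor_comp a b ha hb) hY hZ.diag f g hf.2.2 hg.2.2⟩

end Groth.Agent.H25.AS
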