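import Groth.Agent.H25.AlgSp116
import Groth.Agent.Lib.Helper24.SmoothRed

/-!
# Algebraic spaces toolkit, part 117: reducedness of stalks along smooth and flat morphisms
-/

set_option linter.style.haveILetI false

universe u

open CategoryTheory CategoryTheory.Limits AlgebraicGeometry Opposite AlgSp MorphismProperty
open Topology

namespace Groth.Agent.H25.AS

variable {S : Scheme.{u}}

/-- Reducedness of a stalk descends along a flat morphism. -/
theorem isReduced_stalk_of_flat_of_stalk {X Y : Scheme.{u}} (f : X ⟶ Y) [Flat f] (x : X)
    (h : _root_.IsReduced (X.presheaf.stalk x)) :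
    _root_.IsReduced (Y.presheaf.stalk (f.base x)) := by
  have hflat : (f.stalkMap x).hom.Flat := Flat.stalkMap f x
  algebraize [(f.stalkMap x).hom]
  haveI : IsLocalHom (algebraMap (Y.presheaf.stalk (f.base x)) (X.presheaf.stalk x)) :=
    inferInstanceAs <| IsLocalHom (f.stalkMap x).hom
  haveI : Module.FaithfullyFlat (Y.presheaf.stalk (f.base x)) (X.presheaf.stalk x) :=
    Module.FaithfullyFlat.of_flat_of_isLocalHom
  exact isReduced_of_injective (algebraMap _ (X.presheaf.stalk x))
    (FaithfulSMul.algebraMap_injective _ _)

/-- Reducedness of a stalk ascends along a smooth morphism. -/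
theorem isReduced_stalk_of_smooth {W V : Scheme.{u}} (g : W ⟶ V) [Smooth g] (w : W)
    (h : _root_.IsReduced (V.presheaf.stalk (g.base w))) :
    _root_.IsReduced (W.presheaf.stalk w) := by
  haveI : IsReduced (Spec (V.presheaf.stalk (g.base w))) := inferInstance
  haveI : Flat (V.fromSpecStalk (g.base w)) := flat_fromSpecStalk V (g.base w)
  haveI : IsReduced (pullback g (V.fromSpecStalk (g.base w))) :=
    Groth.Agent.Helper24.SmoothRed.isReduced_of_smooth_scheme
      (pullback.snd g (V.fromSpecStalk (g.base w)))
  obtain ⟨w', hw1, -⟩ := Scheme.Pullback.exists_preimage_pullback (f := g)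
    (g := V.fromSpecStalk (g.base w)) w (IsLocalRing.closedPoint _)
    (by rw [Scheme.fromSpecStalk_closedPoint])
  have := isReduced_stalk_of_flat_of_stalk (pullback.fst g (V.fromSpecStalk (g.base w))) w'
    inferInstance
  have e : (pullback.fst g (V.fromSpecStalk (g.base w))).base w' = w := hw1
  rwa [e] at this

end Groth.Agent.H25.AS
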