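import Groth.Agent.H25.AlgSp117
import Groth.Prelude.Def_FDesc

/-!
# Algebraic spaces toolkit, part 118: geometric reducedness at a point is invariant under etale
morphisms of schemes over a field
-/

set_option linter.style.haveILetI false

universe u

open CategoryTheory CategoryTheory.Limits AlgebraicGeometry Opposite AlgSp MorphismProperty
open Topology

namespace Groth.Agent.H25.AS

/-- Points of a pullback square of schemes. -/
theorem exists_preimage_of_isPullback {P X Y Z : Scheme.{u}} {fst : P ⟶ X} {snd : P ⟶ Y}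
    {f : X ⟶ Z} {g : Y ⟶ Z} (sq : IsPullback fst snd f g) (x : X) (y : Y)
    (h : f.base x = g.base y) : ∃ z : P, fst.base z = x ∧ snd.base z = y := by
  obtain ⟨z₀, h1, h2⟩ := Scheme.Pullback.exists_preimage_pullback (f := f) (g := g) x y h
  refine ⟨sq.isoPullback.inv.base z₀, ?_, ?_⟩
  · have e : sq.isoPullback.inv ≫ fst = pullback.fst f g := sq.isoPullback_inv_fst
    have e' : (sq.isoPullback.inv ≫ fst).base z₀ = (pullback.fst f g).base z₀ := by rw [e]
    exact e'.trans h1
  · have e : sq.isoPullback.inv ≫ snd = pullback.snd f g := sq.isoPullback_inv_snd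
    have e' : (sq.isoPullback.inv ≫ snd).base z₀ = (pullback.snd f g).base z₀ := by rw [e]
    exact e'.trans h2

section

variable {k : Type u} [Field k]

/-- The map between the base changes to `K` induced by a morphism of `k`-schemes. -/
noncomputable def bcMap {W V : Scheme.{u}} (fV : V ⟶ Spec (CommRingCat.of k)) (h : W ⟶ V)
    (K : Type u) [Field K] [Algebra k K] : FBase.bc (h ≫ fV) K ⟶ FBase.bc fV K :=
  pullback.lift (FBase.bcπ (h ≫ fV) K ≫ h) (FBase.bcStr (h ≫ fV) K)
    (by simp only [FBase.bcπ, FBase.bcStr, Category.assoc]; exact pullback.condition)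

theorem bcMap_isPullback {W V : Scheme.{u}} (fV : V ⟶ Spec (CommRingCat.of k)) (h : W ⟶ V)
    (K : Type u) [Field K] [Algebra k K] :
    IsPullback (FBase.bcπ (h ≫ fV) K) (bcMap fV h K) h (FBase.bcπ fV K) := by
  have bot : IsPullback (FBase.bcπ fV K) (FBase.bcStr fV K) fV
      (Spec.map (CommRingCat.ofHom (algebraMap k K))) := IsPullback.of_hasPullback _ _
  have big : IsPullback (FBase.bcπ (h ≫ fV) K) (bcMap fV h K ≫ FBase.bcStr fV K) (h ≫ fV)
      (Spec.map (CommRingCat.ofHom (algebraMap k K))) := by
    have e : bcMap fV h K ≫ FBase.bcStr fV K = FBase.bcStr (h ≫ fV) K := pullback.lift_snd _ _ _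
    rw [e]
    exact IsPullback.of_hasPullback _ _
  exact IsPullback.of_bot big (pullback.lift_fst _ _ _).symm bot

/-- Geometric reducedness at a point is invariant under etale morphisms. -/
theorem isGeomReducedAt_iff_of_etale {W V : Scheme.{u}} (fV : V ⟶ Spec (CommRingCat.of k))
    (h : W ⟶ V) [Etale h] (w : W) :
    FBase.IsGeomReducedAt (h ≫ fV) w ↔ FBase.IsGeomReducedAt fV (h.base w) := by
  constructor
  · intro hW K _ _ v' hv'
    have sq := bcMap_isPullback fV h K
    haveI : Etale (bcMap fV h K) := MorphismProperty.of_isPullback (P := @Etale) sq inferInstance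
    obtain ⟨w', hw1, hw2⟩ := exists_preimage_of_isPullback sq w v' hv'.symm
    have := isReduced_stalk_of_flat_of_stalk (bcMap fV h K) w' (hW K w' hw1)
    rwa [hw2] at this
  · intro hV K _ _ w' hw'
    have sq := bcMap_isPullback fV h K
    haveI : Etale (bcMap fV h K) := MorphismProperty.of_isPullback (P := @Etale) sq inferInstance
    refine isReduced_stalk_of_smooth (bcMap fV h K) w' (hV K _ ?_)
    have e := congrArg (fun φ => φ.base w') sq.w
    simp only [Scheme.Hom.comp_base, TopCat.comp_app] at e
    rw [← e]
    exact congrArg h.base hw'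

end

end Groth.Agent.H25.AS

namespace Groth.Agent.H25.AS

theorem isGeomReducedAt_iff_of_etale_over {k : Type u} [Field k]
    {W V : Over (Spec (CommRingCat.of k))} (h : W ⟶ V) [Etale h.left] (w : ↥W.left) :
    FBase.IsGeomReducedAt W.hom w ↔ FBase.IsGeomReducedAt V.hom (h.left.base w) := by
  have := isGeomReducedAt_iff_of_etale V.hom h.left w
  rwa [Over.w h] at this

/-- Transfer of geometric reducedness between two etale charts at points with the same image. -/
theorem isGeomReducedAt_of_charts {k : Type u} [Field k] {X : Sp (Spec (CommRingCat.of k))}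
    {U V : Over (Spec (CommRingCat.of k))} (a : (yon _).obj U ⟶ X) (b : (yon _).obj V ⟶ X)
    (ha : RepWith @Etale a) (hb : RepWith @Etale b) (u : ↥U.left) (v : ↥V.left)
    (e : Points.ofPt a u = Points.ofPt b v) (hu : FBase.IsGeomReducedAt U.hom u) :
    FBase.IsGeomReducedAt V.hom v := by
  have sq := hb.rep.isPullback' a
  haveI h2e : Etale (hb.rep.snd a).left := hb.property_snd a
  haveI h1e : Etale (hb.rep.fst' a).left := ha.property _ _ _ sq.flip
  obtain ⟨z, hz1, hz2⟩ := exists_point_of_isPullback' sq u v e
  have hz1' : (hb.rep.snd a).left.base z = u := hz1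
  have hz2' : (hb.rep.fst' a).left.base z = v := hz2
  have hW := (isGeomReducedAt_iff_of_etale_over (hb.rep.snd a) z).mpr (by rw [hz1']; exact hu)
  have := (isGeomReducedAt_iff_of_etale_over (hb.rep.fst' a) z).mp hW
  rwa [hz2'] at this

end Groth.Agent.H25.AS
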