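import Groth.Agent.H25.AlgSp118

/-!
# Algebraic spaces toolkit, part 119: basic opens and units
-/

set_option linter.style.haveILetI false

universe u

open CategoryTheory CategoryTheory.Limits AlgebraicGeometry Opposite

namespace Groth.Agent.H25.AS

theorem isUnit_ι_appTop_basicOpen (X : Scheme.{u}) (s : Γ(X, ⊤)) :
    IsUnit ((X.basicOpen s).ι.appTop.hom s) := by
  have h1 := X.toRingedSpace.isUnit_res_basicOpen s
  have e : (X.basicOpen s).ι ''ᵁ ⊤ = X.basicOpen s := Scheme.Opens.ι_image_top _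
  have h2 := h1.map (X.presheaf.map (homOfLE e.le).op).hom
  have h3 : IsUnit ((X.presheaf.map
      (homOfLE (le_top : (X.basicOpen s).ι ''ᵁ ⊤ ≤ ⊤)).op).hom s) := by
    have : X.presheaf.map (homOfLE (le_top : (X.basicOpen s).ι ''ᵁ ⊤ ≤ ⊤)).op =
        X.presheaf.map (homOfLE (X.basicOpen_le s)).op ≫ X.presheaf.map (homOfLE e.le).op := by
      rw [← Functor.map_comp]; rfl
    rw [this]
    exact h2
  exact h3

theorem mem_basicOpen_or (X : Scheme.{u}) (s : Γ(X, ⊤)) (x : X) :
    x ∈ X.basicOpen s ∨ x ∈ X.basicOpen (1 - s) := by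
  rw [Scheme.mem_basicOpen_top, Scheme.mem_basicOpen_top, map_sub, map_one]
  exact IsLocalRing.isUnit_or_isUnit_one_sub_self _

end Groth.Agent.H25.AS
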