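import Groth.Agent.H25.AlgSp11

/-!
# Algebraic spaces toolkit, part 12: calculus of `UnivSp` and quasi-compact morphisms
-/

universe u

open CategoryTheory CategoryTheory.Limits AlgebraicGeometry Opposite AlgSp

namespace Groth.Agent.H25.AS

variable {S : Scheme.{u}}

theorem univSp_of_isPullback {Q : MorphismProperty (Sp S)} {F G H P : Sp S} {f : F ⟶ G}
    {g : H ⟶ G} {fst : P ⟶ F} {snd : P ⟶ H} (sq : IsPullback fst snd f g) (hf : UnivSp Q f) :
    UnivSp Q snd := by
  intro Z Z' hZ k fst' snd' sq'
  exact hf hZ (k ≫ g) (fst' ≫ fst) snd' (sq'.paste_horiz sq)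

theorem isQuasiCompactMor_of_isPullback {F G H P : Sp S} {f : F ⟶ G}
    {g : H ⟶ G} {fst : P ⟶ F} {snd : P ⟶ H} (sq : IsPullback fst snd f g)
    (hf : IsQuasiCompactMor f) : IsQuasiCompactMor snd := by
  intro Z Z' hZ hZqc k fst' snd' sq'
  exact hf hZ hZqc (k ≫ g) (fst' ≫ fst) snd' (sq'.paste_horiz sq)

/-- A sheaf covered by a quasi-compact sheaf via a representable etale surjection is
quasi-compact. -/
theorem isQuasiCompactSp_of_chart {F P : Sp S} (c : P ⟶ F) (hce : RepWith @Etale c)
    (hcs : RepWith @Surjective c) (hP : IsQuasiCompactSp P) : IsQuasiCompactSp F := by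
  obtain ⟨W, p, hpe, hps, hW⟩ := hP
  exact ⟨W, p ≫ c, repWith_etale_comp hpe hce, repWith_surjective_comp hps hcs, hW⟩

/-- A morphism whose base changes to affine schemes are quasi-compact sheaves is quasi-compact. -/
theorem isQuasiCompactMor_of_affine {F G : Sp S} (f : F ⟶ G)
    (h : ∀ (Z : Over S), IsAffine Z.left → ∀ (g : (yon S).obj Z ⟶ G) (P : Sp S)
      (fst : P ⟶ F) (snd : P ⟶ (yon S).obj Z), IsPullback fst snd f g → IsQuasiCompactSp P) :
    IsQuasiCompactMor f := by
  intro Z Z' _ hZqc g fst snd sq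
  obtain ⟨U, p, hU, hpe, hps⟩ := exists_affine_chart hZqc
  have sqP := IsPullback.of_hasPullback snd p
  have hP := h U hU (p ≫ g) _ _ _ (sqP.paste_horiz sq)
  exact isQuasiCompactSp_of_chart (pullback.fst snd p) (repWith_fst_of_isPullback sqP hpe)
    (repWith_fst_of_isPullback sqP hps) hP

/-- The image of a quasi-compact sheaf under a surjective morphism to an algebraic space is
quasi-compact. -/
theorem isQuasiCompactSp_of_isSurjectiveMor {F G : Sp S} (hG : IsAlgSpace G) (f : F ⟶ G)
    (hf : IsSurjectiveMor f) (hF : IsQuasiCompactSp F) : IsQuasiCompactSp G := by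
  rw [isQuasiCompactSp_iff_compactSpace hG]
  have := compactSpace_of_isQuasiCompactSp hF
  constructor
  have h := (isCompact_univ (X := Points F)).image (Points.continuous_map f)
  rwa [Set.image_univ, hf.range_eq] at h

end Groth.Agent.H25.AS
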