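import Groth.Agent.H25.AlgSp12

/-!
# Algebraic spaces toolkit, part 13: descent of topological properties along families of charts
-/

universe u v w

open CategoryTheory CategoryTheory.Limits AlgebraicGeometry Opposite AlgSp

namespace Groth.Agent.H25.AS

section Sets

variable {A : Type*} {B : Type*} (f : A → B)
  {ι : Type*} {H : ι → Type*} {P : ι → Type*}
  (c : ∀ i, H i → B) (s : ∀ i, P i → H i) (t : ∀ i, P i → A)

theorem injective_of_family (hsurj : ∀ b, ∃ i h, c i h = b)
    (hs : ∀ i, Function.Injective (s i))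
    (cart : ∀ i h a, c i h = f a → ∃ π, s i π = h ∧ t i π = a) : Function.Injective f := by
  intro a a' haa
  obtain ⟨i, h, hh⟩ := hsurj (f a)
  obtain ⟨π, hπ1, hπ2⟩ := cart i h a hh
  obtain ⟨π', hπ1', hπ2'⟩ := cart i h a' (hh.trans haa)
  have : π = π' := hs i (hπ1.trans hπ1'.symm)
  rw [← hπ2, ← hπ2', this]

theorem surjective_of_family (hsurj : ∀ b, ∃ i h, c i h = b)
    (hs : ∀ i, Function.Surjective (s i))
    (comm : ∀ i π, c i (s i π) = f (t i π)) : Function.Surjective f := by
  intro b
  obtain ⟨i, h, rfl⟩ := hsurj b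
  obtain ⟨π, rfl⟩ := hs i h
  exact ⟨t i π, (comm i π).symm⟩

end Sets

section Topology

variable {A : Type*} {B : Type*} [TopologicalSpace A] [TopologicalSpace B] (f : A → B)
  {ι : Type*} {H : ι → Type*} {P : ι → Type*} [∀ i, TopologicalSpace (H i)]
  [∀ i, TopologicalSpace (P i)]
  (c : ∀ i, H i → B) (s : ∀ i, P i → H i) (t : ∀ i, P i → A)

include c s t in
theorem isOpenMap_of_family (hc : ∀ i, IsOpenMap (c i)) (hsurj : ∀ b, ∃ i h, c i h = b)
    (ht : ∀ i, Continuous (t i)) (hs : ∀ i, IsOpenMap (s i))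
    (comm : ∀ i π, c i (s i π) = f (t i π))
    (cart : ∀ i h a, c i h = f a → ∃ π, s i π = h ∧ t i π = a) : IsOpenMap f := by
  intro W hW
  have e : f '' W = ⋃ i, c i '' (s i '' (t i ⁻¹' W)) := by
    ext b
    simp only [Set.mem_image, Set.mem_iUnion, Set.mem_preimage]
    constructor
    · rintro ⟨a, ha, rfl⟩
      obtain ⟨i, h, hh⟩ := hsurj (f a)
      obtain ⟨π, hπ1, hπ2⟩ := cart i h a hh
      exact ⟨i, h, ⟨π, by rw [hπ2]; exact ha, hπ1⟩, hh⟩
    · rintro ⟨i, h, ⟨π, hπ, rfl⟩, rfl⟩
      exact ⟨t i π, hπ, (comm i π).symm⟩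
  rw [e]
  exact isOpen_iUnion fun i => hc i _ (hs i _ (hW.preimage (ht i)))

include c s t in
theorem isClosedMap_of_family (hc : ∀ i, IsOpenMap (c i)) (hsurj : ∀ b, ∃ i h, c i h = b)
    (ht : ∀ i, Continuous (t i)) (hs : ∀ i, IsClosedMap (s i))
    (comm : ∀ i π, c i (s i π) = f (t i π))
    (cart : ∀ i h a, c i h = f a → ∃ π, s i π = h ∧ t i π = a) : IsClosedMap f := by
  intro C hC
  rw [← isOpen_compl_iff]
  have e : (f '' C)ᶜ = ⋃ i, c i '' (s i '' (t i ⁻¹' C))ᶜ := by
    ext b
    simp only [Set.mem_compl_iff, Set.mem_image, Set.mem_iUnion, Set.mem_preimage]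
    constructor
    · intro hb
      obtain ⟨i, h, hh⟩ := hsurj b
      refine ⟨i, h, ?_, hh⟩
      rintro ⟨π, hπ, rfl⟩
      exact hb ⟨t i π, hπ, by rw [← comm, hh]⟩
    · rintro ⟨i, h, hh, rfl⟩ ⟨a, ha, hab⟩
      obtain ⟨π, hπ1, hπ2⟩ := cart i h a hab.symm
      exact hh ⟨π, by rw [hπ2]; exact ha, hπ1⟩
  rw [e]
  exact isOpen_iUnion fun i => hc i _ (hs i _ (hC.preimage (ht i))).isOpen_compl

include c s t in
theorem isQuotientMap_of_family (hf : Continuous f) (hc : ∀ i, IsOpenMap (c i))
    (hsurj : ∀ b, ∃ i h, c i h = b)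
    (hs : ∀ i, Topology.IsQuotientMap (s i))
    (comm : ∀ i π, c i (s i π) = f (t i π))
    (ht : ∀ i, Continuous (t i)) : Topology.IsQuotientMap f := by
  refine ⟨Topology.isCoinducing_iff.2 fun W => ?_,
    surjective_of_family f c s t hsurj (fun i => (hs i).surjective) comm⟩
  refine ⟨fun hW => ?_, fun hW => hW.preimage hf⟩
  have e : W = ⋃ i, c i '' (c i ⁻¹' W) := by
    ext b
    simp only [Set.mem_iUnion, Set.mem_image, Set.mem_preimage]
    constructor
    · intro hb
      obtain ⟨i, h, rfl⟩ := hsurj b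
      exact ⟨i, h, hb, rfl⟩
    · rintro ⟨i, h, hh, rfl⟩
      exact hh
  rw [e]
  refine isOpen_iUnion fun i => hc i _ ?_
  rw [← (hs i).isCoinducing.isOpen_preimage]
  have : s i ⁻¹' (c i ⁻¹' W) = t i ⁻¹' (f ⁻¹' W) := by
    ext π
    simp only [Set.mem_preimage, comm]
  rw [this]
  exact hW.preimage (ht i)

end Topology

section Points

variable {S : Scheme.{u}}

theorem isOpenMap_map_of_etale {F G : Sp S} (f : F ⟶ G) (hf : RepWith @Etale f) :
    IsOpenMap (Points.map f) :=
  isOpenMap_map_of_repWith f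
    (repWith_mono (fun _ _ g (_ : Etale g) => (inferInstance : UniversallyOpen g)) hf)

/-- A property of morphisms of sheaves (in practice: of the induced maps on points) descends along
jointly surjective families of morphisms that are open on points. -/
def DescFam (Q : MorphismProperty (Sp S)) : Prop :=
  ∀ ⦃Z Z' : Sp S⦄ (snd : Z' ⟶ Z) (ι : Type u) (H P : ι → Sp S) (c : ∀ i, H i ⟶ Z)
    (t : ∀ i, P i ⟶ Z') (s : ∀ i, P i ⟶ H i),
    (∀ i, IsPullback (t i) (s i) snd (c i)) → (∀ i, IsOpenMap (Points.map (c i))) →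
    (∀ z : Points Z, ∃ i h, Points.map (c i) h = z) → (∀ i, Q (s i)) → Q snd

theorem comm_of_isPullback {Z Z' H P : Sp S} {snd : Z' ⟶ Z} {c : H ⟶ Z} {t : P ⟶ Z'} {s : P ⟶ H}
    (sq : IsPullback t s snd c) (π : Points P) :
    Points.map c (Points.map s π) = Points.map snd (Points.map t π) := by
  rw [← Points.map_comp, ← Points.map_comp, sq.w]

theorem cart_of_isPullback {Z Z' H P : Sp S} {snd : Z' ⟶ Z} {c : H ⟶ Z} {t : P ⟶ Z'} {s : P ⟶ H}
    (sq : IsPullback t s snd c) (h : Points H) (a : Points Z')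
    (e : Points.map c h = Points.map snd a) :
    ∃ π, Points.map s π = h ∧ Points.map t π = a :=
  exists_of_isPullback sq.flip h a e

theorem descFam_isOpenMor : DescFam (S := S) IsOpenMor :=
  fun _ _ snd _ _ _ c t s sq hc hsurj hs =>
    isOpenMap_of_family (Points.map snd) (fun i => Points.map (c i)) (fun i => Points.map (s i))
      (fun i => Points.map (t i)) hc hsurj (fun _ => Points.continuous_map _) hs
      (fun i => comm_of_isPullback (sq i)) (fun i => cart_of_isPullback (sq i))

theorem descFam_isClosedMor : DescFam (S := S) IsClosedMor :=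
  fun _ _ snd _ _ _ c t s sq hc hsurj hs =>
    isClosedMap_of_family (Points.map snd) (fun i => Points.map (c i)) (fun i => Points.map (s i))
      (fun i => Points.map (t i)) hc hsurj (fun _ => Points.continuous_map _) hs
      (fun i => comm_of_isPullback (sq i)) (fun i => cart_of_isPullback (sq i))

theorem descFam_injective :
    DescFam (S := S) (fun _ _ f => Function.Injective (Points.map f)) :=
  fun _ _ snd _ _ _ c t s sq _ hsurj hs =>
    injective_of_family (Points.map snd) (fun i => Points.map (c i)) (fun i => Points.map (s i))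
      (fun i => Points.map (t i)) hsurj hs (fun i => cart_of_isPullback (sq i))

theorem descFam_isSubmersiveMor : DescFam (S := S) IsSubmersiveMor :=
  fun _ _ snd _ _ _ c t s sq hc hsurj hs =>
    isQuotientMap_of_family (Points.map snd) (fun i => Points.map (c i))
      (fun i => Points.map (s i))
      (fun i => Points.map (t i)) (Points.continuous_map _) hc hsurj hs
      (fun i => comm_of_isPullback (sq i)) (fun _ => Points.continuous_map _)

theorem descFam_isHomeomorph :
    DescFam (S := S) (fun _ _ f => IsHomeomorph (Points.map f)) := by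
  intro Z Z' snd ι H P c t s sq hc hsurj hs
  refine ⟨Points.continuous_map _, ?_, ?_, ?_⟩
  · exact descFam_isOpenMor snd ι H P c t s sq hc hsurj (fun i => (hs i).isOpenMap)
  · exact descFam_injective snd ι H P c t s sq hc hsurj (fun i => (hs i).injective)
  · exact surjective_of_family (Points.map snd) (fun i => Points.map (c i))
      (fun i => Points.map (s i)) (fun i => Points.map (t i)) hsurj
      (fun i => (hs i).surjective) (fun i => comm_of_isPullback (sq i))

/-- Core of descent of `UnivSp Q` along one base change `p`. -/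
theorem univSp_of_base {Q : MorphismProperty (Sp S)} {F G H₀ P₀ : Sp S}
    (f : F ⟶ G) (p : H₀ ⟶ G)
    (fst₀ : P₀ ⟶ F) (snd₀ : P₀ ⟶ H₀) (sq₀ : IsPullback fst₀ snd₀ f p) (h : UnivSp Q snd₀)
    (hZV : ∀ ⦃Z : Sp S⦄, IsAlgSpace Z → ∀ g : Z ⟶ G, IsAlgSpace (pullback g p))
    (hQ : ∀ ⦃Z Z' : Sp S⦄ (snd : Z' ⟶ Z) (g : Z ⟶ G),
      Q (pullback.snd snd (pullback.fst g p)) → Q snd) :
    UnivSp Q f := by
  intro Z Z' hZ g fst snd sq
  have sqc := IsPullback.of_hasPullback g p
  have sqP := IsPullback.of_hasPullback snd (pullback.fst g p)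
  have big := sqP.paste_horiz sq
  have hw : (pullback.fst snd (pullback.fst g p) ≫ fst) ≫ f =
      (pullback.snd snd (pullback.fst g p) ≫ pullback.snd g p) ≫ p := by
    rw [big.w, Category.assoc, sqc.w]
  have e1 : sq₀.lift _ _ hw ≫ fst₀ = pullback.fst snd (pullback.fst g p) ≫ fst :=
    sq₀.lift_fst _ _ hw
  have e2 : sq₀.lift _ _ hw ≫ snd₀ = pullback.snd snd (pullback.fst g p) ≫ pullback.snd g p :=
    sq₀.lift_snd _ _ hw
  rw [← e1, sqc.w] at big
  have left := IsPullback.of_right big e2 sq₀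
  exact hQ snd g (h (hZV hZ g) _ _ _ left)

/-- Descent of `UnivSp Q` along one representable etale surjective base change. -/
theorem univSp_of_chart {Q : MorphismProperty (Sp S)} (hQ : DescFam Q) {F G H₀ P₀ : Sp S}
    (f : F ⟶ G) (p : H₀ ⟶ G) (hpe : RepWith @Etale p) (hps : RepWith @Surjective p)
    (fst₀ : P₀ ⟶ F) (snd₀ : P₀ ⟶ H₀) (sq₀ : IsPullback fst₀ snd₀ f p) (h : UnivSp Q snd₀) :
    UnivSp Q f := by
  refine univSp_of_base f p fst₀ snd₀ sq₀ h (fun Z hZ g => ?_) (fun Z Z' snd g hs => ?_)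
  · exact isAlgSpace_of_representable _
      (repWith_fst_of_isPullback (IsPullback.of_hasPullback g p) hpe).rep hZ
  · have sqc := IsPullback.of_hasPullback g p
    have hce := repWith_fst_of_isPullback sqc hpe
    have hcs := repWith_fst_of_isPullback sqc hps
    exact hQ snd PUnit (fun _ => pullback g p) (fun _ => pullback snd (pullback.fst g p))
      (fun _ => pullback.fst g p) (fun _ => pullback.fst snd (pullback.fst g p))
      (fun _ => pullback.snd snd (pullback.fst g p))
      (fun _ => IsPullback.of_hasPullback snd (pullback.fst g p))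
      (fun _ => isOpenMap_map_of_etale _ hce)
      (fun z => by
        obtain ⟨h, hh⟩ := isSurjectiveMor_of_repWith _ hcs z
        exact ⟨PUnit.unit, h, hh⟩)
      (fun _ => hs)

/-- Universal injectivity descends along a base change that is surjective on points. -/
theorem univInjective_of_surjective_base {F G H₀ P₀ : Sp S} (hG : Representable (Limits.diag G))
    (hH₀ : IsAlgSpace H₀) (f : F ⟶ G) (p : H₀ ⟶ G) (hp : IsSurjectiveMor p)
    (fst₀ : P₀ ⟶ F) (snd₀ : P₀ ⟶ H₀) (sq₀ : IsPullback fst₀ snd₀ f p)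
    (h : IsUnivInjectiveMor snd₀) : IsUnivInjectiveMor f := by
  refine univSp_of_base f p fst₀ snd₀ sq₀ h (fun Z hZ g => ?_) (fun Z Z' snd g hs => ?_)
  · exact isAlgSpace_of_isPullback hG hZ hH₀ (IsPullback.of_hasPullback g p)
  · have sqc := IsPullback.of_hasPullback g p
    have hcs : IsSurjectiveMor (pullback.fst g p) := isSurjectiveMor_of_isPullback sqc.flip hp
    have sqP := IsPullback.of_hasPullback snd (pullback.fst g p)
    exact injective_of_family (Points.map snd) (fun _ : Unit => Points.map (pullback.fst g p))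
      (fun _ => Points.map (pullback.snd snd (pullback.fst g p)))
      (fun _ => Points.map (pullback.fst snd (pullback.fst g p)))
      (fun z => by
        obtain ⟨h, hh⟩ := hcs z
        exact ⟨(), h, hh⟩)
      (fun _ => hs) (fun _ => cart_of_isPullback sqP)

/-- `UnivSp Q` can be tested on base changes to affine schemes. -/
theorem univSp_of_affine {Q : MorphismProperty (Sp S)} (hQ : DescFam Q) {F G : Sp S} (f : F ⟶ G)
    (h : ∀ (Z : Over S), IsAffine Z.left → ∀ (g : (yon S).obj Z ⟶ G) (P : Sp S) (fst : P ⟶ F)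
      (snd : P ⟶ (yon S).obj Z), IsPullback fst snd f g → Q snd) : UnivSp Q f := by
  intro Z Z' hZ g fst snd sq
  obtain ⟨U, p, hpe, hps⟩ := hZ.atlas
  let c : ∀ i : U.left.affineOpens, (yon S).obj (openOver U i.1) ⟶ Z :=
    fun i => (yon S).map (openIncl U i.1) ≫ p
  have hce : ∀ i, RepWith @Etale (c i) := fun i =>
    repWith_etale_comp (repWith_etale_openIncl U i.1) hpe
  refine hQ snd U.left.affineOpens (fun i => (yon S).obj (openOver U i.1))
    (fun i => pullback snd (c i)) c (fun i => pullback.fst snd (c i))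
    (fun i => pullback.snd snd (c i)) (fun i => IsPullback.of_hasPullback snd (c i))
    (fun i => isOpenMap_map_of_etale _ (hce i)) (fun z => ?_) (fun i => ?_)
  · obtain ⟨x, rfl⟩ := ofPt_surjective p hps z
    obtain ⟨_, ⟨W, hW, rfl⟩, hxW, -⟩ := (U.left.isBasis_affineOpens).exists_subset_of_mem_open
      (Set.mem_univ x) isOpen_univ
    refine ⟨⟨W, hW⟩, Points.ofScheme _ ⟨x, hxW⟩, ?_⟩
    rw [← Points.ofPt_eq_map_ofScheme, ofPt_map_comp]
    rfl
  · exact h (openOver U i.1) i.2 (c i ≫ g) _ _ _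
      ((IsPullback.of_hasPullback snd (c i)).paste_horiz sq)

end Points

end Groth.Agent.H25.AS
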