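import Groth.Agent.H25.AlgSp14
import Mathlib.AlgebraicGeometry.Morphisms.QuasiFinite

/-!
# Algebraic spaces toolkit, part 15: descent along one fppf chart, cancellation of monomorphisms,
the relative diagonal of a morphism of algebraic spaces
-/

universe u

open CategoryTheory CategoryTheory.Limits AlgebraicGeometry Opposite AlgSp

namespace Groth.Agent.H25.AS

variable {S : Scheme.{u}}

/-- The class of fppf covering morphisms of schemes. -/
abbrev FppfCov : MorphismProperty Scheme.{u} :=
  @Surjective ⊓ @Flat ⊓ @LocallyOfFinitePresentation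

theorem repWith_fppfCov_of_etale {F G : Sp S} {b : F ⟶ G} (hbe : RepWith @Etale b)
    (hbs : RepWith @Surjective b) : RepWith FppfCov b :=
  ⟨hbe.rep, fun _ _ g fst snd sq =>
    have : Etale snd.left := hbe.property g fst snd sq
    ⟨⟨hbs.property g fst snd sq, (inferInstance : Flat snd.left)⟩,
      (inferInstance : LocallyOfFinitePresentation snd.left)⟩⟩

/-- Descent of `RepWith P` along one representable fppf covering morphism, for `P` satisfying
fppf descent. -/
theorem repWith_of_fppf_base {F G H Q : Sp S} (a : F ⟶ G) (ha : Representable a)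
    (b : H ⟶ G) (hb : RepWith FppfCov b) (b' : Q ⟶ F) (a' : Q ⟶ H)
    (sq : IsPullback b' a' a b) (P : MorphismProperty Scheme.{u}) [P.IsStableUnderBaseChange]
    [P.DescendsAlong FppfCov] (h : RepWith P a') : RepWith P a := by
  refine ⟨ha, fun U V g fst snd sqg => ?_⟩
  have sqb := hb.rep.isPullback g
  have hφ : FppfCov (hb.rep.snd g).left := hb.property_snd g
  have sqV := (IsPullback.of_hasPullback snd (hb.rep.snd g)).map (yon S)
  have big := sqV.paste_horiz sqg
  rw [← sqb.w] at big
  have key := IsPullback.of_right' big sq
  have hP : P (pullback.snd snd (hb.rep.snd g)).left := h.property _ _ _ key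
  have sqS := (IsPullback.of_hasPullback snd (hb.rep.snd g)).map (Over.forget S)
  exact MorphismProperty.of_isPullback_of_descendsAlong (P := P) (Q := FppfCov) sqS.flip hφ hP

/-- Descent of `RepWith P` along one representable etale surjective base change. -/
theorem repWith_of_etale_base {F G H Q : Sp S} (a : F ⟶ G) (ha : Representable a)
    (b : H ⟶ G) (hbe : RepWith @Etale b) (hbs : RepWith @Surjective b) (b' : Q ⟶ F) (a' : Q ⟶ H)
    (sq : IsPullback b' a' a b) (P : MorphismProperty Scheme.{u}) [P.IsStableUnderBaseChange]
    [P.DescendsAlong FppfCov] (h : RepWith P a') : RepWith P a :=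
  repWith_of_fppf_base a ha b (repWith_fppfCov_of_etale hbe hbs) b' a' sq P h

section Cat

variable {C : Type*} [Category C]

/-- Pullback squares of `g` along `u` and of `g ≫ m` along `u ≫ m` agree for `m` mono. -/
theorem isPullback_of_comp_mono {A B C' T P : C} {g : C' ⟶ A} {m : A ⟶ B} [Mono m] {u : T ⟶ A}
    {fst : P ⟶ C'} {snd : P ⟶ T} (h : IsPullback fst snd (g ≫ m) (u ≫ m)) :
    IsPullback fst snd g u := by
  refine isPullback_of_lift ?_ ?_ ?_
  · rw [← cancel_mono m, Category.assoc, Category.assoc, h.w]
  · intro W x y hxy
    exact h.exists_lift x y (by rw [← Category.assoc, hxy, Category.assoc])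
  · intro W l l' h1 h2
    exact h.hom_ext h1 h2

end Cat

theorem representable_of_comp_mono {A B C' : Sp S} {g : C' ⟶ A} {m : A ⟶ B} [Mono m]
    (h : Representable (g ≫ m)) : Representable g := by
  intro T u
  exact ⟨h.pullback (u ≫ m), h.snd (u ≫ m), h.fst (u ≫ m),
    isPullback_of_comp_mono (h.isPullback (u ≫ m))⟩

theorem repWith_of_comp_mono {P : MorphismProperty Scheme.{u}} {A B C' : Sp S} {g : C' ⟶ A}
    {m : A ⟶ B} [Mono m] (h : RepWith P (g ≫ m)) : RepWith P g := by
  refine ⟨representable_of_comp_mono h.rep, fun U V u fst snd sq => ?_⟩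
  refine h.property (u ≫ m) fst snd ?_
  have t : IsPullback u (𝟙 ((yon S).obj U)) m (u ≫ m) := by
    refine isPullback_of_lift (by simp) ?_ ?_
    · intro W x y hxy
      refine ⟨y, ?_, by simp⟩
      rw [← cancel_mono m, hxy, Category.assoc]
    · intro W l l' _ h2
      simpa using h2
  have := sq.paste_vert t
  rwa [Category.comp_id] at this

section Cat

variable {C : Type*} [Category C] [HasPullbacks C] [HasBinaryProducts C]

theorem diagonal_comp_prod_lift {X Y : C} (f : X ⟶ Y) :
    pullback.diagonal f ≫ prod.lift (pullback.fst f f) (pullback.snd f f) = Limits.diag X := by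
  apply Limits.prod.hom_ext
  · psimp
    pbsimp
  · psimp
    pbsimp

instance mono_prod_lift_pullback {X Y : C} (f : X ⟶ Y) :
    Mono (prod.lift (pullback.fst f f) (pullback.snd f f)) := by
  refine ⟨fun a b h => pullback.hom_ext ?_ ?_⟩
  · have := congrArg (fun k => k ≫ prod.fst) h
    psimp at this
    exact this
  · have := congrArg (fun k => k ≫ prod.snd) h
    psimp at this
    exact this

end Cat

/-- The relative diagonal of any morphism out of a sheaf with representable diagonal is
representable. -/
theorem representable_diagonal_of_diag {X Y : Sp S} (hX : Representable (Limits.diag X))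
    (f : X ⟶ Y) : Representable (pullback.diagonal f) := by
  apply representable_of_comp_mono (m := prod.lift (pullback.fst f f) (pullback.snd f f))
  rw [diagonal_comp_prod_lift]
  exact hX

theorem repWith_diagonal_of_diag {P : MorphismProperty Scheme.{u}} {X Y : Sp S}
    (hX : RepWith P (Limits.diag X)) (f : X ⟶ Y) : RepWith P (pullback.diagonal f) := by
  apply repWith_of_comp_mono (m := prod.lift (pullback.fst f f) (pullback.snd f f))
  rw [diagonal_comp_prod_lift]
  exact hX

theorem repWith_inf {P Q : MorphismProperty Scheme.{u}} {F G : Sp S} {f : F ⟶ G}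
    (h1 : RepWith P f) (h2 : RepWith Q f) : RepWith (P ⊓ Q) f :=
  ⟨h1.rep, fun _ _ g fst snd sq => ⟨h1.property g fst snd sq, h2.property g fst snd sq⟩⟩

/-- A representable monomorphism of sheaves is representable by monomorphisms of schemes. -/
theorem repWith_monomorphisms_of_mono {F G : Sp S} (f : F ⟶ G) [Mono f] (hf : Representable f) :
    RepWith (MorphismProperty.monomorphisms Scheme.{u}) f := by
  refine ⟨hf, fun U V g fst snd sq => ?_⟩
  have h1 : Mono ((yon S).map snd) := by
    refine ⟨fun a b hab => sq.hom_ext ?_ hab⟩
    rw [← cancel_mono f, Category.assoc, Category.assoc, sq.w, ← Category.assoc, hab,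
      Category.assoc]
  have h2 : Mono snd := (yon S).mono_of_mono_map h1
  exact (inferInstance : Mono snd.left)

/-- The diagonal of a sheaf with an etale atlas has every property with fppf descent that the
map `R ⟶ U ×_S U` has. -/
theorem repWith_diag_of_atlas (P : MorphismProperty Scheme.{u}) [P.IsStableUnderBaseChange]
    [P.DescendsAlong FppfCov] {X : Sp S} (hX : Representable (Limits.diag X)) {U : Over S}
    (p : (yon S).obj U ⟶ X) (hpe : RepWith @Etale p) (hps : RepWith @Surjective p)
    (hP : ∀ (R : Over S) (s t : R ⟶ U), IsPullback ((yon S).map t) ((yon S).map s) p p →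
      P (prod.lift t s).left) : RepWith P (Limits.diag X) := by
  have : P.RespectsIso := MorphismProperty.IsStableUnderBaseChange.respectsIso
  have sq := hpe.rep.isPullback' p
  have big := isPullback_prod_lift_diag sq
  refine repWith_of_etale_base (Limits.diag X) hX (prod.map p p)
    (repWith_prod_map @Etale p p hpe hpe) (repWith_prod_map @Surjective p p hps hps) _ _ big P ?_
  have e : prod.lift ((yon S).map (hpe.rep.fst' p)) ((yon S).map (hpe.rep.snd p)) =
      (yon S).map (prod.lift (hpe.rep.fst' p) (hpe.rep.snd p)) ≫ prodComparison (yon S) U U := by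
    apply Limits.prod.hom_ext
    · simp only [prodComparison, Category.assoc, prod.lift_fst, ← Functor.map_comp]
    · simp only [prodComparison, Category.assoc, prod.lift_snd, ← Functor.map_comp]
  rw [e]
  exact (MorphismProperty.cancel_right_of_respectsIso (RepWith P) _ _).2
    ((repWith_yon_map_iff P _).2 (hP _ _ _ sq))

theorem repWith_diag_locallyOfFiniteType {X : Sp S} (hX : IsAlgSpace X) :
    RepWith @LocallyOfFiniteType (Limits.diag X) := by
  obtain ⟨U, p, hpe, hps⟩ := hX.atlas
  refine repWith_diag_of_atlas @LocallyOfFiniteType hX.diag p hpe hps fun R s t sq => ?_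
  have ht : Etale t.left := hpe.property p _ t sq.flip
  have e : (prod.lift t s).left ≫ (prod.fst : U ⨯ U ⟶ U).left = t.left := by
    rw [← Over.comp_left, prod.lift_fst]
  have : LocallyOfFiniteType ((prod.lift t s).left ≫ (prod.fst : U ⨯ U ⟶ U).left) := by
    rw [e]; infer_instance
  exact locallyOfFiniteType_of_comp _ (prod.fst : U ⨯ U ⟶ U).left

theorem repWith_diag_monomorphisms {X : Sp S} (hX : Representable (Limits.diag X)) :
    RepWith (MorphismProperty.monomorphisms Scheme.{u}) (Limits.diag X) :=
  repWith_monomorphisms_of_mono _ hX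

theorem le_isSeparated :
    MorphismProperty.monomorphisms Scheme.{u} ≤ @IsSeparated := fun _ _ g hg => by
  have : Mono g := hg
  infer_instance

theorem le_lqf :
    MorphismProperty.monomorphisms Scheme.{u} ⊓ @LocallyOfFiniteType ≤ @LocallyQuasiFinite :=
  fun _ _ g hg => by
    have : Mono g := hg.1
    have : LocallyOfFiniteType g := hg.2
    infer_instance

/-- The five standard properties of the diagonal of an algebraic space. -/
theorem repWith_diag_all {X : Sp S} (hX : IsAlgSpace X) :
    RepWith @LocallyOfFiniteType (Limits.diag X) ∧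
      RepWith (MorphismProperty.monomorphisms Scheme.{u}) (Limits.diag X) ∧
      RepWith @IsSeparated (Limits.diag X) ∧
      RepWith @LocallyQuasiFinite (Limits.diag X) :=
  ⟨repWith_diag_locallyOfFiniteType hX, repWith_diag_monomorphisms hX.diag,
    repWith_mono le_isSeparated (repWith_diag_monomorphisms hX.diag),
    repWith_mono le_lqf (repWith_inf (repWith_diag_monomorphisms hX.diag)
      (repWith_diag_locallyOfFiniteType hX))⟩

/-- The standard properties of the relative diagonal of a morphism out of an algebraic space. -/
theorem repWith_diagonal_all {X Y : Sp S} (hX : IsAlgSpace X) (f : X ⟶ Y) :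
    Representable (pullback.diagonal f) ∧
    RepWith @LocallyOfFiniteType (pullback.diagonal f) ∧
    RepWith (MorphismProperty.monomorphisms Scheme.{u}) (pullback.diagonal f) ∧
    RepWith @IsSeparated (pullback.diagonal f) ∧
    RepWith (@LocallyQuasiFinite ⊓ @LocallyOfFiniteType) (pullback.diagonal f) := by
  obtain ⟨h1, h2, h3, h4⟩ := repWith_diag_all hX
  exact ⟨representable_diagonal_of_diag hX.diag f, repWith_diagonal_of_diag h1 f,
    repWith_diagonal_of_diag h2 f, repWith_diagonal_of_diag h3 f,
    repWith_inf (repWith_diagonal_of_diag h4 f) (repWith_diagonal_of_diag h1 f)⟩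

section Cat

variable {C : Type*} [Category C] [HasPullbacks C]

/-- A section of `f` is a base change of the diagonal of `f`. -/
theorem isPullback_section {X T : C} (f : X ⟶ T) (s : T ⟶ X) (hs : s ≫ f = 𝟙 T) :
    IsPullback s s (pullback.diagonal f)
      (pullback.lift (f ≫ s) (𝟙 X) (by rw [Category.assoc, hs, Category.comp_id,
        Category.id_comp])) := by
  refine isPullback_of_lift ?_ ?_ ?_
  · apply pullback.hom_ext
    · pbsimp
      rw [← Category.assoc, hs, Category.id_comp]
    · pbsimp
  · intro W x y hxy
    have h1 := congrArg (fun k => k ≫ pullback.fst f f) hxy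
    have h2 := congrArg (fun k => k ≫ pullback.snd f f) hxy
    pbsimp at h1
    pbsimp at h2
    subst h2
    refine ⟨x ≫ f, ?_, ?_⟩
    · rw [Category.assoc]
      exact h1.symm
    · rw [Category.assoc]
      exact h1.symm
  · intro W l l' h1 _
    have : Mono s := mono_of_mono_fac hs
    exact (cancel_mono s).1 h1

end Cat

/-- The standard properties of a section of a morphism out of an algebraic space. -/
theorem repWith_section {X T : Sp S} (f : X ⟶ T) (s : T ⟶ X)
    (hs : s ≫ f = 𝟙 T) {P : MorphismProperty Scheme.{u}}
    (hP : RepWith P (pullback.diagonal f)) : RepWith P s :=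
  repWith_snd_of_isPullback (isPullback_section f s hs) hP

/-- Cancellation: if `a ≫ b` and the diagonal of `b` have `P` then `a` has `P`. -/
theorem repWith_of_comp_of_diagonal {P : MorphismProperty Scheme.{u}} [P.IsStableUnderBaseChange]
    [P.IsMultiplicative] {Z Y X : Sp S} (a : Z ⟶ Y) (b : Y ⟶ X) (hab : RepWith P (a ≫ b))
    (hb : RepWith P (pullback.diagonal b)) : RepWith P a := by
  have h1 : RepWith P (pullback.lift (𝟙 Z) a (by simp) : Z ⟶ pullback (a ≫ b) b) :=
    repWith_snd_of_isPullback (pullback_lift_diagonal_isPullback a b) hb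
  have h2 : RepWith P (pullback.snd (a ≫ b) b) :=
    repWith_snd_of_isPullback (IsPullback.of_hasPullback (a ≫ b) b) hab
  have e : a = pullback.lift (𝟙 Z) a (by simp) ≫ pullback.snd (a ≫ b) b := by
    rw [pullback.lift_snd]
  rw [e]
  exact (RepWith (S := S) P).comp_mem _ _ h1 h2

theorem representable_of_comp_of_diagonal {Z Y X : Sp S} (a : Z ⟶ Y) (b : Y ⟶ X)
    (hab : Representable (a ≫ b)) (hb : Representable (pullback.diagonal b)) :
    Representable a := by
  have h1 : Representable (pullback.lift (𝟙 Z) a (by simp) : Z ⟶ pullback (a ≫ b) b) :=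
    MorphismProperty.of_isPullback (pullback_lift_diagonal_isPullback a b) hb
  have h2 : Representable (pullback.snd (a ≫ b) b) :=
    MorphismProperty.of_isPullback (IsPullback.of_hasPullback (a ≫ b) b) hab
  have e : a = pullback.lift (𝟙 Z) a (by simp) ≫ pullback.snd (a ≫ b) b := by
    rw [pullback.lift_snd]
  rw [e]
  exact (Representable (S := S)).comp_mem _ _ h1 h2

end Groth.Agent.H25.AS
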