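import Groth.Agent.H25.AlgSp15
import Mathlib.AlgebraicGeometry.Morphisms.QuasiFinite
import Mathlib.AlgebraicGeometry.Morphisms.Etale
import Mathlib.AlgebraicGeometry.Morphisms.Smooth
import Mathlib.AlgebraicGeometry.Morphisms.FormallyUnramified
import Mathlib.RingTheory.Unramified.LocalStructure

/-!
# Algebraic spaces toolkit, part 16: cancellation for etale charts and the `LocP` calculus
-/

universe u

open CategoryTheory CategoryTheory.Limits AlgebraicGeometry Opposite AlgSp

namespace Groth.Agent.H25.AS

variable {S : Scheme.{u}}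

/-- An unramified morphism (locally of finite type and formally unramified) is locally
quasi-finite. -/
theorem lqf_of_unramified {X Y : Scheme.{u}} (g : X ⟶ Y) [LocallyOfFiniteType g]
    [FormallyUnramified g] : LocallyQuasiFinite g := by
  rw [HasRingHomProperty.iff_appLE (P := @LocallyQuasiFinite)]
  intro U V e
  have h1 : (g.appLE U V e).hom.FiniteType :=
    HasRingHomProperty.appLE (P := @LocallyOfFiniteType) g inferInstance U V e
  have h2 : (g.appLE U V e).hom.FormallyUnramified :=
    HasRingHomProperty.appLE (P := @FormallyUnramified) g inferInstance U V e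
  algebraize [(g.appLE U V e).hom]
  show Algebra.QuasiFinite _ _
  infer_instance

/-- Universal openness can be tested after precomposition with a morphism that is universally
surjective on points. -/
theorem isUnivOpenMor_of_comp {F' F G : Sp S} (a : F' ⟶ F) (f : F ⟶ G)
    (ha : RepWith @Surjective a) (h : IsUnivOpenMor (a ≫ f)) : IsUnivOpenMor f := by
  intro Z Z' hZ g fst snd sq
  have sqa := IsPullback.of_hasPullback a fst
  have big := sqa.paste_vert sq
  have hopen : IsOpenMap (Points.map (pullback.snd a fst ≫ snd)) := h hZ g _ _ big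
  have hsurj : Function.Surjective (Points.map (pullback.snd a fst)) :=
    isSurjectiveMor_of_isPullback sqa (isSurjectiveMor_of_repWith a ha)
  intro A hA
  have e : Points.map snd '' A =
      Points.map (pullback.snd a fst ≫ snd) '' (Points.map (pullback.snd a fst) ⁻¹' A) := by
    ext z
    constructor
    · rintro ⟨c, hc, rfl⟩
      obtain ⟨x, rfl⟩ := hsurj c
      exact ⟨x, hc, Points.map_comp _ _ _⟩
    · rintro ⟨x, hx, rfl⟩
      exact ⟨_, hx, (Points.map_comp _ _ _).symm⟩
  rw [e]
  exact hopen _ (hA.preimage (Points.continuous_map _))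

/-- Cancellation: a morphism between etale charts of the same sheaf is etale. -/
theorem etale_of_charts {G : Sp S} {U V : Over S} (a : (yon S).obj U ⟶ G)
    (b : (yon S).obj V ⟶ G) (h : U ⟶ V) (ha : RepWith @Etale a) (hb : RepWith @Etale b)
    (w : (yon S).map h ≫ b = a) : Etale h.left := by
  have sq := hb.rep.isPullback' a
  -- `R = V ×_G U`, with `R ⟶ U` etale (base change of `b`) and `R ⟶ V` etale (base change of `a`)
  have h1 : Etale (hb.rep.snd a).left := hb.property_snd a
  have h2 : Etale (hb.rep.fst' a).left := ha.property b _ _ sq.flip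
  obtain ⟨l, hl1, hl2⟩ := sq.exists_lift ((yon S).map h) (𝟙 _) (by rw [w, Category.id_comp])
  obtain ⟨σ, rfl⟩ := (yon S).map_surjective l
  have e1 : σ ≫ hb.rep.fst' a = h := (yon S).map_injective (by rw [Functor.map_comp, hl1])
  have e2 : σ ≫ hb.rep.snd a = 𝟙 U := (yon S).map_injective (by
    rw [Functor.map_comp, hl2]; exact ((yon S).map_id _).symm)
  have h3 : Etale (σ.left ≫ (hb.rep.snd a).left) := by
    rw [← Over.comp_left, e2]
    exact (inferInstance : Etale (𝟙 U.left))
  have h4 : Etale σ.left := Etale.of_comp σ.left (hb.rep.snd a).left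
  rw [← e1]
  exact (inferInstance : Etale (σ.left ≫ (hb.rep.fst' a).left))

/-- A representable morphism with `P` has `P` etale locally on source and target, for `P`
containing etale morphisms and stable under composition. -/
theorem locP_of_repWith {P : MorphismProperty Scheme.{u}} [P.IsStableUnderComposition]
    (hP : ∀ {A B : Scheme.{u}} (g : A ⟶ B), Etale g → P g) {F G : Sp S} {f : F ⟶ G}
    (hf : RepWith P f) : LocP P f := by
  intro U V a b h ha hb w
  have sq := hf.rep.isPullback b
  have hsnd : P (hf.rep.snd b).left := hf.property_snd b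
  have hfst : RepWith @Etale (hf.rep.fst b) := repWith_fst_of_isPullback sq hb
  obtain ⟨l, hl1, hl2⟩ := sq.exists_lift a ((yon S).map h) w
  obtain ⟨σ, rfl⟩ := (yon S).map_surjective l
  have hσ : Etale σ.left := etale_of_charts a (hf.rep.fst b) σ ha hfst hl1
  have e : σ ≫ hf.rep.snd b = h := (yon S).map_injective (by rw [Functor.map_comp, hl2])
  rw [← e]
  exact P.comp_mem _ _ (hP _ hσ) hsnd

/-- An etale morphism has, etale locally on source and target, every property that etale
morphisms of schemes have. -/
theorem locP_of_isEtaleMor {P : MorphismProperty Scheme.{u}}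
    (hP : ∀ {A B : Scheme.{u}} (g : A ⟶ B), Etale g → P g) {F G : Sp S} {f : F ⟶ G}
    (hf : IsEtaleMor f) : LocP P f := by
  intro U V a b h ha hb w
  exact hP _ (etale_of_charts (a ≫ f) b h (hf a ha) hb w.symm)

/-- If `f ≫ g` has `P` etale locally then so does `f`, for `P` with the cancellation property
and fppf descent on the target; `g` is subject to an auxiliary etale local condition `Q`. -/
theorem locP_of_comp {P Q : MorphismProperty Scheme.{u}} [P.DescendsAlong FppfCov]
    (hP : ∀ {A B C : Scheme.{u}} (h : A ⟶ B) (k : B ⟶ C), Q k → P (h ≫ k) → P h)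
    {F G H : Sp S} (hH : IsAlgSpace H) (f : F ⟶ G) (g : G ⟶ H) (hg : LocP Q g)
    (hfg : LocP P (f ≫ g)) : LocP P f := by
  intro U V a b h ha hb w
  obtain ⟨W, c, hce, hcs⟩ := hH.atlas
  have sqV := hce.rep.isPullback' (b ≫ g)
  have hr : FppfCov (hce.rep.snd (b ≫ g)).left := (repWith_fppfCov_of_etale hce hcs).property_snd _
  have hre : Etale (hce.rep.snd (b ≫ g)).left := hce.property_snd _
  have sqU := IsPullback.of_hasPullback h (hce.rep.snd (b ≫ g))
  have hpr1 : Etale (pullback.fst h (hce.rep.snd (b ≫ g))).left :=
    MorphismProperty.of_isPullback (P := @Etale) (sqU.map (Over.forget S)).flip hre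
  have ha' : RepWith @Etale ((yon S).map (pullback.fst h (hce.rep.snd (b ≫ g))) ≫ a) :=
    repWith_etale_comp ((repWith_yon_map_iff _ _).2 hpr1) ha
  have hb' : RepWith @Etale ((yon S).map (hce.rep.snd (b ≫ g)) ≫ b) :=
    repWith_etale_comp ((repWith_yon_map_iff _ _).2 hre) hb
  have hk : Q (hce.rep.fst' (b ≫ g)).left := hg _ c _ hb' hce (by
    rw [Category.assoc, sqV.w])
  have hcomp : P ((pullback.snd h (hce.rep.snd (b ≫ g)) ≫ hce.rep.fst' (b ≫ g)).left) := by
    refine hfg _ c _ ha' hce ?_
    rw [Category.assoc, ← Category.assoc a, w, Functor.map_comp, Category.assoc, Category.assoc,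
      sqV.w, ← Category.assoc ((yon S).map (pullback.fst h (hce.rep.snd (b ≫ g)))),
      ← Functor.map_comp, sqU.w, Functor.map_comp, Category.assoc]
  have hpr2 : P (pullback.snd h (hce.rep.snd (b ≫ g))).left := hP _ _ hk hcomp
  exact MorphismProperty.of_isPullback_of_descendsAlong (P := P) (Q := FppfCov)
    (sqU.map (Over.forget S)).flip hr hpr2

end Groth.Agent.H25.AS
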