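import Groth.Agent.H25.AlgSp16
import Mathlib.AlgebraicGeometry.Morphisms.UniversallyOpen
import Mathlib.AlgebraicGeometry.PullbackCarrier

/-!
# Algebraic spaces toolkit, part 17: descent of quasi-compactness, products over the base
-/

universe u

open CategoryTheory CategoryTheory.Limits AlgebraicGeometry Opposite AlgSp

namespace Groth.Agent.H25.AS

variable {S : Scheme.{u}}

/-- Quasi-compactness of a morphism of schemes descends along a surjective open base change. -/
theorem quasiCompact_of_isPullback_of_open {A X Y Z : Scheme.{u}} {fst : A ⟶ X} {snd : A ⟶ Y}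
    {f : X ⟶ Z} {g : Y ⟶ Z} (sq : IsPullback fst snd f g) (hf : Function.Surjective f)
    (hfo : IsOpenMap f) (hfst : QuasiCompact fst) : QuasiCompact g := by
  rw [quasiCompact_iff_forall_isAffineOpen]
  intro U hU
  have hcov : (U : Set Z) ⊆ ⋃ W : {W : X.Opens // IsAffineOpen W ∧ W ≤ f ⁻¹ᵁ U},
      f '' (W.1 : Set X) := by
    intro z hz
    obtain ⟨x, rfl⟩ := hf z
    obtain ⟨_, ⟨W, hW, rfl⟩, hxW, hWU⟩ := X.isBasis_affineOpens.exists_subset_of_mem_open
      (show x ∈ ((f ⁻¹ᵁ U : X.Opens) : Set X) from hz) (f ⁻¹ᵁ U).2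
    exact Set.mem_iUnion.2 ⟨⟨W, hW, hWU⟩, x, hxW, rfl⟩
  obtain ⟨t, ht⟩ := hU.isCompact.elim_finite_subcover _ (fun W => hfo _ W.1.2) hcov
  have e : (g ⁻¹ᵁ U : Set Y) = ⋃ W ∈ t, snd '' (fst ⁻¹' (W.1 : Set X)) := by
    ext y
    simp only [Set.mem_iUnion]
    constructor
    · intro hy
      obtain ⟨W, hWt, hW⟩ := Set.mem_iUnion₂.1 (ht hy)
      refine ⟨W, hWt, ?_⟩
      rw [Scheme.image_preimage_eq_of_isPullback sq]
      exact hW
    · rintro ⟨W, hWt, hy⟩
      rw [Scheme.image_preimage_eq_of_isPullback sq] at hy
      obtain ⟨x, hx, hxy⟩ := hy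
      show g y ∈ U
      rw [← hxy]
      exact W.2.2 hx
  rw [e]
  refine t.isCompact_biUnion fun W _ => ?_
  exact (hfst.isCompact_preimage _ W.1.2 W.2.1.isCompact).image snd.continuous

instance quasiCompact_descendsAlong_fppfCov :
    MorphismProperty.DescendsAlong @QuasiCompact (FppfCov.{u}) where
  of_isPullback {A X Y Z fst snd f g} sq hf hfst := by
    have h1 : Surjective f := hf.1.1
    have h2 : Flat f := hf.1.2
    have h3 : LocallyOfFinitePresentation f := hf.2
    exact quasiCompact_of_isPullback_of_open sq h1.surj f.isOpenMap hfst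

/-- The product of two schemes over `S`, seen in schemes, is the fibre product. -/
theorem isPullback_prod_left (U T : Over S) :
    IsPullback (prod.fst : U ⨯ T ⟶ U).left (prod.snd : U ⨯ T ⟶ T).left U.hom T.hom :=
  Over.isPullback_of_binaryFan_isLimit (BinaryFan.mk prod.fst prod.snd) (prodIsProd U T)

theorem prop_prod_snd (P : MorphismProperty Scheme.{u}) [P.IsStableUnderBaseChange]
    (U T : Over S) (hU : P U.hom) : P (prod.snd : U ⨯ T ⟶ T).left :=
  P.of_isPullback (isPullback_prod_left U T) hU

theorem prop_prod_fst (P : MorphismProperty Scheme.{u}) [P.IsStableUnderBaseChange]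
    (U T : Over S) (hT : P T.hom) : P (prod.fst : U ⨯ T ⟶ U).left :=
  P.of_isPullback (isPullback_prod_left U T).flip hT

/-- For a fibre product `V` of two schemes over a sheaf, the map `V ⟶ U ×_S T` is a
monomorphism. -/
theorem mono_prod_lift_of_isPullback {F : Sp S} {U T V : Over S} {a : (yon S).obj U ⟶ F}
    {g : (yon S).obj T ⟶ F} {fst : V ⟶ U} {snd : V ⟶ T}
    (sq : IsPullback ((yon S).map fst) ((yon S).map snd) a g) : Mono (prod.lift fst snd) := by
  refine ⟨fun {W} x y hxy => ?_⟩
  apply (yon S).map_injective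
  apply sq.hom_ext
  · rw [← Functor.map_comp, ← Functor.map_comp]
    have := congrArg (· ≫ prod.fst) hxy
    psimp at this
    rw [this]
  · rw [← Functor.map_comp, ← Functor.map_comp]
    have := congrArg (· ≫ prod.snd) hxy
    psimp at this
    rw [this]

/-- Second projection of a fibre product of schemes over a sheaf inherits every property that
contains monomorphisms, is stable under composition and base change, and holds for `U ⟶ S`. -/
theorem prop_snd_of_isPullback_yon (P : MorphismProperty Scheme.{u}) [P.IsStableUnderBaseChange]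
    [P.IsStableUnderComposition] (hmono : MorphismProperty.monomorphisms Scheme.{u} ≤ P)
    {F : Sp S} {U T V : Over S} {a : (yon S).obj U ⟶ F}
    {g : (yon S).obj T ⟶ F} {fst : V ⟶ U} {snd : V ⟶ T}
    (sq : IsPullback ((yon S).map fst) ((yon S).map snd) a g) (hU : P U.hom) : P snd.left := by
  have hm : Mono (prod.lift fst snd) := mono_prod_lift_of_isPullback sq
  have hm' : Mono (prod.lift fst snd).left := inferInstance
  have e : snd.left = (prod.lift fst snd).left ≫ (prod.snd : U ⨯ T ⟶ T).left := by
    rw [← Over.comp_left, prod.lift_snd]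
  rw [e]
  exact P.comp_mem _ _ (hmono _ hm') (prop_prod_snd P U T hU)

/-- A representable morphism from a scheme that is separated over `S` to any sheaf is
separated. -/
theorem repWith_isSeparated_of_isSeparated {F : Sp S} {U : Over S} (a : (yon S).obj U ⟶ F)
    (ha : Representable a) (hU : IsSeparated U.hom) : RepWith @IsSeparated a :=
  ⟨ha, fun _ _ _ fst _ sq => by
    obtain ⟨σ, rfl⟩ := (yon S).map_surjective fst
    exact prop_snd_of_isPullback_yon @IsSeparated le_isSeparated sq hU⟩

theorem le_quasiSeparated :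
    MorphismProperty.monomorphisms Scheme.{u} ≤ @QuasiSeparated := fun _ _ g hg => by
  have : Mono g := hg
  infer_instance

theorem repWith_quasiSeparated_of_quasiSeparated {F : Sp S} {U : Over S}
    (a : (yon S).obj U ⟶ F) (ha : Representable a) (hU : QuasiSeparated U.hom) :
    RepWith @QuasiSeparated a :=
  ⟨ha, fun _ _ _ fst _ sq => by
    obtain ⟨σ, rfl⟩ := (yon S).map_surjective fst
    exact prop_snd_of_isPullback_yon @QuasiSeparated le_quasiSeparated sq hU⟩

/-- Quasi-separatedness of a sheaf with representable diagonal from an etale atlas. -/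
theorem isQuasiSeparatedSp_of_atlas {X : Sp S} (hX : Representable (Limits.diag X)) {U : Over S}
    (p : (yon S).obj U ⟶ X) (hpe : RepWith @Etale p) (hps : RepWith @Surjective p)
    (hP : ∀ (R : Over S) (s t : R ⟶ U), IsPullback ((yon S).map t) ((yon S).map s) p p →
      QuasiCompact (prod.lift t s).left) : IsQuasiSeparatedSp X :=
  repWith_diag_of_atlas @QuasiCompact hX p hpe hps hP

end Groth.Agent.H25.AS
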