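import Groth.Agent.H25.AlgSp17

/-!
# Algebraic spaces toolkit, part 18: uniqueness of fibre products of schemes over a sheaf
-/

universe u

open CategoryTheory CategoryTheory.Limits AlgebraicGeometry Opposite AlgSp

namespace Groth.Agent.H25.AS

variable {S : Scheme.{u}}

/-- Two schemes representing the same fibre product over a sheaf are isomorphic, compatibly
with the projections. -/
theorem exists_iso_of_isPullback_yon {F : Sp S} {R R' U V : Over S} {a : (yon S).obj U ⟶ F}
    {b : (yon S).obj V ⟶ F} {t : R ⟶ U} {s : R ⟶ V} {t' : R' ⟶ U} {s' : R' ⟶ V}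
    (sq : IsPullback ((yon S).map t) ((yon S).map s) a b)
    (sq' : IsPullback ((yon S).map t') ((yon S).map s') a b) :
    ∃ σ : R' ≅ R, σ.hom ≫ t = t' ∧ σ.hom ≫ s = s' := by
  let e := sq'.isoIsPullback _ _ sq
  refine ⟨(yon S).preimageIso e, ?_, ?_⟩
  · apply (yon S).map_injective
    rw [Functor.map_comp, Functor.preimageIso_hom, Functor.map_preimage]
    exact IsPullback.isoIsPullback_hom_fst _ _ sq' sq
  · apply (yon S).map_injective
    rw [Functor.map_comp, Functor.preimageIso_hom, Functor.map_preimage]
    exact IsPullback.isoIsPullback_hom_snd _ _ sq' sq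

/-- A property of schemes morphisms respecting isomorphisms holds for the first projection of one
representing scheme iff it holds for another. -/
theorem prop_fst_of_isPullback_yon (P : MorphismProperty Scheme.{u}) [P.RespectsIso] {F : Sp S}
    {R R' U V : Over S} {a : (yon S).obj U ⟶ F}
    {b : (yon S).obj V ⟶ F} {t : R ⟶ U} {s : R ⟶ V} {t' : R' ⟶ U} {s' : R' ⟶ V}
    (sq : IsPullback ((yon S).map t) ((yon S).map s) a b)
    (sq' : IsPullback ((yon S).map t') ((yon S).map s') a b) (h : P t.left) : P t'.left := by
  obtain ⟨σ, h1, _⟩ := exists_iso_of_isPullback_yon sq sq'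
  rw [← h1, Over.comp_left]
  have : IsIso σ.hom.left := inferInstance
  exact (P.cancel_left_of_respectsIso σ.hom.left t.left).2 h

/-- For two maps `g1 g2 : T ⟶ X`, the base change of the diagonal of `X` along `(g1, g2)` is the
base change of `T ×_X T ⟶ T × T` along the diagonal of `T`. -/
theorem isPullback_diag_of_prod_lift {C : Type*} [Category C] [HasBinaryProducts C]
    {T X W P : C} {g1 g2 : T ⟶ X} {w1 w2 : W ⟶ T} (hW : IsPullback w1 w2 g1 g2) {fst : P ⟶ X}
    {snd : P ⟶ T} (sq : IsPullback fst snd (Limits.diag X) (prod.lift g1 g2)) :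
    ∃ l : P ⟶ W, IsPullback l snd (prod.lift w1 w2) (Limits.diag T) := by
  have e1 : fst = snd ≫ g1 := by
    have := congrArg (· ≫ prod.fst) sq.w
    psimp at this
    exact this
  have e2 : fst = snd ≫ g2 := by
    have := congrArg (· ≫ prod.snd) sq.w
    psimp at this
    exact this
  obtain ⟨l, hl1, hl2⟩ := hW.exists_lift snd snd (by rw [← e1, ← e2])
  refine ⟨l, ?_⟩
  have right := isPullback_prod_lift_diag hW
  have hg : prod.lift g1 g2 = Limits.diag T ≫ prod.map g1 g2 := by
    apply Limits.prod.hom_ext
    · psimp
    · psimp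
  have big : IsPullback (l ≫ w1 ≫ g1) snd (Limits.diag X) (Limits.diag T ≫ prod.map g1 g2) := by
    rw [← hg, ← Category.assoc, hl1, ← e1]
    exact sq
  refine IsPullback.of_right big ?_ right
  apply Limits.prod.hom_ext
  · psimp
    exact hl1
  · psimp
    exact hl2

/-- The map from a scheme representing a fibre product over `X` to the product over `S` has every
property of the diagonal of `X`. -/
theorem prop_prod_lift_of_isPullback_yon (P : MorphismProperty Scheme.{u})
    [P.IsStableUnderBaseChange] {X : Sp S} (hX : RepWith P (Limits.diag X)) {U V R : Over S}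
    {a : (yon S).obj U ⟶ X} {b : (yon S).obj V ⟶ X} {fst : R ⟶ U} {snd : R ⟶ V}
    (sq : IsPullback ((yon S).map fst) ((yon S).map snd) a b) : P (prod.lift fst snd).left := by
  have : P.RespectsIso := MorphismProperty.IsStableUnderBaseChange.respectsIso
  have big := isPullback_prod_lift_diag sq
  have h1 : RepWith P (prod.lift ((yon S).map fst) ((yon S).map snd)) :=
    repWith_snd_of_isPullback big hX
  have e : prod.lift ((yon S).map fst) ((yon S).map snd) =
      (yon S).map (prod.lift fst snd) ≫ prodComparison (yon S) U V := by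
    apply Limits.prod.hom_ext
    · simp only [prodComparison, Category.assoc, prod.lift_fst, ← Functor.map_comp]
    · simp only [prodComparison, Category.assoc, prod.lift_snd, ← Functor.map_comp]
  rw [e] at h1
  exact (repWith_yon_map_iff P _).1
    ((MorphismProperty.cancel_right_of_respectsIso (RepWith P) _ _).1 h1)

end Groth.Agent.H25.AS
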