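import Groth.Agent.H25.AlgSp18

/-!
# Algebraic spaces toolkit, part 19: quasi-compact morphisms (descent, composition, products)
-/

universe u

open CategoryTheory CategoryTheory.Limits AlgebraicGeometry Opposite AlgSp

namespace Groth.Agent.H25.AS

variable {S : Scheme.{u}}

/-- Given an open continuous map from a scheme to a space and a compact set inside its range
and inside an open set, there is a quasi-compact open of the scheme whose image is between
the compact set and the open set. -/
theorem exists_compact_open_of_isOpenMap {U : Scheme.{u}} {Y : Type*} [TopologicalSpace Y]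
    (φ : U → Y) (hφ : IsOpenMap φ) (hc : Continuous φ) (K W : Set Y) (hK : IsCompact K)
    (hW : IsOpen W) (hKW : K ⊆ W) (hsurj : K ⊆ Set.range φ) :
    ∃ V0 : U.Opens, IsCompact (V0 : Set U) ∧ K ⊆ φ '' V0 ∧ (V0 : Set U) ⊆ φ ⁻¹' W := by
  have h1 : ∀ x : K, ∃ V : U.Opens, IsAffineOpen V ∧ x.1 ∈ φ '' V ∧ (V : Set U) ⊆ φ ⁻¹' W := by
    intro x
    obtain ⟨u, hu⟩ := hsurj x.2
    have huW : u ∈ (⟨φ ⁻¹' W, hW.preimage hc⟩ : U.Opens) := by
      show φ u ∈ W
      rw [hu]; exact hKW x.2
    obtain ⟨V, hV, huV, hVW⟩ := (TopologicalSpace.Opens.isBasis_iff_nbhd.mp U.isBasis_affineOpens) huW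
    exact ⟨V, hV, ⟨u, huV, hu⟩, hVW⟩
  choose V hVaff hxV hVW using h1
  obtain ⟨t, ht⟩ := hK.elim_finite_subcover (fun x : K => φ '' (V x))
    (fun x => hφ _ (V x).isOpen) (fun y hy => Set.mem_iUnion.2 ⟨⟨y, hy⟩, hxV ⟨y, hy⟩⟩)
  let V0 : U.Opens := ⨆ x ∈ t, V x
  have hV0 : (V0 : Set U) = ⋃ x ∈ t, (V x : Set U) := by
    simp only [V0, TopologicalSpace.Opens.coe_iSup]
  refine ⟨V0, ?_, ?_, ?_⟩
  · rw [hV0]
    exact t.finite_toSet.isCompact_biUnion (fun x _ => (hVaff x).isCompact)
  · intro y hy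
    have := ht hy
    simp only [Set.mem_iUnion] at this
    obtain ⟨x, hx, u, hu, rfl⟩ := this
    refine ⟨u, ?_, rfl⟩
    rw [hV0]
    exact Set.mem_iUnion₂.2 ⟨x, hx, hu⟩
  · rw [hV0]
    intro u hu
    obtain ⟨x, _, hux⟩ := Set.mem_iUnion₂.1 hu
    exact hVW x hux

/-- The range of the points map of the first projection of a fibre product is the preimage of
the range of the other leg. -/
theorem range_map_fst_of_isPullback {F G H P : Sp S} {f : F ⟶ G} {g : H ⟶ G} {fst : P ⟶ F}
    {snd : P ⟶ H} (sq : IsPullback fst snd f g) :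
    Set.range (Points.map fst) = Points.map f ⁻¹' Set.range (Points.map g) := by
  ext x
  constructor
  · rintro ⟨y, rfl⟩
    refine ⟨Points.map snd y, ?_⟩
    rw [← Points.map_comp, ← Points.map_comp, sq.w]
  · rintro ⟨z, hz⟩
    obtain ⟨p, _, hp⟩ := exists_of_isPullback sq.flip z x hz
    exact ⟨p, hp⟩

theorem range_map_eq_range_ofPt {G : Sp S} {T : Over S} (a : (yon S).obj T ⟶ G) :
    Set.range (Points.map a) = Set.range (Points.ofPt a) := by
  ext x
  constructor
  · rintro ⟨y, rfl⟩
    obtain ⟨t, rfl⟩ := exists_ofScheme y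
    exact ⟨t, Points.ofPt_eq_map_ofScheme a t⟩
  · rintro ⟨t, rfl⟩
    exact ⟨_, (Points.ofPt_eq_map_ofScheme a t).symm⟩

/-- For a quasi-compact morphism, the preimage of the image of a quasi-compact scheme is
compact. -/
theorem isCompact_preimage_range_of_isQuasiCompactMor {F G : Sp S} (f : F ⟶ G)
    (hf : IsQuasiCompactMor f) {T : Over S} [CompactSpace T.left] (a : (yon S).obj T ⟶ G) :
    IsCompact (Points.map f ⁻¹' Set.range (Points.ofPt a)) := by
  have sq := IsPullback.of_hasPullback f a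
  have hP : IsQuasiCompactSp (pullback f a) :=
    hf (IsAlgSpace.yon_obj T) ((isQuasiCompactSp_yon_iff T).2 inferInstance) a _ _ sq
  have := compactSpace_of_isQuasiCompactSp hP
  rw [← range_map_eq_range_ofPt, ← range_map_fst_of_isPullback sq]
  exact isCompact_range (Points.continuous_map _)

theorem range_ofPt_openIncl {G : Sp S} {W : Over S} (q : (yon S).obj W ⟶ G) (V0 : W.left.Opens) :
    Set.range (Points.ofPt ((yon S).map (openIncl W V0) ≫ q)) = Points.ofPt q '' V0 := by
  ext x
  constructor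
  · rintro ⟨t, rfl⟩
    rw [ofPt_map_comp]
    exact ⟨_, t.2, rfl⟩
  · rintro ⟨w, hw, rfl⟩
    refine ⟨⟨w, hw⟩, ?_⟩
    rw [ofPt_map_comp]
    rfl

/-- A quasi-compact morphism to an algebraic space pulls quasi-compact opens back to
quasi-compact subsets. -/
theorem isCompact_preimage_of_isQuasiCompactMor {F G : Sp S} (hG : IsAlgSpace G) (f : F ⟶ G)
    (hf : IsQuasiCompactMor f) (V : Set (Points G)) (hV : IsOpen V) (hVc : IsCompact V) :
    IsCompact (Points.map f ⁻¹' V) := by
  obtain ⟨W, q, hqe, hqs⟩ := hG.atlas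
  obtain ⟨V0, hV0c, h1, h2⟩ := exists_compact_open_of_isOpenMap (Points.ofPt q)
    (isOpenMap_ofPt q hqe) (Points.continuous_ofPt q) V V hVc hV subset_rfl
    (fun y _ => ofPt_surjective q hqs y)
  have e : V = Points.ofPt q '' V0 :=
    subset_antisymm h1 (Set.image_subset_iff.2 h2)
  have : CompactSpace (openOver W V0).left := isCompact_iff_compactSpace.mp hV0c
  rw [e, ← range_ofPt_openIncl]
  exact isCompact_preimage_range_of_isQuasiCompactMor f hf _

/-- Universally open morphisms compose. -/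
theorem isUnivOpenMor_comp {F G H : Sp S} (hG : IsAlgSpace G) (hH : Representable (Limits.diag H))
    (f : F ⟶ G) (g : G ⟶ H) (hf : IsUnivOpenMor f) (hg : IsUnivOpenMor g) :
    IsUnivOpenMor (f ≫ g) := by
  intro Z Z' hZ k fst snd sq
  have sqQ := IsPullback.of_hasPullback g k
  have hQ : IsAlgSpace (pullback g k) := isAlgSpace_of_isPullback hH hG hZ sqQ
  obtain ⟨l, hl1, hl2⟩ := sqQ.exists_lift (fst ≫ f) snd (by rw [Category.assoc, sq.w])
  have big : IsPullback fst (l ≫ pullback.snd g k) (f ≫ g) k := by rw [hl2]; exact sq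
  have top : IsPullback fst l f (pullback.fst g k) := IsPullback.of_bot big hl1.symm sqQ
  have e : Points.map snd = Points.map (pullback.snd g k) ∘ Points.map l := by
    funext x
    rw [Function.comp_apply, ← Points.map_comp, hl2]
  show IsOpenMap (Points.map snd)
  rw [e]
  exact (hg hZ k _ _ sqQ).comp (hf hQ _ _ _ top)

/-- Quasi-compact morphisms compose. -/
theorem isQuasiCompactMor_comp {F G H : Sp S} (hG : IsAlgSpace G)
    (hH : Representable (Limits.diag H)) (f : F ⟶ G) (g : G ⟶ H) (hf : IsQuasiCompactMor f)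
    (hg : IsQuasiCompactMor g) : IsQuasiCompactMor (f ≫ g) := by
  intro Z Z' hZ hZc k fst snd sq
  have sqQ := IsPullback.of_hasPullback g k
  have hQ : IsAlgSpace (pullback g k) := isAlgSpace_of_isPullback hH hG hZ sqQ
  obtain ⟨l, hl1, hl2⟩ := sqQ.exists_lift (fst ≫ f) snd (by rw [Category.assoc, sq.w])
  have big : IsPullback fst (l ≫ pullback.snd g k) (f ≫ g) k := by rw [hl2]; exact sq
  have top : IsPullback fst l f (pullback.fst g k) := IsPullback.of_bot big hl1.symm sqQ
  exact hf hQ (hg hZ hZc k _ _ sqQ) _ _ _ top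

theorem isUnivOpenMor_of_repWith_etale {F G : Sp S} (a : F ⟶ G) (ha : RepWith @Etale a) :
    IsUnivOpenMor a :=
  (repWith_universallyOpen_iff a ha.rep).1
    (repWith_mono (fun _ _ g (_ : Etale g) => (inferInstance : UniversallyOpen g)) ha)

/-- Descent of quasi-compactness of a morphism along a base change `g` that becomes universally
open and surjective after precomposition with a map from a scheme. -/
theorem isQuasiCompactMor_of_univOpen_chart {X Y Y' X' : Sp S} (hY : IsAlgSpace Y)
    (hX : IsAlgSpace X) (f : X ⟶ Y) (g : Y' ⟶ Y) (fst : X' ⟶ X) (f' : X' ⟶ Y')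
    (sq : IsPullback fst f' f g) {U : Over S} (a : (yon S).obj U ⟶ Y')
    (ho : IsUnivOpenMor (a ≫ g)) (hs : IsSurjectiveMor (a ≫ g))
    (hf' : IsQuasiCompactMor f') : IsQuasiCompactMor f := by
  refine isQuasiCompactMor_of_affine f fun Z hZ k P p1 p2 sqZ => ?_
  have hr := hY.representable_from_yon (a ≫ g)
  have sqV := hr.isPullback' k
  have hopen : IsOpenMap (fun v => (hr.snd k).left v) :=
    isOpenMap_of_isOpenMor_yon_map _ (ho (IsAlgSpace.yon_obj Z) k _ _ sqV)
  have hsurj : Function.Surjective (fun v => (hr.snd k).left v) := by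
    have h1 : Function.Surjective (Points.map ((yon S).map (hr.snd k))) :=
      isSurjectiveMor_of_isPullback sqV hs
    rw [map_yon_map_conj]
    exact (Points.schemeHomeo Z).symm.surjective.comp
      (h1.comp (Points.schemeHomeo _).surjective)
  obtain ⟨V0, hV0c, hV0s, -⟩ := exists_compact_open_of_isOpenMap
    (fun v => (hr.snd k).left v) hopen (hr.snd k).left.continuous Set.univ Set.univ
    isCompact_univ isOpen_univ subset_rfl (fun z _ => hsurj z)
  have hTc : CompactSpace (openOver (hr.pullback k) V0).left := isCompact_iff_compactSpace.mp hV0c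
  have hP : IsAlgSpace P := isAlgSpace_of_isPullback hY.diag hX (IsAlgSpace.yon_obj Z) sqZ
  let c := (yon S).map (openIncl (hr.pullback k) V0 ≫ hr.snd k)
  have hcs : IsSurjectiveMor c := by
    intro z
    obtain ⟨z₀, rfl⟩ := exists_ofScheme z
    obtain ⟨v, hv, hvz⟩ := hV0s (Set.mem_univ z₀)
    refine ⟨Points.ofScheme _ (⟨v, hv⟩ : V0), ?_⟩
    rw [map_yon_map_ofScheme]
    congr 1
  have sqT := IsPullback.of_hasPullback p2 c
  have hsT : Function.Surjective (Points.map (pullback.fst p2 c)) :=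
    isSurjectiveMor_of_isPullback sqT.flip hcs
  refine isQuasiCompactSp_of_isSurjectiveMor hP (pullback.fst p2 c) hsT ?_
  -- the fibre product over the compact piece is quasi-compact
  let l := (yon S).map (openIncl (hr.pullback k) V0 ≫ hr.fst' k) ≫ a
  have hlk : c ≫ k = l ≫ g := by
    simp only [c, l, Functor.map_comp, Category.assoc]
    rw [sqV.w]
  have big := sqT.paste_horiz sqZ
  rw [hlk] at big
  have hw : (pullback.fst p2 c ≫ p1) ≫ f = (pullback.snd p2 c ≫ l) ≫ g := by
    rw [big.w, Category.assoc]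
    rfl
  have e1 : sq.lift _ _ hw ≫ fst = pullback.fst p2 c ≫ p1 := sq.lift_fst _ _ hw
  have e2 : sq.lift _ _ hw ≫ f' = pullback.snd p2 c ≫ l := sq.lift_snd _ _ hw
  rw [← e1] at big
  exact hf' (IsAlgSpace.yon_obj _) ((isQuasiCompactSp_yon_iff _).2 hTc) _ _ _
    (IsPullback.of_right big e2 sq)

end Groth.Agent.H25.AS
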