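import Groth.Agent.H25.AlgSp1

/-!
# Algebraic spaces toolkit, part 2: points of charts, surjectivity, openness
-/

universe u

open CategoryTheory CategoryTheory.Limits AlgebraicGeometry Opposite AlgSp

namespace Groth.Agent.H25.AS

variable {S : Scheme.{u}}

theorem ofPt_map_comp {F : Sp S} {T T' : Over S} (φ : T ⟶ T') (g : (yon S).obj T' ⟶ F)
    (t : ↥T.left) : Points.ofPt ((yon S).map φ ≫ g) t = Points.ofPt g (φ.left t) := by
  rw [← Points.map_ofPt, ← Points.ofScheme_toScheme T' (Points.ofPt ((yon S).map φ) t),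
    Points.toScheme_ofPt, ← Points.ofPt_eq_map_ofScheme]

theorem ofPt_yon_map {T T' : Over S} (φ : T ⟶ T') (t : ↥T.left) :
    Points.ofPt ((yon S).map φ) t = Points.ofScheme T' (φ.left t) := by
  have := ofPt_map_comp φ (𝟙 _) t
  rwa [Category.comp_id] at this

theorem map_yon_map_ofScheme {T T' : Over S} (φ : T ⟶ T') (t : ↥T.left) :
    Points.map ((yon S).map φ) (Points.ofScheme T t) = Points.ofScheme T' (φ.left t) := by
  rw [Points.map_ofPt, Category.id_comp, ofPt_yon_map]

theorem exists_ofScheme {T : Over S} (x : Points ((yon S).obj T)) :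
    ∃ t : ↥T.left, Points.ofScheme T t = x :=
  ⟨Points.toScheme T x, Points.ofScheme_toScheme T x⟩

theorem ofScheme_injective (T : Over S) : Function.Injective (Points.ofScheme T) :=
  (Points.schemeEquiv T).injective

/-- A field point factoring through a scheme chart is the chart's point at the image of the closed
point. -/
theorem mk_fpOf_eq_ofPt {F : Sp S} {T : Over S} (K : Type u) [Field K]
    (str : Spec (CommRingCat.of K) ⟶ S) (m' : Over.mk str ⟶ T) (g : (yon S).obj T ⟶ F) :
    Points.mk (fpOf K str ((yon S).map m' ≫ g)) =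
      Points.ofPt g (m'.left (IsLocalRing.closedPoint K)) := by
  rw [← map_fpOf, Points.ofPt_eq_map_ofScheme]
  congr 1
  rw [Points.ofScheme_apply_eq_mk T m'.left (Over.w m')]
  congr 1

theorem mk_fpOf_eq_ofPt_id {F : Sp S} (K : Type u) [Field K]
    (str : Spec (CommRingCat.of K) ⟶ S) (m : (yon S).obj (Over.mk str) ⟶ F) :
    Points.mk (fpOf K str m) = Points.ofPt m (IsLocalRing.closedPoint K) := by
  have := mk_fpOf_eq_ofPt K str (𝟙 (Over.mk str)) m
  rw [(yon S).map_id, Category.id_comp] at this
  exact this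

/-- Every point of a sheaf comes from a point of a scheme chart (a field). -/
theorem exists_ofPt {F : Sp S} (x : Points F) :
    ∃ (T : Over S) (g : (yon S).obj T ⟶ F) (t : ↥T.left), Points.ofPt g t = x := by
  obtain ⟨K, _, str, m, rfl⟩ := exists_fpOf x
  exact ⟨Over.mk str, m, IsLocalRing.closedPoint K, (mk_fpOf_eq_ofPt_id K str m).symm⟩

/-- Points of a represented pullback: given a pullback square with represented corner, points of
the two legs agreeing in the base lift to the corner. -/
theorem exists_point_of_isPullback {F G : Sp S} {f : F ⟶ G} {U V : Over S}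
    {g : (yon S).obj U ⟶ G} {fst : (yon S).obj V ⟶ F} {snd : V ⟶ U}
    (sq : IsPullback fst ((yon S).map snd) f g) (u : ↥U.left) (x : Points F)
    (e : Points.ofPt g u = Points.map f x) :
    ∃ v : ↥V.left, snd.left v = u ∧ Points.ofPt fst v = x := by
  obtain ⟨p, hp1, hp2⟩ := exists_of_isPullback sq.flip (Points.ofScheme U u) x
    (by rw [← Points.ofPt_eq_map_ofScheme]; exact e)
  obtain ⟨v, rfl⟩ := exists_ofScheme p
  refine ⟨v, ?_, ?_⟩
  · rw [map_yon_map_ofScheme] at hp1
    exact ofScheme_injective U hp1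
  · rw [← Points.ofPt_eq_map_ofScheme] at hp2
    exact hp2

/-- Same with both legs charts. -/
theorem exists_point_of_isPullback' {G : Sp S} {U V W : Over S}
    {a : (yon S).obj U ⟶ G} {g : (yon S).obj W ⟶ G} {r : V ⟶ U} {q : V ⟶ W}
    (sq : IsPullback ((yon S).map r) ((yon S).map q) a g) (w : ↥W.left) (u : ↥U.left)
    (e : Points.ofPt g w = Points.ofPt a u) :
    ∃ v : ↥V.left, q.left v = w ∧ r.left v = u := by
  obtain ⟨v, h1, h2⟩ := exists_point_of_isPullback sq w (Points.ofScheme U u)
    (by rw [← Points.ofPt_eq_map_ofScheme]; exact e)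
  refine ⟨v, h1, ?_⟩
  rw [ofPt_yon_map] at h2
  exact ofScheme_injective U h2

/-- Representable surjective morphisms are surjective on points. -/
theorem isSurjectiveMor_of_repWith {F G : Sp S} (f : F ⟶ G) (hf : RepWith @Surjective f) :
    IsSurjectiveMor f := by
  intro y
  obtain ⟨K, _, str, m, rfl⟩ := exists_fpOf y
  have hs : Surjective (hf.rep.snd m).left := hf.property_snd m
  obtain ⟨v, hv⟩ := hs.surj (IsLocalRing.closedPoint K)
  refine ⟨Points.ofPt (hf.rep.fst m) v, ?_⟩
  rw [Points.map_ofPt, hf.rep.w m, ofPt_map_comp, mk_fpOf_eq_ofPt_id]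
  exact congrArg _ hv

/-- A representable morphism that is surjective on points is representable surjective. -/
theorem repWith_surjective_of_isSurjectiveMor {F G : Sp S} (f : F ⟶ G) (hr : Representable f)
    (hf : IsSurjectiveMor f) : RepWith @Surjective f := by
  refine ⟨hr, fun U V g fst snd sq => ⟨fun u => ?_⟩⟩
  obtain ⟨x, hx⟩ := hf (Points.ofPt g u)
  obtain ⟨v, hv, -⟩ := exists_point_of_isPullback sq u x hx.symm
  exact ⟨v, hv⟩

theorem repWith_surjective_iff {F G : Sp S} (f : F ⟶ G) (hr : Representable f) :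
    RepWith @Surjective f ↔ IsSurjectiveMor f :=
  ⟨isSurjectiveMor_of_repWith f, repWith_surjective_of_isSurjectiveMor f hr⟩

theorem ofPt_surjective {F : Sp S} {U : Over S} (p : (yon S).obj U ⟶ F)
    (hp : RepWith @Surjective p) : Function.Surjective (Points.ofPt p) := by
  intro x
  obtain ⟨y, rfl⟩ := isSurjectiveMor_of_repWith p hp x
  obtain ⟨u, rfl⟩ := exists_ofScheme y
  exact ⟨u, Points.ofPt_eq_map_ofScheme p u⟩

/-- Base change of a surjective morphism is surjective. -/
theorem isSurjectiveMor_of_isPullback {F G H P : Sp S} {f : F ⟶ G} {g : H ⟶ G} {fst : P ⟶ F}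
    {snd : P ⟶ H} (sq : IsPullback fst snd f g) (hf : IsSurjectiveMor f) : IsSurjectiveMor snd := by
  intro z
  obtain ⟨x, hx⟩ := hf (Points.map g z)
  obtain ⟨p, hp, -⟩ := exists_of_isPullback sq.flip z x hx.symm
  exact ⟨p, hp⟩

/-- An étale chart induces an open map on points. -/
theorem isOpenMap_ofPt {F : Sp S} {U : Over S} (a : (yon S).obj U ⟶ F) (ha : RepWith @Etale a) :
    IsOpenMap (Points.ofPt a) := by
  intro W hW
  rw [Points.isOpen_iff]
  intro T g
  have hq : Etale (ha.rep.snd g).left := ha.property_snd g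
  have sq := ha.rep.isPullback' g
  have key : Points.ofPt g ⁻¹' (Points.ofPt a '' W) =
      (ha.rep.snd g).left '' ((ha.rep.fst' g).left ⁻¹' W) := by
    ext t
    constructor
    · rintro ⟨u, huW, hu⟩
      obtain ⟨v, hv1, hv2⟩ := exists_point_of_isPullback' sq t u hu.symm
      exact ⟨v, by rw [Set.mem_preimage, hv2]; exact huW, hv1⟩
    · rintro ⟨v, hv, rfl⟩
      refine ⟨(ha.rep.fst' g).left v, hv, ?_⟩
      rw [← ofPt_map_comp, ← ofPt_map_comp, sq.w]
  rw [key]
  exact (ha.rep.snd g).left.isOpenMap _ (hW.preimage (ha.rep.fst' g).left.continuous)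

theorem isQuotientMap_ofPt {F : Sp S} {U : Over S} (p : (yon S).obj U ⟶ F)
    (hp : RepWith @Etale p) (hs : RepWith @Surjective p) :
    Topology.IsQuotientMap (Points.ofPt p) :=
  (isOpenMap_ofPt p hp).isQuotientMap (Points.continuous_ofPt p) (ofPt_surjective p hs)

end Groth.Agent.H25.AS
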