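import Groth.Agent.H25.AlgSp19

/-!
# Algebraic spaces toolkit, part 20: products and quasi-separatedness
-/

universe u

open CategoryTheory CategoryTheory.Limits AlgebraicGeometry Opposite AlgSp

namespace Groth.Agent.H25.AS

variable {S : Scheme.{u}}

/-- Over a quasi-separated base, the product of two quasi-compact sheaves is quasi-compact. -/
theorem isQuasiCompactSp_prod [QuasiSeparatedSpace ↥S] {F G : Sp S} (hF : IsQuasiCompactSp F)
    (hG : IsQuasiCompactSp G) : IsQuasiCompactSp (F ⨯ G) := by
  obtain ⟨U, p, hpe, hps, hU⟩ := hF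
  obtain ⟨W, q, hqe, hqs, hW⟩ := hG
  have hU' : CompactSpace U.left := hU
  have hW' : CompactSpace W.left := hW
  refine ⟨U ⨯ W, prodComparison (yon S) U W ≫ prod.map p q, ?_, ?_, ?_⟩
  · exact (MorphismProperty.cancel_left_of_respectsIso (RepWith @Etale) _ _).2
      (repWith_prod_map @Etale p q hpe hqe)
  · exact (MorphismProperty.cancel_left_of_respectsIso (RepWith @Surjective) _ _).2
      (repWith_prod_map @Surjective p q hps hqs)
  · have hWq : QuasiCompact W.hom := inferInstance
    have h2 : QuasiCompact (prod.fst : U ⨯ W ⟶ U).left := prop_prod_fst @QuasiCompact U W hWq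
    exact QuasiCompact.compactSpace_of_compactSpace (prod.fst : U ⨯ W ⟶ U).left

section Cat

variable {C : Type*} [Category C] [HasBinaryProducts C]

/-- The diagonal of the source of a monomorphism is a base change of the diagonal of the
target. -/
theorem isPullback_diag_of_mono {P Q : C} (m : P ⟶ Q) [Mono m] :
    IsPullback m (Limits.diag P) (Limits.diag Q) (prod.map m m) := by
  refine isPullback_of_lift ?_ ?_ ?_
  · apply Limits.prod.hom_ext
    · psimp
    · psimp
  · intro W u v huv
    have h1 : u = v ≫ prod.fst ≫ m := by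
      have := congrArg (· ≫ prod.fst) huv
      psimp at this
      exact this
    have h2 : u = v ≫ prod.snd ≫ m := by
      have := congrArg (· ≫ prod.snd) huv
      psimp at this
      exact this
    have h3 : v ≫ prod.fst = v ≫ prod.snd := by
      rw [← cancel_mono m, Category.assoc, Category.assoc, ← h1, ← h2]
    refine ⟨v ≫ prod.fst, by rw [Category.assoc, ← h1], ?_⟩
    apply Limits.prod.hom_ext
    · psimp
    · psimp
      exact h3
  · intro W l l' h _
    exact (cancel_mono m).1 h

/-- The interchange map `(X × X) × (Z × Z) ⟶ (X × Z) × (X × Z)`. -/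
noncomputable def prodInterchange (X Z : C) : (X ⨯ X) ⨯ (Z ⨯ Z) ⟶ (X ⨯ Z) ⨯ (X ⨯ Z) :=
  prod.lift (prod.map prod.fst prod.fst) (prod.map prod.snd prod.snd)

/-- Its inverse. -/
noncomputable def prodInterchangeInv (X Z : C) : (X ⨯ Z) ⨯ (X ⨯ Z) ⟶ (X ⨯ X) ⨯ (Z ⨯ Z) :=
  prod.lift (prod.map prod.fst prod.fst) (prod.map prod.snd prod.snd)

theorem prodInterchange_inv (X Z : C) : prodInterchange X Z ≫ prodInterchangeInv X Z = 𝟙 _ := by
  unfold prodInterchange prodInterchangeInv
  apply Limits.prod.hom_ext
  · apply Limits.prod.hom_ext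
    · psimp
    · psimp
  · apply Limits.prod.hom_ext
    · psimp
    · psimp

theorem prodInterchangeInv_hom (X Z : C) : prodInterchangeInv X Z ≫ prodInterchange X Z = 𝟙 _ := by
  unfold prodInterchange prodInterchangeInv
  apply Limits.prod.hom_ext
  · apply Limits.prod.hom_ext
    · psimp
    · psimp
  · apply Limits.prod.hom_ext
    · psimp
    · psimp

instance (X Z : C) : IsIso (prodInterchange X Z) :=
  ⟨prodInterchangeInv X Z, prodInterchange_inv X Z, prodInterchangeInv_hom X Z⟩

theorem diag_prod_eq (X Z : C) :
    Limits.diag (X ⨯ Z) = prod.map (Limits.diag X) (Limits.diag Z) ≫ prodInterchange X Z := by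
  unfold prodInterchange
  apply Limits.prod.hom_ext
  · apply Limits.prod.hom_ext
    · psimp
    · psimp
  · apply Limits.prod.hom_ext
    · psimp
    · psimp

end Cat

/-- The diagonal of a product has every (multiplicative, base change stable) property that
the diagonals of the factors have. -/
theorem repWith_diag_prod (P : MorphismProperty Scheme.{u}) [P.IsStableUnderBaseChange]
    [P.IsMultiplicative] {X Z : Sp S} (hX : RepWith P (Limits.diag X))
    (hZ : RepWith P (Limits.diag Z)) : RepWith P (Limits.diag (X ⨯ Z)) := by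
  have : P.RespectsIso := MorphismProperty.IsStableUnderBaseChange.respectsIso
  rw [diag_prod_eq]
  exact (MorphismProperty.cancel_right_of_respectsIso (RepWith P) _ _).2
    (repWith_prod_map P _ _ hX hZ)

/-- A subsheaf of a sheaf whose diagonal has `P` has diagonal with `P`. -/
theorem repWith_diag_of_mono (P : MorphismProperty Scheme.{u}) {F G : Sp S} (m : F ⟶ G) [Mono m]
    (hG : RepWith P (Limits.diag G)) : RepWith P (Limits.diag F) :=
  repWith_snd_of_isPullback (isPullback_diag_of_mono m) hG

/-- The map from a fibre product to the product is a monomorphism. -/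
theorem mono_prod_lift_of_isPullback' {C : Type*} [Category C] [HasBinaryProducts C]
    {X Y H P : C} {f : X ⟶ H} {g : Y ⟶ H} {fst : P ⟶ X} {snd : P ⟶ Y}
    (h : IsPullback fst snd f g) : Mono (prod.lift fst snd) := by
  refine ⟨fun {W} x y hxy => h.hom_ext ?_ ?_⟩
  · have := congrArg (· ≫ prod.fst) hxy
    psimp at this
    exact this
  · have := congrArg (· ≫ prod.snd) hxy
    psimp at this
    exact this

/-- A fibre product of sheaves whose diagonals have `P` has diagonal with `P`. -/
theorem repWith_diag_of_isPullback (P : MorphismProperty Scheme.{u}) [P.IsStableUnderBaseChange]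
    [P.IsMultiplicative] {X Y Z Q : Sp S} {f : X ⟶ Y} {g : Z ⟶ Y} {fst : Q ⟶ X} {snd : Q ⟶ Z}
    (sq : IsPullback fst snd f g) (hX : RepWith P (Limits.diag X))
    (hZ : RepWith P (Limits.diag Z)) : RepWith P (Limits.diag Q) := by
  have := mono_prod_lift_of_isPullback' sq
  exact repWith_diag_of_mono P (prod.lift fst snd) (repWith_diag_prod P hX hZ)

/-- Over a quasi-separated base, a fibre product of quasi-compact sheaves over a
quasi-separated sheaf is quasi-compact. -/
theorem isQuasiCompactSp_of_isPullback [QuasiSeparatedSpace ↥S] {X Y Z Q : Sp S} {f : X ⟶ Y}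
    {g : Z ⟶ Y} {fst : Q ⟶ X} {snd : Q ⟶ Z} (sq : IsPullback fst snd f g)
    (hX : IsQuasiCompactSp X) (hZ : IsQuasiCompactSp Z) (hY : IsQuasiSeparatedSp Y) :
    IsQuasiCompactSp Q :=
  isQuasiCompactSp_of_repWith_quasiCompact (prod.lift fst snd)
    (repWith_snd_of_isPullback (isPullback_prod_lift_diag sq) hY) (isQuasiCompactSp_prod hX hZ)

end Groth.Agent.H25.AS
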