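import Groth.Agent.H25.AlgSp20
import Mathlib.AlgebraicGeometry.Morphisms.Flat

/-!
# Algebraic spaces toolkit, part 21: monomorphisms to the spectrum of a field
-/

universe u

open CategoryTheory CategoryTheory.Limits AlgebraicGeometry Opposite AlgSp

namespace Groth.Agent.H25.AS

variable {S : Scheme.{u}}

/-- Postcomposing both legs of a pullback square with a monomorphism keeps it a pullback. -/
theorem isPullback_comp_mono {C : Type*} [Category C] {A B C' T P : C} {g : C' ⟶ A} {m : A ⟶ B}
    [Mono m] {u : T ⟶ A} {fst : P ⟶ C'} {snd : P ⟶ T} (h : IsPullback fst snd g u) :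
    IsPullback fst snd (g ≫ m) (u ≫ m) := by
  refine isPullback_of_lift ?_ ?_ ?_
  · rw [← Category.assoc, h.w, Category.assoc]
  · intro W x y hxy
    exact h.exists_lift x y (by rw [← cancel_mono m, Category.assoc, hxy, Category.assoc])
  · intro W l l' h1 h2
    exact h.hom_ext h1 h2

/-- A pullback square of representable sheaves comes from a pullback square of schemes. -/
theorem isPullback_left_of_yon {R U V T : Over S} {t : R ⟶ U} {s : R ⟶ V} {φ : U ⟶ T} {ψ : V ⟶ T}
    (sq : IsPullback ((yon S).map t) ((yon S).map s) ((yon S).map φ) ((yon S).map ψ)) :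
    IsPullback t.left s.left φ.left ψ.left := by
  have comm : t ≫ φ = s ≫ ψ := (yon S).map_injective (by
    rw [Functor.map_comp, Functor.map_comp, sq.w])
  exact (IsPullback.of_map (yon S) comm sq).map (Over.forget S)

/-- A monomorphism from a nonempty algebraic space to the spectrum of a field is an
isomorphism. -/
theorem isIso_of_mono_to_field {k : Type u} [Field k] (str : Spec (CommRingCat.of k) ⟶ S)
    {Z : Sp S} (hZ : IsAlgSpace Z) (q : Z ⟶ (yon S).obj (Over.mk str)) [Mono q]
    (hne : Nonempty (Points Z)) : IsIso q := by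
  obtain ⟨z⟩ := hne
  obtain ⟨U, p, hpe, hps⟩ := hZ.atlas
  obtain ⟨u, -⟩ := ofPt_surjective p hps z
  obtain ⟨V, hV, huV, -⟩ := (TopologicalSpace.Opens.isBasis_iff_nbhd.mp U.left.isBasis_affineOpens)
    (show u ∈ (⊤ : U.left.Opens) from trivial)
  have hae : RepWith @Etale ((yon S).map (openIncl U V) ≫ p) :=
    repWith_etale_comp (repWith_etale_openIncl U V) hpe
  obtain ⟨φ, hφ⟩ := (yon S).map_surjective (((yon S).map (openIncl U V) ≫ p) ≫ q)
  have sqR := hae.rep.isPullback' ((yon S).map (openIncl U V) ≫ p)
  have hr1 : Etale (hae.rep.fst' ((yon S).map (openIncl U V) ≫ p)).left :=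
    hae.property _ _ _ sqR.flip
  have sqR' := isPullback_comp_mono (m := q) sqR
  rw [← hφ] at sqR'
  have sqL := isPullback_left_of_yon sqR'
  have haff : IsAffine (openOver U V).left := hV
  have hsub : Subsingleton ↥(Over.mk str).left :=
    (inferInstance : Subsingleton ↥(Spec (CommRingCat.of k)))
  have hint : IsIntegral (Over.mk str).left :=
    (inferInstance : IsIntegral (Spec (CommRingCat.of k)))
  have haff' : IsAffine (Over.mk str).left :=
    (inferInstance : IsAffine (Spec (CommRingCat.of k)))
  have hflat : Flat φ.left := inferInstance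
  have hsurj : Surjective φ.left := ⟨fun x => ⟨⟨u, huV⟩, Subsingleton.elim _ _⟩⟩
  have hqc : QuasiCompact φ.left := inferInstance
  have hφe : Etale φ.left :=
    MorphismProperty.of_isPullback_of_descendsAlong (P := @Etale)
      (Q := @Surjective ⊓ @Flat ⊓ @QuasiCompact) sqL ⟨⟨hsurj, hflat⟩, hqc⟩ hr1
  have hepi : Epi ((yon S).map φ) :=
    epi_of_etale _ ((repWith_yon_map_iff _ _).2 hφe) ((repWith_yon_map_iff _ _).2 hsurj)
  rw [hφ] at hepi
  have : Epi q := epi_of_epi ((yon S).map (openIncl U V) ≫ p) q
  exact isIso_of_mono_of_epi q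

end Groth.Agent.H25.AS
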