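import Groth.Agent.H25.AlgSp21

/-!
# Algebraic spaces toolkit, part 22: universally injective morphisms and field points
-/

universe u

open CategoryTheory CategoryTheory.Limits AlgebraicGeometry Opposite AlgSp

namespace Groth.Agent.H25.AS

variable {S : Scheme.{u}}

/-- Injectivity on field-valued points. -/
def FieldInj {F G : Sp S} (f : F ⟶ G) : Prop :=
  ∀ (K : Type u) [Field K] (str : Spec (CommRingCat.of K) ⟶ S),
    Function.Injective (fun a : (yon S).obj (Over.mk str) ⟶ F => a ≫ f)

/-- A morphism injective on field-valued points is universally injective. -/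
theorem isUnivInjectiveMor_of_fieldInj {F G : Sp S} (f : F ⟶ G) (h : FieldInj f) :
    IsUnivInjectiveMor f := by
  intro Z Z' _ g fst snd sq x x' hxx'
  obtain ⟨K, _, str, m, rfl⟩ := exists_fpOf x
  obtain ⟨L, _, str', m', rfl⟩ := exists_fpOf x'
  rw [map_fpOf, map_fpOf, mk_fpOf_eq_iff] at hxx'
  obtain ⟨Ω, _, w, a, b, hab⟩ := hxx'
  rw [mk_fpOf_eq_iff]
  refine ⟨Ω, inferInstance, w, a, b, sq.hom_ext ?_ ?_⟩
  · apply h Ω w
    show (((yon S).map a ≫ m) ≫ fst) ≫ f = (((yon S).map b ≫ m') ≫ fst) ≫ f
    simp only [Category.assoc, sq.w]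
    simp only [← Category.assoc] at hab ⊢
    rw [hab]
  · simpa only [Category.assoc] using hab

/-- If the diagonal is surjective on points then the morphism is universally injective. -/
theorem isUnivInjectiveMor_of_isSurjectiveMor_diagonal {F G : Sp S} (f : F ⟶ G)
    (h : IsSurjectiveMor (pullback.diagonal f)) : IsUnivInjectiveMor f := by
  intro Z Z' _ g fst snd sq x x' hxx'
  obtain ⟨K, _, str, m, rfl⟩ := exists_fpOf x
  obtain ⟨L, _, str', m', rfl⟩ := exists_fpOf x'
  rw [map_fpOf, map_fpOf, mk_fpOf_eq_iff] at hxx'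
  obtain ⟨Ω, _, w, a, b, hab⟩ := hxx'
  have hαβ : (((yon S).map a ≫ m) ≫ fst) ≫ f = (((yon S).map b ≫ m') ≫ fst) ≫ f := by
    simp only [Category.assoc, sq.w]
    simp only [← Category.assoc] at hab ⊢
    rw [hab]
  obtain ⟨y, hy⟩ := h (Points.mk (fpOf Ω w (pullback.lift _ _ hαβ)))
  obtain ⟨L', _, str'', γ, rfl⟩ := exists_fpOf y
  rw [map_fpOf, mk_fpOf_eq_iff] at hy
  obtain ⟨Ω', _, w', b', a', hba⟩ := hy
  have h1 := congrArg (· ≫ pullback.fst f f) hba
  have h2 := congrArg (· ≫ pullback.snd f f) hba
  pbsimp at h1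
  pbsimp at h2
  rw [mk_fpOf_eq_iff]
  refine ⟨Ω', inferInstance, w', a' ≫ a, a' ≫ b, sq.hom_ext ?_ ?_⟩
  · simp only [Functor.map_comp, Category.assoc]
    rw [← h1, ← h2]
  · simp only [Functor.map_comp, Category.assoc]
    rw [hab]

/-- A universally injective morphism of algebraic spaces is injective on field-valued points. -/
theorem fieldInj_of_isUnivInjectiveMor {F G : Sp S} (hF : IsAlgSpace F) (hG : IsAlgSpace G)
    (f : F ⟶ G) (h : IsUnivInjectiveMor f) : FieldInj f := by
  intro K _ str a b hab
  have hab' : a ≫ f = b ≫ f := hab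
  have sqP := IsPullback.of_hasPullback f (a ≫ f)
  have hT : IsAlgSpace ((yon S).obj (Over.mk str)) := IsAlgSpace.yon_obj _
  have hP : IsAlgSpace (pullback f (a ≫ f)) := isAlgSpace_of_isPullback hG.diag hF hT sqP
  have hinj : Function.Injective (Points.map (pullback.snd f (a ≫ f))) := h hT _ _ _ sqP
  let σa : (yon S).obj (Over.mk str) ⟶ pullback f (a ≫ f) :=
    pullback.lift a (𝟙 _) (by rw [Category.id_comp])
  let σb : (yon S).obj (Over.mk str) ⟶ pullback f (a ≫ f) :=
    pullback.lift b (𝟙 _) (by rw [Category.id_comp, hab'])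
  have hσa : σa ≫ pullback.snd f (a ≫ f) = 𝟙 _ := pullback.lift_snd _ _ _
  have hσb : σb ≫ pullback.snd f (a ≫ f) = 𝟙 _ := pullback.lift_snd _ _ _
  have sqE := IsPullback.of_hasPullback σa σb
  have hE : IsAlgSpace (pullback σa σb) := isAlgSpace_of_isPullback hP.diag hT hT sqE
  have hπ : pullback.fst σa σb = pullback.snd σa σb := by
    have := congrArg (· ≫ pullback.snd f (a ≫ f)) sqE.w
    simp only [Category.assoc, hσa, hσb, Category.comp_id] at this
    exact this
  have hmono : Mono (pullback.fst σa σb) := by
    refine ⟨fun x y hxy => sqE.hom_ext hxy ?_⟩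
    rw [← hπ]; exact hxy
  -- the equalizer is nonempty
  have hne : Nonempty (Points (pullback σa σb)) := by
    let t : Points ((yon S).obj (Over.mk str)) := Points.mk (fpOf K str (𝟙 _))
    have e : Points.map σa t = Points.map σb t := by
      apply hinj
      rw [← Points.map_comp, ← Points.map_comp, hσa, hσb]
    obtain ⟨p, -, -⟩ := exists_of_isPullback sqE t t e
    exact ⟨p⟩
  have hiso : IsIso (pullback.fst σa σb) := isIso_of_mono_to_field str hE _ hne
  have hσ : σa = σb := by
    rw [← cancel_epi (pullback.fst σa σb)]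
    rw [sqE.w, hπ]
  have ha : a = σa ≫ pullback.fst f (a ≫ f) := (pullback.lift_fst _ _ _).symm
  have hb : b = σb ≫ pullback.fst f (a ≫ f) := (pullback.lift_fst _ _ _).symm
  rw [ha, hb, hσ]

/-- For a morphism injective on field-valued points the diagonal is surjective on points. -/
theorem isSurjectiveMor_diagonal_of_fieldInj {F G : Sp S} (f : F ⟶ G) (h : FieldInj f) :
    IsSurjectiveMor (pullback.diagonal f) := by
  intro x
  obtain ⟨K, _, str, m, rfl⟩ := exists_fpOf x
  have hab : m ≫ pullback.fst f f = m ≫ pullback.snd f f := by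
    apply h K str
    show (m ≫ pullback.fst f f) ≫ f = (m ≫ pullback.snd f f) ≫ f
    rw [Category.assoc, Category.assoc, pullback.condition]
  refine ⟨Points.mk (fpOf K str (m ≫ pullback.fst f f)), ?_⟩
  rw [map_fpOf]
  congr 2
  apply pullback.hom_ext
  · pbsimp
  · pbsimp
    exact hab

theorem injective_of_injective_yon_map {T T' : Over S} (φ : T ⟶ T')
    (h : Function.Injective (Points.map ((yon S).map φ))) :
    Function.Injective (fun t => φ.left t) := by
  rw [map_yon_map_conj]
  exact (Points.schemeHomeo T').symm.injective.comp (h.comp (Points.schemeHomeo T).injective)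

/-- For a representable morphism, representable universal injectivity agrees with universal
injectivity on points. -/
theorem repWith_universallyInjective_iff {F G : Sp S} (f : F ⟶ G) (hr : Representable f) :
    RepWith @UniversallyInjective f ↔ IsUnivInjectiveMor f := by
  constructor
  · intro hf Z Z' _ g fst snd sq
    exact injective_map_of_repWith snd (MorphismProperty.of_isPullback sq hf)
  · intro hf
    have := repWith_universally_of_univSp f hr (fun f => Function.Injective f)
      (fun _ _ f => Function.Injective (Points.map f))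
      (fun φ h => injective_of_injective_yon_map φ h) hf
    rw [universallyInjective_eq]
    exact this

end Groth.Agent.H25.AS
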