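import Groth.Agent.H25.AlgSp22
import Mathlib.AlgebraicGeometry.ZariskisMainTheorem
import Mathlib.AlgebraicGeometry.Morphisms.FlatDescent

/-!
# Algebraic spaces toolkit, part 23: fppf descent of closed immersions, separatedness, properness;
reduction of `RepWith` to affine test schemes
-/

universe u

open CategoryTheory CategoryTheory.Limits AlgebraicGeometry Opposite AlgSp MorphismProperty

namespace Groth.Agent.H25.AS

variable {S : Scheme.{u}}

instance monomorphisms_descendsAlong_fppfCov :
    (monomorphisms Scheme.{u}).DescendsAlong FppfCov.{u} := by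
  rw [← diagonal_isomorphisms]
  infer_instance

/-- A universally closed monomorphism locally of finite type is a closed immersion. -/
theorem isClosedImmersion_of_univClosed_mono_lft {X Y : Scheme.{u}} (g : X ⟶ Y)
    (h1 : UniversallyClosed g) (h2 : Mono g) (h3 : LocallyOfFiniteType g) :
    IsClosedImmersion g := by
  rw [IsClosedImmersion.iff_isProper_and_mono]
  exact ⟨{}, h2⟩

instance isClosedImmersion_descendsAlong_fppfCov :
    DescendsAlong @IsClosedImmersion FppfCov.{u} where
  of_isPullback {A X Y Z fst snd f g} sq hf hfst := by
    have h1 : UniversallyClosed fst := inferInstance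
    have h2 : monomorphisms Scheme fst := (inferInstance : Mono fst)
    have h3 : LocallyOfFiniteType fst := inferInstance
    exact isClosedImmersion_of_univClosed_mono_lft g
      (of_isPullback_of_descendsAlong (P := @UniversallyClosed) sq hf h1)
      (of_isPullback_of_descendsAlong (P := monomorphisms Scheme) sq hf h2)
      (of_isPullback_of_descendsAlong (P := @LocallyOfFiniteType) sq hf h3)

instance isSeparated_descendsAlong_fppfCov : DescendsAlong @IsSeparated FppfCov.{u} := by
  rw [IsSeparated.isSeparated_eq_diagonal_isClosedImmersion]
  infer_instance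

instance quasiSeparated_descendsAlong_fppfCov : DescendsAlong @QuasiSeparated FppfCov.{u} := by
  rw [quasiSeparated_eq_diagonal_is_quasiCompact]
  infer_instance

instance isProper_descendsAlong_fppfCov : DescendsAlong @IsProper FppfCov.{u} where
  of_isPullback {A X Y Z fst snd f g} sq hf hfst := by
    have h1 : UniversallyClosed fst := inferInstance
    have h2 : IsSeparated fst := inferInstance
    have h3 : LocallyOfFiniteType fst := inferInstance
    have h1' := of_isPullback_of_descendsAlong (P := @UniversallyClosed) sq hf h1
    have h2' := of_isPullback_of_descendsAlong (P := @IsSeparated) sq hf h2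
    have h3' := of_isPullback_of_descendsAlong (P := @LocallyOfFiniteType) sq hf h3
    exact {}

/-- The restriction square of a morphism over `S` to an open of the target, with the underlying
morphism of schemes identified. -/
theorem isPullback_restrict' {U V : Over S} (snd : V ⟶ U) (U' : U.left.Opens) :
    ∃ r : openOver V (snd.left ⁻¹ᵁ U') ⟶ openOver U U', r.left = snd.left ∣_ U' ∧
      IsPullback ((yon S).map (openIncl V (snd.left ⁻¹ᵁ U'))) ((yon S).map r) ((yon S).map snd)
        ((yon S).map (openIncl U U')) := by
  have hw : (snd.left ∣_ U') ≫ U'.ι ≫ U.hom = (snd.left ⁻¹ᵁ U').ι ≫ V.hom := by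
    have e : snd.left ≫ U.hom = V.hom := Over.w snd
    rw [← e, morphismRestrict_ι_assoc]
  let r : openOver V (snd.left ⁻¹ᵁ U') ⟶ openOver U U' := Over.homMk (snd.left ∣_ U') hw
  refine ⟨r, rfl, IsPullback.map (yon S) ?_⟩
  apply IsPullback.of_map (Over.forget S)
  · exact Over.OverMorphism.ext (morphismRestrict_ι snd.left U').symm
  · exact (isPullback_morphismRestrict snd.left U').flip

/-- For a property that is Zariski local on the target, `RepWith` can be tested on affine
schemes. -/
theorem repWith_of_affine_base (P : MorphismProperty Scheme.{u}) [IsZariskiLocalAtTarget P]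
    {F G : Sp S} (f : F ⟶ G) (hr : Representable f)
    (h : ∀ (Z : Over S), IsAffine Z.left → ∀ (g : (yon S).obj Z ⟶ G) (V : Over S)
      (fst : (yon S).obj V ⟶ F) (snd : V ⟶ Z), IsPullback fst ((yon S).map snd) f g →
      P snd.left) : RepWith P f := by
  refine ⟨hr, fun U V g fst snd sq => ?_⟩
  show P snd.left
  rw [IsZariskiLocalAtTarget.iff_of_iSup_eq_top (P := P) _ (iSup_affineOpens_eq_top U.left)]
  intro U'
  obtain ⟨r, hr', hsq⟩ := isPullback_restrict' snd U'.1
  have big := hsq.paste_horiz sq
  have := h (openOver U U'.1) U'.2 _ _ _ r big
  rwa [hr'] at this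

end Groth.Agent.H25.AS
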