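import Groth.Agent.H25.AlgSp23

/-!
# Algebraic spaces toolkit, part 24: separatedness: base change, descent, criteria
-/

universe u

open CategoryTheory CategoryTheory.Limits AlgebraicGeometry Opposite AlgSp MorphismProperty

namespace Groth.Agent.H25.AS

variable {S : Scheme.{u}}

/-- For a pullback square, the induced map on self fibre products is a base change of the
bottom map. -/
theorem isPullback_pullback_map_of_isPullback {C : Type*} [Category C] [HasPullbacks C]
    {X Y V P : C} {f : X ⟶ Y} {p : V ⟶ Y} {fst : P ⟶ X} {snd : P ⟶ V}
    (sq : IsPullback fst snd f p) :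
    IsPullback (pullback.map snd snd f f fst fst p sq.w.symm sq.w.symm)
      (pullback.fst snd snd ≫ snd) (pullback.fst f f ≫ f) p := by
  refine isPullback_of_lift ?_ ?_ ?_
  · pbsimp
    rw [sq.w]
  · intro W u v huv
    have h1 : (u ≫ pullback.fst f f) ≫ f = v ≫ p := by rw [Category.assoc, huv]
    have h2 : (u ≫ pullback.snd f f) ≫ f = v ≫ p := by
      rw [Category.assoc, ← pullback.condition, huv]
    obtain ⟨w1, hw1a, hw1b⟩ := sq.exists_lift _ _ h1
    obtain ⟨w2, hw2a, hw2b⟩ := sq.exists_lift _ _ h2
    refine ⟨pullback.lift w1 w2 (by rw [hw1b, hw2b]), ?_, ?_⟩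
    · apply pullback.hom_ext
      · pbsimp
        exact hw1a
      · pbsimp
        exact hw2a
    · pbsimp
      exact hw1b
  · intro W l l' h1 h2
    apply pullback.hom_ext
    · apply sq.hom_ext
      · have := congrArg (· ≫ pullback.fst f f) h1
        pbsimp at this
        simpa only [Category.assoc] using this
      · simpa only [Category.assoc] using h2
    · apply sq.hom_ext
      · have := congrArg (· ≫ pullback.snd f f) h1
        pbsimp at this
        simpa only [Category.assoc] using this
      · have := h2
        rw [pullback.condition] at this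
        simpa only [Category.assoc] using this

/-- Descent of properties of the diagonal along an etale surjective chart of the target. -/
theorem repWith_diagonal_of_chart (Q : MorphismProperty Scheme.{u}) [Q.IsStableUnderBaseChange]
    [Q.DescendsAlong FppfCov] {X Y : Sp S} (hX : IsAlgSpace X) (f : X ⟶ Y) {V : Over S}
    (p : (yon S).obj V ⟶ Y) (hp : RepWith @Etale p) (hps : RepWith @Surjective p)
    {P : Sp S} (fst : P ⟶ X) (snd : P ⟶ (yon S).obj V) (sq : IsPullback fst snd f p)
    (h : RepWith Q (pullback.diagonal snd)) : RepWith Q (pullback.diagonal f) := by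
  have sqd := isPullback_diagonal_of_isPullback sq
  have sqm := isPullback_pullback_map_of_isPullback sq
  have hm : RepWith FppfCov (pullback.map snd snd f f fst fst p sq.w.symm sq.w.symm) :=
    repWith_fst_of_isPullback sqm (repWith_fppfCov_of_etale hp hps)
  exact repWith_of_fppf_base (pullback.diagonal f) (repWith_diagonal_all hX f).1 _ hm fst
    (pullback.diagonal snd) sqd Q h

/-- Properties of the diagonal that are Zariski local on the target can be tested after base
change to affine schemes. -/
theorem repWith_diagonal_of_affine (Q : MorphismProperty Scheme.{u}) [Q.IsStableUnderBaseChange]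
    [IsZariskiLocalAtTarget Q] {X Y : Sp S} (hX : IsAlgSpace X) (f : X ⟶ Y)
    (h : ∀ (Z : Over S), IsAffine Z.left → ∀ (g : (yon S).obj Z ⟶ Y) (P : Sp S)
        (fst : P ⟶ X) (snd : P ⟶ (yon S).obj Z), IsPullback fst snd f g →
        RepWith Q (pullback.diagonal snd)) : RepWith Q (pullback.diagonal f) := by
  refine repWith_of_affine_base Q _ (repWith_diagonal_all hX f).1 ?_
  intro Z hZ c V fstV sndV sqc
  let g := c ≫ pullback.fst f f ≫ f
  have sqP := IsPullback.of_hasPullback f g
  have hd := h Z hZ g _ _ _ sqP
  have sqd := isPullback_diagonal_of_isPullback sqP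
  have sqm := isPullback_pullback_map_of_isPullback sqP
  obtain ⟨c', hc'1, hc'2⟩ := sqm.exists_lift c (𝟙 _) (by rw [Category.id_comp])
  obtain ⟨l, hl1, hl2⟩ := sqd.exists_lift fstV ((yon S).map sndV ≫ c') (by
    rw [sqc.w, Category.assoc, hc'1])
  have big : IsPullback (l ≫ pullback.fst f g) ((yon S).map sndV) (pullback.diagonal f)
      (c' ≫ pullback.map (pullback.snd f g) (pullback.snd f g) f f (pullback.fst f g)
        (pullback.fst f g) g sqP.w.symm sqP.w.symm) := by
    rw [hl1, hc'1]
    exact sqc
  have left := IsPullback.of_right big hl2 sqd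
  exact hd.property c' l sndV left

end Groth.Agent.H25.AS
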