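import Groth.Agent.H25.AlgSp25
import Mathlib.AlgebraicGeometry.Noetherian

/-!
# Algebraic spaces toolkit, part 26: `LocP` and charts of the target, finite presentation
-/

universe u

open CategoryTheory CategoryTheory.Limits AlgebraicGeometry Opposite AlgSp MorphismProperty

namespace Groth.Agent.H25.AS

variable {S : Scheme.{u}}

/-- `LocP P` descends along an etale surjective chart of the target, for `P` with fppf descent. -/
theorem locP_of_target_chart (P : MorphismProperty Scheme.{u}) [P.DescendsAlong FppfCov]
    {X Y : Sp S} (f : X ⟶ Y) {V : Over S} (p : (yon S).obj V ⟶ Y) (hp : RepWith @Etale p)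
    (hps : RepWith @Surjective p) {P₀ : Sp S} (fst : P₀ ⟶ X) (snd : P₀ ⟶ (yon S).obj V)
    (sq : IsPullback fst snd f p) (h : LocP P snd) : LocP P f := by
  intro U V' a b k ha hb w
  have sqW := hp.rep.isPullback' b
  have hr : FppfCov (hp.rep.snd b).left := (repWith_fppfCov_of_etale hp hps).property_snd b
  have hfe : Etale (hp.rep.fst' b).left := hb.property p _ _ sqW.flip
  have sqU := IsPullback.of_hasPullback k (hp.rep.snd b)
  have big := (sqU.map (yon S)).paste_vert sqW.flip
  rw [← w] at big
  obtain ⟨l, hl1, hl2⟩ := sq.exists_lift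
    ((yon S).map (pullback.fst k (hp.rep.snd b)) ≫ a)
    ((yon S).map (pullback.snd k (hp.rep.snd b)) ≫ (yon S).map (hp.rep.fst' b))
    (by rw [Category.assoc, big.w])
  rw [← hl2] at big
  have T := IsPullback.of_bot big hl1.symm sq
  have hle : RepWith @Etale l := repWith_snd_of_isPullback T ha
  have hb' : RepWith @Etale ((yon S).map (hp.rep.fst' b)) := (repWith_yon_map_iff _ _).2 hfe
  have hP : P (pullback.snd k (hp.rep.snd b)).left := h l _ _ hle hb' hl2
  exact of_isPullback_of_descendsAlong (P := P) (Q := FppfCov)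
    (sqU.map (Over.forget S)).flip hr hP

/-- Cancellation for morphisms locally of finite presentation. -/
theorem lfp_of_comp {X Y Z : Scheme.{u}} (f : X ⟶ Y) (g : Y ⟶ Z)
    (h : LocallyOfFinitePresentation (f ≫ g)) (hg : LocallyOfFiniteType g) :
    LocallyOfFinitePresentation f := by
  wlog hZ : IsAffine Z generalizing X Y Z
  · rw [IsZariskiLocalAtTarget.iff_of_iSup_eq_top (P := @LocallyOfFinitePresentation) _
      (g.iSup_preimage_eq_top (iSup_affineOpens_eq_top Z))]
    intro U
    have H := IsZariskiLocalAtTarget.restrict h U.1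
    rw [morphismRestrict_comp] at H
    exact this _ _ H inferInstance U.2
  wlog hY : IsAffine Y generalizing X Y
  · rw [IsZariskiLocalAtTarget.iff_of_iSup_eq_top (P := @LocallyOfFinitePresentation) _
      (iSup_affineOpens_eq_top Y)]
    intro U
    have H := HasRingHomProperty.comp_of_isOpenImmersion @LocallyOfFinitePresentation
      (f ⁻¹ᵁ U.1).ι (f ≫ g) h
    rw [← morphismRestrict_ι_assoc] at H
    exact this _ _ H inferInstance U.2
  wlog hX : IsAffine X generalizing X
  · rw [IsZariskiLocalAtSource.iff_of_iSup_eq_top (P := @LocallyOfFinitePresentation) _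
      (iSup_affineOpens_eq_top X)]
    intro U
    have H := HasRingHomProperty.comp_of_isOpenImmersion @LocallyOfFinitePresentation
      U.1.ι (f ≫ g) h
    rw [← Category.assoc] at H
    exact this _ H U.2
  rw [HasRingHomProperty.iff_of_isAffine (P := @LocallyOfFinitePresentation)] at h ⊢
  rw [HasRingHomProperty.iff_of_isAffine (P := @LocallyOfFiniteType)] at hg
  refine RingHom.FinitePresentation.of_comp_finiteType _ ?_ hg
  convert h using 1
  simp

/-- A morphism of algebraic spaces which is universally open etale locally on source and target is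
universally open. -/
theorem isUnivOpenMor_of_locP {X Y : Sp S} (hX : IsAlgSpace X) (hY : IsAlgSpace Y) (f : X ⟶ Y)
    (hf : LocP @UniversallyOpen f) : IsUnivOpenMor f := by
  obtain ⟨V, p, hpe, hps⟩ := hY.atlas
  have sq₀ := IsPullback.of_hasPullback f p
  refine univSp_of_chart descFam_isOpenMor f p hpe hps _ _ sq₀ ?_
  have hP₀ : IsAlgSpace (pullback f p) :=
    isAlgSpace_of_isPullback hY.diag hX (IsAlgSpace.yon_obj V) sq₀
  obtain ⟨U, a, hae, has⟩ := hP₀.atlas
  obtain ⟨k, hk⟩ := (yon S).map_surjective (a ≫ pullback.snd f p)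
  have hfe : RepWith @Etale (pullback.fst f p) := repWith_fst_of_isPullback sq₀ hpe
  have hk' : UniversallyOpen k.left := hf (a ≫ pullback.fst f p) p k
    (repWith_etale_comp hae hfe) hpe (by rw [Category.assoc, sq₀.w, ← Category.assoc, hk])
  have hrk : RepWith @UniversallyOpen ((yon S).map k) := (repWith_yon_map_iff _ _).2 hk'
  have h1 : IsUnivOpenMor (a ≫ pullback.snd f p) := by
    rw [← hk]
    exact (repWith_universallyOpen_iff _ hrk.rep).1 hrk
  exact isUnivOpenMor_of_comp a _ has h1

/-- The source of a morphism locally of finite type over a locally Noetherian algebraic space is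
locally Noetherian. -/
theorem isLocNoethSp_of_locP_lft {X Y : Sp S} (hX : IsAlgSpace X) (f : X ⟶ Y)
    (hf : LocP @LocallyOfFiniteType f) (hY : IsLocNoethSp Y) : IsLocNoethSp X := by
  obtain ⟨V, q, hqe, hqs, hV⟩ := hY
  obtain ⟨U₀, p, hpe, hps⟩ := hX.atlas
  have sq := hqe.rep.isPullback' (p ≫ f)
  have h1 : Etale (hqe.rep.snd (p ≫ f)).left := hqe.property_snd _
  have h2 : Surjective (hqe.rep.snd (p ≫ f)).left := hqs.property _ _ _ sq
  have hae : RepWith @Etale ((yon S).map (hqe.rep.snd (p ≫ f)) ≫ p) :=
    repWith_etale_comp ((repWith_yon_map_iff _ _).2 h1) hpe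
  have has : RepWith @Surjective ((yon S).map (hqe.rep.snd (p ≫ f)) ≫ p) :=
    repWith_surjective_comp ((repWith_yon_map_iff _ _).2 h2) hps
  have hk : LocallyOfFiniteType (hqe.rep.fst' (p ≫ f)).left :=
    hf _ q _ hae hqe (by rw [Category.assoc, sq.w])
  have : IsLocallyNoetherian V.left := hV
  exact ⟨_, _, hae, has, LocallyOfFiniteType.isLocallyNoetherian (hqe.rep.fst' (p ≫ f)).left⟩

/-- Over a locally Noetherian algebraic space, locally of finite type implies locally of finite
presentation. -/
theorem locP_lfp_of_locP_lft {X Y : Sp S} (f : X ⟶ Y) (hY : IsLocNoethSp Y)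
    (hf : LocP @LocallyOfFiniteType f) : LocP @LocallyOfFinitePresentation f := by
  intro U V' a b k ha hb w
  obtain ⟨V₀, q, hqe, hqs, hV₀⟩ := hY
  have : IsLocallyNoetherian V₀.left := hV₀
  have sqW := hqe.rep.isPullback' b
  have hr : FppfCov (hqe.rep.snd b).left := (repWith_fppfCov_of_etale hqe hqs).property_snd b
  have hfe : Etale (hqe.rep.fst' b).left := hb.property q _ _ sqW.flip
  have hW : IsLocallyNoetherian (hqe.rep.pullback b).left :=
    LocallyOfFiniteType.isLocallyNoetherian (hqe.rep.fst' b).left
  have sqU := IsPullback.of_hasPullback k (hqe.rep.snd b)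
  have hk : LocallyOfFiniteType k.left := hf a b k ha hb w
  have h2 : LocallyOfFiniteType (pullback.snd k (hqe.rep.snd b)).left :=
    MorphismProperty.of_isPullback (P := @LocallyOfFiniteType) (sqU.map (Over.forget S)) hk
  have h3 : LocallyOfFinitePresentation (pullback.snd k (hqe.rep.snd b)).left := inferInstance
  exact of_isPullback_of_descendsAlong (P := @LocallyOfFinitePresentation) (Q := FppfCov)
    (sqU.map (Over.forget S)).flip hr h3

end Groth.Agent.H25.AS
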