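import Groth.Agent.H25.AlgSp26

/-!
# Algebraic spaces toolkit, part 27: cancellation and descent for proper morphisms
-/

universe u

open CategoryTheory CategoryTheory.Limits AlgebraicGeometry Opposite AlgSp MorphismProperty

namespace Groth.Agent.H25.AS

variable {S : Scheme.{u}}

/-- "Universally `Q`" morphisms compose, for `Q` stable under composition. -/
theorem univSp_comp {Q : MorphismProperty (Sp S)}
    (hQ : ∀ {A B C : Sp S} (a : A ⟶ B) (b : B ⟶ C), Q a → Q b → Q (a ≫ b))
    {F G H : Sp S} (hG : IsAlgSpace G) (hH : Representable (Limits.diag H))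
    (f : F ⟶ G) (g : G ⟶ H) (hf : UnivSp Q f) (hg : UnivSp Q g) : UnivSp Q (f ≫ g) := by
  intro Z Z' hZ k fst snd sq
  have sqQ := IsPullback.of_hasPullback g k
  have hQ' : IsAlgSpace (pullback g k) := isAlgSpace_of_isPullback hH hG hZ sqQ
  obtain ⟨l, hl1, hl2⟩ := sqQ.exists_lift (fst ≫ f) snd (by rw [Category.assoc, sq.w])
  have big : IsPullback fst (l ≫ pullback.snd g k) (f ≫ g) k := by rw [hl2]; exact sq
  have top : IsPullback fst l f (pullback.fst g k) := IsPullback.of_bot big hl1.symm sqQ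
  rw [← hl2]
  exact hQ _ _ (hf hQ' _ _ _ top) (hg hZ k _ _ sqQ)

theorem isUnivClosedMor_comp {F G H : Sp S} (hG : IsAlgSpace G)
    (hH : Representable (Limits.diag H)) (f : F ⟶ G) (g : G ⟶ H) (hf : IsUnivClosedMor f)
    (hg : IsUnivClosedMor g) : IsUnivClosedMor (f ≫ g) :=
  univSp_comp (Q := IsClosedMor) (fun a b (ha : IsClosedMap (Points.map a))
    (hb : IsClosedMap (Points.map b)) => by
      show IsClosedMap (Points.map (a ≫ b))
      have e : Points.map (a ≫ b) = Points.map b ∘ Points.map a := by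
        funext x; exact Points.map_comp _ _ _
      rw [e]
      exact hb.comp ha) hG hH f g hf hg

/-- If `f ≫ g` is quasi-compact and `g` is quasi-separated then `f` is quasi-compact. -/
theorem isQuasiCompactMor_of_comp {X Y Z : Sp S} (hX : IsAlgSpace X) (hY : IsAlgSpace Y)
    (hZ : IsAlgSpace Z) (f : X ⟶ Y) (g : Y ⟶ Z) (hgf : IsQuasiCompactMor (f ≫ g))
    (hg : IsQuasiSeparatedMor g) : IsQuasiCompactMor f := by
  have sqP := IsPullback.of_hasPullback (f ≫ g) g
  have hPa : IsAlgSpace (pullback (f ≫ g) g) := isAlgSpace_of_isPullback hZ.diag hX hY sqP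
  have h1 : RepWith @QuasiCompact
      (pullback.lift (𝟙 X) f (by simp) : X ⟶ pullback (f ≫ g) g) :=
    repWith_snd_of_isPullback (pullback_lift_diagonal_isPullback f g) hg
  have h2 : IsQuasiCompactMor (pullback.snd (f ≫ g) g) := isQuasiCompactMor_of_isPullback sqP hgf
  have e2 : f = pullback.lift (𝟙 X) f (by simp) ≫ pullback.snd (f ≫ g) g := by
    rw [pullback.lift_snd]
  rw [e2]
  exact isQuasiCompactMor_comp hPa hY.diag _ _ (isQuasiCompactMor_of_repWith _ h1) h2

/-- If `f ≫ g` is universally closed and `g` is separated then `f` is universally closed. -/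
theorem isUnivClosedMor_of_comp {X Y Z : Sp S} (hX : IsAlgSpace X) (hY : IsAlgSpace Y)
    (hZ : IsAlgSpace Z) (f : X ⟶ Y) (g : Y ⟶ Z) (hgf : IsUnivClosedMor (f ≫ g))
    (hg : IsSeparatedMor g) : IsUnivClosedMor f := by
  have sqP := IsPullback.of_hasPullback (f ≫ g) g
  have hPa : IsAlgSpace (pullback (f ≫ g) g) := isAlgSpace_of_isPullback hZ.diag hX hY sqP
  have h1 : RepWith @IsClosedImmersion
      (pullback.lift (𝟙 X) f (by simp) : X ⟶ pullback (f ≫ g) g) :=
    repWith_snd_of_isPullback (pullback_lift_diagonal_isPullback f g) hg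
  have h1' : IsUnivClosedMor (pullback.lift (𝟙 X) f (by simp) : X ⟶ pullback (f ≫ g) g) :=
    (repWith_universallyClosed_iff _ h1.rep).1 (repWith_mono
      (fun _ _ g (_ : IsClosedImmersion g) => (inferInstance : UniversallyClosed g)) h1)
  have h2 : IsUnivClosedMor (pullback.snd (f ≫ g) g) := univSp_of_isPullback sqP hgf
  have e2 : f = pullback.lift (𝟙 X) f (by simp) ≫ pullback.snd (f ≫ g) g := by
    rw [pullback.lift_snd]
  rw [e2]
  exact isUnivClosedMor_comp hPa hY.diag _ _ h1' h2

theorem diagonal_comp_mapDesc {C : Type*} [Category C] [HasPullbacks C] {X Y Z : C} (f : X ⟶ Y)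
    (g : Y ⟶ Z) : pullback.diagonal f ≫ pullback.mapDesc f f g = pullback.diagonal (f ≫ g) := by
  unfold pullback.mapDesc
  apply pullback.hom_ext
  · pbsimp
  · pbsimp

/-- If `f ≫ g` is separated then `f` is separated. -/
theorem isSeparatedMor_of_comp {X Y Z : Sp S} (hY : IsAlgSpace Y) (f : X ⟶ Y) (g : Y ⟶ Z)
    (hgf : IsSeparatedMor (f ≫ g)) : IsSeparatedMor f := by
  have sq := pullback_map_diagonal_isPullback f f g
  have hm : RepWith (monomorphisms Scheme.{u}) (pullback.mapDesc f f g) :=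
    repWith_snd_of_isPullback sq (repWith_diagonal_all hY g).2.2.1
  have : Mono (pullback.mapDesc f f g) :=
    mono_of_repWith (monomorphisms Scheme.{u}) (fun _ h => h) _ hm
  have h : RepWith @IsClosedImmersion (pullback.diagonal f ≫ pullback.mapDesc f f g) := by
    rw [diagonal_comp_mapDesc]; exact hgf
  exact repWith_of_comp_mono h

theorem isQuasiSeparatedMor_of_isSeparatedMor {X Y : Sp S} (f : X ⟶ Y) (h : IsSeparatedMor f) :
    IsQuasiSeparatedMor f :=
  repWith_mono (fun _ _ g (_ : IsClosedImmersion g) => (inferInstance : QuasiCompact g)) h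

/-- If `f ≫ g` is proper and `g` is separated then `f` is proper. -/
theorem isProperMor_of_comp {X Y Z : Sp S} (hX : IsAlgSpace X) (hY : IsAlgSpace Y)
    (hZ : IsAlgSpace Z) (f : X ⟶ Y) (g : Y ⟶ Z) (hgf : IsProperMor (f ≫ g))
    (hg : IsSeparatedMor g) : IsProperMor f := by
  obtain ⟨h1, ⟨h2, h3⟩, h4⟩ := hgf
  refine ⟨isSeparatedMor_of_comp hY f g h1, ⟨?_, ?_⟩, isUnivClosedMor_of_comp hX hY hZ f g h4 hg⟩
  · exact locP_of_comp (P := @LocallyOfFiniteType) (Q := ⊤)
      (fun h k _ hhk => by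
        have : LocallyOfFiniteType (h ≫ k) := hhk
        exact locallyOfFiniteType_of_comp h k) hZ f g (fun _ _ _ _ _ _ _ _ => trivial) h2
  · exact isQuasiCompactMor_of_comp hX hY hZ f g h3 (isQuasiSeparatedMor_of_isSeparatedMor g hg)

/-- Properness descends along an etale surjective chart of the target. -/
theorem isProperMor_of_chart {X Y : Sp S} (hX : IsAlgSpace X) (hY : IsAlgSpace Y) (f : X ⟶ Y)
    {V : Over S} (p : (yon S).obj V ⟶ Y) (hp : RepWith @Etale p) (hps : RepWith @Surjective p)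
    {P : Sp S} (fst : P ⟶ X) (snd : P ⟶ (yon S).obj V) (sq : IsPullback fst snd f p)
    (h : IsProperMor snd) : IsProperMor f := by
  obtain ⟨h1, ⟨h2, h3⟩, h4⟩ := h
  refine ⟨repWith_diagonal_of_chart @IsClosedImmersion hX f p hp hps fst snd sq h1,
    ⟨locP_of_target_chart @LocallyOfFiniteType f p hp hps fst snd sq h2, ?_⟩,
    univSp_of_chart descFam_isClosedMor f p hp hps fst snd sq h4⟩
  refine isQuasiCompactMor_of_univOpen_chart hY hX f p fst snd sq (𝟙 _) ?_ ?_ h3
  · rw [Category.id_comp]; exact isUnivOpenMor_of_repWith_etale p hp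
  · rw [Category.id_comp]; exact isSurjectiveMor_of_repWith p hps

end Groth.Agent.H25.AS
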