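import Groth.Agent.H25.AlgSp27
import Mathlib.AlgebraicGeometry.Morphisms.Finite
import Mathlib.AlgebraicGeometry.Morphisms.Integral

/-!
# Algebraic spaces toolkit, part 28: cancellation for affine, integral and finite morphisms
-/

universe u

open CategoryTheory CategoryTheory.Limits AlgebraicGeometry Opposite AlgSp MorphismProperty

namespace Groth.Agent.H25.AS

variable {S : Scheme.{u}}

/-- Given `f : X ⟶ Y`, `g : Y ⟶ B`, a point `k` of `Y`, a representation `W` of `X ×_B Z` and a
representation `W'` of the base change of the diagonal of `g`, `W'` represents `X ×_Y Z`. -/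
theorem isPullback_of_comp_diagonal {C : Type*} [Category C] [HasPullbacks C] {X Y B Z W W' : C}
    {f : X ⟶ Y} {g : Y ⟶ B} {k : Z ⟶ Y} {i : W ⟶ Z} {fstW : W ⟶ X}
    (sqW : IsPullback fstW i (f ≫ g) (k ≫ g)) {i' : W' ⟶ W} {fst' : W' ⟶ Y}
    (sq' : IsPullback fst' i' (pullback.diagonal g)
      (pullback.lift (fstW ≫ f) (i ≫ k) (by simp only [Category.assoc]; exact sqW.w))) :
    IsPullback (i' ≫ fstW) (i' ≫ i) f k := by
  have e1 : fst' = i' ≫ fstW ≫ f := by
    have := congrArg (· ≫ pullback.fst g g) sq'.w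
    pbsimp at this
    exact this
  have e2 : fst' = i' ≫ i ≫ k := by
    have := congrArg (· ≫ pullback.snd g g) sq'.w
    pbsimp at this
    exact this
  refine isPullback_of_lift ?_ ?_ ?_
  · rw [Category.assoc, Category.assoc, ← e1, ← e2]
  · intro T u v huv
    obtain ⟨w, hw1, hw2⟩ := sqW.exists_lift u v (by
      rw [← Category.assoc, huv, Category.assoc])
    obtain ⟨t, ht1, ht2⟩ := sq'.exists_lift (u ≫ f) w (by
      apply pullback.hom_ext
      · pbsimp
        rw [← Category.assoc, hw1]
      · pbsimp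
        rw [← Category.assoc, hw2, huv])
    exact ⟨t, by rw [← Category.assoc, ht2, hw1], by rw [← Category.assoc, ht2, hw2]⟩
  · intro T t t' h1 h2
    have h3 : t ≫ i' = t' ≫ i' := by
      apply sqW.hom_ext
      · simpa only [Category.assoc] using h1
      · simpa only [Category.assoc] using h2
    apply sq'.hom_ext _ h3
    rw [e1]
    simpa only [Category.assoc] using congrArg (· ≫ fstW ≫ f) h3

/-- Cancellation for morphisms whose base changes to affine schemes are affine schemes with a
property `Q` of the projection, when the second morphism is separated. -/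
theorem affine_base_change_cancel (Q : MorphismProperty Scheme.{u}) [Q.IsStableUnderComposition]
    (hQ : ∀ {A B : Scheme.{u}} (r : A ⟶ B), IsClosedImmersion r → Q r) {X Y B : Sp S}
    (f : X ⟶ Y) (g : Y ⟶ B) (hg : IsSeparatedMor g)
    (h : ∀ ⦃Z : Over S⦄, IsAffine Z.left → ∀ (k : (yon S).obj Z ⟶ B),
      ∃ (W : Over S) (i : W ⟶ Z) (fst : (yon S).obj W ⟶ X),
        IsPullback fst ((yon S).map i) (f ≫ g) k ∧ IsAffine W.left ∧ Q i.left) :
    ∀ ⦃Z : Over S⦄, IsAffine Z.left → ∀ (k : (yon S).obj Z ⟶ Y),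
      ∃ (W : Over S) (i : W ⟶ Z) (fst : (yon S).obj W ⟶ X),
        IsPullback fst ((yon S).map i) f k ∧ IsAffine W.left ∧ Q i.left := by
  intro Z hZ k
  obtain ⟨W, i, fstW, sqW, hW, hi⟩ := h hZ (k ≫ g)
  let c : (yon S).obj W ⟶ pullback g g := pullback.lift (fstW ≫ f) ((yon S).map i ≫ k) (by
    simp only [Category.assoc]; exact sqW.w)
  have hc := hg.rep.isPullback c
  have hcl : IsClosedImmersion (hg.rep.snd c).left := hg.property_snd c
  have sq := isPullback_of_comp_diagonal sqW hc
  rw [← Functor.map_comp] at sq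
  refine ⟨_, _, _, sq, ?_, ?_⟩
  · exact isAffine_of_isAffineHom (hg.rep.snd c).left
  · rw [Over.comp_left]
    exact Q.comp_mem _ _ (hQ _ hcl) hi

end Groth.Agent.H25.AS
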