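import Groth.Agent.H25.AlgSp2
import Groth.Prelude.Def_SGA1
import Mathlib.AlgebraicGeometry.Morphisms.UniversallyInjective

/-!
# Algebraic spaces toolkit, part 3: topological properties of representable morphisms
-/

universe u

open CategoryTheory CategoryTheory.Limits AlgebraicGeometry Opposite AlgSp

namespace Groth.Agent.H25.AS

variable {S : Scheme.{u}}

/-- An open subscheme of a scheme over `S`, as an object over `S`. -/
noncomputable abbrev openOver (U : Over S) (V : U.left.Opens) : Over S := Over.mk (V.ι ≫ U.hom)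

/-- The inclusion of an open subscheme, over `S`. -/
noncomputable abbrev openIncl (U : Over S) (V : U.left.Opens) : openOver U V ⟶ U :=
  Over.homMk V.ι rfl

theorem repWith_etale_openIncl (U : Over S) (V : U.left.Opens) :
    RepWith @Etale ((yon S).map (openIncl U V)) :=
  (repWith_yon_map_iff _ _).2 (show Etale V.ι from inferInstance)

theorem repWith_etale_comp {F G H : Sp S} {f : F ⟶ G} {g : G ⟶ H} (hf : RepWith @Etale f)
    (hg : RepWith @Etale g) : RepWith @Etale (f ≫ g) :=
  (RepWith (S := S) @Etale).comp_mem _ _ hf hg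

theorem preimage_image_map {F G : Sp S} {f : F ⟶ G} {T V : Over S} {g : (yon S).obj T ⟶ G}
    {fst : (yon S).obj V ⟶ F} {snd : V ⟶ T} (sq : IsPullback fst ((yon S).map snd) f g)
    (A : Set (Points F)) :
    Points.ofPt g ⁻¹' (Points.map f '' A) = snd.left '' (Points.ofPt fst ⁻¹' A) := by
  ext t
  constructor
  · rintro ⟨x, hxA, hx⟩
    obtain ⟨v, hv1, hv2⟩ := exists_point_of_isPullback sq t x hx.symm
    exact ⟨v, by rw [Set.mem_preimage, hv2]; exact hxA, hv1⟩
  · rintro ⟨v, hv, rfl⟩
    refine ⟨Points.ofPt fst v, hv, ?_⟩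
    rw [Points.map_ofPt, sq.w, ofPt_map_comp]

theorem preimage_preimage_map {F G : Sp S} {f : F ⟶ G} {T V : Over S} {g : (yon S).obj T ⟶ G}
    {fst : (yon S).obj V ⟶ F} {snd : V ⟶ T} (w : fst ≫ f = (yon S).map snd ≫ g)
    (B : Set (Points G)) :
    Points.ofPt fst ⁻¹' (Points.map f ⁻¹' B) = snd.left ⁻¹' (Points.ofPt g ⁻¹' B) := by
  ext v
  simp only [Set.mem_preimage]
  rw [Points.map_ofPt, w, ofPt_map_comp]

theorem isOpenMap_map_of_repWith {F G : Sp S} (f : F ⟶ G) (hf : RepWith @UniversallyOpen f) :
    IsOpenMap (Points.map f) := by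
  intro A hA
  rw [Points.isOpen_iff]
  intro T g
  have : UniversallyOpen (hf.rep.snd g).left := hf.property_snd g
  rw [preimage_image_map (hf.rep.isPullback g)]
  exact (hf.rep.snd g).left.isOpenMap _ (hA.preimage (Points.continuous_ofPt _))

theorem isClosedMap_map_of_repWith {F G : Sp S} (f : F ⟶ G) (hf : RepWith @UniversallyClosed f) :
    IsClosedMap (Points.map f) := by
  intro A hA
  rw [← isOpen_compl_iff, Points.isOpen_iff]
  intro T g
  have : UniversallyClosed (hf.rep.snd g).left := hf.property_snd g
  rw [Set.preimage_compl, isOpen_compl_iff, preimage_image_map (hf.rep.isPullback g)]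
  exact (hf.rep.snd g).left.isClosedMap _ (hA.preimage (Points.continuous_ofPt _))

theorem injective_map_of_repWith {F G : Sp S} (f : F ⟶ G)
    (hf : RepWith @UniversallyInjective f) : Function.Injective (Points.map f) := by
  intro x x' h
  obtain ⟨T, g, t, ht⟩ := exists_ofPt (Points.map f x)
  have : UniversallyInjective (hf.rep.snd g).left := hf.property_snd g
  obtain ⟨v, hv1, hv2⟩ := exists_point_of_isPullback (hf.rep.isPullback g) t x ht
  obtain ⟨v', hv1', hv2'⟩ := exists_point_of_isPullback (hf.rep.isPullback g) t x' (ht.trans h)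
  have : v = v' := (hf.rep.snd g).left.injective (hv1.trans hv1'.symm)
  rw [← hv2, ← hv2', this]

theorem isQuotientMap_map_of_repWith {F G : Sp S} (f : F ⟶ G)
    (hf : RepWith SGA1.UnivSubmersive f) : Topology.IsQuotientMap (Points.map f) := by
  have hsnd : ∀ {T : Over S} (g : (yon S).obj T ⟶ G),
      Topology.IsQuotientMap (hf.rep.snd g).left := fun g =>
    (hf.property_snd g) _ _ _ IsPullback.of_id_snd
  have hsurj : Function.Surjective (Points.map f) := by
    intro y
    obtain ⟨T, g, t, rfl⟩ := exists_ofPt y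
    obtain ⟨v, rfl⟩ := (hsnd g).surjective t
    exact ⟨Points.ofPt (hf.rep.fst g) v, by rw [Points.map_ofPt, hf.rep.w g, ofPt_map_comp]⟩
  refine ⟨Topology.IsCoinducing.of_isOpen_preimage_iff_isOpen fun B =>
    ⟨fun hB => ?_, fun hB => hB.preimage (Points.continuous_map f)⟩, hsurj⟩
  rw [Points.isOpen_iff]
  intro T g
  rw [← (hsnd g).isOpen_preimage, ← preimage_preimage_map (hf.rep.w g)]
  exact hB.preimage (Points.continuous_ofPt _)

/-- Transfer of a topological property between `h_φ` on points and `φ` on underlying spaces. -/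
theorem map_yon_map_conj {T T' : Over S} (φ : T ⟶ T') :
    (fun t => φ.left t) =
      (Points.schemeHomeo T').symm ∘ Points.map ((yon S).map φ) ∘ Points.schemeHomeo T := by
  funext t
  simp only [Function.comp_apply, Points.map_yon_map_apply, Homeomorph.symm_apply_apply]

/-- Generic converse: a representable morphism all of whose base changes to algebraic spaces have
a property on points, which transfers to schemes, is representable with the universal topological
property. -/
theorem repWith_universally_of_univSp {F G : Sp S} (f : F ⟶ G) (hr : Representable f)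
    (Pt : ∀ {α β : Type u} [TopologicalSpace α] [TopologicalSpace β] (_ : α → β), Prop)
    (Q : MorphismProperty (Sp S))
    (hQ : ∀ {T T' : Over S} (φ : T ⟶ T'), Q ((yon S).map φ) → Pt (fun t => φ.left t))
    (hf : UnivSp Q f) :
    RepWith (MorphismProperty.universally (topologically Pt)) f := by
  refine ⟨hr, fun U V g fst snd sq X' Y' (i₁ : X' ⟶ V.left) (i₂ : Y' ⟶ U.left) f'
    (h : IsPullback f' i₁ i₂ snd.left) => ?_⟩
  -- make the base change square live over `S`
  let T : Over S := Over.mk (i₂ ≫ U.hom)
  let X'' : Over S := Over.mk (i₁ ≫ V.hom)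
  let i₂' : T ⟶ U := Over.homMk i₂ rfl
  let i₁' : X'' ⟶ V := Over.homMk i₁ rfl
  have hw : f' ≫ i₂ ≫ U.hom = i₁ ≫ V.hom := by
    have e : snd.left ≫ U.hom = V.hom := Over.w snd
    have hw' : f' ≫ i₂ = i₁ ≫ snd.left := h.w
    rw [← e, ← Category.assoc, hw', Category.assoc]
  let f'' : X'' ⟶ T := Over.homMk f' hw
  have hsqS : IsPullback f'' i₁' i₂' snd := by
    apply IsPullback.of_map (Over.forget S)
    · exact Over.OverMorphism.ext h.w
    · exact h
  have hsqY := hsqS.map (yon S)
  have big : IsPullback ((yon S).map i₁' ≫ fst) ((yon S).map f'') f ((yon S).map i₂' ≫ g) :=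
    (hsqY.flip).paste_horiz sq
  have := hf (IsAlgSpace.yon_obj T) _ _ _ big
  exact hQ f'' this

end Groth.Agent.H25.AS
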