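import Groth.Agent.H25.AlgSp29

/-!
# Algebraic spaces toolkit, part 30: fppf coverings and open maps; open descent for fpqc
-/

universe u

open CategoryTheory CategoryTheory.Limits AlgebraicGeometry Opposite AlgSp MorphismProperty

namespace Groth.Agent.H25.AS

/-- A map is open as soon as its composites with a jointly surjective family of continuous maps
are open. -/
theorem isOpenMap_of_jointly_surjective {A B : Type*} [TopologicalSpace A] [TopologicalSpace B]
    {ι : Type*} {P : ι → Type*} [∀ i, TopologicalSpace (P i)] (f : A → B) (t : ∀ i, P i → A)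
    (ht : ∀ i, Continuous (t i)) (hsurj : ∀ a, ∃ i p, t i p = a)
    (h : ∀ i, IsOpenMap (f ∘ t i)) : IsOpenMap f := by
  intro W hW
  have e : f '' W = ⋃ i, (f ∘ t i) '' (t i ⁻¹' W) := by
    ext b
    simp only [Set.mem_image, Set.mem_iUnion, Set.mem_preimage, Function.comp_apply]
    constructor
    · rintro ⟨a, ha, rfl⟩
      obtain ⟨i, p, rfl⟩ := hsurj a
      exact ⟨i, p, ha, rfl⟩
    · rintro ⟨i, p, hp, rfl⟩
      exact ⟨t i p, hp, rfl⟩
  rw [e]
  exact isOpen_iUnion fun i => h i _ ((ht i).isOpen_preimage _ hW)

variable {S : Scheme.{u}}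

/-- A universally `Q` morphism is `Q`. -/
theorem of_univSp {Q : MorphismProperty (Sp S)} {F G : Sp S} (hG : IsAlgSpace G) (f : F ⟶ G)
    (hf : UnivSp Q f) : Q f :=
  hf hG (𝟙 G) (𝟙 F) f (IsPullback.of_horiz_isIso ⟨by simp⟩)

/-- A flat morphism locally of finite presentation of algebraic spaces is universally open. -/
theorem isUnivOpenMor_of_fppf {X Y : Sp S} (hX : IsAlgSpace X) (hY : IsAlgSpace Y) (f : X ⟶ Y)
    (h1 : LocP @Flat f) (h2 : LocP @LocallyOfFinitePresentation f) : IsUnivOpenMor f := by
  refine isUnivOpenMor_of_locP hX hY f fun U V a b h ha hb comm => ?_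
  have : Flat h.left := h1 a b h ha hb comm
  have : LocallyOfFinitePresentation h.left := h2 a b h ha hb comm
  infer_instance

/-- Openness on points is fppf local on the source. -/
theorem isLocalOnSource_fppf_isOpenMor :
    IsLocalOnSource (IsFppfCover (S := S)) IsOpenMor := by
  intro ι X Xi g hX hXi hcov Y f hY
  constructor
  · intro hf i
    have hg : IsOpenMor (g i) := of_univSp hX (g i)
      (isUnivOpenMor_of_fppf (hXi i) hX (g i) (hcov.1 i).1 (hcov.1 i).2)
    have e : Points.map (g i ≫ f) = Points.map f ∘ Points.map (g i) :=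
      funext fun x => Points.map_comp _ _ x
    change IsOpenMap (Points.map (g i ≫ f))
    rw [e]
    exact IsOpenMap.comp hf hg
  · intro h
    refine isOpenMap_of_jointly_surjective (Points.map f) (fun i => Points.map (g i))
      (fun i => Points.continuous_map _) (fun x => ?_) fun i => ?_
    · obtain ⟨i, y, hy⟩ := hcov.2 x
      exact ⟨i, y, hy⟩
    · have e : Points.map (g i ≫ f) = Points.map f ∘ Points.map (g i) :=
        funext fun x => Points.map_comp _ _ x
      rw [← e]
      exact h i

/-- Universal openness is fppf local on the source. -/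
theorem isLocalOnSource_fppf_isUnivOpenMor :
    IsLocalOnSource (IsFppfCover (S := S)) IsUnivOpenMor := by
  intro ι X Xi g hX hXi hcov Y f hY
  constructor
  · intro hf i
    exact isUnivOpenMor_comp hX hY.diag (g i) f
      (isUnivOpenMor_of_fppf (hXi i) hX (g i) (hcov.1 i).1 (hcov.1 i).2) hf
  · intro h Z Z' hZ k fst snd sq
    refine isOpenMap_of_jointly_surjective (Points.map snd)
      (fun i => Points.map (pullback.fst fst (g i)))
      (fun i => Points.continuous_map _) (fun z' => ?_) fun i => ?_
    · obtain ⟨i, y, hy⟩ := hcov.2 (Points.map fst z')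
      obtain ⟨p, hp, -⟩ := exists_of_isPullback (IsPullback.of_hasPullback fst (g i)) z' y hy.symm
      exact ⟨i, p, hp⟩
    · have e : Points.map (pullback.fst fst (g i) ≫ snd) =
          Points.map snd ∘ Points.map (pullback.fst fst (g i)) :=
        funext fun x => Points.map_comp _ _ x
      rw [← e]
      exact h i hZ k _ _ ((IsPullback.of_hasPullback fst (g i)).flip.paste_vert sq)

end Groth.Agent.H25.AS
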