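import Mathlib

/-!
# Etale-local on the source properties of morphisms of schemes
-/

universe u

open CategoryTheory CategoryTheory.Limits AlgebraicGeometry Opposite MorphismProperty TensorProduct

namespace Groth.Agent.H25.SrcLoc

/-- An etale surjective morphism onto a quasi-compact scheme can be refined by an affine scheme,
via a finite disjoint union of affine opens. -/
theorem exists_affine_etale_cover {R T : Scheme.{u}} (g : R ⟶ T) [Etale g] [Surjective g]
    [CompactSpace T] :
    ∃ (R' : Scheme.{u}) (j : R' ⟶ R), IsAffine R' ∧ Etale j ∧ Surjective (j ≫ g) ∧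
      ∀ (P : MorphismProperty Scheme.{u}) [IsZariskiLocalAtSource P] {Z : Scheme.{u}} (h : R ⟶ Z),
        P h → P (j ≫ h) := by
  let 𝒰 := R.affineCover
  have hopen : ∀ i, IsOpen (Set.range (𝒰.f i ≫ g)) := fun i => (𝒰.f i ≫ g).isOpenMap.isOpen_range
  have hcover : (Set.univ : Set T) ⊆ ⋃ i, Set.range (𝒰.f i ≫ g) := by
    intro t _
    obtain ⟨r, rfl⟩ := g.surjective t
    obtain ⟨i, x, rfl⟩ := 𝒰.exists_eq r
    exact Set.mem_iUnion.2 ⟨i, x, by simp⟩
  obtain ⟨s, hs⟩ := isCompact_univ.elim_finite_subcover _ hopen hcover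
  let X : s → Scheme.{u} := fun i => 𝒰.X i.1
  let j : ∐ X ⟶ R := Sigma.desc fun i => 𝒰.f i.1
  have hj : ∀ i, Sigma.ι X i ≫ j = 𝒰.f i.1 := fun i => Sigma.ι_desc _ _
  refine ⟨∐ X, j, inferInstance, ?_, ⟨fun t => ?_⟩, ?_⟩
  · rw [IsZariskiLocalAtSource.iff_of_openCover (P := @Etale) (sigmaOpenCover _)]
    intro i
    change Etale (Sigma.ι X i ≫ j)
    rw [hj]
    infer_instance
  · obtain ⟨i, hi, x, rfl⟩ : ∃ i ∈ s, t ∈ Set.range (𝒰.f i ≫ g) := by
      simpa using hs (Set.mem_univ t)
    refine ⟨Sigma.ι X ⟨i, hi⟩ x, ?_⟩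
    rw [← Scheme.Hom.comp_apply, ← Category.assoc, hj]
  · intro P _ Z h hP
    rw [IsZariskiLocalAtSource.iff_of_openCover (P := P) (sigmaOpenCover _)]
    intro i
    change P (Sigma.ι X i ≫ j ≫ h)
    rw [← Category.assoc, hj]
    exact IsZariskiLocalAtSource.comp hP _

/-- Reduction to rings: a property given by a local property `Q` of ring maps is etale local on
the source as soon as `Q` descends along etale faithfully flat ring maps on the source. -/
theorem of_comp_etale_surjective (P : MorphismProperty Scheme.{u})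
    (Q : ∀ {R S : Type u} [CommRing R] [CommRing S], (R →+* S) → Prop) [HasRingHomProperty P Q]
    (hQ : ∀ {A B C : Type u} [CommRing A] [CommRing B] [CommRing C] (φ : A →+* B) (ψ : B →+* C),
      ψ.Etale → ψ.FaithfullyFlat → Q (ψ.comp φ) → Q φ)
    {R T W : Scheme.{u}} (g : R ⟶ T) (f : T ⟶ W) [Etale g] [Surjective g] (h : P (g ≫ f)) :
    P f := by
  wlog hW : IsAffine W generalizing R T W
  · rw [IsZariskiLocalAtTarget.iff_of_openCover (P := P) W.affineCover]
    intro i
    change P (pullback.snd f (W.affineCover.f i))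
    refine this (pullback.snd g (pullback.fst f (W.affineCover.f i)))
      (pullback.snd f (W.affineCover.f i)) ?_ inferInstance
    have big := (IsPullback.of_hasPullback g (pullback.fst f (W.affineCover.f i))).paste_vert
      (IsPullback.of_hasPullback f (W.affineCover.f i))
    exact IsZariskiLocalAtTarget.of_isPullback big h
  wlog hT : IsAffine T generalizing R T
  · rw [IsZariskiLocalAtSource.iff_of_openCover (P := P) T.affineCover]
    intro i
    refine this (pullback.snd g (T.affineCover.f i)) (T.affineCover.f i ≫ f) ?_ inferInstance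
    rw [← Category.assoc, ← pullback.condition, Category.assoc]
    exact IsZariskiLocalAtSource.comp h _
  obtain ⟨R', j, hR', hj, hsurj, hP⟩ := exists_affine_etale_cover g
  have hk : P ((j ≫ g) ≫ f) := by
    rw [Category.assoc]
    exact hP P _ h
  have hke : Etale (j ≫ g) := inferInstance
  rw [HasRingHomProperty.iff_of_isAffine (P := P)] at hk ⊢
  rw [Scheme.Hom.comp_appTop, CommRingCat.hom_comp] at hk
  refine hQ _ _ ?_ ?_ hk
  · exact HasRingHomProperty.appTop (P := @Etale) _ hke
  · exact (Flat.flat_and_surjective_iff_faithfullyFlat_of_isAffine (j ≫ g)).1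
      ⟨inferInstance, hsurj⟩

section Alg
variable (A B C : Type*) [CommRing A] [CommRing B] [CommRing C] [Algebra A B] [Algebra B C]
  [Algebra A C] [IsScalarTower A B C]

theorem flat_of_faithfullyFlat_of_flat [Module.FaithfullyFlat B C] [Module.Flat A C] :
    Module.Flat A B := by
  rw [Module.Flat.iff_lTensor_preserves_injective_linearMap]
  intro N N' _ _ _ _ l hl
  have h1 : Function.Injective (l.lTensor C) :=
    Module.Flat.lTensor_preserves_injective_linearMap l hl
  have key : ∀ x : C ⊗[B] (B ⊗[A] N),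
      TensorProduct.AlgebraTensorModule.cancelBaseChange A B C C N'
        ((l.baseChange B).lTensor C x) =
      l.lTensor C (TensorProduct.AlgebraTensorModule.cancelBaseChange A B C C N x) := by
    intro x
    induction x with
    | zero => simp
    | add x y hx hy => simp only [map_add, hx, hy]
    | tmul c y =>
      induction y with
      | zero => simp
      | add x y hx hy => simp only [tmul_add, map_add, hx, hy]
      | tmul b n => simp
  have h2 : Function.Injective ((l.baseChange B).lTensor C) := by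
    intro x y hxy
    have := congrArg (TensorProduct.AlgebraTensorModule.cancelBaseChange A B C C N') hxy
    rw [key, key] at this
    exact (TensorProduct.AlgebraTensorModule.cancelBaseChange A B C C N).injective (h1 this)
  have h3 := (Module.FaithfullyFlat.lTensor_injective_iff_injective B C (l.baseChange B)).1 h2
  exact h3

theorem formallyUnramified_of_etale_faithfullyFlat [Algebra.FormallyEtale B C]
    [Module.FaithfullyFlat B C] [Algebra.FormallyUnramified A C] : Algebra.FormallyUnramified A B := by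
  constructor
  have e := KaehlerDifferential.tensorKaehlerEquivOfFormallyEtale A B C
  have : Subsingleton (C ⊗[B] Ω[B⁄A]) := e.toEquiv.subsingleton
  exact (Module.FaithfullyFlat.subsingleton_tensorProduct_iff_right B C).1 this


theorem injective_tensor_map_of_faithfullyFlat [Module.FaithfullyFlat B C] (κ : Type*) [CommRing κ]
    [Algebra A κ] :
    Function.Injective (Algebra.TensorProduct.map (AlgHom.id κ κ) (IsScalarTower.toAlgHom A B C)) := by
  have hi : Function.Injective (TensorProduct.mk B C (B ⊗[A] κ) 1) :=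
    Module.FaithfullyFlat.tensorProduct_mk_injective (A := B) (B := C) (B ⊗[A] κ)
  have key : ∀ x : κ ⊗[A] B, TensorProduct.comm A C κ
      (TensorProduct.AlgebraTensorModule.cancelBaseChange A B C C κ
        (TensorProduct.mk B C (B ⊗[A] κ) 1 (TensorProduct.comm A κ B x))) =
      Algebra.TensorProduct.map (AlgHom.id κ κ) (IsScalarTower.toAlgHom A B C) x := by
    intro x
    induction x with
    | zero => simp
    | add x y hx hy => simp only [map_add, hx, hy]
    | tmul k b => simp [Algebra.smul_def]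
  intro x y hxy
  rw [← key, ← key] at hxy
  exact (TensorProduct.comm A κ B).injective (hi
    ((TensorProduct.AlgebraTensorModule.cancelBaseChange A B C C κ).injective
      ((TensorProduct.comm A C κ).injective hxy)))

theorem quasiFinite_of_faithfullyFlat [Module.FaithfullyFlat B C] [Algebra.QuasiFinite A C] :
    Algebra.QuasiFinite A B := by
  refine ⟨fun P _ => ?_⟩
  have h : Module.Finite P.ResidueField (P.ResidueField ⊗[A] C) :=
    Algebra.QuasiFinite.finite_fiber (S := C) P
  exact Module.Finite.of_injective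
    (Algebra.TensorProduct.map (AlgHom.id P.ResidueField P.ResidueField)
      (IsScalarTower.toAlgHom A B C)).toLinearMap
    (injective_tensor_map_of_faithfullyFlat A B C P.ResidueField)


end Alg

section RingHom

variable {A B C : Type u} [CommRing A] [CommRing B] [CommRing C]

theorem ringHom_flat_descent (φ : A →+* B) (ψ : B →+* C) (_ : ψ.Etale)
    (hψ : ψ.FaithfullyFlat) (h : (ψ.comp φ).Flat) : φ.Flat := by
  algebraize [φ, ψ, ψ.comp φ]
  exact flat_of_faithfullyFlat_of_flat A B C

theorem ringHom_formallyUnramified_descent (φ : A →+* B) (ψ : B →+* C) (hψe : ψ.Etale)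
    (hψ : ψ.FaithfullyFlat) (h : (ψ.comp φ).FormallyUnramified) : φ.FormallyUnramified := by
  algebraize [φ, ψ, ψ.comp φ]
  exact formallyUnramified_of_etale_faithfullyFlat A B C

theorem ringHom_quasiFinite_descent (φ : A →+* B) (ψ : B →+* C) (_ : ψ.Etale)
    (hψ : ψ.FaithfullyFlat) (h : (ψ.comp φ).QuasiFinite) : φ.QuasiFinite := by
  algebraize [φ, ψ, ψ.comp φ]
  exact quasiFinite_of_faithfullyFlat A B C

end RingHom

/-- Flatness is etale local on the source. -/
theorem flat_of_comp_etale_surjective {R T W : Scheme.{u}} (g : R ⟶ T) (f : T ⟶ W) [Etale g]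
    [Surjective g] (h : Flat (g ≫ f)) : Flat f :=
  of_comp_etale_surjective @Flat RingHom.Flat ringHom_flat_descent g f h

/-- Formal unramifiedness is etale local on the source. -/
theorem formallyUnramified_of_comp_etale_surjective {R T W : Scheme.{u}} (g : R ⟶ T) (f : T ⟶ W)
    [Etale g] [Surjective g] (h : FormallyUnramified (g ≫ f)) : FormallyUnramified f :=
  of_comp_etale_surjective @FormallyUnramified RingHom.FormallyUnramified
    ringHom_formallyUnramified_descent g f h

/-- Local quasi-finiteness is etale local on the source. -/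
theorem locallyQuasiFinite_of_comp_etale_surjective {R T W : Scheme.{u}} (g : R ⟶ T) (f : T ⟶ W)
    [Etale g] [Surjective g] (h : LocallyQuasiFinite (g ≫ f)) : LocallyQuasiFinite f :=
  of_comp_etale_surjective @LocallyQuasiFinite RingHom.QuasiFinite
    ringHom_quasiFinite_descent g f h

/-- Cancellation for morphisms locally of finite presentation. -/
theorem lfp_of_comp {X Y Z : Scheme.{u}} (f : X ⟶ Y) (g : Y ⟶ Z)
    (h : LocallyOfFinitePresentation (f ≫ g)) (hg : LocallyOfFiniteType g) :
    LocallyOfFinitePresentation f := by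
  wlog hZ : IsAffine Z generalizing X Y Z
  · rw [IsZariskiLocalAtTarget.iff_of_iSup_eq_top (P := @LocallyOfFinitePresentation) _
      (g.iSup_preimage_eq_top (iSup_affineOpens_eq_top Z))]
    intro U
    have H := IsZariskiLocalAtTarget.restrict h U.1
    rw [morphismRestrict_comp] at H
    exact this _ _ H inferInstance U.2
  wlog hY : IsAffine Y generalizing X Y
  · rw [IsZariskiLocalAtTarget.iff_of_iSup_eq_top (P := @LocallyOfFinitePresentation) _
      (iSup_affineOpens_eq_top Y)]
    intro U
    have H := HasRingHomProperty.comp_of_isOpenImmersion @LocallyOfFinitePresentation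
      (f ⁻¹ᵁ U.1).ι (f ≫ g) h
    rw [← morphismRestrict_ι_assoc] at H
    exact this _ _ H inferInstance U.2
  wlog hX : IsAffine X generalizing X
  · rw [IsZariskiLocalAtSource.iff_of_iSup_eq_top (P := @LocallyOfFinitePresentation) _
      (iSup_affineOpens_eq_top X)]
    intro U
    have H := HasRingHomProperty.comp_of_isOpenImmersion @LocallyOfFinitePresentation
      U.1.ι (f ≫ g) h
    rw [← Category.assoc] at H
    exact this _ H U.2
  rw [HasRingHomProperty.iff_of_isAffine (P := @LocallyOfFinitePresentation)] at h ⊢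
  rw [HasRingHomProperty.iff_of_isAffine (P := @LocallyOfFiniteType)] at hg
  refine RingHom.FinitePresentation.of_comp_finiteType _ ?_ hg
  convert h using 1
  simp

theorem isPullback_of_comp_mono' {C : Type*} [Category C] {A B C' T P : C} {g : C' ⟶ A} {m : A ⟶ B}
    [Mono m] {u : T ⟶ A} {fst : P ⟶ C'} {snd : P ⟶ T} (h : IsPullback fst snd (g ≫ m) (u ≫ m)) :
    IsPullback fst snd g u := by
  refine ⟨⟨by rw [← cancel_mono m, Category.assoc, Category.assoc, h.w]⟩, ⟨?_⟩⟩
  refine PullbackCone.IsLimit.mk _ (fun s => h.lift s.fst s.snd (by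
      rw [← Category.assoc, s.condition, Category.assoc])) (fun s => h.lift_fst _ _ _)
    (fun s => h.lift_snd _ _ _) (fun s l h1 h2 => h.hom_ext (by rw [h1, h.lift_fst])
      (by rw [h2, h.lift_snd]))

attribute [local instance] Algebra.TensorProduct.rightAlgebra in
theorem of_comp_spec_etale_aux (P : MorphismProperty Scheme.{u}) [P.RespectsIso]
    [P.DescendsAlong (@Surjective ⊓ @Flat ⊓ @LocallyOfFinitePresentation)]
    [P.IsStableUnderComposition]
    (hle : ∀ {X Y : Scheme.{u}} (f : X ⟶ Y), LocallyOfFinitePresentation f → P f)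
    (hcancel : ∀ {X Y Z : Scheme.{u}} (f : X ⟶ Y) (g : Y ⟶ Z),
      LocallyOfFinitePresentation g → P (f ≫ g) → P f)
    {W : Scheme.{u}} {B : Type u} [CommRing B] (B₀ : Type u) [CommRing B₀] [Algebra B₀ B]
    (hfg : Algebra.FiniteType ℤ B₀)
    (C₀ : Type u) [CommRing C₀] [Algebra B₀ C₀] [Algebra.Etale B₀ C₀]
    (f : Spec (.of B) ⟶ W)
    (hsurj : Surjective (Spec.map (CommRingCat.ofHom (algebraMap B (B ⊗[B₀] C₀)))))
    (h : P (Spec.map (CommRingCat.ofHom (algebraMap B (B ⊗[B₀] C₀))) ≫ f)) : P f := by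
  let Y₀ : Scheme.{u} := Spec (.of B₀)
  let X₀ : Scheme.{u} := Spec (.of C₀)
  let e₀ : X₀ ⟶ Y₀ := Spec.map (CommRingCat.ofHom (algebraMap B₀ C₀))
  let b : Spec (.of B) ⟶ Y₀ := Spec.map (CommRingCat.ofHom (algebraMap B₀ B))
  let c : Spec (.of (B ⊗[B₀] C₀)) ⟶ Spec (.of B) :=
    Spec.map (CommRingCat.ofHom (algebraMap B (B ⊗[B₀] C₀)))
  let c₀ : Spec (.of (B ⊗[B₀] C₀)) ⟶ X₀ :=
    Spec.map (CommRingCat.ofHom (algebraMap C₀ (B ⊗[B₀] C₀)))
  have he₀ : Etale e₀ := by
    rw [HasRingHomProperty.Spec_iff (P := @Etale)]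
    simpa [RingHom.etale_algebraMap] using (inferInstance : Algebra.Etale B₀ C₀)
  have sq₀ : IsPullback c c₀ b e₀ :=
    isPullback_SpecMap_of_isPushout _ _ _ _
      (CommRingCat.isPushout_of_isPushout B₀ B C₀ (B ⊗[B₀] C₀))
  let U₀ : Y₀.Opens := ⟨Set.range e₀, e₀.isOpenMap.isOpen_range⟩
  have hb : Set.range b ⊆ Set.range U₀.ι := by
    rw [Scheme.Opens.range_ι]
    rintro _ ⟨x, rfl⟩
    obtain ⟨z, rfl⟩ := hsurj.surj x
    refine ⟨c₀ z, ?_⟩
    rw [← Scheme.Hom.comp_apply, ← Scheme.Hom.comp_apply, sq₀.w]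
  have he : Set.range e₀ ⊆ Set.range U₀.ι := by
    rw [Scheme.Opens.range_ι]
    exact subset_rfl
  let b' := IsOpenImmersion.lift U₀.ι b hb
  let e₀' := IsOpenImmersion.lift U₀.ι e₀ he
  have hb' : b' ≫ U₀.ι = b := IsOpenImmersion.lift_fac _ _ _
  have he' : e₀' ≫ U₀.ι = e₀ := IsOpenImmersion.lift_fac _ _ _
  have sq₁ : IsPullback c c₀ b' e₀' :=
    isPullback_of_comp_mono' (m := U₀.ι) (by rw [hb', he']; exact sq₀)
  have hee : Etale e₀' := by
    have : Etale (e₀' ≫ U₀.ι) := by rw [he']; exact he₀
    exact MorphismProperty.of_postcomp (W := @Etale) (W' := @Etale) e₀' U₀.ι inferInstance this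
  have hes : Surjective e₀' := ⟨fun u => by
    obtain ⟨x, hx⟩ : U₀.ι u ∈ Set.range e₀ := u.2
    refine ⟨x, U₀.ι.isOpenEmbedding.injective ?_⟩
    rw [← Scheme.Hom.comp_apply, he', hx]⟩
  -- the base
  let Z : Scheme.{u} := Spec (.of (ULift.{u} ℤ))
  let wZ : W ⟶ Z := specULiftZIsTerminal.from W
  let φ₀ : ULift.{u} ℤ →+* B₀ := (algebraMap ℤ B₀).comp (ULift.ringEquiv : ULift.{u} ℤ ≃+* ℤ).toRingHom
  let y₀ : Y₀ ⟶ Z := Spec.map (CommRingCat.ofHom φ₀)
  have hy₀ : LocallyOfFinitePresentation y₀ := by
    rw [HasRingHomProperty.Spec_iff (P := @LocallyOfFinitePresentation)]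
    refine RingHom.FinitePresentation.comp ?_ (RingHom.FinitePresentation.of_bijective
      (ULift.ringEquiv : ULift.{u} ℤ ≃+* ℤ).bijective)
    rw [RingHom.finitePresentation_algebraMap]
    exact Algebra.FinitePresentation.of_finiteType.1 hfg
  have hU₀ : LocallyOfFinitePresentation (U₀.ι ≫ y₀) := inferInstance
  let pW := pullback.fst wZ (U₀.ι ≫ y₀)
  let pU := pullback.snd wZ (U₀.ι ≫ y₀)
  have hpW : LocallyOfFinitePresentation pW := inferInstance
  let t : Spec (.of B) ⟶ pullback wZ (U₀.ι ≫ y₀) :=
    pullback.lift f b' (specULiftZIsTerminal.hom_ext _ _)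
  have ht1 : t ≫ pW = f := pullback.lift_fst _ _ _
  have ht2 : t ≫ pU = b' := pullback.lift_snd _ _ _
  let π := pullback.fst pU e₀'
  let ρ := pullback.snd pU e₀'
  have hπ : (@Surjective ⊓ @Flat ⊓ @LocallyOfFinitePresentation : MorphismProperty Scheme.{u}) π :=
    ⟨⟨inferInstance, inferInstance⟩, inferInstance⟩
  have hw : (c ≫ t) ≫ pU = c₀ ≫ e₀' := by rw [Category.assoc, ht2, sq₁.w]
  let s : Spec (.of (B ⊗[B₀] C₀)) ⟶ pullback pU e₀' := pullback.lift (c ≫ t) c₀ hw
  have hs1 : s ≫ π = c ≫ t := pullback.lift_fst _ _ _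
  have hs2 : s ≫ ρ = c₀ := pullback.lift_snd _ _ _
  have sq₂ : IsPullback s c π t := by
    refine IsPullback.of_right ?_ hs1 (IsPullback.of_hasPullback pU e₀').flip
    rw [hs2, ht2]
    exact sq₁.flip
  have hPs : P s := by
    refine hcancel s (π ≫ pW) inferInstance ?_
    rw [← Category.assoc, hs1, Category.assoc, ht1]
    exact h
  have hPt : P t := MorphismProperty.of_isPullback_of_descendsAlong sq₂ hπ hPs
  rw [← ht1]
  exact P.comp_mem _ _ hPt (hle _ hpW)

theorem of_comp_spec_etale (P : MorphismProperty Scheme.{u}) [P.RespectsIso]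
    [P.DescendsAlong (@Surjective ⊓ @Flat ⊓ @LocallyOfFinitePresentation)]
    [P.IsStableUnderComposition]
    (hle : ∀ {X Y : Scheme.{u}} (f : X ⟶ Y), LocallyOfFinitePresentation f → P f)
    (hcancel : ∀ {X Y Z : Scheme.{u}} (f : X ⟶ Y) (g : Y ⟶ Z),
      LocallyOfFinitePresentation g → P (f ≫ g) → P f)
    {W : Scheme.{u}} {B C : CommRingCat.{u}} (φ : B ⟶ C) (hφe : Etale (Spec.map φ))
    (hφs : Surjective (Spec.map φ)) (f : Spec B ⟶ W) (h : P (Spec.map φ ≫ f)) : P f := by
  have hφ : φ.hom.Etale := (HasRingHomProperty.Spec_iff (P := @Etale)).1 hφe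
  algebraize [φ.hom]
  obtain ⟨B₀, C₀, _, _, hfg, hetale, ⟨e⟩⟩ := Algebra.Etale.exists_subalgebra_fg ℤ B C
  have hiso : IsIso (CommRingCat.ofHom e.toRingEquiv.toRingHom) :=
    e.toRingEquiv.toCommRingCatIso.isIso_hom
  have hcomp : φ ≫ CommRingCat.ofHom e.toRingEquiv.toRingHom =
      CommRingCat.ofHom (algebraMap B (B ⊗[B₀] C₀)) := by
    ext x
    exact e.commutes x
  have hspec : Spec.map (CommRingCat.ofHom (algebraMap B (B ⊗[B₀] C₀))) =
      Spec.map (CommRingCat.ofHom e.toRingEquiv.toRingHom) ≫ Spec.map φ := by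
    rw [← Spec.map_comp, hcomp]
  refine of_comp_spec_etale_aux P hle hcancel B₀ ((Subalgebra.fg_iff_finiteType B₀).1 hfg) C₀ f
    ?_ ?_
  · rw [hspec]
    infer_instance
  · rw [hspec, Category.assoc, P.cancel_left_of_respectsIso]
    exact h

/-- Properties satisfying fppf descent on the target, containing morphisms locally of finite
presentation and with a cancellation property, are etale local on the source. -/
theorem of_comp_etale_surjective_of_descends (P : MorphismProperty Scheme.{u})
    [IsZariskiLocalAtSource P]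
    [P.DescendsAlong (@Surjective ⊓ @Flat ⊓ @LocallyOfFinitePresentation)]
    [P.IsStableUnderComposition]
    (hle : ∀ {X Y : Scheme.{u}} (f : X ⟶ Y), LocallyOfFinitePresentation f → P f)
    (hcancel : ∀ {X Y Z : Scheme.{u}} (f : X ⟶ Y) (g : Y ⟶ Z),
      LocallyOfFinitePresentation g → P (f ≫ g) → P f)
    {R T W : Scheme.{u}} (g : R ⟶ T) (f : T ⟶ W) [Etale g] [Surjective g] (h : P (g ≫ f)) :
    P f := by
  wlog hT : IsAffine T generalizing R T
  · rw [IsZariskiLocalAtSource.iff_of_openCover (P := P) T.affineCover]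
    intro i
    refine this (pullback.snd g (T.affineCover.f i)) (T.affineCover.f i ≫ f) ?_ inferInstance
    rw [← Category.assoc, ← pullback.condition, Category.assoc]
    exact IsZariskiLocalAtSource.comp h _
  obtain ⟨R', j, hR', hj, hsurj, hP⟩ := exists_affine_etale_cover g
  have hk : P ((j ≫ g) ≫ f) := by
    rw [Category.assoc]
    exact hP P _ h
  have hke : Etale (j ≫ g) := inferInstance
  have hnat : (j ≫ g) ≫ T.isoSpec.hom = R'.isoSpec.hom ≫ Spec.map (j ≫ g).appTop :=
    Scheme.toSpecΓ_naturality (j ≫ g)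
  have hf' : P (T.isoSpec.inv ≫ f) := by
    refine of_comp_spec_etale P hle hcancel (j ≫ g).appTop ?_ ?_ (T.isoSpec.inv ≫ f) ?_
    · exact (MorphismProperty.arrow_mk_iso_iff @Etale (arrowIsoSpecΓOfIsAffine (j ≫ g))).1 hke
    · exact (MorphismProperty.arrow_mk_iso_iff @Surjective (arrowIsoSpecΓOfIsAffine (j ≫ g))).1
        hsurj
    · have e0 : Spec.map (j ≫ g).appTop ≫ T.isoSpec.inv = R'.isoSpec.inv ≫ (j ≫ g) := by
        rw [Iso.eq_inv_comp, ← Category.assoc, ← hnat, Category.assoc, Iso.hom_inv_id,
          Category.comp_id]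
      have e : Spec.map (j ≫ g).appTop ≫ T.isoSpec.inv ≫ f = R'.isoSpec.inv ≫ (j ≫ g) ≫ f := by
        rw [← Category.assoc, e0, Category.assoc]
      rw [e, P.cancel_left_of_respectsIso]
      exact hk
  rwa [P.cancel_left_of_respectsIso] at hf'

/-- Being locally of finite type is etale local on the source. -/
theorem locallyOfFiniteType_of_comp_etale_surjective {R T W : Scheme.{u}} (g : R ⟶ T) (f : T ⟶ W)
    [Etale g] [Surjective g] (h : LocallyOfFiniteType (g ≫ f)) : LocallyOfFiniteType f :=
  of_comp_etale_surjective_of_descends @LocallyOfFiniteType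
    (fun _ _ => inferInstance) (fun f g _ _ => locallyOfFiniteType_of_comp f g) g f h

/-- Being locally of finite presentation is etale local on the source. -/
theorem locallyOfFinitePresentation_of_comp_etale_surjective {R T W : Scheme.{u}} (g : R ⟶ T)
    (f : T ⟶ W) [Etale g] [Surjective g] (h : LocallyOfFinitePresentation (g ≫ f)) :
    LocallyOfFinitePresentation f :=
  of_comp_etale_surjective_of_descends @LocallyOfFinitePresentation
    (fun _ h => h) (fun f g _ hfg => lfp_of_comp f g hfg inferInstance) g f h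

/-- Being etale is etale local on the source. -/
theorem etale_of_comp_etale_surjective {R T W : Scheme.{u}} (g : R ⟶ T) (f : T ⟶ W)
    [Etale g] [Surjective g] (h : Etale (g ≫ f)) : Etale f := by
  rw [Etale.iff_flat_and_formallyUnramified]
  exact ⟨flat_of_comp_etale_surjective g f inferInstance,
    formallyUnramified_of_comp_etale_surjective g f inferInstance,
    locallyOfFinitePresentation_of_comp_etale_surjective g f inferInstance⟩

end Groth.Agent.H25.SrcLoc
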