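import Groth.Agent.H25.AlgSp30
import Groth.Agent.H25.SrcLoc

/-!
# Algebraic spaces toolkit, part 31: the calculus of properties etale local on source and target
-/

universe u

open CategoryTheory CategoryTheory.Limits AlgebraicGeometry Opposite AlgSp MorphismProperty

namespace Groth.Agent.H25.AS

/-- Cancellation of an etale second factor. -/
theorem cancel_etale (P : MorphismProperty Scheme.{u}) [P.IsStableUnderBaseChange]
    [P.IsMultiplicative]
    (hoi : ∀ {X Y : Scheme.{u}} (f : X ⟶ Y), IsOpenImmersion f → P f) {X Y Z : Scheme.{u}}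
    (f : X ⟶ Y) (g : Y ⟶ Z) (hg : Etale g) (h : P (f ≫ g)) : P f := by
  have : P.HasOfPostcompProperty @Etale := by
    rw [MorphismProperty.hasOfPostcompProperty_iff_le_diagonal]
    intro X Y f hf
    have : Etale f := hf
    exact hoi _ (inferInstance : IsOpenImmersion (pullback.diagonal f))
  exact MorphismProperty.of_postcomp (W := P) (W' := @Etale) f g hg h

/-- Classes of morphisms of schemes which are etale local on the source-and-target. -/
structure EtLoc (P : MorphismProperty Scheme.{u}) : Prop where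
  baseChange : P.IsStableUnderBaseChange
  mult : P.IsMultiplicative
  etale_le : ∀ {X Y : Scheme.{u}} (f : X ⟶ Y), Etale f → P f
  source : ∀ {R T W : Scheme.{u}} (g : R ⟶ T) (f : T ⟶ W), Etale g → Surjective g →
    P (g ≫ f) → P f
  zar : IsZariskiLocalAtSource P

namespace EtLoc

variable {P : MorphismProperty Scheme.{u}} (hP : EtLoc P)
include hP

theorem cancel {X Y Z : Scheme.{u}} (f : X ⟶ Y) (g : Y ⟶ Z) (hg : Etale g) (h : P (f ≫ g)) :
    P f :=
  have := hP.baseChange
  have := hP.mult
  cancel_etale P (fun f _ => hP.etale_le f inferInstance) f g hg h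

theorem comp {X Y Z : Scheme.{u}} (f : X ⟶ Y) (g : Y ⟶ Z) (hf : P f) (hg : P g) : P (f ≫ g) :=
  have := hP.mult
  P.comp_mem f g hf hg

theorem inf {Q : MorphismProperty Scheme.{u}} (hQ : EtLoc Q) : EtLoc (P ⊓ Q) where
  baseChange :=
    have := hP.baseChange
    have := hQ.baseChange
    inferInstance
  mult :=
    have := hP.mult
    have := hQ.mult
    inferInstance
  etale_le f hf := ⟨hP.etale_le f hf, hQ.etale_le f hf⟩
  source g f hg hs h := ⟨hP.source g f hg hs h.1, hQ.source g f hg hs h.2⟩
  zar :=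
    have := hP.zar
    have := hQ.zar
    inferInstance

theorem of_iff {Q : MorphismProperty Scheme.{u}}
    (h : ∀ ⦃A B : Scheme.{u}⦄ (g : A ⟶ B), Q g ↔ P g) : EtLoc Q := by
  have : Q = P := by
    ext A B g
    exact h g
  rw [this]
  exact hP

/-- Etale locality on the target, from the other axioms. -/
theorem target {R T T' R' : Scheme.{u}} {h : R ⟶ T} {c : T' ⟶ T} {h' : R' ⟶ T'} {c' : R' ⟶ R}
    (sq : IsPullback c' h' h c) (hc : Etale c) (hcs : Surjective c) (hh' : P h') : P h := by
  have hc'e : Etale c' := MorphismProperty.of_isPullback (P := @Etale) sq.flip hc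
  have hc's : Surjective c' := MorphismProperty.of_isPullback (P := @Surjective) sq.flip hcs
  refine hP.source c' h hc'e hc's ?_
  rw [sq.w]
  exact hP.comp _ _ hh' (hP.etale_le _ hc)

/-- Etale locality on the source for jointly surjective families. -/
theorem source_family {ι : Type u} {T W : Scheme.{u}} (R : ι → Scheme.{u}) (g : ∀ i, R i ⟶ T)
    (f : T ⟶ W) (hg : ∀ i, Etale (g i)) (hs : ∀ t : T, ∃ i, t ∈ Set.range (g i))
    (h : ∀ i, P (g i ≫ f)) : P f := by
  have := hP.zar
  have hGe : Etale (Sigma.desc g) := IsZariskiLocalAtSource.sigmaDesc (P := @Etale) hg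
  have hGs : Surjective (Sigma.desc g) := by
    refine ⟨fun t => ?_⟩
    obtain ⟨i, r, rfl⟩ := hs t
    refine ⟨(Sigma.ι R i) r, ?_⟩
    rw [← Scheme.Hom.comp_apply, Sigma.ι_desc]
  refine hP.source (Sigma.desc g) f hGe hGs ?_
  have e : Sigma.desc g ≫ f = Sigma.desc (fun i => g i ≫ f) := by
    ext i
    simp
  rw [e]
  exact IsZariskiLocalAtSource.sigmaDesc h

end EtLoc

theorem etLoc_flat : EtLoc @Flat where
  baseChange := inferInstance
  mult := inferInstance
  etale_le _ _ := inferInstance
  source g f _ _ h := SrcLoc.flat_of_comp_etale_surjective g f h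
  zar := inferInstance

theorem etLoc_locallyOfFiniteType : EtLoc @LocallyOfFiniteType where
  baseChange := inferInstance
  mult := inferInstance
  etale_le _ _ := inferInstance
  source g f _ _ h := SrcLoc.locallyOfFiniteType_of_comp_etale_surjective g f h
  zar := inferInstance

theorem etLoc_locallyOfFinitePresentation : EtLoc @LocallyOfFinitePresentation where
  baseChange := inferInstance
  mult :=
    { id_mem := fun X => (inferInstance : LocallyOfFinitePresentation (𝟙 X))
      comp_mem := fun f g hf hg => by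
        have : LocallyOfFinitePresentation f := hf
        have : LocallyOfFinitePresentation g := hg
        exact (inferInstance : LocallyOfFinitePresentation (f ≫ g)) }
  etale_le _ _ := inferInstance
  source g f _ _ h := SrcLoc.locallyOfFinitePresentation_of_comp_etale_surjective g f h
  zar := inferInstance

theorem etLoc_etale : EtLoc @Etale where
  baseChange := inferInstance
  mult := inferInstance
  etale_le _ h := h
  source g f _ _ h := SrcLoc.etale_of_comp_etale_surjective g f h
  zar := inferInstance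

theorem etLoc_formallyUnramified : EtLoc @FormallyUnramified where
  baseChange := inferInstance
  mult := inferInstance
  etale_le _ _ := inferInstance
  source g f _ _ h := SrcLoc.formallyUnramified_of_comp_etale_surjective g f h
  zar := inferInstance

theorem etLoc_locallyQuasiFinite : EtLoc @LocallyQuasiFinite where
  baseChange := inferInstance
  mult := inferInstance
  etale_le g _ := lqf_of_unramified g
  source g f _ _ h := SrcLoc.locallyQuasiFinite_of_comp_etale_surjective g f h
  zar := inferInstance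

variable {S : Scheme.{u}}

/-- One chart diagram with surjective etale source chart suffices to check a property which is
etale local on the source-and-target. -/
theorem locP_of_chart {P : MorphismProperty Scheme.{u}} (hP : EtLoc P) {X Y : Sp S} (f : X ⟶ Y)
    {U V : Over S} (a : (yon S).obj U ⟶ X) (b : (yon S).obj V ⟶ Y) (h : U ⟶ V)
    (ha : RepWith @Etale a) (has : RepWith @Surjective a) (hb : RepWith @Etale b)
    (comm : a ≫ f = (yon S).map h ≫ b) (hh : P h.left) : LocP P f := by
  intro U' V' a' b' h' ha' hb' comm'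
  have sqU := ha.rep.isPullback' a'
  have sqV := hb.rep.isPullback' b'
  have hp2e : Etale (ha.rep.snd a').left := ha.property_snd a'
  have hp2s : Surjective (ha.rep.snd a').left := has.property _ _ _ sqU
  have hp1e : Etale (ha.rep.fst' a').left := ha'.property _ _ _ sqU.flip
  have hq2e : Etale (hb.rep.snd b').left := hb.property_snd b'
  have hq1e : Etale (hb.rep.fst' b').left := hb'.property _ _ _ sqV.flip
  have hw : ((yon S).map (ha.rep.fst' a') ≫ (yon S).map h) ≫ b =
      ((yon S).map (ha.rep.snd a') ≫ (yon S).map h') ≫ b' := by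
    rw [Category.assoc, ← comm, ← Category.assoc, sqU.w, Category.assoc, comm', Category.assoc]
  obtain ⟨l, hl1, hl2⟩ := sqV.exists_lift _ _ hw
  obtain ⟨h'', rfl⟩ := (yon S).map_surjective l
  have e1 : h'' ≫ hb.rep.fst' b' = ha.rep.fst' a' ≫ h := (yon S).map_injective (by
    rw [Functor.map_comp, hl1, Functor.map_comp])
  have e2 : h'' ≫ hb.rep.snd b' = ha.rep.snd a' ≫ h' := (yon S).map_injective (by
    rw [Functor.map_comp, hl2, Functor.map_comp])
  have h1 : P (h''.left ≫ (hb.rep.fst' b').left) := by
    rw [← Over.comp_left, e1, Over.comp_left]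
    exact hP.comp _ _ (hP.etale_le _ hp1e) hh
  have h2 : P h''.left := hP.cancel _ _ hq1e h1
  have h3 : P ((ha.rep.snd a').left ≫ h'.left) := by
    rw [← Over.comp_left, ← e2, Over.comp_left]
    exact hP.comp _ _ h2 (hP.etale_le _ hq2e)
  exact hP.source _ _ hp2e hp2s h3

/-- Comparison of the base changes of `f` and of its base change `f'` to compatible charts. -/
theorem isPullback_lift_of_isPullback {C : Type*} [Category C] [HasPullbacks C]
    {X Y X' Y' V V' : C} {f : X ⟶ Y} {g : Y' ⟶ Y} {fst : X' ⟶ X} {f' : X' ⟶ Y'}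
    (sq : IsPullback fst f' f g) (b : V ⟶ Y) (b' : V' ⟶ Y') (k : V' ⟶ V) (hk : b' ≫ g = k ≫ b) :
    IsPullback (pullback.lift (pullback.fst f' b' ≫ fst) (pullback.snd f' b' ≫ k)
        (by rw [Category.assoc, sq.w, ← Category.assoc, pullback.condition, Category.assoc, hk,
          Category.assoc]))
      (pullback.snd f' b') (pullback.snd f b) k := by
  have big := (IsPullback.of_hasPullback f' b').paste_horiz sq
  rw [hk] at big
  refine IsPullback.of_right ?_ (pullback.lift_snd _ _ _) (IsPullback.of_hasPullback f b)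
  rw [pullback.lift_fst]
  exact big

/-- Every morphism of algebraic spaces has a chart diagram with surjective etale charts. -/
theorem exists_chart_over {X Y : Sp S} (hX : IsAlgSpace X) (hY : Representable (Limits.diag Y))
    (f : X ⟶ Y) {V : Over S} (b : (yon S).obj V ⟶ Y) :
    ∃ (U : Over S) (u : (yon S).obj U ⟶ pullback f b) (h : U ⟶ V), RepWith @Etale u ∧
      RepWith @Surjective u ∧ (yon S).map h = u ≫ pullback.snd f b := by
  have hXV : IsAlgSpace (pullback f b) :=
    isAlgSpace_of_isPullback hY hX (IsAlgSpace.yon_obj V) (IsPullback.of_hasPullback f b)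
  obtain ⟨U, u, hue, hus⟩ := hXV.atlas
  obtain ⟨h, hh⟩ := (yon S).map_surjective (u ≫ pullback.snd f b)
  exact ⟨U, u, h, hue, hus, hh⟩

/-- Having `P` etale locally on the source-and-target is stable under base change. -/
theorem locP_of_isPullback {P : MorphismProperty Scheme.{u}} (hP : EtLoc P) {X Y Y' X' : Sp S}
    (hX : IsAlgSpace X) (hY : IsAlgSpace Y) (hY' : IsAlgSpace Y') {f : X ⟶ Y} {g : Y' ⟶ Y}
    {fst : X' ⟶ X} {f' : X' ⟶ Y'} (sq : IsPullback fst f' f g) (hf : LocP P f) : LocP P f' := by
  have := hP.baseChange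
  obtain ⟨V, b, hbe, hbs⟩ := hY.atlas
  obtain ⟨V', v', k, hv'e, hv's, hk⟩ := exists_chart_over hY' hY.diag g b
  obtain ⟨U, u, h, hue, hus, hh⟩ := exists_chart_over hX hY.diag f b
  have sqfb := IsPullback.of_hasPullback f b
  have sqgb := IsPullback.of_hasPullback g b
  have hb'e : RepWith @Etale (v' ≫ pullback.fst g b) :=
    repWith_etale_comp hv'e (repWith_fst_of_isPullback sqgb hbe)
  have hae : RepWith @Etale (u ≫ pullback.fst f b) :=
    repWith_etale_comp hue (repWith_fst_of_isPullback sqfb hbe)
  have hPh : P h.left := hf (u ≫ pullback.fst f b) b h hae hbe (by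
    rw [Category.assoc, sqfb.w, ← Category.assoc, hh])
  have hkb : (v' ≫ pullback.fst g b) ≫ g = (yon S).map k ≫ b := by
    rw [Category.assoc, sqgb.w, ← Category.assoc, hk]
  have sqA := isPullback_lift_of_isPullback sq b (v' ≫ pullback.fst g b) ((yon S).map k) hkb
  have sqB : IsPullback ((yon S).map (pullback.fst h k)) ((yon S).map (pullback.snd h k))
      (u ≫ pullback.snd f b) ((yon S).map k) := by
    rw [← hh]
    exact (IsPullback.of_hasPullback h k).map (yon S)
  have sqW := IsPullback.of_bot' sqB sqA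
  have hPsnd : P (pullback.snd h k).left :=
    MorphismProperty.of_isPullback (P := P) ((IsPullback.of_hasPullback h k).map (Over.forget S)) hPh
  have sqf'b' := IsPullback.of_hasPullback f' (v' ≫ pullback.fst g b)
  refine locP_of_chart hP f' (sqA.lift _ _ _ ≫ pullback.fst f' (v' ≫ pullback.fst g b))
    (v' ≫ pullback.fst g b) (pullback.snd h k)
    (repWith_etale_comp (repWith_snd_of_isPullback sqW hue)
      (repWith_fst_of_isPullback sqf'b' hb'e))
    (repWith_surjective_comp (repWith_snd_of_isPullback sqW hus)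
      (repWith_fst_of_isPullback sqf'b'
        (repWith_surjective_comp hv's (repWith_fst_of_isPullback sqgb hbs))))
    hb'e ?_ hPsnd
  rw [Category.assoc]
  refine (congrArg (_ ≫ ·) sqf'b'.w).trans ?_
  rw [← Category.assoc, sqA.lift_snd]

/-- Having `P` etale locally on the source-and-target is stable under composition. -/
theorem locP_comp {P : MorphismProperty Scheme.{u}} (hP : EtLoc P) {X Y Z : Sp S}
    (hX : IsAlgSpace X) (hY : IsAlgSpace Y) (hZ : IsAlgSpace Z) (f : X ⟶ Y) (g : Y ⟶ Z)
    (hf : LocP P f) (hg : LocP P g) : LocP P (f ≫ g) := by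
  obtain ⟨W, c, hce, hcs⟩ := hZ.atlas
  obtain ⟨V, v, k, hve, hvs, hk⟩ := exists_chart_over hY hZ.diag g c
  have sqgc := IsPullback.of_hasPullback g c
  have hbe : RepWith @Etale (v ≫ pullback.fst g c) :=
    repWith_etale_comp hve (repWith_fst_of_isPullback sqgc hce)
  obtain ⟨U, u, h, hue, hus, hh⟩ := exists_chart_over hX hY.diag f (v ≫ pullback.fst g c)
  have sqfb := IsPullback.of_hasPullback f (v ≫ pullback.fst g c)
  have hae : RepWith @Etale (u ≫ pullback.fst f (v ≫ pullback.fst g c)) :=
    repWith_etale_comp hue (repWith_fst_of_isPullback sqfb hbe)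
  have has : RepWith @Surjective (u ≫ pullback.fst f (v ≫ pullback.fst g c)) :=
    repWith_surjective_comp hus (repWith_fst_of_isPullback sqfb
      (repWith_surjective_comp hvs (repWith_fst_of_isPullback sqgc hcs)))
  have c1 : (u ≫ pullback.fst f (v ≫ pullback.fst g c)) ≫ f =
      (yon S).map h ≫ (v ≫ pullback.fst g c) := by
    rw [Category.assoc, sqfb.w, ← Category.assoc, hh]
  have c2 : (v ≫ pullback.fst g c) ≫ g = (yon S).map k ≫ c := by
    rw [Category.assoc, sqgc.w, ← Category.assoc, hk]
  have hPh : P h.left := hf _ _ h hae hbe c1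
  have hPk : P k.left := hg _ _ k hbe hce c2
  refine locP_of_chart hP (f ≫ g) (u ≫ pullback.fst f (v ≫ pullback.fst g c)) c (h ≫ k) hae has
    hce ?_ ?_
  · rw [← Category.assoc, c1, Category.assoc, c2, Functor.map_comp, Category.assoc]
  · rw [Over.comp_left]
    exact hP.comp _ _ hPh hPk

/-- Precomposition with an etale chart keeps `LocP`. -/
theorem locP_precomp_chart {P : MorphismProperty Scheme.{u}} {X Y : Sp S} (f : X ⟶ Y)
    {U : Over S} (φ : (yon S).obj U ⟶ X) (hφ : RepWith @Etale φ) (hf : LocP P f) :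
    LocP P (φ ≫ f) := by
  intro U' V a b h ha hb w
  exact hf (a ≫ φ) b h (repWith_etale_comp ha hφ) hb (by rw [Category.assoc, w])

/-- For a representable morphism to an algebraic space, `P` etale locally on source-and-target
implies `P` in the representable sense. -/
theorem repWith_of_locP {P : MorphismProperty Scheme.{u}} (hP : EtLoc P) {X Y : Sp S}
    (hY : IsAlgSpace Y) (f : X ⟶ Y) (hr : Representable f) (hf : LocP P f) : RepWith P f := by
  have := hP.baseChange
  rw [repWith_iff]
  refine ⟨hr, ?_⟩
  intro T R a' fst snd sq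
  obtain ⟨V, b, hbe, hbs⟩ := hY.atlas
  have sqV := hr.isPullback b
  have hφ : RepWith @Etale (hr.fst b) := repWith_fst_of_isPullback sqV hbe
  have hPV : P (hr.snd b).left := hf (hr.fst b) b (hr.snd b) hφ hbe sqV.w
  have sqT := hbe.rep.isPullback' a'
  have hce : Etale (hbe.rep.snd a').left := hbe.property_snd a'
  have hcs : Surjective (hbe.rep.snd a').left := hbs.property _ _ _ sqT
  have sqR := IsPullback.of_hasPullback snd (hbe.rep.snd a')
  have big := (sqR.map (yon S)).paste_horiz sq
  rw [← sqT.w] at big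
  obtain ⟨l, hl1, hl2⟩ := sqV.exists_lift
    ((yon S).map (pullback.fst snd (hbe.rep.snd a')) ≫ fst)
    ((yon S).map (pullback.snd snd (hbe.rep.snd a')) ≫ (yon S).map (hbe.rep.fst' a'))
    (by rw [Category.assoc]; exact big.w)
  obtain ⟨l₀, rfl⟩ := (yon S).map_surjective l
  rw [← hl1] at big
  have sqL := IsPullback.of_right big hl2 sqV
  have hP' : P (pullback.snd snd (hbe.rep.snd a')).left :=
    MorphismProperty.of_isPullback (P := P) (isPullback_left_of_yon sqL) hPV
  exact hP.target (sqR.map (Over.forget S)) hce hcs hP'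

/-- `LocP @Etale` implies etale in the sense of the reference. -/
theorem isEtaleMor_of_locP {X Y : Sp S} (hY : IsAlgSpace Y) (f : X ⟶ Y) (hf : LocP @Etale f) :
    IsEtaleMor f := by
  intro U φ hφ
  exact repWith_of_locP etLoc_etale hY (φ ≫ f) (hY.representable_from_yon _)
    (locP_precomp_chart f φ hφ hf)

theorem isEtaleMor_iff_locP {X Y : Sp S} (hY : IsAlgSpace Y) (f : X ⟶ Y) :
    IsEtaleMor f ↔ LocP @Etale f :=
  ⟨fun h => locP_of_isEtaleMor (fun _ h => h) h, isEtaleMor_of_locP hY f⟩

/-- `LocP P` is etale local on the source, for jointly surjective families of etale morphisms. -/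
theorem locP_of_etale_family {P : MorphismProperty Scheme.{u}} (hP : EtLoc P) {ι : Type u}
    {X Y : Sp S} (Xi : ι → Sp S) (g : ∀ i, Xi i ⟶ X) (hX : IsAlgSpace X)
    (hXi : ∀ i, IsAlgSpace (Xi i)) (hY : IsAlgSpace Y) (hge : ∀ i, LocP @Etale (g i))
    (hsurj : ∀ x : Points X, ∃ i, x ∈ Set.range (Points.map (g i)))
    (f : X ⟶ Y) (h : ∀ i, LocP P (g i ≫ f)) : LocP P f := by
  obtain ⟨V, b, hbe, hbs⟩ := hY.atlas
  obtain ⟨U, u, h₀, hue, hus, hh⟩ := exists_chart_over hX hY.diag f b
  have sqfb := IsPullback.of_hasPullback f b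
  have hae : RepWith @Etale (u ≫ pullback.fst f b) :=
    repWith_etale_comp hue (repWith_fst_of_isPullback sqfb hbe)
  have has : RepWith @Surjective (u ≫ pullback.fst f b) :=
    repWith_surjective_comp hus (repWith_fst_of_isPullback sqfb hbs)
  have comm : (u ≫ pullback.fst f b) ≫ f = (yon S).map h₀ ≫ b := by
    rw [Category.assoc, sqfb.w, ← Category.assoc, hh]
  choose Ui ui ki huie huis hki using fun i =>
    exists_chart_over (hXi i) hX.diag (g i) (u ≫ pullback.fst f b)
  have sqi := fun i => IsPullback.of_hasPullback (g i) (u ≫ pullback.fst f b)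
  have hai : ∀ i, RepWith @Etale (ui i ≫ pullback.fst (g i) (u ≫ pullback.fst f b)) := fun i =>
    repWith_etale_comp (huie i) (repWith_fst_of_isPullback (sqi i) hae)
  have ci : ∀ i, (ui i ≫ pullback.fst (g i) (u ≫ pullback.fst f b)) ≫ g i =
      (yon S).map (ki i) ≫ (u ≫ pullback.fst f b) := fun i => by
    rw [Category.assoc, (sqi i).w, ← Category.assoc, hki]
  have hke : ∀ i, Etale (ki i).left := fun i => hge i _ _ (ki i) (hai i) hae (ci i)
  have hPi : ∀ i, P ((ki i).left ≫ h₀.left) := fun i => by
    rw [← Over.comp_left]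
    refine h i (ui i ≫ pullback.fst (g i) (u ≫ pullback.fst f b)) b (ki i ≫ h₀) (hai i) hbe ?_
    rw [← Category.assoc, ci, Category.assoc, comm, Functor.map_comp, Category.assoc]
  have hjs : ∀ t : U.left, ∃ i, t ∈ Set.range (ki i).left := by
    intro t
    obtain ⟨i, xi, hxi⟩ := hsurj (Points.ofPt (u ≫ pullback.fst f b) t)
    rw [Points.ofPt_eq_map_ofScheme] at hxi
    obtain ⟨p, -, hp⟩ := exists_of_isPullback (sqi i) xi (Points.ofScheme U t) hxi
    obtain ⟨s, rfl⟩ := ofPt_surjective (ui i) (huis i) p
    refine ⟨i, s, ?_⟩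
    apply ofScheme_injective U
    rw [← ofPt_yon_map, hki, ← Points.map_ofPt, hp]
  have hPh : P h₀.left := hP.source_family _ (fun i => (ki i).left) h₀.left hke hjs hPi
  exact locP_of_chart hP f (u ≫ pullback.fst f b) b h₀ hae has hbe comm hPh

/-- Compatible charts for a composable pair of morphisms of algebraic spaces. -/
theorem exists_chart_comp {X Y Z : Sp S} (hX : IsAlgSpace X) (hY : IsAlgSpace Y)
    (hZ : IsAlgSpace Z) (f : X ⟶ Y) (g : Y ⟶ Z) :
    ∃ (U V W : Over S) (a : (yon S).obj U ⟶ X) (b : (yon S).obj V ⟶ Y) (c : (yon S).obj W ⟶ Z)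
      (h : U ⟶ V) (k : V ⟶ W), RepWith @Etale a ∧ RepWith @Surjective a ∧ RepWith @Etale b ∧
      RepWith @Surjective b ∧ RepWith @Etale c ∧ RepWith @Surjective c ∧
      a ≫ f = (yon S).map h ≫ b ∧ b ≫ g = (yon S).map k ≫ c := by
  obtain ⟨W, c, hce, hcs⟩ := hZ.atlas
  obtain ⟨V, v, k, hve, hvs, hk⟩ := exists_chart_over hY hZ.diag g c
  have sqgc := IsPullback.of_hasPullback g c
  have hbe : RepWith @Etale (v ≫ pullback.fst g c) :=
    repWith_etale_comp hve (repWith_fst_of_isPullback sqgc hce)
  have hbs : RepWith @Surjective (v ≫ pullback.fst g c) :=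
    repWith_surjective_comp hvs (repWith_fst_of_isPullback sqgc hcs)
  obtain ⟨U, u, h, hue, hus, hh⟩ := exists_chart_over hX hY.diag f (v ≫ pullback.fst g c)
  have sqfb := IsPullback.of_hasPullback f (v ≫ pullback.fst g c)
  refine ⟨U, V, W, u ≫ pullback.fst f (v ≫ pullback.fst g c), v ≫ pullback.fst g c, c, h, k,
    repWith_etale_comp hue (repWith_fst_of_isPullback sqfb hbe),
    repWith_surjective_comp hus (repWith_fst_of_isPullback sqfb hbs), hbe, hbs, hce, hcs, ?_, ?_⟩
  · rw [Category.assoc, sqfb.w, ← Category.assoc, hh]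
  · rw [Category.assoc, sqgc.w, ← Category.assoc, hk]

/-- Cancellation for `LocP`: if `f ≫ g` has `P` and `g` has `Q`, where `P (h ≫ k)` and `Q k`
imply `P h` for schemes, then `f` has `P`. -/
theorem locP_cancel {P Q : MorphismProperty Scheme.{u}} (hP : EtLoc P)
    (hc : ∀ {A B C : Scheme.{u}} (h : A ⟶ B) (k : B ⟶ C), Q k → P (h ≫ k) → P h)
    {X Y Z : Sp S} (hX : IsAlgSpace X) (hY : IsAlgSpace Y) (hZ : IsAlgSpace Z) (f : X ⟶ Y)
    (g : Y ⟶ Z) (hg : LocP Q g) (hfg : LocP P (f ≫ g)) : LocP P f := by
  obtain ⟨U, V, W, a, b, c, h, k, hae, has, hbe, hbs, hce, hcs, c1, c2⟩ :=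
    exists_chart_comp hX hY hZ f g
  have hQk : Q k.left := hg b c k hbe hce c2
  have hPhk : P (h.left ≫ k.left) := by
    rw [← Over.comp_left]
    refine hfg a c (h ≫ k) hae hce ?_
    rw [← Category.assoc, c1, Category.assoc, c2, Functor.map_comp, Category.assoc]
  exact locP_of_chart hP f a b h hae has hbe c1 (hc _ _ hQk hPhk)

/-- `LocP P` is etale local on the source. -/
theorem locP_of_comp_etale_surjective {P : MorphismProperty Scheme.{u}} (hP : EtLoc P)
    {X' X Y : Sp S} (hX' : IsAlgSpace X') (hX : IsAlgSpace X) (hY : IsAlgSpace Y) (φ : X' ⟶ X)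
    (hφ : LocP @Etale φ) (hs : IsSurjectiveMor φ) (f : X ⟶ Y) (h : LocP P (φ ≫ f)) :
    LocP P f :=
  locP_of_etale_family hP (fun _ : PUnit.{u + 1} => X') (fun _ => φ) hX (fun _ => hX') hY
    (fun _ => hφ) (fun x => ⟨⟨⟩, hs x⟩) f (fun _ => h)

/-- An etale morphism of algebraic spaces has every property that etale morphisms of schemes
have; in particular `LocP P` is stable under precomposition with etale morphisms. -/
theorem locP_etale_comp {P : MorphismProperty Scheme.{u}} (hP : EtLoc P) {X' X Y : Sp S}
    (hX' : IsAlgSpace X') (hX : IsAlgSpace X) (hY : IsAlgSpace Y) (φ : X' ⟶ X)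
    (hφ : LocP @Etale φ) (f : X ⟶ Y) (h : LocP P f) : LocP P (φ ≫ f) :=
  locP_comp hP hX' hX hY φ f (fun _ _ a b k ha hb w => hP.etale_le _ (hφ a b k ha hb w)) h

end Groth.Agent.H25.AS
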