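import Groth.Agent.H25.AlgSp32

/-!
# Algebraic spaces toolkit, part 33: quasi-compact flat surjective morphisms are fpqc coverings
-/

universe u

open CategoryTheory CategoryTheory.Limits AlgebraicGeometry Opposite AlgSp MorphismProperty

namespace Groth.Agent.H25.AS

variable {S : Scheme.{u}}

theorem exists_finite_affine_cover (W : Scheme.{u}) [CompactSpace W] :
    ∃ (m : ℕ) (V : Fin m → W.Opens), (∀ j, IsAffineOpen (V j)) ∧ ∀ w : W, ∃ j, w ∈ V j := by
  have hV : ∀ w : W, ∃ V : W.Opens, IsAffineOpen V ∧ w ∈ V := fun w => by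
    obtain ⟨_, ⟨V, hV, rfl⟩, hw, -⟩ :=
      W.isBasis_affineOpens.exists_subset_of_mem_open (Set.mem_univ w) isOpen_univ
    exact ⟨V, hV, hw⟩
  choose V hVa hVw using hV
  obtain ⟨t, -, ht⟩ := isCompact_univ.elim_nhds_subcover (fun w => (V w : Set W))
    (fun w _ => (V w).isOpen.mem_nhds (hVw w))
  refine ⟨t.card, fun j => V (t.equivFin.symm j).1, fun j => hVa _, fun w => ?_⟩
  obtain ⟨x, hx, hw⟩ := Set.mem_iUnion₂.1 (ht (Set.mem_univ w))
  refine ⟨t.equivFin ⟨x, hx⟩, ?_⟩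
  show w ∈ V (t.equivFin.symm (t.equivFin ⟨x, hx⟩)).1
  rw [Equiv.symm_apply_apply]
  exact hw

/-- A quasi-compact flat surjective morphism of algebraic spaces is an fpqc covering. -/
theorem fpqcRefine_of_qc_flat_surjective {X Y : Sp S} (hX : IsAlgSpace X) (hY : IsAlgSpace Y)
    (f : X ⟶ Y) (hqc : IsQuasiCompactMor f) (hfl : LocP @Flat f) (hs : IsSurjectiveMor f) :
    FpqcRefine (fun _ : PUnit.{u + 1} => X) (fun _ => f) := by
  intro Z hZ h
  have sq := IsPullback.of_hasPullback f h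
  have hZa : IsAlgSpace ((yon S).obj Z) := IsAlgSpace.yon_obj Z
  have hZc : IsQuasiCompactSp ((yon S).obj Z) :=
    (isQuasiCompactSp_yon_iff Z).2 (by have := hZ; infer_instance)
  obtain ⟨W₀, p, hpe, hps, hW₀⟩ := hqc hZa hZc h _ _ sq
  have : CompactSpace W₀.left := hW₀
  obtain ⟨m, V, hVa, hVc⟩ := exists_finite_affine_cover W₀.left
  obtain ⟨c₀, hc₀⟩ := (yon S).map_surjective (p ≫ pullback.snd f h)
  have hfl' : LocP @Flat (pullback.snd f h) := locP_of_isPullback etLoc_flat hX hY hZa sq hfl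
  have hc₀f : Flat c₀.left := hfl' p (𝟙 _) c₀ hpe (repWith_id _ Z) (by rw [hc₀, Category.comp_id])
  have hs' : IsSurjectiveMor (pullback.snd f h) := isSurjectiveMor_of_isPullback sq hs
  refine ⟨m, fun j => openOver W₀ (V j), fun j => openIncl W₀ (V j) ≫ c₀, fun j => hVa j,
    fun j => ?_, fun z => ?_,
    fun j => ⟨⟨⟩, (yon S).map (openIncl W₀ (V j)) ≫ p ≫ pullback.fst f h, ?_⟩⟩
  · rw [Over.comp_left]
    exact (inferInstance : Flat ((V j).ι ≫ c₀.left))
  · obtain ⟨x, hx⟩ := hs' (Points.ofScheme Z z)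
    obtain ⟨w, rfl⟩ := ofPt_surjective p hps x
    obtain ⟨j, hj⟩ := hVc w
    refine ⟨j, ⟨w, hj⟩, ?_⟩
    apply ofScheme_injective Z
    rw [← hx, Points.map_ofPt, ← hc₀, ofPt_yon_map]
    rfl
  · rw [Category.assoc, Category.assoc, sq.w, Functor.map_comp, Category.assoc, hc₀,
      Category.assoc]

/-- A monomorphism of algebraic spaces that is quasi-compact, flat and surjective is an
isomorphism. -/
theorem isIso_of_mono_qc_flat_surjective {X Y : Sp S} (hX : IsAlgSpace X) (hY : IsAlgSpace Y)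
    (f : X ⟶ Y) [Mono f] (hqc : IsQuasiCompactMor f) (hfl : LocP @Flat f)
    (hs : IsSurjectiveMor f) : IsIso f :=
  isIso_of_fpqcRefine hX hY f (fun _ : PUnit.{u + 1} => X) (fun _ => f)
    (fpqcRefine_of_qc_flat_surjective hX hY f hqc hfl hs) (fun _ => X) (fun _ => 𝟙 X)
    (fun _ => 𝟙 X) (fun _ => IsKernelPair.id_of_mono f) (fun _ => inferInstance)

end Groth.Agent.H25.AS
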