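import Groth.Agent.H25.AlgSp35

/-!
# Algebraic spaces toolkit, part 36: permanence of fpqc coverings
-/

universe u

open CategoryTheory CategoryTheory.Limits AlgebraicGeometry Opposite AlgSp MorphismProperty

namespace Groth.Agent.H25.AS

variable {S : Scheme.{u}}

/-- Base change of an fpqc covering. -/
theorem isFpqcCover_of_isPullback {X X' : Sp S} (hX : IsAlgSpace X) (hX' : IsAlgSpace X')
    (a : X' ⟶ X) {ι : Type u} (Xi : ι → Sp S) (hXi : ∀ i, IsAlgSpace (Xi i)) (g : ∀ i, Xi i ⟶ X)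
    (Xi' : ι → Sp S) (q : ∀ i, Xi' i ⟶ X') (p : ∀ i, Xi' i ⟶ Xi i)
    (sq : ∀ i, IsPullback (q i) (p i) a (g i)) (h : IsFpqcCover Xi g) : IsFpqcCover Xi' q :=
  ⟨fun i => locP_of_isPullback etLoc_flat (hXi i) hX hX' (sq i).flip (h.1 i),
    fpqcRefine_pullback h.2 a Xi' q p sq⟩

/-- Transitivity of the fpqc refinement property. -/
theorem fpqcRefine_sigma {ι : Type u} {X : Sp S} {Y : ι → Sp S} {g : ∀ i, Y i ⟶ X}
    (h : FpqcRefine Y g) (κ : ι → Type u) (Yij : ∀ i, κ i → Sp S) (gij : ∀ i j, Yij i j ⟶ Y i)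
    (hij : ∀ i, FpqcRefine (Yij i) (gij i)) :
    FpqcRefine (fun r : Σ i, κ i => Yij r.1 r.2) (fun r => gij r.1 r.2 ≫ g r.1) := by
  intro Z hZ t
  obtain ⟨m, W, c, hW, hc, hsurj, hl⟩ := h Z hZ t
  choose i l hl' using hl
  choose m' W' c' hW' hc' hsurj' hl'' using fun j => hij (i j) (W j) (hW j) (l j)
  refine ⟨∑ j, m' j, fun r => W' (finSigmaFinEquiv.symm r).1 (finSigmaFinEquiv.symm r).2,
    fun r => c' (finSigmaFinEquiv.symm r).1 (finSigmaFinEquiv.symm r).2 ≫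
      c (finSigmaFinEquiv.symm r).1, fun r => hW' _ _, fun r => ?_, fun z => ?_, fun r => ?_⟩
  · rw [Over.comp_left]
    have := hc' (finSigmaFinEquiv.symm r).1 (finSigmaFinEquiv.symm r).2
    have := hc (finSigmaFinEquiv.symm r).1
    exact (inferInstance : Flat ((c' (finSigmaFinEquiv.symm r).1 (finSigmaFinEquiv.symm r).2).left ≫
      (c (finSigmaFinEquiv.symm r).1).left))
  · obtain ⟨j, w, rfl⟩ := hsurj z
    obtain ⟨k, w', rfl⟩ := hsurj' j w
    refine ⟨finSigmaFinEquiv ⟨j, k⟩, ?_⟩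
    have key : ∀ y : (Σ j : Fin m, Fin (m' j)), y = ⟨j, k⟩ →
        (c j).left ((c' j k).left w') ∈ Set.range (c' y.1 y.2 ≫ c y.1).left := by
      rintro y rfl
      exact ⟨w', rfl⟩
    exact key _ (Equiv.symm_apply_apply _ _)
  · obtain ⟨j', l'', hl3⟩ := hl'' (finSigmaFinEquiv.symm r).1 (finSigmaFinEquiv.symm r).2
    refine ⟨⟨i (finSigmaFinEquiv.symm r).1, j'⟩, l'', ?_⟩
    rw [← Category.assoc, hl3, Category.assoc, hl', Functor.map_comp, Category.assoc]

/-- Composition of fpqc coverings. -/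
theorem isFpqcCover_sigma {X : Sp S} (hX : IsAlgSpace X) {ι : Type u} (Xi : ι → Sp S)
    (hXi : ∀ i, IsAlgSpace (Xi i)) (g : ∀ i, Xi i ⟶ X) (κ : ι → Type u)
    (Xij : ∀ i, κ i → Sp S) (hXij : ∀ i j, IsAlgSpace (Xij i j)) (gij : ∀ i j, Xij i j ⟶ Xi i)
    (h : IsFpqcCover Xi g) (hij : ∀ i, IsFpqcCover (Xij i) (gij i)) :
    IsFpqcCover (fun r : Σ i, κ i => Xij r.1 r.2) (fun r => gij r.1 r.2 ≫ g r.1) :=
  ⟨fun r => locP_comp etLoc_flat (hXij r.1 r.2) (hXi r.1) hX _ _ ((hij r.1).1 r.2) (h.1 r.1),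
    fpqcRefine_sigma h.2 κ Xij gij fun i => (hij i).2⟩

/-- A family through which a refinable family factors is refinable. -/
theorem fpqcRefine_of_factor {ι κ : Type u} {X : Sp S} {Y : ι → Sp S} {g : ∀ i, Y i ⟶ X}
    (h : FpqcRefine Y g) (Z : κ → Sp S) (c : ∀ k, Z k ⟶ X)
    (hfac : ∀ i, ∃ (k : κ) (b : Y i ⟶ Z k), b ≫ c k = g i) : FpqcRefine Z c := by
  intro T hT t
  obtain ⟨m, W, w, hW, hw, hsurj, hl⟩ := h T hT t
  refine ⟨m, W, w, hW, hw, hsurj, fun j => ?_⟩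
  obtain ⟨i, l, hl'⟩ := hl j
  obtain ⟨k, b, hb⟩ := hfac i
  exact ⟨k, l ≫ b, by rw [Category.assoc, hb, hl']⟩

/-- An etale surjective chart is an fpqc covering. -/
theorem fpqcRefine_of_chart {X : Sp S} (hX : IsAlgSpace X) {U : Over S}
    (p : (yon S).obj U ⟶ X) (hp : RepWith @Etale p) (hps : RepWith @Surjective p) :
    FpqcRefine (fun _ : PUnit.{u + 1} => (yon S).obj U) (fun _ => p) := by
  refine (isFpqcCover_of_isFppfCover hX (fun _ : PUnit.{u + 1} => (yon S).obj U)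
    (fun _ => IsAlgSpace.yon_obj U) (fun _ => p) ⟨fun _ => ⟨?_, ?_⟩, fun x => ?_⟩).2
  · intro U' V a b h ha hb w
    have : Etale h.left := locP_of_repWith (P := @Etale) (fun _ h => h) hp a b h ha hb w
    infer_instance
  · intro U' V a b h ha hb w
    have : Etale h.left := locP_of_repWith (P := @Etale) (fun _ h => h) hp a b h ha hb w
    infer_instance
  · exact ⟨⟨⟩, isSurjectiveMor_of_repWith p hps x⟩

/-- `LocP P` can be checked after base change to an etale surjective chart of the target. -/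
theorem locP_of_isPullback_chart {P : MorphismProperty Scheme.{u}} (hP : EtLoc P) {X Y : Sp S}
    (hX : IsAlgSpace X) (hY : IsAlgSpace Y) (f : X ⟶ Y) {V : Over S} (p : (yon S).obj V ⟶ Y)
    (hp : RepWith @Etale p) (hps : RepWith @Surjective p) {P₀ : Sp S} (fst : P₀ ⟶ X)
    (snd : P₀ ⟶ (yon S).obj V) (sq : IsPullback fst snd f p) (h : LocP P snd) : LocP P f := by
  have hP₀ : IsAlgSpace P₀ := isAlgSpace_of_isPullback hY.diag hX (IsAlgSpace.yon_obj V) sq
  obtain ⟨W, w, hwe, hws⟩ := hP₀.atlas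
  obtain ⟨h₀, hh₀⟩ := (yon S).map_surjective (w ≫ snd)
  refine locP_of_chart hP f (w ≫ fst) p h₀
    (repWith_etale_comp hwe (repWith_fst_of_isPullback sq hp))
    (repWith_surjective_comp hws (repWith_fst_of_isPullback sq hps)) hp
    (by rw [Category.assoc, sq.w, ← Category.assoc, hh₀]) ?_
  exact h w (𝟙 _) h₀ hwe (repWith_id _ V) (by rw [hh₀, Category.comp_id])

/-- The fpqc covering property can be checked on an etale surjective chart. -/
theorem isFpqcCover_iff_of_chart {X : Sp S} (hX : IsAlgSpace X) {ι : Type u} (Xi : ι → Sp S)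
    (hXi : ∀ i, IsAlgSpace (Xi i)) (g : ∀ i, Xi i ⟶ X) {U : Over S} (p : (yon S).obj U ⟶ X)
    (hp : RepWith @Etale p) (hps : RepWith @Surjective p) (Ui : ι → Sp S)
    (q : ∀ i, Ui i ⟶ (yon S).obj U) (p' : ∀ i, Ui i ⟶ Xi i)
    (sq : ∀ i, IsPullback (q i) (p' i) p (g i)) :
    IsFpqcCover Xi g ↔ IsFpqcCover Ui q := by
  constructor
  · intro h
    exact isFpqcCover_of_isPullback hX (IsAlgSpace.yon_obj U) p Xi hXi g Ui q p' sq h
  · intro h
    refine ⟨fun i => ?_, ?_⟩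
    · exact locP_of_isPullback_chart etLoc_flat (hXi i) hX (g i) p hp hps (p' i) (q i)
        (sq i).flip (h.1 i)
    · have h1 := fpqcRefine_sigma (fpqcRefine_of_chart hX p hp hps) (fun _ => ι)
        (fun _ i => Ui i) (fun _ i => q i) (fun _ => h.2)
      refine fpqcRefine_of_factor h1 Xi g fun r => ⟨r.2, p' r.2, ?_⟩
      exact (sq r.2).w.symm

end Groth.Agent.H25.AS
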