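import Mathlib
import Groth.Agent.H25.SrcLoc

universe u

open CategoryTheory CategoryTheory.Limits AlgebraicGeometry Opposite MorphismProperty TensorProduct
open KaehlerDifferential

namespace Groth.Agent.H25.SrcLoc

section L2
variable (R S T : Type*) [CommRing R] [CommRing S] [CommRing T] [Algebra R S] [Algebra S T]
  [Algebra R T] [IsScalarTower R S T]

theorem formallyEtale_of_mapBaseChange_bijective [Algebra.FormallySmooth R T]
    (h : Function.Bijective (KaehlerDifferential.mapBaseChange R S T)) :
    Algebra.FormallyEtale S T := by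
  have h1 : Subsingleton Ω[T⁄S] := by
    refine ⟨fun x y => ?_⟩
    have hz : ∀ z : Ω[T⁄S], z = 0 := by
      intro z
      obtain ⟨w, rfl⟩ := KaehlerDifferential.map_surjective R S T z
      obtain ⟨v, rfl⟩ := h.2 w
      exact (KaehlerDifferential.exact_mapBaseChange_map R S T _).2 ⟨v, rfl⟩
    rw [hz x, hz y]
  have h2 : Subsingleton (Algebra.H1Cotangent S T) := by
    refine ⟨fun x y => ?_⟩
    have hz : ∀ z : Algebra.H1Cotangent S T, z = 0 := by
      intro z
      have e1 : KaehlerDifferential.mapBaseChange R S T (Algebra.H1Cotangent.δ R S T z) = 0 :=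
        (Algebra.H1Cotangent.exact_δ_mapBaseChange R S T _).2 ⟨z, rfl⟩
      have e2 : Algebra.H1Cotangent.δ R S T z = 0 := h.1 (by rw [e1, map_zero])
      obtain ⟨w, rfl⟩ := (Algebra.H1Cotangent.exact_map_δ R S T z).1 e2
      rw [Subsingleton.elim w 0, map_zero]
    rw [hz x, hz y]
  have h3 : Algebra.FormallyUnramified S T := ⟨h1⟩
  have h4 : Algebra.FormallySmooth S T := ⟨inferInstance, h2⟩
  exact Algebra.FormallyEtale.of_formallyUnramified_and_formallySmooth
end L2


section LemX
variable (A : Type*) [CommRing A] (κ : Type*) (T : Type*) [CommRing T] [Algebra A T]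
  [Algebra (MvPolynomial κ A) T] [IsScalarTower A (MvPolynomial κ A) T]

theorem mapBaseChange_mvPolynomial_bijective (b : Module.Basis κ T Ω[T⁄A])
    (hb : ∀ i, b i = D A T (algebraMap (MvPolynomial κ A) T (MvPolynomial.X i))) :
    Function.Bijective (KaehlerDifferential.mapBaseChange A (MvPolynomial κ A) T) := by
  let b1 : Module.Basis κ T (T ⊗[MvPolynomial κ A] Ω[MvPolynomial κ A⁄A]) :=
    (KaehlerDifferential.mvPolynomialBasis A κ).baseChange T
  have hf : KaehlerDifferential.mapBaseChange A (MvPolynomial κ A) T =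
      (b1.equiv b (Equiv.refl κ)).toLinearMap := by
    refine b1.ext fun i => ?_
    rw [LinearEquiv.coe_coe, Module.Basis.equiv_apply, Equiv.refl_apply, hb]
    simp [b1]
  rw [hf]
  exact LinearEquiv.bijective _

end LemX

section Tprime
variable (A B C : Type u) [CommRing A] [CommRing B] [CommRing C] [Algebra A B] [Algebra B C]
  [Algebra A C] [IsScalarTower A B C]

theorem smooth_of_etale_faithfullyFlat_of_basis [Algebra.FinitePresentation A B]
    [Algebra.Etale B C] [Module.FaithfullyFlat B C] [Algebra.Smooth A C]
    {κ : Type u} [Finite κ] (a : κ → B) (b : Module.Basis κ B Ω[B⁄A])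
    (hb : ∀ i, b i = D A B (a i)) : Algebra.Smooth A B := by
  let φ : MvPolynomial κ A →ₐ[A] B := MvPolynomial.aeval a
  let _ : Algebra (MvPolynomial κ A) B := φ.toRingHom.toAlgebra
  let _ : Algebra (MvPolynomial κ A) C := ((algebraMap B C).comp φ.toRingHom).toAlgebra
  have t1 : IsScalarTower A (MvPolynomial κ A) B :=
    .of_algebraMap_eq (fun r => (φ.commutes r).symm)
  have t2 : IsScalarTower (MvPolynomial κ A) B C := .of_algebraMap_eq' rfl
  have t3 : IsScalarTower A (MvPolynomial κ A) C := .of_algebraMap_eq (fun r => by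
    rw [IsScalarTower.algebraMap_apply A B C, IsScalarTower.algebraMap_apply A (MvPolynomial κ A) B,
      ← IsScalarTower.algebraMap_apply (MvPolynomial κ A) B C])
  have hX : ∀ i, algebraMap (MvPolynomial κ A) B (MvPolynomial.X i) = a i := fun i =>
    MvPolynomial.aeval_X a i
  let e := KaehlerDifferential.tensorKaehlerEquivOfFormallyEtale A B C
  let b' : Module.Basis κ C Ω[C⁄A] := (b.baseChange C).map e
  have hb' : ∀ i, b' i = D A C (algebraMap (MvPolynomial κ A) C (MvPolynomial.X i)) := by
    intro i
    rw [IsScalarTower.algebraMap_apply (MvPolynomial κ A) B C, hX]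
    simp only [b', Module.Basis.map_apply, Module.Basis.baseChange_apply, hb]
    rw [← LinearEquiv.eq_symm_apply]
    exact (KaehlerDifferential.tensorKaehlerEquivOfFormallyEtale_symm_D_algebraMap A B C (a i)).symm
  have hbij := mapBaseChange_mvPolynomial_bijective A κ C b' hb'
  have : Algebra.FormallyEtale (MvPolynomial κ A) C :=
    formallyEtale_of_mapBaseChange_bijective A (MvPolynomial κ A) C hbij
  have : Algebra.FinitePresentation (MvPolynomial κ A) C :=
    Algebra.FinitePresentation.of_restrict_scalars_finitePresentation A (MvPolynomial κ A) C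
  have : Algebra.FinitePresentation (MvPolynomial κ A) B :=
    Algebra.FinitePresentation.of_restrict_scalars_finitePresentation A (MvPolynomial κ A) B
  have : Algebra.Etale (MvPolynomial κ A) C := ⟨inferInstance, inferInstance⟩
  have : Module.Flat (MvPolynomial κ A) C := inferInstance
  have : Module.Flat (MvPolynomial κ A) B := flat_of_faithfullyFlat_of_flat (MvPolynomial κ A) B C
  have : Algebra.FormallyUnramified (MvPolynomial κ A) B :=
    formallyUnramified_of_etale_faithfullyFlat (MvPolynomial κ A) B C
  have : Algebra.Etale (MvPolynomial κ A) B := Algebra.Etale.of_formallyUnramified_of_flat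
  have : Algebra.Smooth A (MvPolynomial κ A) := ⟨inferInstance, inferInstance⟩
  exact Algebra.Smooth.comp A (MvPolynomial κ A) B

end Tprime

section L1
variable (A B : Type u) [CommRing A] [CommRing B] [Algebra A B]

set_option backward.isDefEq.respectTransparency.types false in
theorem exists_notMem_basis_kaehler [Algebra.FinitePresentation A B] [Module.Flat B Ω[B⁄A]]
    (p : Ideal B) [p.IsPrime] :
    ∃ (g : B), g ∉ p ∧ ∃ (κ : Type u) (_ : Finite κ) (a : κ → Localization.Away g)
      (b : Module.Basis κ (Localization.Away g) Ω[Localization.Away g⁄A]),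
      ∀ i, b i = D A (Localization.Away g) (a i) := by
  have hfp : Module.FinitePresentation (Localization.AtPrime p) Ω[Localization.AtPrime p⁄A] :=
    _root_.FinitePresentation.of_isBaseChange (KaehlerDifferential.map A A B (Localization.AtPrime p))
      ((isLocalizedModule_iff_isBaseChange p.primeCompl _ _).mp inferInstance)
  have hflat : Module.Flat (Localization.AtPrime p) Ω[Localization.AtPrime p⁄A] :=
    Module.Flat.of_isLocalizedModule (R := B) (M := Ω[B⁄A]) _ p.primeCompl
      (KaehlerDifferential.map A A B (Localization.AtPrime p))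
  obtain ⟨κ, a, b, hb⟩ := Module.exists_basis_of_span_of_flat _
    (span_range_map_derivation_of_isLocalization A _ (Localization.AtPrime p) p.primeCompl)
  let e : (κ →₀ B) →ₗ[B] Ω[B⁄A] :=
    Finsupp.linearCombination B fun i : κ ↦ D A B (a i)
  let l₁ : (κ →₀ B) →ₗ[B] (κ →₀ Localization.AtPrime p) :=
    Finsupp.mapRange.linearMap (Algebra.linearMap B (Localization.AtPrime p))
  let l₂ : Ω[B⁄A] →ₗ[B] Ω[Localization.AtPrime p⁄A] := map A A B (Localization.AtPrime p)
  let eₚ : (κ →₀ Localization.AtPrime p) →ₗ[Localization.AtPrime p] Ω[Localization.AtPrime p⁄A] :=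
    IsLocalizedModule.mapExtendScalars p.primeCompl l₁ l₂ (Localization.AtPrime p) e
  have : eₚ = b.repr.symm := by
    ext i
    trans IsLocalizedModule.map p.primeCompl l₁ l₂ e <| l₁ <| Finsupp.single i 1
    · simp [eₚ, -IsLocalizedModule.map_apply, l₁]
    · simp [l₂, e, hb]
  have heₚ : Function.Bijective eₚ := this ▸ b.repr.symm.bijective
  have : Finite κ := Module.Finite.finite_basis b
  obtain ⟨g, hg, h⟩ := Module.FinitePresentation.exists_notMem_bijective e p l₁ l₂ heₚ
  let l₁ₜ : (κ →₀ B) →ₗ[B] (κ →₀ Localization.Away g) :=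
    Finsupp.mapRange.linearMap (Algebra.linearMap B _)
  let l₂ₜ : Ω[B⁄A] →ₗ[B] Ω[Localization.Away g⁄A] :=
    map A A B (Localization.Away g)
  rw [← IsLocalizedModule.map_bijective_iff_localizedModuleMap_bijective l₁ₜ l₂ₜ] at h
  let eₜ' : (κ →₀ Localization.Away g) →ₗ[Localization.Away g] Ω[Localization.Away g⁄A] :=
    IsLocalizedModule.mapExtendScalars (Submonoid.powers g) l₁ₜ l₂ₜ (Localization.Away g) e
  refine ⟨g, hg, κ, this, fun i => algebraMap B _ (a i),
    .ofRepr (LinearEquiv.ofBijective eₜ' h).symm, fun i => ?_⟩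
  simp +zetaDelta [IsLocalizedModule.map_linearCombination]

end L1

section T
variable (A B C : Type u) [CommRing A] [CommRing B] [CommRing C] [Algebra A B] [Algebra B C]
  [Algebra A C] [IsScalarTower A B C]

theorem smooth_of_etale_faithfullyFlat [Algebra.FinitePresentation A B]
    [Algebra.Etale B C] [Module.FaithfullyFlat B C] [Algebra.Smooth A C] : Algebra.Smooth A B := by
  have hflat : Module.Flat B Ω[B⁄A] := by
    have e := KaehlerDifferential.tensorKaehlerEquivOfFormallyEtale A B C
    have : Module.Flat C (C ⊗[B] Ω[B⁄A]) := .of_linearEquiv e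
    exact Module.Flat.of_flat_tensorProduct _ _ C
  refine ⟨?_, inferInstance⟩
  rw [← Algebra.smoothLocus_eq_univ_iff]
  refine Set.eq_univ_iff_forall.mpr fun q => ?_
  obtain ⟨g, hg, κ, _, a, b, hb⟩ := exists_notMem_basis_kaehler A B q.asIdeal
  have hsm : Algebra.Smooth A (Localization.Away g) := by
    have h1 : Algebra.Smooth A (C ⊗[B] Localization.Away g) :=
      Algebra.Smooth.comp A C (C ⊗[B] Localization.Away g)
    have h2 : Algebra.Smooth A (Localization.Away g ⊗[B] C) :=
      Algebra.Smooth.of_equiv ((Algebra.TensorProduct.comm B C (Localization.Away g)).restrictScalars A)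
    exact smooth_of_etale_faithfullyFlat_of_basis A (Localization.Away g)
      (Localization.Away g ⊗[B] C) a b hb
  exact (Algebra.basicOpen_subset_smoothLocus_iff_smooth (R := A) (A := B) (f := g)).mpr hsm hg

end T

section RingHom2

variable {A B C : Type u} [CommRing A] [CommRing B] [CommRing C]

theorem ringHom_smooth_descent (φ : A →+* B) (ψ : B →+* C) (hψe : ψ.Etale)
    (hψ : ψ.FaithfullyFlat) (h : (ψ.comp φ).Smooth) : φ.Smooth := by
  have hfp : φ.FinitePresentation := by
    have h1 : Etale (Spec.map (CommRingCat.ofHom ψ)) :=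
      (HasRingHomProperty.Spec_iff (P := @Etale)).2 hψe
    have h2 : Surjective (Spec.map (CommRingCat.ofHom ψ)) := by
      rw [surjective_iff]
      exact (RingHom.FaithfullyFlat.iff_flat_and_comap_surjective.1 hψ).2
    have h3 : LocallyOfFinitePresentation
        (Spec.map (CommRingCat.ofHom ψ) ≫ Spec.map (CommRingCat.ofHom φ)) := by
      rw [← Spec.map_comp, ← CommRingCat.ofHom_comp,
        HasRingHomProperty.Spec_iff (P := @LocallyOfFinitePresentation)]
      exact h.finitePresentation
    exact (HasRingHomProperty.Spec_iff (P := @LocallyOfFinitePresentation)).1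
      (locallyOfFinitePresentation_of_comp_etale_surjective _ _ h3)
  algebraize [φ, ψ, ψ.comp φ]
  have := smooth_of_etale_faithfullyFlat A B C
  exact RingHom.smooth_algebraMap.2 this

end RingHom2

/-- Smoothness is etale local on the source. -/
theorem smooth_of_comp_etale_surjective {R T W : Scheme.{u}} (g : R ⟶ T) (f : T ⟶ W) [Etale g]
    [Surjective g] (h : Smooth (g ≫ f)) : Smooth f :=
  of_comp_etale_surjective @Smooth RingHom.Smooth ringHom_smooth_descent g f h

end Groth.Agent.H25.SrcLoc
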