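import Groth.Agent.H25.AlgSp36
import Groth.Agent.H25.SrcLoc2

/-!
# Algebraic spaces toolkit, part 37: smoothness is an etale local property of morphisms of schemes
-/

universe u

open CategoryTheory CategoryTheory.Limits AlgebraicGeometry Opposite AlgSp MorphismProperty

namespace Groth.Agent.H25.AS

variable {S : Scheme.{u}}

theorem etLoc_smooth : EtLoc @Smooth where
  baseChange := inferInstance
  mult :=
    { id_mem := fun X => (inferInstance : Smooth (𝟙 X))
      comp_mem := fun f g hf hg => by
        have : Smooth f := hf
        have : Smooth g := hg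
        exact (inferInstance : Smooth (f ≫ g)) }
  etale_le _ _ := inferInstance
  source g f _ _ h := SrcLoc.smooth_of_comp_etale_surjective g f h
  zar := inferInstance

/-- The listed classes of morphisms of schemes are etale local. -/
theorem etLoc_of_listed (P : MorphismProperty Scheme.{u})
    (hP : P = @LocallyOfFiniteType ∨ P = @LocallyOfFinitePresentation ∨ P = @Flat ∨ P = @Smooth ∨
      P = @Etale ∨
      (∀ ⦃A B : Scheme.{u}⦄ (g : A ⟶ B), P g ↔ (LocallyQuasiFinite g ∧ LocallyOfFiniteType g)) ∨
      (∀ ⦃A B : Scheme.{u}⦄ (g : A ⟶ B), P g ↔ (LocallyOfFiniteType g ∧ FormallyUnramified g))) :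
    EtLoc P := by
  rcases hP with rfl | rfl | rfl | rfl | rfl | h | h
  · exact etLoc_locallyOfFiniteType
  · exact etLoc_locallyOfFinitePresentation
  · exact etLoc_flat
  · exact etLoc_smooth
  · exact etLoc_etale
  · exact (etLoc_locallyQuasiFinite.inf etLoc_locallyOfFiniteType).of_iff h
  · exact (etLoc_locallyOfFiniteType.inf etLoc_formallyUnramified).of_iff h

end Groth.Agent.H25.AS
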