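import Groth.Agent.H25.AlgSp37

/-!
# Algebraic spaces toolkit, part 38: properties smooth local on source-and-target
-/

universe u

open CategoryTheory CategoryTheory.Limits AlgebraicGeometry Opposite AlgSp MorphismProperty

namespace Groth.Agent.H25.AS

variable {S : Scheme.{u}}

/-- A family with two members. -/
def twoObj (A B : Sp S) : Option PUnit.{u + 1} → Sp S := fun o => Option.rec A (fun _ => B) o

/-- A family of morphisms with two members. -/
def twoHom {A B Y : Sp S} (a : A ⟶ Y) (b : B ⟶ Y) : ∀ o, twoObj A B o ⟶ Y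
  | none => a
  | some _ => b

theorem isAlgSpace_twoObj {A B : Sp S} (hA : IsAlgSpace A) (hB : IsAlgSpace B) (o) :
    IsAlgSpace (twoObj A B o) := by
  cases o
  · exact hA
  · exact hB

theorem locP_smooth_id (X : Sp S) : LocP @Smooth (𝟙 X) :=
  locP_id (P := @Smooth) (fun g hg => by have : Etale g := hg; exact (inferInstance : Smooth g)) X

theorem isEtaleMor_id (X : Sp S) : IsEtaleMor (𝟙 X) := fun U φ hφ => by rwa [Category.comp_id]

theorem locP_smooth_of_isEtaleMor {X Y : Sp S} {f : X ⟶ Y} (hf : IsEtaleMor f) :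
    LocP @Smooth f :=
  locP_of_isEtaleMor (P := @Smooth)
    (fun g hg => by have : Etale g := hg; exact (inferInstance : Smooth g)) hf

theorem isSmCover_two {X Y : Sp S} (f : X ⟶ Y) (hf : LocP @Smooth f) :
    IsSmCover (twoObj Y X) (twoHom (𝟙 Y) f) := by
  refine ⟨fun o => ?_, fun y => ⟨none, y, Points.map_id y⟩⟩
  cases o
  · exact locP_smooth_id Y
  · exact hf

theorem isPullback_id_left {C : Type*} [Category C] {X Y : C} (f : X ⟶ Y) :
    IsPullback (𝟙 X) f f (𝟙 Y) :=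
  IsPullback.of_horiz_isIso ⟨by simp⟩

/-- A section of an etale morphism is etale. -/
theorem isEtaleMor_of_comp_eq_id {X W : Sp S} (hX : IsAlgSpace X) (hW : IsAlgSpace W)
    (e : X ⟶ W) (p : W ⟶ X) (hp : LocP @Etale p) (h : e ≫ p = 𝟙 X) : IsEtaleMor e := by
  refine (isEtaleMor_iff_locP hW e).2 ?_
  refine locP_cancel etLoc_etale (fun h k hk hhk => etLoc_etale.cancel h k hk hhk) hX hW hX e p hp ?_
  rw [h]
  exact locP_id (fun _ h => h) X

namespace SmLoc

variable {P : MorphismProperty (Sp S)}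

theorem localOnSource (hP : IsSmoothLocalST P) : IsLocalOnSource (IsSmCover (S := S)) P := by
  intro ι X Xi g hX hXi hcov Y f hY
  obtain ⟨hgs, hsurj⟩ := hcov
  constructor
  · intro hf i
    exact hP.precomp (hXi i) hX hY (g i) f (hgs i) hf
  · intro h
    rw [hP.locality hX hY f]
    intro x
    obtain ⟨i, v, rfl⟩ := hsurj x
    exact ⟨Xi i, Y, g i, 𝟙 Y, g i ≫ f, v, hXi i, hY, hgs i, locP_smooth_id Y,
      by rw [Category.comp_id], rfl, h i⟩

theorem localOnBase (hP : IsSmoothLocalST P) : IsLocalOnBase (IsSmCover (S := S)) P := by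
  intro ι Y Yi g hY hYi hcov X f hX Xi p q hXi sq
  obtain ⟨hgs, hsurj⟩ := hcov
  constructor
  · intro hf i
    exact hP.baseChange hX hY (hXi i) (hYi i) f (g i) (p i) (q i) (sq i) (hgs i) hf
  · intro h
    rw [hP.locality hX hY f]
    intro x
    obtain ⟨i, y, hy⟩ := hsurj (Points.map f x)
    obtain ⟨v, hv1, -⟩ := exists_of_isPullback (sq i) x y hy.symm
    exact ⟨Xi i, Yi i, q i, g i, p i, v, hXi i, hYi i,
      locP_of_isPullback etLoc_smooth (hYi i) hY hX (sq i).flip (hgs i), hgs i, (sq i).w, hv1, h i⟩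

theorem postcomp (hP : IsSmoothLocalST P) {X Y Z : Sp S} (hX : IsAlgSpace X) (hY : IsAlgSpace Y)
    (hZ : IsAlgSpace Z) (f : X ⟶ Y) (g : Y ⟶ Z) (hf : P f) (hg : LocP @Smooth g) :
    P (f ≫ g) := by
  rw [hP.locality hX hZ (f ≫ g)]
  intro x
  exact ⟨X, Y, 𝟙 X, g, f, x, hX, hY, locP_smooth_id X, hg, by rw [Category.id_comp],
    Points.map_id x, hf⟩

/-- Small indexing of the points of an algebraic space. -/
theorem exists_small_points {X : Sp S} (hX : IsAlgSpace X) :
    ∃ (ι : Type u) (pt : ι → Points X), Function.Surjective pt := by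
  obtain ⟨W, w, hwe, hws⟩ := hX.atlas
  exact ⟨↥W.left, Points.ofPt w, ofPt_surjective w hws⟩

theorem of_local (P : MorphismProperty (Sp S))
    (h1 : IsLocalOnSource (IsSmCover (S := S)) P) (h2 : IsLocalOnBase (IsSmCover (S := S)) P)
    (h3 : ∀ ⦃X Y Z : Sp S⦄, IsAlgSpace X → IsAlgSpace Y → IsAlgSpace Z → ∀ (f : X ⟶ Y)
      (g : Y ⟶ Z), P f → LocP @Smooth g → P (f ≫ g)) : IsSmoothLocalST P where
  precomp := by
    intro X Y Z hX hY hZ f g hf hg
    exact (h1 (twoObj Y X) (twoHom (𝟙 Y) f) hY (isAlgSpace_twoObj hY hX) (isSmCover_two f hf)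
      g hZ).1 hg (some ⟨⟩)
  baseChange := by
    intro X Y X' Y' hX hY hX' hY' f g f' g' sq hg hf
    refine (h2 (twoObj Y Y') (twoHom (𝟙 Y) g) hY (isAlgSpace_twoObj hY hY') (isSmCover_two g hg)
      f hX (twoObj X X') (fun o => match o with | none => f | some _ => f')
      (twoHom (𝟙 X) g') (isAlgSpace_twoObj hX hX') ?_).1 hf (some ⟨⟩)
    intro o
    cases o
    · exact isPullback_id_left f
    · exact sq
  locality := by
    intro X Y hX hY f
    constructor
    · intro hf x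
      exact ⟨X, Y, 𝟙 X, 𝟙 Y, f, x, hX, hY, locP_smooth_id X, locP_smooth_id Y, by simp,
        Points.map_id x, hf⟩
    · intro h
      obtain ⟨ι, pt, hpt⟩ := exists_small_points hX
      choose U V a b k v hU hV ha hb comm hv hk using fun i => h (pt i)
      refine (h1 U a hX hU ⟨ha, fun x => ?_⟩ f hY).2 fun i => ?_
      · obtain ⟨i, rfl⟩ := hpt x
        exact ⟨i, v i, hv i⟩
      · rw [comm i]
        exact h3 (hU i) (hV i) hY (k i) (b i) (hk i) (hb i)

end SmLoc

namespace EtSmLoc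

variable {P : MorphismProperty (Sp S)}

theorem localOnSource (hP : IsEtaleSmoothLocalST P) : IsLocalOnSource (IsEtCover (S := S)) P := by
  intro ι X Xi g hX hXi hcov Y f hY
  obtain ⟨hge, hsurj⟩ := hcov
  constructor
  · intro hf i
    exact hP.precomp (hXi i) hX hY (g i) f (hge i) hf
  · intro h
    rw [hP.locality hX hY f]
    intro x
    obtain ⟨i, v, rfl⟩ := hsurj x
    exact ⟨Y, X, Xi i, 𝟙 Y, 𝟙 X, f, g i, v, hY, hX, hXi i, locP_smooth_id Y, isPullback_id_left f,
      hge i, by rw [Category.comp_id], h i⟩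

theorem localOnBase (hP : IsEtaleSmoothLocalST P) : IsLocalOnBase (IsSmCover (S := S)) P := by
  intro ι Y Yi g hY hYi hcov X f hX Xi p q hXi sq
  obtain ⟨hgs, hsurj⟩ := hcov
  constructor
  · intro hf i
    exact hP.baseChange hX hY (hXi i) (hYi i) f (g i) (p i) (q i) (sq i) (hgs i) hf
  · intro h
    rw [hP.locality hX hY f]
    intro x
    obtain ⟨i, y, hy⟩ := hsurj (Points.map f x)
    obtain ⟨v, hv1, -⟩ := exists_of_isPullback (sq i) x y hy.symm
    exact ⟨Yi i, Xi i, Xi i, g i, q i, p i, 𝟙 _, v, hYi i, hXi i, hXi i, hgs i, sq i,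
      isEtaleMor_id _, by rw [Category.id_comp]; exact hv1, by rw [Category.id_comp]; exact h i⟩

/-- The graph factorisation of `f` through the base change of `f ≫ g` along `g`. -/
theorem graph_data {X Y Z : Sp S} (hX : IsAlgSpace X) (hY : IsAlgSpace Y)
    (hZ : IsAlgSpace Z) (f : X ⟶ Y) (g : Y ⟶ Z) (hg : IsEtaleMor g) :
    ∃ (W : Sp S) (p : W ⟶ X) (q : W ⟶ Y) (e : X ⟶ W), IsAlgSpace W ∧ IsPullback p q (f ≫ g) g ∧
      IsEtaleMor e ∧ e ≫ p = 𝟙 X ∧ e ≫ q = f := by
  have sq := IsPullback.of_hasPullback (f ≫ g) g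
  have hW : IsAlgSpace (pullback (f ≫ g) g) := isAlgSpace_of_isPullback hZ.diag hX hY sq
  have he1 : pullback.lift (𝟙 X) f (by simp) ≫ pullback.fst (f ≫ g) g = 𝟙 X :=
    pullback.lift_fst _ _ _
  have he2 : pullback.lift (𝟙 X) f (by simp) ≫ pullback.snd (f ≫ g) g = f :=
    pullback.lift_snd _ _ _
  have hp : LocP @Etale (pullback.fst (f ≫ g) g) :=
    locP_of_isPullback etLoc_etale hY hZ hX sq.flip ((isEtaleMor_iff_locP hZ g).1 hg)
  exact ⟨_, _, _, _, hW, sq, isEtaleMor_of_comp_eq_id hX hW _ _ hp he1, he1, he2⟩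

theorem postcomp (hP : IsEtaleSmoothLocalST P) {X Y Z : Sp S} (hX : IsAlgSpace X)
    (hY : IsAlgSpace Y) (hZ : IsAlgSpace Z) (f : X ⟶ Y) (g : Y ⟶ Z) (hf : P f)
    (hg : IsEtaleMor g) : P (f ≫ g) := by
  rw [hP.locality hX hZ (f ≫ g)]
  intro x
  obtain ⟨W, p, q, e, hW, sq, he, he1, he2⟩ := graph_data hX hY hZ f g hg
  exact ⟨Y, W, X, g, p, q, e, x, hY, hW, hX, locP_smooth_of_isEtaleMor hg, sq, he,
    by rw [he1]; exact Points.map_id x, by rw [he2]; exact hf⟩

theorem cancel (hP : IsEtaleSmoothLocalST P) {X Y Z : Sp S} (hX : IsAlgSpace X)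
    (hY : IsAlgSpace Y) (hZ : IsAlgSpace Z) (f : X ⟶ Y) (g : Y ⟶ Z) (hg : IsEtaleMor g)
    (hfg : P (f ≫ g)) : P f := by
  obtain ⟨W, p, q, e, hW, sq, he, he1, he2⟩ := graph_data hX hY hZ f g hg
  have hq : P q := hP.baseChange hX hZ hW hY (f ≫ g) g q p sq (locP_smooth_of_isEtaleMor hg) hfg
  rw [← he2]
  exact hP.precomp hX hW hY e q he hq

end EtSmLoc

end Groth.Agent.H25.AS
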