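import Groth.Agent.H25.AlgSp38
import Mathlib.AlgebraicGeometry.Morphisms.FlatMono

/-!
# Algebraic spaces toolkit, part 39: open subspaces, unramified morphisms and the diagonal
-/

universe u

open CategoryTheory CategoryTheory.Limits AlgebraicGeometry Opposite AlgSp MorphismProperty

namespace Groth.Agent.H25.AS

variable {S : Scheme.{u}}

theorem le_etale_of_isOpenImmersion :
    (@IsOpenImmersion : MorphismProperty Scheme.{u}) ≤ @Etale := fun _ _ g hg => by
  have : IsOpenImmersion g := hg
  exact (inferInstance : Etale g)

/-- A surjective open immersion of sheaves is an isomorphism. -/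
theorem isIso_of_repWith_isOpenImmersion_surjective {F G : Sp S} (j : F ⟶ G)
    (hj : RepWith @IsOpenImmersion j) (hs : IsSurjectiveMor j) : IsIso j := by
  have hm : Mono j := mono_of_repWith @IsOpenImmersion
    (fun g hg => by have : IsOpenImmersion g := hg; exact (inferInstance : Mono g)) j hj
  have he : Epi j := epi_of_etale j (repWith_mono le_etale_of_isOpenImmersion hj)
    (repWith_surjective_of_isSurjectiveMor j hj.rep hs)
  exact isIso_of_mono_of_epi j

/-- A morphism whose image on points lies in an open subspace factors through it. -/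
theorem exists_factor_of_range_subset {X X' Y : Sp S} (j : X' ⟶ X)
    (hj : RepWith @IsOpenImmersion j) (f : Y ⟶ X)
    (h : Set.range (Points.map f) ⊆ Set.range (Points.map j)) : ∃ g : Y ⟶ X', g ≫ j = f := by
  have sq := IsPullback.of_hasPullback f j
  have h1 : RepWith @IsOpenImmersion (pullback.fst f j) := repWith_fst_of_isPullback sq hj
  have h2 : IsSurjectiveMor (pullback.fst f j) := by
    intro y
    obtain ⟨x', hx'⟩ := h ⟨y, rfl⟩
    obtain ⟨p, hp, -⟩ := exists_of_isPullback sq y x' hx'.symm
    exact ⟨p, hp⟩
  have := isIso_of_repWith_isOpenImmersion_surjective _ h1 h2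
  exact ⟨inv (pullback.fst f j) ≫ pullback.snd f j, by
    rw [Category.assoc, ← sq.w, IsIso.inv_hom_id_assoc]⟩

/-- The diagonal of an unramified morphism of algebraic spaces is an open immersion. -/
theorem repWith_isOpenImmersion_diagonal_of_unramified {X Y : Sp S} (hX : IsAlgSpace X)
    (hY : IsAlgSpace Y) (f : X ⟶ Y)
    (hf : LocP (@LocallyOfFiniteType ⊓ @FormallyUnramified) f) :
    RepWith @IsOpenImmersion (pullback.diagonal f) := by
  have sq := IsPullback.of_hasPullback f f
  have hXX : IsAlgSpace (pullback f f) := isAlgSpace_of_isPullback hY.diag hX hX sq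
  obtain ⟨hrep, -, hmono, -, -⟩ := repWith_diagonal_all hX f
  have hsnd : LocP (@LocallyOfFiniteType ⊓ @FormallyUnramified) (pullback.snd f f) :=
    locP_of_isPullback (etLoc_locallyOfFiniteType.inf etLoc_formallyUnramified) hX hY hX sq hf
  have hΔe : LocP @Etale (pullback.diagonal f) := by
    refine locP_cancel (Q := @LocallyOfFiniteType ⊓ @FormallyUnramified) etLoc_etale
      (fun h k hk hhk => ?_) hX hXX hX (pullback.diagonal f) (pullback.snd f f) hsnd ?_
    · have : LocallyOfFiniteType k := hk.1
      have : FormallyUnramified k := hk.2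
      have : Etale (h ≫ k) := hhk
      exact Etale.of_comp h k
    · rw [pullback.diagonal_snd]
      exact locP_id (fun _ h => h) X
  have hΔ : RepWith @Etale (pullback.diagonal f) := repWith_of_locP etLoc_etale hXX _ hrep hΔe
  refine repWith_mono (fun A B g hg => ?_) (repWith_inf hΔ hmono)
  have : Etale g := hg.1
  have : Mono g := hg.2
  exact IsOpenImmersion.of_flat_of_mono g

/-- A section of an etale morphism of schemes is an open immersion. -/
theorem isOpenImmersion_of_section_etale {A B : Scheme.{u}} (s : A ⟶ B) (r : B ⟶ A)
    (hsr : s ≫ r = 𝟙 A) (hr : Etale r) : IsOpenImmersion s := by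
  have : Etale (s ≫ r) := by rw [hsr]; infer_instance
  have : Etale s := Etale.of_comp s r
  have : IsSplitMono s := IsSplitMono.mk' ⟨r, hsr⟩
  exact IsOpenImmersion.of_flat_of_mono s

/-- The sheaf-level diagonal of a morphism of schemes over `S` having `P` in the representable
sense means the diagonal of the underlying morphism of schemes has `P`. -/
theorem prop_diagonal_of_repWith_diagonal_yon_map (P : MorphismProperty Scheme.{u})
    [P.IsStableUnderBaseChange] {U V : Over S} (h : U ⟶ V)
    (hd : RepWith P (pullback.diagonal ((yon S).map h))) : P (pullback.diagonal h.left) := by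
  have : P.RespectsIso := MorphismProperty.IsStableUnderBaseChange.respectsIso
  have kp := IsPullback.of_hasPullback h h
  have kpY := kp.map (yon S)
  have kpS := kp.map (Over.forget S)
  have e1 : (yon S).map (pullback.diagonal h) ≫ kpY.isoPullback.hom =
      pullback.diagonal ((yon S).map h) := by
    apply pullback.hom_ext
    · rw [Category.assoc, IsPullback.isoPullback_hom_fst, ← CategoryTheory.Functor.map_comp,
        pullback.diagonal_fst, CategoryTheory.Functor.map_id, pullback.diagonal_fst]
    · rw [Category.assoc, IsPullback.isoPullback_hom_snd, ← CategoryTheory.Functor.map_comp,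
        pullback.diagonal_snd, CategoryTheory.Functor.map_id, pullback.diagonal_snd]
  have e2 : (Over.forget S).map (pullback.diagonal h) ≫ kpS.isoPullback.hom =
      pullback.diagonal ((Over.forget S).map h) := by
    apply pullback.hom_ext
    · rw [Category.assoc, IsPullback.isoPullback_hom_fst, ← CategoryTheory.Functor.map_comp,
        pullback.diagonal_fst, CategoryTheory.Functor.map_id, pullback.diagonal_fst]
    · rw [Category.assoc, IsPullback.isoPullback_hom_snd, ← CategoryTheory.Functor.map_comp,
        pullback.diagonal_snd, CategoryTheory.Functor.map_id, pullback.diagonal_snd]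
  rw [← e1] at hd
  have h1 : RepWith P ((yon S).map (pullback.diagonal h)) :=
    (MorphismProperty.cancel_right_of_respectsIso (RepWith P) _ _).1 hd
  have h2 : P (pullback.diagonal h).left := (repWith_yon_map_iff P _).1 h1
  show P (pullback.diagonal ((Over.forget S).map h))
  rw [← e2]
  exact (P.cancel_right_of_respectsIso _ _).2 h2

/-- A morphism locally of finite type whose diagonal is an open immersion is unramified. -/
theorem locP_unramified_of_diagonal {X Y : Sp S} (hX : IsAlgSpace X) (hY : IsAlgSpace Y)
    (f : X ⟶ Y) (hlft : LocP @LocallyOfFiniteType f)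
    (hd : RepWith @IsOpenImmersion (pullback.diagonal f)) :
    LocP (@LocallyOfFiniteType ⊓ @FormallyUnramified) f := by
  obtain ⟨V, b, hbe, hbs⟩ := hY.atlas
  have sqV := IsPullback.of_hasPullback f b
  have hXV : IsAlgSpace (pullback f b) :=
    isAlgSpace_of_isPullback hY.diag hX (IsAlgSpace.yon_obj V) sqV
  obtain ⟨U, a, hae, has⟩ := hXV.atlas
  obtain ⟨h, hh⟩ := (yon S).map_surjective (a ≫ pullback.snd f b)
  have hD1 : (RepWith (S := S) @IsOpenImmersion).diagonal (pullback.snd f b) :=
    MorphismProperty.of_isPullback (P := (RepWith (S := S) @IsOpenImmersion).diagonal) sqV hd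
  have hD2 : (RepWith (S := S) @IsOpenImmersion).diagonal a :=
    repWith_diagonal_of_sections @IsOpenImmersion @Etale
      (fun s r hsr hr => isOpenImmersion_of_section_etale s r hsr hr) a hae
  have hD3 : (RepWith (S := S) @IsOpenImmersion).diagonal ((yon S).map h) := by
    rw [hh]
    exact (RepWith (S := S) @IsOpenImmersion).diagonal.comp_mem _ _ hD2 hD1
  have hopen : IsOpenImmersion (pullback.diagonal h.left) :=
    prop_diagonal_of_repWith_diagonal_yon_map @IsOpenImmersion h hD3
  have hfu : FormallyUnramified h.left := inferInstance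
  have hae' : RepWith @Etale (a ≫ pullback.fst f b) :=
    repWith_etale_comp hae (repWith_fst_of_isPullback sqV hbe)
  have has' : RepWith @Surjective (a ≫ pullback.fst f b) :=
    repWith_surjective_comp has (repWith_fst_of_isPullback sqV hbs)
  have comm : (a ≫ pullback.fst f b) ≫ f = (yon S).map h ≫ b := by
    rw [Category.assoc, sqV.w, ← Category.assoc, hh]
  have hlft' : LocallyOfFiniteType h.left := hlft (a ≫ pullback.fst f b) b h hae' hbe comm
  exact locP_of_chart (etLoc_locallyOfFiniteType.inf etLoc_formallyUnramified) f
    (a ≫ pullback.fst f b) b h hae' has' hbe comm ⟨hlft', hfu⟩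

end Groth.Agent.H25.AS
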