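import Groth.Agent.H25.AlgSp3

/-!
# Algebraic spaces toolkit, part 4: quasi-compactness and the representable/points dictionary
-/

universe u

open CategoryTheory CategoryTheory.Limits AlgebraicGeometry Opposite AlgSp TopologicalSpace

namespace Groth.Agent.H25.AS

variable {S : Scheme.{u}}

theorem isOpenMap_of_isOpenMor_yon_map {T T' : Over S} (φ : T ⟶ T')
    (h : IsOpenMor ((yon S).map φ)) : IsOpenMap (fun t => φ.left t) := by
  rw [map_yon_map_conj]
  exact (Points.schemeHomeo T').symm.isOpenMap.comp (h.comp (Points.schemeHomeo T).isOpenMap)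

theorem isClosedMap_of_isClosedMor_yon_map {T T' : Over S} (φ : T ⟶ T')
    (h : IsClosedMor ((yon S).map φ)) : IsClosedMap (fun t => φ.left t) := by
  rw [map_yon_map_conj]
  exact (Points.schemeHomeo T').symm.isClosedMap.comp (h.comp (Points.schemeHomeo T).isClosedMap)

theorem isQuotientMap_of_isSubmersiveMor_yon_map {T T' : Over S} (φ : T ⟶ T')
    (h : IsSubmersiveMor ((yon S).map φ)) : Topology.IsQuotientMap (fun t => φ.left t) := by
  rw [map_yon_map_conj]
  exact (Points.schemeHomeo T').symm.isQuotientMap.comp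
    (h.comp (Points.schemeHomeo T).isQuotientMap)

theorem repWith_universallyOpen_iff {F G : Sp S} (f : F ⟶ G) (hr : Representable f) :
    RepWith @UniversallyOpen f ↔ IsUnivOpenMor f := by
  constructor
  · intro hf Z Z' _ g fst snd sq
    exact isOpenMap_map_of_repWith snd (MorphismProperty.of_isPullback sq hf)
  · intro hf
    have := repWith_universally_of_univSp f hr @IsOpenMap IsOpenMor
      (fun φ h => isOpenMap_of_isOpenMor_yon_map φ h) hf
    exact MorphismProperty.relative_monotone (fun _ _ _ h => ⟨h⟩) _ this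

theorem repWith_universallyClosed_iff {F G : Sp S} (f : F ⟶ G) (hr : Representable f) :
    RepWith @UniversallyClosed f ↔ IsUnivClosedMor f := by
  constructor
  · intro hf Z Z' _ g fst snd sq
    exact isClosedMap_map_of_repWith snd (MorphismProperty.of_isPullback sq hf)
  · intro hf
    have := repWith_universally_of_univSp f hr @IsClosedMap IsClosedMor
      (fun φ h => isClosedMap_of_isClosedMor_yon_map φ h) hf
    exact MorphismProperty.relative_monotone (fun _ _ _ h => ⟨h⟩) _ this

theorem repWith_univSubmersive_iff {F G : Sp S} (f : F ⟶ G) (hr : Representable f) :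
    RepWith SGA1.UnivSubmersive f ↔ IsUnivSubmersiveMor f := by
  constructor
  · intro hf Z Z' _ g fst snd sq
    exact isQuotientMap_map_of_repWith snd (MorphismProperty.of_isPullback sq hf)
  · intro hf
    exact repWith_universally_of_univSp f hr (fun f => Topology.IsQuotientMap f) IsSubmersiveMor
      (fun φ h => isQuotientMap_of_isSubmersiveMor_yon_map φ h) hf

/-- Local quasi-compactness of the space of points of a sheaf with an étale atlas. -/
theorem exists_isOpen_isCompact_nhd {F : Sp S} {U : Over S} (p : (yon S).obj U ⟶ F)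
    (hpe : RepWith @Etale p) (hps : RepWith @Surjective p) (x : Points F)
    (W : Set (Points F)) (hW : IsOpen W) (hx : x ∈ W) :
    ∃ V : Set (Points F), IsOpen V ∧ IsCompact V ∧ x ∈ V ∧ V ⊆ W := by
  obtain ⟨u, rfl⟩ := ofPt_surjective p hps x
  have hopen : IsOpen (Points.ofPt p ⁻¹' W) := hW.preimage (Points.continuous_ofPt p)
  obtain ⟨V, hVaff, huV, hVW⟩ := (Opens.isBasis_iff_nbhd.mp U.left.isBasis_affineOpens)
    (show u ∈ (⟨_, hopen⟩ : Opens U.left) from hx)
  refine ⟨Points.ofPt p '' V, isOpenMap_ofPt p hpe _ V.isOpen,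
    (IsAffineOpen.isCompact hVaff).image (Points.continuous_ofPt p), ⟨u, huV, rfl⟩, ?_⟩
  rintro _ ⟨v, hv, rfl⟩
  exact hVW hv

theorem compactSpace_of_isQuasiCompactSp {F : Sp S} (h : IsQuasiCompactSp F) :
    CompactSpace (Points F) := by
  obtain ⟨U, p, -, hps, hU⟩ := h
  exact (ofPt_surjective p hps).compactSpace (Points.continuous_ofPt p)

theorem isQuasiCompactSp_of_compactSpace {F : Sp S} {U : Over S} (p : (yon S).obj U ⟶ F)
    (hpe : RepWith @Etale p) (hps : RepWith @Surjective p) [CompactSpace (Points F)] :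
    IsQuasiCompactSp F := by
  have h1 : ∀ x : Points F, ∃ V : U.left.Opens, IsAffineOpen V ∧ x ∈ Points.ofPt p '' V := by
    intro x
    obtain ⟨u, rfl⟩ := ofPt_surjective p hps x
    obtain ⟨V, hV, huV, -⟩ := (Opens.isBasis_iff_nbhd.mp U.left.isBasis_affineOpens)
      (show u ∈ (⊤ : Opens U.left) from trivial)
    exact ⟨V, hV, u, huV, rfl⟩
  choose V hVaff hxV using h1
  obtain ⟨t, ht⟩ := isCompact_univ.elim_finite_subcover (fun x => Points.ofPt p '' (V x))
    (fun x => isOpenMap_ofPt p hpe _ (V x).isOpen) (fun x _ => Set.mem_iUnion.2 ⟨x, hxV x⟩)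
  let V0 : U.left.Opens := ⨆ x ∈ t, V x
  have hV0c : IsCompact (V0 : Set U.left) := by
    have : (V0 : Set U.left) = ⋃ x ∈ t, (V x : Set U.left) := by
      simp only [V0, Opens.coe_iSup]
    rw [this]
    exact t.finite_toSet.isCompact_biUnion (fun x _ => (hVaff x).isCompact)
  have hpe' : RepWith @Etale ((yon S).map (openIncl U V0) ≫ p) :=
    repWith_etale_comp (repWith_etale_openIncl U V0) hpe
  refine ⟨openOver U V0, (yon S).map (openIncl U V0) ≫ p, hpe', ?_, ?_⟩
  · refine repWith_surjective_of_isSurjectiveMor _ hpe'.rep fun x => ?_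
    have hx := ht (Set.mem_univ x)
    simp only [Set.mem_iUnion] at hx
    obtain ⟨y, hy, u, hu, rfl⟩ := hx
    have huV0 : u ∈ V0 := by
      simp only [V0, Opens.mem_iSup]
      exact ⟨y, hy, hu⟩
    refine ⟨Points.ofScheme _ (⟨u, huV0⟩ : V0), ?_⟩
    rw [← Points.ofPt_eq_map_ofScheme, ofPt_map_comp]
    rfl
  · exact isCompact_iff_compactSpace.mp hV0c

theorem isQuasiCompactSp_iff_compactSpace {F : Sp S} (hF : IsAlgSpace F) :
    IsQuasiCompactSp F ↔ CompactSpace (Points F) := by
  obtain ⟨U, p, hpe, hps⟩ := hF.atlas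
  exact ⟨compactSpace_of_isQuasiCompactSp, fun _ => isQuasiCompactSp_of_compactSpace p hpe hps⟩

end Groth.Agent.H25.AS
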