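import Groth.Agent.H25.AlgSp39

/-!
# Algebraic spaces toolkit, part 40: etale universally injective morphisms are open immersions
-/

universe u

open CategoryTheory CategoryTheory.Limits AlgebraicGeometry Opposite AlgSp MorphismProperty

namespace Groth.Agent.H25.AS

variable {S : Scheme.{u}}

theorem locP_unramified_of_locP_etale {X Y : Sp S} {f : X ⟶ Y} (hf : LocP @Etale f) :
    LocP (@LocallyOfFiniteType ⊓ @FormallyUnramified) f := by
  intro U V a b h ha hb w
  have : Etale h.left := hf a b h ha hb w
  exact ⟨inferInstance, inferInstance⟩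

/-- An etale universally injective morphism of algebraic spaces is a monomorphism. -/
theorem mono_of_etale_univInjective {X Y : Sp S} (hX : IsAlgSpace X) (hY : IsAlgSpace Y)
    (f : X ⟶ Y) (het : IsEtaleMor f) (hinj : IsUnivInjectiveMor f) : Mono f := by
  have hfe : LocP @Etale f := (isEtaleMor_iff_locP hY f).1 het
  have hΔo : RepWith @IsOpenImmersion (pullback.diagonal f) :=
    repWith_isOpenImmersion_diagonal_of_unramified hX hY f (locP_unramified_of_locP_etale hfe)
  have hΔs : IsSurjectiveMor (pullback.diagonal f) :=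
    isSurjectiveMor_diagonal_of_fieldInj f (fieldInj_of_isUnivInjectiveMor hX hY f hinj)
  have := isIso_of_repWith_isOpenImmersion_surjective _ hΔo hΔs
  exact (pullback.isIso_diagonal_iff f).1 this

/-- An etale monomorphism from an algebraic space to a scheme is an open immersion: the source is
represented by the open image. -/
theorem exists_open_of_etale_mono {P : Sp S} (hP : IsAlgSpace P) {T : Over S}
    (p : P ⟶ (yon S).obj T) [Mono p] (hpe : LocP @Etale p) :
    ∃ (U : Over S) (ι : U ⟶ T) (g : P ⟶ (yon S).obj U), IsOpenImmersion ι.left ∧ IsIso g ∧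
      g ≫ (yon S).map ι = p := by
  obtain ⟨W', w, hwe, hws⟩ := hP.atlas
  obtain ⟨k, hk⟩ := (yon S).map_surjective (w ≫ p)
  have hke : Etale k.left :=
    hpe w (𝟙 _) k hwe (repWith_id _ T) (by rw [hk, Category.comp_id])
  let U₀ : T.left.Opens := ⟨Set.range k.left, k.left.isOpenMap.isOpen_range⟩
  let U : Over S := Over.mk (U₀.ι ≫ T.hom)
  let ι : U ⟶ T := Over.homMk U₀.ι rfl
  have hιo : IsOpenImmersion ι.left := (inferInstance : IsOpenImmersion U₀.ι)
  have hsub : Set.range k.left ⊆ Set.range U₀.ι := by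
    rw [Scheme.Opens.range_ι]
    exact subset_rfl
  let k₀ := IsOpenImmersion.lift U₀.ι k.left hsub
  have hk₀ : k₀ ≫ U₀.ι = k.left := IsOpenImmersion.lift_fac _ _ _
  let k' : W' ⟶ U := Over.homMk k₀ (by
    show k₀ ≫ U₀.ι ≫ T.hom = W'.hom
    rw [← Category.assoc, hk₀]
    exact Over.w k)
  have hk' : k' ≫ ι = k := by
    ext1
    exact hk₀
  have hk'e : Etale k'.left := by
    have : Etale (k₀ ≫ U₀.ι) := by rw [hk₀]; exact hke
    exact MorphismProperty.of_postcomp (W := @Etale) (W' := @Etale) k₀ U₀.ι inferInstance this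
  have hk's : Surjective k'.left := ⟨fun u => by
    obtain ⟨x, hx⟩ : U₀.ι u ∈ Set.range k.left := u.2
    refine ⟨x, U₀.ι.isOpenEmbedding.injective ?_⟩
    show (k₀ ≫ U₀.ι) x = _
    rw [hk₀, hx]⟩
  have hιr : RepWith @IsOpenImmersion ((yon S).map ι) := (repWith_yon_map_iff _ _).2 hιo
  have hrange : Set.range (Points.map p) ⊆ Set.range (Points.map ((yon S).map ι)) := by
    rintro _ ⟨x, rfl⟩
    obtain ⟨x', rfl⟩ := isSurjectiveMor_of_repWith w hws x
    obtain ⟨t, rfl⟩ := exists_ofScheme x'
    refine ⟨Points.ofScheme U (k'.left t), ?_⟩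
    rw [map_yon_map_ofScheme, ← Points.map_comp, ← hk, map_yon_map_ofScheme, ← hk']
    rfl
  obtain ⟨g, hg⟩ := exists_factor_of_range_subset ((yon S).map ι) hιr p hrange
  have hmι : Mono ((yon S).map ι) := mono_of_repWith @IsOpenImmersion
    (fun g hg => by have : IsOpenImmersion g := hg; exact (inferInstance : Mono g)) _ hιr
  have hgm : Mono g := by
    have : Mono (g ≫ (yon S).map ι) := by rw [hg]; infer_instance
    exact mono_of_mono g ((yon S).map ι)
  have hwg : w ≫ g = (yon S).map k' := by
    rw [← cancel_mono ((yon S).map ι), Category.assoc, hg, ← hk, ← hk', Functor.map_comp]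
  have hge : Epi g := by
    have : Epi (w ≫ g) := by
      rw [hwg]
      exact epi_of_etale _ ((repWith_yon_map_iff _ _).2 hk'e) ((repWith_yon_map_iff _ _).2 hk's)
    exact epi_of_epi w g
  exact ⟨U, ι, g, hιo, isIso_of_mono_of_epi g, hg⟩

/-- An etale and universally injective morphism of algebraic spaces is an open immersion. -/
theorem repWith_isOpenImmersion_of_etale_univInjective {X Y : Sp S} (hX : IsAlgSpace X)
    (hY : IsAlgSpace Y) (f : X ⟶ Y) (het : IsEtaleMor f) (hinj : IsUnivInjectiveMor f) :
    RepWith @IsOpenImmersion f := by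
  have hm : Mono f := mono_of_etale_univInjective hX hY f het hinj
  have hfe : LocP @Etale f := (isEtaleMor_iff_locP hY f).1 het
  apply MorphismProperty.relative.of_exists
  intro T c
  have sq := IsPullback.of_hasPullback f c
  have hT : IsAlgSpace ((yon S).obj T) := IsAlgSpace.yon_obj T
  have hP : IsAlgSpace (pullback f c) := isAlgSpace_of_isPullback hY.diag hX hT sq
  have hpe : LocP @Etale (pullback.snd f c) := locP_of_isPullback etLoc_etale hX hY hT sq hfe
  obtain ⟨U, ι, g, hιo, hgi, hg⟩ := exists_open_of_etale_mono hP (pullback.snd f c) hpe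
  refine ⟨U, inv g ≫ pullback.fst f c, ι, ?_, hιo⟩
  refine IsPullback.of_iso sq (asIso g) (Iso.refl _) (Iso.refl _) (Iso.refl _) ?_ ?_ ?_ ?_
  · simp
  · simp [hg]
  · simp
  · simp

end Groth.Agent.H25.AS
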