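import Groth.Agent.H25.AlgSp40
import Groth.Agent.Lib.Helper24.SmoothRed
import Groth.Prelude.Def_AlgSpSub

/-!
# Algebraic spaces toolkit, part 41: reducedness and flat morphisms
-/

universe u

open CategoryTheory CategoryTheory.Limits AlgebraicGeometry Opposite AlgSp MorphismProperty

namespace Groth.Agent.H25.AS

variable {S : Scheme.{u}}

/-- Reducedness descends along jointly surjective flat families of schemes. -/
theorem isReduced_of_flat_family {Z : Scheme.{u}} {ι : Type*} (Zi : ι → Scheme.{u})
    (c : ∀ i, Zi i ⟶ Z) (hc : ∀ i, Flat (c i)) (hr : ∀ i, IsReduced (Zi i))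
    (hsurj : ∀ z : Z, ∃ i, z ∈ Set.range (c i)) : IsReduced Z := by
  have : ∀ z : Z, _root_.IsReduced (Z.presheaf.stalk z) := by
    intro z
    obtain ⟨i, zi, rfl⟩ := hsurj z
    have := hc i
    have := hr i
    exact Groth.Agent.Helper24.SmoothRed.isReduced_stalk_of_flat (c i) zi
  exact isReduced_of_isReduced_stalk Z

theorem isReduced_of_flat_surjective {X Y : Scheme.{u}} (f : X ⟶ Y) [Flat f] [Surjective f]
    [IsReduced X] : IsReduced Y :=
  isReduced_of_flat_family (fun _ : Unit => X) (fun _ => f) (fun _ => inferInstance)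
    (fun _ => inferInstance) (fun y => ⟨(), f.surjective y⟩)

/-- Every etale chart of a reduced algebraic space is reduced. -/
theorem isReduced_of_chart {X : Sp S} (hX : IsReducedSp X) {U' : Over S}
    (a' : (yon S).obj U' ⟶ X) (ha' : RepWith @Etale a') : IsReduced U'.left := by
  obtain ⟨U, p, hpe, hps, hU⟩ := hX
  have sq := hpe.rep.isPullback' a'
  have h1 : Etale (hpe.rep.snd a').left := hpe.property_snd a'
  have h2 : Surjective (hpe.rep.snd a').left := hps.property _ _ _ sq
  have h3 : Etale (hpe.rep.fst' a').left := ha'.property p _ _ sq.flip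
  have : IsReduced U.left := hU
  have hR : IsReduced (hpe.rep.pullback a').left :=
    Groth.Agent.Helper24.SmoothRed.isReduced_of_smooth_scheme (hpe.rep.fst' a').left
  exact isReduced_of_flat_surjective (hpe.rep.snd a').left

theorem surjective_left_of_isSurjectiveMor {U V : Over S} (h : U ⟶ V)
    (hs : IsSurjectiveMor ((yon S).map h)) : Surjective h.left :=
  (repWith_yon_map_iff @Surjective h).1
    (repWith_surjective_of_isSurjectiveMor _ (representable_yon_map h) hs)

/-- A chart of a morphism `f : X ⟶ Y` of algebraic spaces with surjective etale source and target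
charts. -/
theorem exists_chart_surjective {X Y : Sp S} (hX : IsAlgSpace X) (hY : IsAlgSpace Y) (f : X ⟶ Y) :
    ∃ (U V : Over S) (a : (yon S).obj U ⟶ X) (b : (yon S).obj V ⟶ Y) (h : U ⟶ V),
      RepWith @Etale a ∧ RepWith @Surjective a ∧ RepWith @Etale b ∧ RepWith @Surjective b ∧
      a ≫ f = (yon S).map h ≫ b ∧
      (IsSurjectiveMor f → Surjective h.left) := by
  obtain ⟨V, b, hbe, hbs⟩ := hY.atlas
  have sqV := IsPullback.of_hasPullback f b
  have hXV : IsAlgSpace (pullback f b) :=
    isAlgSpace_of_isPullback hY.diag hX (IsAlgSpace.yon_obj V) sqV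
  obtain ⟨U, a, hae, has⟩ := hXV.atlas
  obtain ⟨h, hh⟩ := (yon S).map_surjective (a ≫ pullback.snd f b)
  refine ⟨U, V, a ≫ pullback.fst f b, b, h,
    repWith_etale_comp hae (repWith_fst_of_isPullback sqV hbe),
    repWith_surjective_comp has (repWith_fst_of_isPullback sqV hbs), hbe, hbs, ?_, fun hs => ?_⟩
  · rw [Category.assoc, sqV.w, ← Category.assoc, hh]
  · refine surjective_left_of_isSurjectiveMor h ?_
    rw [hh]
    intro v
    obtain ⟨p, hp⟩ := isSurjectiveMor_of_isPullback sqV hs v
    obtain ⟨u, hu⟩ := isSurjectiveMor_of_repWith a has p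
    exact ⟨u, by rw [Points.map_comp, hu, hp]⟩

/-- The target of a flat surjective morphism from a reduced algebraic space is reduced. -/
theorem isReducedSp_of_flat_surjective {X Y : Sp S} (hX : IsAlgSpace X) (hY : IsAlgSpace Y)
    (f : X ⟶ Y) (hfl : LocP @Flat f) (hs : IsSurjectiveMor f) (hXr : IsReducedSp X) :
    IsReducedSp Y := by
  obtain ⟨U, V, a, b, h, hae, has, hbe, hbs, comm, hsurj⟩ := exists_chart_surjective hX hY f
  have : IsReduced U.left := isReduced_of_chart hXr a hae
  have : Flat h.left := hfl a b h hae hbe comm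
  have : Surjective h.left := hsurj hs
  exact ⟨V, b, hbe, hbs, isReduced_of_flat_surjective h.left⟩

/-- The source of a smooth morphism to a reduced algebraic space is reduced. -/
theorem isReducedSp_of_smooth {X Y : Sp S} (hX : IsAlgSpace X) (hY : IsAlgSpace Y)
    (f : X ⟶ Y) (hf : LocP @Smooth f) (hYr : IsReducedSp Y) : IsReducedSp X := by
  obtain ⟨U, V, a, b, h, hae, has, hbe, hbs, comm, -⟩ := exists_chart_surjective hX hY f
  have : IsReduced V.left := isReduced_of_chart hYr b hbe
  have : Smooth h.left := hf a b h hae hbe comm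
  exact ⟨U, a, hae, has, Groth.Agent.Helper24.SmoothRed.isReduced_of_smooth_scheme h.left⟩

theorem locP_flat_of_locP_smooth {X Y : Sp S} {f : X ⟶ Y} (hf : LocP @Smooth f) :
    LocP @Flat f := by
  intro U V a b h ha hb w
  have : Smooth h.left := hf a b h ha hb w
  exact (inferInstance : Flat h.left)

end Groth.Agent.H25.AS
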