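import Groth.Agent.H25.AlgSp41

/-!
# Algebraic spaces toolkit, part 42: flatness is fpqc local on the source
-/

universe u

open CategoryTheory CategoryTheory.Limits AlgebraicGeometry Opposite AlgSp MorphismProperty

namespace Groth.Agent.H25.AS

variable {S : Scheme.{u}}

theorem ringHom_flat_of_comp_local {A B C : Type u} [CommRing A] [CommRing B] [CommRing C]
    [IsLocalRing B] [IsLocalRing C] (φ : A →+* B) (ψ : B →+* C) (hψ : ψ.Flat) [IsLocalHom ψ]
    (h : (ψ.comp φ).Flat) : φ.Flat := by
  algebraize [φ, ψ, ψ.comp φ]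
  have : IsLocalHom (algebraMap B C) := ‹IsLocalHom ψ›
  have : Module.FaithfullyFlat B C := Module.FaithfullyFlat.of_flat_of_isLocalHom
  exact SrcLoc.flat_of_faithfullyFlat_of_flat A B C

/-- Flatness of a morphism of schemes can be checked after precomposition with a jointly
surjective family of flat morphisms. -/
theorem flat_of_flat_family {Z V : Scheme.{u}} (h : Z ⟶ V) {ι : Type*} (Zi : ι → Scheme.{u})
    (c : ∀ i, Zi i ⟶ Z) (hc : ∀ i, Flat (c i)) (hch : ∀ i, Flat (c i ≫ h))
    (hsurj : ∀ z : Z, ∃ i, z ∈ Set.range (c i)) : Flat h := by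
  rw [Flat.iff_flat_stalkMap]
  intro z
  obtain ⟨i, zi, rfl⟩ := hsurj z
  have := hc i
  have := hch i
  have h1 : ((c i).stalkMap zi).hom.Flat := Flat.stalkMap (c i) zi
  have h2 : (((c i).stalkMap zi).hom.comp (h.stalkMap ((c i) zi)).hom).Flat := by
    have := Flat.stalkMap (c i ≫ h) zi
    rw [Scheme.Hom.stalkMap_comp] at this
    exact this
  exact ringHom_flat_of_comp_local _ _ h1 h2

/-- Flatness of morphisms of algebraic spaces is fpqc local on the source. -/
theorem isLocalOnSource_fpqc_locP_flat :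
    IsLocalOnSource (IsFpqcCover (S := S)) (LocP @Flat) := by
  intro ι X Xi g hX hXi hcov Y f hY
  obtain ⟨hgf, href⟩ := hcov
  constructor
  · intro hf i
    exact locP_comp etLoc_flat (hXi i) hX hY (g i) f (hgf i) hf
  · intro hall U V a b h ha hb comm
    rw [IsZariskiLocalAtSource.iff_of_openCover (P := @Flat) U.left.affineCover]
    intro k
    let Z : Over S := Over.mk (U.left.affineCover.f k ≫ U.hom)
    let jk : Z ⟶ U := Over.homMk (U.left.affineCover.f k) rfl
    have hZaff : IsAffine Z.left := (inferInstance : IsAffine (U.left.affineCover.X k))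
    have hZ : IsAlgSpace ((yon S).obj Z) := IsAlgSpace.yon_obj Z
    have hjk : Etale jk.left := (inferInstance : Etale (U.left.affineCover.f k))
    have haZ : RepWith @Etale ((yon S).map jk ≫ a) :=
      repWith_etale_comp ((repWith_yon_map_iff _ _).2 hjk) ha
    obtain ⟨m, W, c, -, -, hcsurj, hl⟩ := href Z hZaff ((yon S).map jk ≫ a)
    have sq : ∀ i, IsPullback (pullback.fst (g i) ((yon S).map jk ≫ a))
        (pullback.snd (g i) ((yon S).map jk ≫ a)) (g i) ((yon S).map jk ≫ a) :=
      fun i => IsPullback.of_hasPullback _ _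
    have hP : ∀ i, IsAlgSpace (pullback (g i) ((yon S).map jk ≫ a)) := fun i =>
      isAlgSpace_of_isPullback hX.diag (hXi i) hZ (sq i)
    choose E e hee hes using fun i => (hP i).atlas
    choose d hd using fun i =>
      (yon S).map_surjective (e i ≫ pullback.snd (g i) ((yon S).map jk ≫ a))
    have hsndfl : ∀ i, LocP @Flat (pullback.snd (g i) ((yon S).map jk ≫ a)) := fun i =>
      locP_of_isPullback etLoc_flat (hXi i) hX hZ (sq i) (hgf i)
    have hdfl : ∀ i, Flat (d i).left := fun i =>
      hsndfl i (e i) (𝟙 _) (d i) (hee i) (repWith_id _ Z) (by rw [hd i, Category.comp_id])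
    have hdh : ∀ i, Flat ((d i).left ≫ U.left.affineCover.f k ≫ h.left) := by
      intro i
      have hch : RepWith @Etale (e i ≫ pullback.fst (g i) ((yon S).map jk ≫ a)) :=
        repWith_etale_comp (hee i) (repWith_fst_of_isPullback (sq i) haZ)
      have hcomm : (e i ≫ pullback.fst (g i) ((yon S).map jk ≫ a)) ≫ g i ≫ f =
          (yon S).map (d i ≫ jk ≫ h) ≫ b := by
        rw [Category.assoc, ← Category.assoc (pullback.fst _ _), (sq i).w, Functor.map_comp,
          Functor.map_comp, hd i]
        simp only [Category.assoc]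
        rw [comm]
      exact hall i _ b (d i ≫ jk ≫ h) hch hb hcomm
    refine flat_of_flat_family (U.left.affineCover.f k ≫ h.left) (fun i => (E i).left)
      (fun i => (d i).left) hdfl hdh fun z => ?_
    obtain ⟨j, w, rfl⟩ := hcsurj z
    obtain ⟨i, l, hl'⟩ := hl j
    refine ⟨i, ?_⟩
    let t := (sq i).lift l ((yon S).map (c j)) hl'
    have ht : t ≫ pullback.snd (g i) ((yon S).map jk ≫ a) = (yon S).map (c j) :=
      (sq i).lift_snd _ _ _
    obtain ⟨ε', hε'⟩ := isSurjectiveMor_of_repWith (e i) (hes i)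
      (Points.map t (Points.ofScheme (W j) w))
    obtain ⟨ε, rfl⟩ := exists_ofScheme ε'
    refine ⟨ε, ofScheme_injective Z ?_⟩
    rw [← map_yon_map_ofScheme (d i) ε, hd i, Points.map_comp, hε', ← Points.map_comp, ht,
      map_yon_map_ofScheme]

end Groth.Agent.H25.AS
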