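import Groth.Agent.H25.AlgSp42

/-!
# Algebraic spaces toolkit, part 43: descent of the locally Noetherian property along fppf
surjective morphisms
-/

universe u

open CategoryTheory CategoryTheory.Limits AlgebraicGeometry Opposite AlgSp MorphismProperty
open TensorProduct

namespace Groth.Agent.H25.AS

variable {S : Scheme.{u}}

theorem isNoetherianRing_of_faithfullyFlat (A B : Type*) [CommRing A] [CommRing B] [Algebra A B]
    [Module.FaithfullyFlat A B] [IsNoetherianRing B] : IsNoetherianRing A := by
  have e : B ⊗[A] A ≃ₗ[B] B := TensorProduct.AlgebraTensorModule.rid A B B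
  have h : IsNoetherian B (B ⊗[A] A) := isNoetherian_of_linearEquiv e.symm
  exact Submodule.IsNoetherian.of_isNoetherian_tensorProduct_of_faithfullyFlat (A := B) h

/-- An open surjective morphism onto a quasi-compact scheme can be refined by an affine scheme,
via a finite disjoint union of affine opens. -/
theorem exists_affine_cover_of_open {R T : Scheme.{u}} (g : R ⟶ T) [UniversallyOpen g]
    [Surjective g] [CompactSpace T] :
    ∃ (R' : Scheme.{u}) (j : R' ⟶ R), IsAffine R' ∧ Etale j ∧ Surjective (j ≫ g) := by
  let 𝒰 := R.affineCover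
  have hopen : ∀ i, IsOpen (Set.range (𝒰.f i ≫ g)) := fun i => (𝒰.f i ≫ g).isOpenMap.isOpen_range
  have hcover : (Set.univ : Set T) ⊆ ⋃ i, Set.range (𝒰.f i ≫ g) := by
    intro t _
    obtain ⟨r, rfl⟩ := g.surjective t
    obtain ⟨i, x, rfl⟩ := 𝒰.exists_eq r
    exact Set.mem_iUnion.2 ⟨i, x, by simp⟩
  obtain ⟨s, hs⟩ := isCompact_univ.elim_finite_subcover _ hopen hcover
  let X : s → Scheme.{u} := fun i => 𝒰.X i.1
  let j : ∐ X ⟶ R := Sigma.desc fun i => 𝒰.f i.1
  have hj : ∀ i, Sigma.ι X i ≫ j = 𝒰.f i.1 := fun i => Sigma.ι_desc _ _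
  refine ⟨∐ X, j, inferInstance, ?_, ⟨fun t => ?_⟩⟩
  · rw [IsZariskiLocalAtSource.iff_of_openCover (P := @Etale) (sigmaOpenCover _)]
    intro i
    change Etale (Sigma.ι X i ≫ j)
    rw [hj]
    infer_instance
  · obtain ⟨i, hi, x, rfl⟩ : ∃ i ∈ s, t ∈ Set.range (𝒰.f i ≫ g) := by
      simpa using hs (Set.mem_univ t)
    refine ⟨Sigma.ι X ⟨i, hi⟩ x, ?_⟩
    rw [← Scheme.Hom.comp_apply, ← Category.assoc, hj]

/-- The target of a flat surjective morphism locally of finite presentation from a locally
Noetherian scheme to an affine scheme has Noetherian ring of global sections. -/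
theorem isNoetherianRing_of_fppf_surjective_of_isAffine {U V : Scheme.{u}} (h : U ⟶ V) [Flat h]
    [LocallyOfFinitePresentation h] [Surjective h] [IsLocallyNoetherian U] [IsAffine V] :
    IsNoetherianRing Γ(V, ⊤) := by
  have : UniversallyOpen h := inferInstance
  obtain ⟨U', j, hU', hj, hsurj⟩ := exists_affine_cover_of_open h
  have hU'n : IsLocallyNoetherian U' := LocallyOfFiniteType.isLocallyNoetherian j
  have hB : IsNoetherianRing Γ(U', ⊤) :=
    IsLocallyNoetherian.component_noetherian (X := U') ⟨⊤, isAffineOpen_top U'⟩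
  have hff : (j ≫ h).appTop.hom.FaithfullyFlat :=
    (Flat.flat_and_surjective_iff_faithfullyFlat_of_isAffine (j ≫ h)).1 ⟨inferInstance, hsurj⟩
  algebraize [(j ≫ h).appTop.hom]
  exact isNoetherianRing_of_faithfullyFlat Γ(V, ⊤) Γ(U', ⊤)

/-- The locally Noetherian property descends along flat surjective morphisms locally of finite
presentation. -/
theorem isLocallyNoetherian_of_fppf_surjective {U V : Scheme.{u}} (h : U ⟶ V) [Flat h]
    [LocallyOfFinitePresentation h] [Surjective h] [IsLocallyNoetherian U] :
    IsLocallyNoetherian V := by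
  rw [isLocallyNoetherian_iff_of_affine_openCover V.affineCover]
  intro i
  have : IsLocallyNoetherian (pullback h (V.affineCover.f i)) :=
    LocallyOfFiniteType.isLocallyNoetherian (pullback.fst h (V.affineCover.f i))
  exact isNoetherianRing_of_fppf_surjective_of_isAffine (pullback.snd h (V.affineCover.f i))

/-- Every etale chart of a locally Noetherian algebraic space is locally Noetherian. -/
theorem isLocallyNoetherian_of_chart {X : Sp S} (hX : IsLocNoethSp X) {U' : Over S}
    (a' : (yon S).obj U' ⟶ X) (ha' : RepWith @Etale a') : IsLocallyNoetherian U'.left := by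
  obtain ⟨U, p, hpe, hps, hU⟩ := hX
  have sq := hpe.rep.isPullback' a'
  have h1 : Etale (hpe.rep.snd a').left := hpe.property_snd a'
  have h2 : Surjective (hpe.rep.snd a').left := hps.property _ _ _ sq
  have h3 : Etale (hpe.rep.fst' a').left := ha'.property p _ _ sq.flip
  have : IsLocallyNoetherian U.left := hU
  have hR : IsLocallyNoetherian (hpe.rep.pullback a').left :=
    LocallyOfFiniteType.isLocallyNoetherian (hpe.rep.fst' a').left
  exact isLocallyNoetherian_of_fppf_surjective (hpe.rep.snd a').left

/-- The target of a flat surjective morphism locally of finite presentation from a locally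
Noetherian algebraic space is locally Noetherian. -/
theorem isLocNoethSp_of_fppf_surjective {X Y : Sp S} (hX : IsAlgSpace X) (hY : IsAlgSpace Y)
    (f : X ⟶ Y) (hfp : LocP @LocallyOfFinitePresentation f) (hfl : LocP @Flat f)
    (hs : IsSurjectiveMor f) (hXn : IsLocNoethSp X) : IsLocNoethSp Y := by
  obtain ⟨U, V, a, b, h, hae, has, hbe, hbs, comm, hsurj⟩ := exists_chart_surjective hX hY f
  have : IsLocallyNoetherian U.left := isLocallyNoetherian_of_chart hXn a hae
  have : Flat h.left := hfl a b h hae hbe comm
  have : LocallyOfFinitePresentation h.left := hfp a b h hae hbe comm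
  have : Surjective h.left := hsurj hs
  exact ⟨V, b, hbe, hbs, isLocallyNoetherian_of_fppf_surjective h.left⟩

end Groth.Agent.H25.AS
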