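import Groth.Agent.H25.AlgSp39
import Mathlib.CategoryTheory.Sites.Subsheaf

/-!
# Algebraic spaces toolkit, part 44: open subspaces attached to open subsets of `|X|`
-/

universe u

open CategoryTheory CategoryTheory.Limits AlgebraicGeometry Opposite AlgSp

namespace Groth.Agent.H25.AS

variable {S : Scheme.{u}}

/-- The subfunctor of sections of `X` all of whose points land in `W`. -/
def openSubfunctor (X : Sp S) (W : Set (Points X)) : Subfunctor X.obj where
  obj T := {x | ∀ t : ↥T.unop.left, Points.ofPt (yE.symm (x : X.obj.obj (op T.unop))) t ∈ W}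
  map := by
    intro T T' i x hx t
    have := (J S).uliftYonedaEquiv_symm_map.{u+1} i (F := X) x
    change Points.ofPt (yE.symm (X.obj.map i x)) t ∈ W
    rw [show (yE.symm (X.obj.map i x) : (yon S).obj T'.unop ⟶ X) =
      (yon S).map i.unop ≫ yE.symm x from this, ofPt_map_comp]
    exact hx _

end Groth.Agent.H25.AS

namespace Groth.Agent.H25.AS

variable {S : Scheme.{u}}

theorem mem_openSubfunctor_iff {X : Sp S} {W : Set (Points X)} {T : Over S}
    (x : X.obj.obj (op T)) :
    x ∈ (openSubfunctor X W).obj (op T) ↔ ∀ t : ↥T.left, Points.ofPt (yE.symm x) t ∈ W :=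
  Iff.rfl

theorem openSubfunctor_isSheaf (X : Sp S) (W : Set (Points X)) :
    Presheaf.IsSheaf (J S) (openSubfunctor X W).toFunctor := by
  rw [isSheaf_iff_isSheaf_of_type,
    Subfunctor.isSheaf_iff _ ((isSheaf_iff_isSheaf_of_type _ _).1 X.property)]
  intro T s hs
  rw [GrothendieckTopology.mem_over_iff,
    Precoverage.mem_toGrothendieck_iff_of_isStableUnderComposition] at hs
  obtain ⟨R, hR, hle⟩ := hs
  obtain ⟨T⟩ := T
  rw [mem_openSubfunctor_iff]
  intro t
  obtain ⟨Y, f, hf, y, hy⟩ := (Presieve.mem_comap_jointlySurjectivePrecoverage_iff _).1 hR.1 t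
  have h1 := hle _ _ hf
  rw [Sieve.overEquiv_iff] at h1
  let φ : Over.mk (f ≫ T.hom) ⟶ T := Over.homMk f
  have h2 : X.obj.map φ.op s ∈ (openSubfunctor X W).obj (op (Over.mk (f ≫ T.hom))) := h1
  rw [mem_openSubfunctor_iff] at h2
  have h3 := h2 y
  have := (J S).uliftYonedaEquiv_symm_map.{u+1} φ.op (F := X) s
  rw [show (yE.symm (X.obj.map φ.op s) : (yon S).obj (Over.mk (f ≫ T.hom)) ⟶ X) =
      (yon S).map φ ≫ yE.symm s from this, ofPt_map_comp] at h3
  have e : φ.left y = t := hy
  rwa [e] at h3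

/-- The open subspace (as a sheaf) attached to a subset of `|X|`. -/
noncomputable def openSp (X : Sp S) (W : Set (Points X)) : Sp S :=
  ⟨(openSubfunctor X W).toFunctor, openSubfunctor_isSheaf X W⟩

noncomputable def openSpι (X : Sp S) (W : Set (Points X)) : openSp X W ⟶ X :=
  ObjectProperty.homMk (openSubfunctor X W).ι

end Groth.Agent.H25.AS

namespace Groth.Agent.H25.AS

variable {S : Scheme.{u}}

theorem yE_symm_app {F : Sp S} {T Z : Over S} (m : (yon S).obj T ⟶ F) (z : Z ⟶ T) :
    yE.symm (m.hom.app (op Z) ⟨z⟩) = (yon S).map z ≫ m := by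
  apply yE.injective
  rw [Equiv.apply_symm_apply]
  have h1 := (J S).uliftYonedaEquiv_naturality.{u+1} m z
  have h2 := (J S).map_uliftYonedaEquiv.{u+1} m z
  exact h2.symm.trans h1

theorem exists_isPullback_openSp {X : Sp S} (W : Set (Points X)) {T : Over S}
    (g : (yon S).obj T ⟶ X) (V : T.left.Opens)
    (hV : ∀ t : ↥T.left, t ∈ V ↔ Points.ofPt g t ∈ W) :
    ∃ top : (yon S).obj (openOver T V) ⟶ openSp X W,
      IsPullback top ((yon S).map (openIncl T V)) (openSpι X W) g := by
  have hrange : Subfunctor.range ((yon S).map (openIncl T V) ≫ g).hom ≤ openSubfunctor X W := by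
    rintro ⟨Z⟩ _ ⟨⟨z⟩, rfl⟩
    rw [mem_openSubfunctor_iff]
    intro t
    rw [yE_symm_app, ofPt_map_comp, ofPt_map_comp, ← hV]
    exact ((z.left t : ↥(openOver T V).left) : ↥V).2
  refine ⟨ObjectProperty.homMk (Subfunctor.lift _ hrange), ?_⟩
  apply IsPullback.of_map_of_faithful (sheafToPresheaf (J S) (Type (u + 1)))
  apply IsPullback.of_forall_isPullback_app
  rintro ⟨Z⟩
  rw [Types.isPullback_iff]
  refine ⟨?_, ?_, ?_⟩
  · rfl
  · rintro ⟨a⟩ ⟨b⟩ ⟨-, h2⟩
    have h3 : a ≫ openIncl T V = b ≫ openIncl T V := congrArg ULift.down h2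
    have : Mono (openIncl T V) := by
      have : Mono (openIncl T V).left := show Mono V.ι from inferInstance
      exact Over.mono_of_mono_left _
    rw [cancel_mono] at h3
    rw [h3]
  · rintro x' ⟨φ⟩ h
    have hx' := x'.2
    change (x'.1 : X.obj.obj (op Z)) = g.hom.app (op Z) ⟨φ⟩ at h
    have hx2 : ∀ t : ↥Z.left, Points.ofPt (yE.symm (x'.1 : X.obj.obj (op Z))) t ∈ W := hx'
    rw [h, yE_symm_app] at hx2
    have hsub : Set.range φ.left ⊆ Set.range V.ι := by
      rintro _ ⟨t, rfl⟩
      have := hx2 t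
      rw [ofPt_map_comp, ← hV] at this
      rw [Scheme.Opens.range_ι]
      exact this
    let ψ : Z.left ⟶ V.toScheme := IsOpenImmersion.lift V.ι φ.left hsub
    have hψ : ψ ≫ V.ι = φ.left := IsOpenImmersion.lift_fac _ _ _
    let z : Z ⟶ openOver T V := Over.homMk ψ (by
      change ψ ≫ V.ι ≫ T.hom = Z.hom
      rw [← Category.assoc, hψ]; exact Over.w φ)
    have hz : z ≫ openIncl T V = φ := by
      ext; exact hψ
    refine ⟨⟨z⟩, ?_, ?_⟩
    · apply Subtype.ext
      change ((yon S).map (openIncl T V) ≫ g).hom.app (op Z) ⟨z⟩ = _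
      rw [h]
      change g.hom.app (op Z) ⟨z ≫ openIncl T V⟩ = _
      rw [hz]
    · change (⟨z ≫ openIncl T V⟩ : ULift _) = _
      rw [hz]

end Groth.Agent.H25.AS

namespace Groth.Agent.H25.AS

variable {S : Scheme.{u}}

theorem repWith_isOpenImmersion_openSpι {X : Sp S} {W : Set (Points X)} (hW : IsOpen W) :
    RepWith @IsOpenImmersion (openSpι X W) := by
  apply MorphismProperty.relative.of_exists
  intro T g
  let V : T.left.Opens := ⟨Points.ofPt g ⁻¹' W, hW.preimage (Points.continuous_ofPt g)⟩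
  obtain ⟨top, sq⟩ := exists_isPullback_openSp W g V (fun t => Iff.rfl)
  exact ⟨openOver T V, top, openIncl T V, sq, show IsOpenImmersion V.ι from inferInstance⟩

theorem isAlgSpace_openSp {X : Sp S} (hX : IsAlgSpace X) {W : Set (Points X)} (hW : IsOpen W) :
    IsAlgSpace (openSp X W) :=
  isAlgSpace_of_representable (openSpι X W) (repWith_isOpenImmersion_openSpι hW).rep hX

theorem range_map_openSpι {X : Sp S} {W : Set (Points X)} (hW : IsOpen W) :
    Set.range (Points.map (openSpι X W)) = W := by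
  apply Set.Subset.antisymm
  · rintro _ ⟨x', rfl⟩
    obtain ⟨T, g, t, rfl⟩ := exists_ofPt x'
    rw [Points.map_ofPt]
    have h1 : (yE (g ≫ openSpι X W) : X.obj.obj (op T)) ∈ (openSubfunctor X W).obj (op T) := by
      rw [(J S).uliftYonedaEquiv_comp]
      exact ((yE g : (openSp X W).obj.obj (op T))).2
    rw [mem_openSubfunctor_iff, Equiv.symm_apply_apply] at h1
    exact h1 t
  · intro x hx
    obtain ⟨T, g, t, rfl⟩ := exists_ofPt x
    let V : T.left.Opens := ⟨Points.ofPt g ⁻¹' W, hW.preimage (Points.continuous_ofPt g)⟩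
    obtain ⟨top, sq⟩ := exists_isPullback_openSp W g V (fun t => Iff.rfl)
    have ht : t ∈ V := hx
    refine ⟨Points.ofPt top (⟨t, ht⟩ : ↥V), ?_⟩
    rw [Points.map_ofPt, sq.w, ofPt_map_comp]
    rfl

end Groth.Agent.H25.AS
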