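import Groth.Agent.H25.AlgSp44
import Groth.Agent.H25.AlgSp38

/-!
# Algebraic spaces toolkit, part 45: the largest open over which a base-local property holds
-/

universe u

open CategoryTheory CategoryTheory.Limits AlgebraicGeometry Opposite AlgSp MorphismProperty
open TopologicalSpace

namespace Groth.Agent.H25.AS

variable {S : Scheme.{u}}

/-- A class of "covering" morphisms of algebraic spaces. -/
structure CovClass (Q : MorphismProperty (Sp S)) : Prop where
  ofOpen : ∀ {A B : Sp S}, IsAlgSpace A → IsAlgSpace B → ∀ j : A ⟶ B,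
    RepWith @IsOpenImmersion j → Q j
  isOpenMap : ∀ {A B : Sp S}, IsAlgSpace A → IsAlgSpace B → ∀ g : A ⟶ B, Q g →
    IsOpenMap (Points.map g)
  comp : ∀ {A B C : Sp S}, IsAlgSpace A → IsAlgSpace B → IsAlgSpace C →
    ∀ (f : A ⟶ B) (g : B ⟶ C), Q f → Q g → Q (f ≫ g)
  baseChange : ∀ {X Y Y' X' : Sp S}, IsAlgSpace X → IsAlgSpace Y → IsAlgSpace Y' →
    ∀ {f : X ⟶ Y} {g : Y' ⟶ Y} {fst : X' ⟶ X} {f' : X' ⟶ Y'}, IsPullback fst f' f g → Q f → Q f'

/-- `f` has `P` over the open subset `V` of `|Y|`. -/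
def HasOver (P : MorphismProperty (Sp S)) {X Y : Space S} (f : X ⟶ Y)
    (V : Set (Points Y.obj)) : Prop :=
  ∀ (W₀ X₀ : Space S) (j₀ : W₀ ⟶ Y) (j₀' : X₀ ⟶ X) (f₀ : X₀ ⟶ W₀),
    RepWith @IsOpenImmersion j₀.hom → Set.range (Points.map j₀.hom) = V →
    IsPullback j₀'.hom f₀.hom f.hom j₀.hom → P f₀.hom

theorem injective_map_of_isOpenImmersion {F G : Sp S} (j : F ⟶ G)
    (hj : RepWith @IsOpenImmersion j) : Function.Injective (Points.map j) :=
  injective_map_of_repWith j (repWith_mono (fun _ _ g hg => by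
    have : IsOpenImmersion g := hg
    exact (inferInstance : UniversallyInjective g)) hj)

theorem isPullback_of_mono_factor {C : Type*} [Category C] {A B D : C} (g : A ⟶ D) (j : B ⟶ D)
    [Mono j] (g₁ : A ⟶ B) (h : g₁ ≫ j = g) : IsPullback (𝟙 A) g₁ g j := by
  refine isPullback_of_lift (by rw [Category.id_comp, h]) (fun {W} a b hab => ⟨a, ?_, ?_⟩)
    (fun {W} l l' h1 _ => ?_)
  · rw [Category.comp_id]
  · rw [← cancel_mono j, Category.assoc, h, hab]
  · simpa using h1

theorem mono_of_isOpenImmersion {F G : Sp S} (j : F ⟶ G) (hj : RepWith @IsOpenImmersion j) :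
    Mono j :=
  mono_of_repWith @IsOpenImmersion
    (fun g hg => by have : IsOpenImmersion g := hg; exact (inferInstance : Mono g)) j hj

/-- Cancellation for open immersions of sheaves. -/
theorem repWith_isOpenImmersion_of_comp {A B D : Sp S} (k : A ⟶ B) (j : B ⟶ D)
    (hj : RepWith @IsOpenImmersion j) (hkj : RepWith @IsOpenImmersion (k ≫ j)) :
    RepWith @IsOpenImmersion k := by
  have := mono_of_isOpenImmersion j hj
  exact repWith_snd_of_isPullback (isPullback_of_mono_factor (k ≫ j) j k rfl) hkj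

end Groth.Agent.H25.AS

namespace Groth.Agent.H25.AS

variable {S : Scheme.{u}}

section Largest

variable {Q P : MorphismProperty (Sp S)}

/-- The union of all opens over which `f` has `P`. -/
noncomputable def largestOpen (P : MorphismProperty (Sp S)) {X Y : Space S} (f : X ⟶ Y) :
    Opens (Points Y.obj) :=
  sSup {V | HasOver P f (V : Set (Points Y.obj))}

theorem le_largestOpen {X Y : Space S} (f : X ⟶ Y) (V : Opens (Points Y.obj))
    (hV : HasOver P f (V : Set (Points Y.obj))) : V ≤ largestOpen P f :=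
  le_sSup hV

theorem hasOver_largestOpen (hQ : CovClass Q)
    (hP : IsLocalOnBase (fun _ _ Y g => IsCover Q Y g) P) {X Y : Space S} (f : X ⟶ Y) :
    HasOver P f (largestOpen P f : Set (Points Y.obj)) := by
  intro W₀ X₀ j₀ j₀' f₀ hj₀ hr sq
  obtain ⟨U, p, hpe, hps⟩ := W₀.property.atlas
  have hmem : ∀ u : ↥U.left, ∃ V : Opens (Points Y.obj),
      HasOver P f (V : Set (Points Y.obj)) ∧ Points.map j₀.hom (Points.ofPt p u) ∈ V := by
    intro u
    have h1 : Points.map j₀.hom (Points.ofPt p u) ∈ (largestOpen P f : Set (Points Y.obj)) := by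
      rw [← hr]; exact ⟨_, rfl⟩
    obtain ⟨V, hV, hu⟩ := Opens.mem_sSup.1 h1
    exact ⟨V, hV, hu⟩
  choose V hV hu using hmem
  let Yi : ↥U.left → Sp S := fun u => openSp Y.obj (V u : Set (Points Y.obj))
  have hYi : ∀ u, IsAlgSpace (Yi u) := fun u => isAlgSpace_openSp Y.property (V u).2
  let ιu : ∀ u, Yi u ⟶ Y.obj := fun u => openSpι Y.obj (V u : Set (Points Y.obj))
  have hιu : ∀ u, RepWith @IsOpenImmersion (ιu u) := fun u =>
    repWith_isOpenImmersion_openSpι (V u).2
  have hrange : ∀ u, Set.range (Points.map (ιu u)) = (V u : Set (Points Y.obj)) := fun u =>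
    range_map_openSpι (V u).2
  have hfac : ∀ u, ∃ k : Yi u ⟶ W₀.obj, k ≫ j₀.hom = ιu u := by
    intro u
    refine exists_factor_of_range_subset j₀.hom hj₀ (ιu u) ?_
    rw [hrange u, hr]
    exact le_largestOpen f (V u) (hV u)
  choose k hk using hfac
  have hkopen : ∀ u, RepWith @IsOpenImmersion (k u) := fun u =>
    repWith_isOpenImmersion_of_comp (k u) j₀.hom hj₀ (by rw [hk u]; exact hιu u)
  have hcov : IsCover Q Yi k := by
    refine ⟨fun u => hQ.ofOpen (hYi u) W₀.property (k u) (hkopen u), fun x => ?_⟩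
    obtain ⟨u, rfl⟩ := ofPt_surjective p hps x
    have h2 : Points.map j₀.hom (Points.ofPt p u) ∈ Set.range (Points.map (ιu u)) := by
      rw [hrange u]; exact hu u
    obtain ⟨y, hy⟩ := h2
    refine ⟨u, y, ?_⟩
    apply injective_map_of_isOpenImmersion j₀.hom hj₀
    rw [← Points.map_comp, hk u, hy]
  let Xi : ↥U.left → Sp S := fun u => pullback f₀.hom (k u)
  have hsq : ∀ u, IsPullback (pullback.fst f₀.hom (k u)) (pullback.snd f₀.hom (k u)) f₀.hom (k u) :=
    fun u => IsPullback.of_hasPullback _ _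
  have hXi : ∀ u, IsAlgSpace (Xi u) := fun u =>
    isAlgSpace_of_isPullback W₀.property.diag X₀.property (hYi u) (hsq u)
  refine (hP Yi k W₀.property hYi hcov f₀.hom X₀.property Xi
    (fun u => pullback.snd f₀.hom (k u)) (fun u => pullback.fst f₀.hom (k u)) hXi hsq).2 fun u => ?_
  have big := (hsq u).paste_horiz sq
  rw [hk u] at big
  exact hV u ⟨Yi u, hYi u⟩ ⟨Xi u, hXi u⟩ (ObjectProperty.homMk (ιu u))
    (ObjectProperty.homMk (pullback.fst f₀.hom (k u) ≫ j₀'.hom))
    (ObjectProperty.homMk (pullback.snd f₀.hom (k u))) (hιu u) (hrange u) big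

end Largest

end Groth.Agent.H25.AS

namespace Groth.Agent.H25.AS

variable {S : Scheme.{u}}

section Largest2

variable {Q P : MorphismProperty (Sp S)}

/-- A single surjective covering morphism, as a family. -/
theorem isCover_single {A B : Sp S} (g : A ⟶ B) (hg : Q g)
    (hs : Function.Surjective (Points.map g)) :
    IsCover Q (fun _ : PUnit.{u + 1} => A) (fun _ => g) :=
  ⟨fun _ => hg, fun x => ⟨PUnit.unit, hs x⟩⟩

theorem range_subset_largestOpen (hQ : CovClass Q)
    (hP : IsLocalOnBase (fun _ _ Y g => IsCover Q Y g) P) {X Y : Space S} (f : X ⟶ Y)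
    (Y' X' : Space S) (g : Y' ⟶ Y) (g' : X' ⟶ X) (f' : X' ⟶ Y') (hg : Q g.hom)
    (sq : IsPullback g'.hom f'.hom f.hom g.hom) (hf' : P f'.hom) :
    Set.range (Points.map g.hom) ⊆ (largestOpen P f : Set (Points Y.obj)) := by
  let V : Opens (Points Y.obj) := ⟨Set.range (Points.map g.hom),
    (hQ.isOpenMap Y'.property Y.property g.hom hg).isOpen_range⟩
  refine le_largestOpen f V ?_
  intro W₁ X₁ j₁ j₁' f₁ hj₁ hr sq₁
  have hr' : Set.range (Points.map j₁.hom) = Set.range (Points.map g.hom) := hr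
  obtain ⟨g₁, hg₁⟩ := exists_factor_of_range_subset j₁.hom hj₁ g.hom (by rw [hr'])
  have := mono_of_isOpenImmersion j₁.hom hj₁
  have hQg₁ : Q g₁ := hQ.baseChange Y'.property Y.property W₁.property
    (isPullback_of_mono_factor g.hom j₁.hom g₁ hg₁) hg
  have big : IsPullback g'.hom f'.hom f.hom (g₁ ≫ j₁.hom) := by rw [hg₁]; exact sq
  have sqL := IsPullback.of_right' big sq₁
  have hsurj : Function.Surjective (Points.map g₁) := by
    intro x
    have h1 : Points.map j₁.hom x ∈ Set.range (Points.map g.hom) := by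
      rw [← hr']; exact ⟨x, rfl⟩
    obtain ⟨y, hy⟩ := h1
    refine ⟨y, injective_map_of_isOpenImmersion j₁.hom hj₁ ?_⟩
    rw [← Points.map_comp, hg₁, hy]
  exact (hP _ _ W₁.property (fun _ => Y'.property) (isCover_single g₁ hQg₁ hsurj) f₁.hom
    X₁.property (fun _ => X'.obj) (fun _ => f'.hom) (fun _ => _) (fun _ => X'.property)
    (fun _ => sqL)).2 fun _ => hf'

end Largest2

end Groth.Agent.H25.AS

namespace Groth.Agent.H25.AS

variable {S : Scheme.{u}}

section Largest3

variable {Q P : MorphismProperty (Sp S)}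

theorem isCover_two {A B : Sp S} (g : A ⟶ B) (hg : Q g) (hid : Q (𝟙 B)) :
    IsCover Q (twoObj B A) (twoHom (𝟙 B) g) := by
  refine ⟨fun o => ?_, fun y => ⟨none, y, Points.map_id y⟩⟩
  cases o
  · exact hid
  · exact hg

/-- Base change along a member of the covering class keeps a base-local property. -/
theorem prop_of_isPullback_of_local (hQ : CovClass Q)
    (hP : IsLocalOnBase (fun _ _ Y g => IsCover Q Y g) P) {X Y Y' X' : Sp S}
    (hX : IsAlgSpace X) (hY : IsAlgSpace Y) (hY' : IsAlgSpace Y') (hX' : IsAlgSpace X')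
    {f : X ⟶ Y} {g : Y' ⟶ Y} {fst : X' ⟶ X} {f' : X' ⟶ Y'} (sq : IsPullback fst f' f g)
    (hg : Q g) (hf : P f) : P f' := by
  have hid : Q (𝟙 Y) := hQ.ofOpen hY hY (𝟙 Y) ((RepWith (S := S) @IsOpenImmersion).id_mem Y)
  have key := (hP (twoObj Y Y') (twoHom (𝟙 Y) g) hY (isAlgSpace_twoObj hY hY')
    (isCover_two g hg hid) f hX (twoObj X X')
    (fun o => match o with
      | none => f
      | some _ => f')
    (twoHom (𝟙 X) fst) (isAlgSpace_twoObj hX hX')
    (fun o => match o with
      | none => isPullback_id_left f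
      | some _ => sq)).1 hf
  exact key (some PUnit.unit)

theorem largestOpen_preimage (hQ : CovClass Q)
    (hP : IsLocalOnBase (fun _ _ Y g => IsCover Q Y g) P) {X Y : Space S} (f : X ⟶ Y)
    (Y' X' : Space S) (g : Y' ⟶ Y) (g' : X' ⟶ X) (f' : X' ⟶ Y') (hg : Q g.hom)
    (sq : IsPullback g'.hom f'.hom f.hom g.hom) (W' : Opens (Points Y'.obj))
    (hW' : HasOver P f' (W' : Set (Points Y'.obj)))
    (hmax : ∀ V' : Opens (Points Y'.obj), HasOver P f' (V' : Set (Points Y'.obj)) → V' ≤ W') :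
    (W' : Set (Points Y'.obj)) =
      Points.map g.hom ⁻¹' (largestOpen P f : Set (Points Y.obj)) := by
  apply Set.Subset.antisymm
  · -- `W' ⊆ g⁻¹ W`
    let W₂ : Sp S := openSp Y'.obj (W' : Set (Points Y'.obj))
    have hW₂ : IsAlgSpace W₂ := isAlgSpace_openSp Y'.property W'.2
    let ι₂ : W₂ ⟶ Y'.obj := openSpι Y'.obj (W' : Set (Points Y'.obj))
    have hι₂ : RepWith @IsOpenImmersion ι₂ := repWith_isOpenImmersion_openSpι W'.2
    have hr₂ : Set.range (Points.map ι₂) = (W' : Set (Points Y'.obj)) := range_map_openSpι W'.2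
    have sq₂ := IsPullback.of_hasPullback f'.hom ι₂
    have hX₂ : IsAlgSpace (pullback f'.hom ι₂) :=
      isAlgSpace_of_isPullback Y'.property.diag X'.property hW₂ sq₂
    have hP₂ : P (pullback.snd f'.hom ι₂) :=
      hW' ⟨W₂, hW₂⟩ ⟨_, hX₂⟩ (ObjectProperty.homMk ι₂)
        (ObjectProperty.homMk (pullback.fst f'.hom ι₂))
        (ObjectProperty.homMk (pullback.snd f'.hom ι₂)) hι₂ hr₂ sq₂
    have hsub := range_subset_largestOpen hQ hP f ⟨W₂, hW₂⟩ ⟨_, hX₂⟩
      (ObjectProperty.homMk (ι₂ ≫ g.hom))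
      (ObjectProperty.homMk (pullback.fst f'.hom ι₂ ≫ g'.hom))
      (ObjectProperty.homMk (pullback.snd f'.hom ι₂))
      (hQ.comp hW₂ Y'.property Y.property ι₂ g.hom
        (hQ.ofOpen hW₂ Y'.property ι₂ hι₂) hg)
      (sq₂.paste_horiz sq) hP₂
    intro y' hy'
    rw [← hr₂] at hy'
    obtain ⟨w, rfl⟩ := hy'
    apply hsub
    exact ⟨w, Points.map_comp _ _ w⟩
  · -- `g⁻¹ W ⊆ W'`
    let V' : Opens (Points Y'.obj) :=
      ⟨Points.map g.hom ⁻¹' (largestOpen P f : Set (Points Y.obj)),
        (largestOpen P f).2.preimage (Points.continuous_map g.hom)⟩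
    refine hmax V' ?_
    intro W₃ X₃ j₃ j₃' f₃ hj₃ hr₃ sq₃
    have hr₃' : Set.range (Points.map j₃.hom) =
      Points.map g.hom ⁻¹' (largestOpen P f : Set (Points Y.obj)) := hr₃
    let W₀ : Sp S := openSp Y.obj (largestOpen P f : Set (Points Y.obj))
    have hW₀ : IsAlgSpace W₀ := isAlgSpace_openSp Y.property (largestOpen P f).2
    let ι₀ : W₀ ⟶ Y.obj := openSpι Y.obj (largestOpen P f : Set (Points Y.obj))
    have hι₀ : RepWith @IsOpenImmersion ι₀ := repWith_isOpenImmersion_openSpι (largestOpen P f).2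
    have hr₀ : Set.range (Points.map ι₀) = (largestOpen P f : Set (Points Y.obj)) :=
      range_map_openSpι (largestOpen P f).2
    have sq₀ := IsPullback.of_hasPullback f.hom ι₀
    have hX₀ : IsAlgSpace (pullback f.hom ι₀) :=
      isAlgSpace_of_isPullback Y.property.diag X.property hW₀ sq₀
    have hP₀ : P (pullback.snd f.hom ι₀) :=
      hasOver_largestOpen hQ hP f ⟨W₀, hW₀⟩ ⟨_, hX₀⟩ (ObjectProperty.homMk ι₀)
        (ObjectProperty.homMk (pullback.fst f.hom ι₀))
        (ObjectProperty.homMk (pullback.snd f.hom ι₀)) hι₀ hr₀ sq₀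
    obtain ⟨g₀, hg₀⟩ := exists_factor_of_range_subset ι₀ hι₀ (j₃.hom ≫ g.hom) (by
      rw [hr₀]
      rintro _ ⟨w, rfl⟩
      rw [Points.map_comp]
      have : Points.map j₃.hom w ∈ Set.range (Points.map j₃.hom) := ⟨w, rfl⟩
      rw [hr₃'] at this
      exact this)
    have := mono_of_isOpenImmersion ι₀ hι₀
    have hQ₃ : Q (j₃.hom ≫ g.hom) := hQ.comp W₃.property Y'.property Y.property j₃.hom g.hom
      (hQ.ofOpen W₃.property Y'.property j₃.hom hj₃) hg
    have hQg₀ : Q g₀ := hQ.baseChange W₃.property Y.property hW₀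
      (isPullback_of_mono_factor (j₃.hom ≫ g.hom) ι₀ g₀ hg₀) hQ₃
    have big : IsPullback (j₃'.hom ≫ g'.hom) f₃.hom f.hom (g₀ ≫ ι₀) := by
      rw [hg₀]; exact sq₃.paste_horiz sq
    have sqL := IsPullback.of_right' big sq₀
    exact prop_of_isPullback_of_local hQ hP hX₀ hW₀ W₃.property X₃.property sqL hQg₀ hP₀

end Largest3

end Groth.Agent.H25.AS

namespace Groth.Agent.H25.AS

variable {S : Scheme.{u}}

theorem locP_of_le {P P' : MorphismProperty Scheme.{u}} (h : P ≤ P') {F G : Sp S} {f : F ⟶ G}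
    (hf : LocP P f) : LocP P' f :=
  fun _ _ a b k ha hb w => h _ (hf a b k ha hb w)

theorem locP_of_isOpenImmersion {P : MorphismProperty Scheme.{u}} [P.IsStableUnderComposition]
    (hP : ∀ {A B : Scheme.{u}} (g : A ⟶ B), Etale g → P g) {F G : Sp S} {j : F ⟶ G}
    (hj : RepWith @IsOpenImmersion j) : LocP P j :=
  locP_of_repWith hP (repWith_mono (fun _ _ g hg => by
    have : IsOpenImmersion g := hg
    exact hP g inferInstance) hj)

theorem covClass_fppf : CovClass (S := S)
    (fun _ _ f => LocP @Flat f ∧ LocP @LocallyOfFinitePresentation f) where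
  ofOpen _ _ j hj := ⟨locP_of_isOpenImmersion (P := @Flat)
      (fun g hg => by have : Etale g := hg; exact (inferInstance : Flat g)) hj,
    locP_of_isOpenImmersion (P := @LocallyOfFinitePresentation)
      (fun g hg => by
        have : Etale g := hg
        exact (inferInstance : LocallyOfFinitePresentation g)) hj⟩
  isOpenMap hA hB g hg := of_univSp hB g (isUnivOpenMor_of_fppf hA hB g hg.1 hg.2)
  comp hA hB hC f g hf hg := ⟨locP_comp etLoc_flat hA hB hC f g hf.1 hg.1,
    locP_comp etLoc_locallyOfFinitePresentation hA hB hC f g hf.2 hg.2⟩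
  baseChange hX hY hY' _ _ _ _ sq hf := ⟨locP_of_isPullback etLoc_flat hX hY hY' sq hf.1,
    locP_of_isPullback etLoc_locallyOfFinitePresentation hX hY hY' sq hf.2⟩

theorem covClass_smooth : CovClass (S := S) (LocP @Smooth) where
  ofOpen _ _ j hj := locP_of_isOpenImmersion (P := @Smooth)
    (fun g hg => by have : Etale g := hg; exact (inferInstance : Smooth g)) hj
  isOpenMap hA hB g hg := of_univSp hB g (isUnivOpenMor_of_fppf hA hB g
    (locP_of_le (fun _ _ k hk => by have : Smooth k := hk; exact (inferInstance : Flat k)) hg)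
    (locP_of_le (fun _ _ k hk => by
      have : Smooth k := hk
      exact (inferInstance : LocallyOfFinitePresentation k)) hg))
  comp hA hB hC f g hf hg := locP_comp etLoc_smooth hA hB hC f g hf hg
  baseChange hX hY hY' _ _ _ _ sq hf := locP_of_isPullback etLoc_smooth hX hY hY' sq hf

theorem covClass_etale : CovClass (S := S) IsEtaleMor where
  ofOpen _ hB j hj := (isEtaleMor_iff_locP hB j).2
    (locP_of_isOpenImmersion (P := @Etale) (fun g hg => hg) hj)
  isOpenMap hA hB g hg := of_univSp hB g (isUnivOpenMor_of_fppf hA hB g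
    (locP_of_le (fun _ _ k hk => by have : Etale k := hk; exact (inferInstance : Flat k))
      ((isEtaleMor_iff_locP hB g).1 hg))
    (locP_of_le (fun _ _ k hk => by
      have : Etale k := hk
      exact (inferInstance : LocallyOfFinitePresentation k)) ((isEtaleMor_iff_locP hB g).1 hg)))
  comp hA hB hC f g hf hg := (isEtaleMor_iff_locP hC (f ≫ g)).2
    (locP_comp etLoc_etale hA hB hC f g ((isEtaleMor_iff_locP hB f).1 hf)
      ((isEtaleMor_iff_locP hC g).1 hg))
  baseChange hX hY hY' _ _ _ _ sq hf := (isEtaleMor_iff_locP hY' _).2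
    (locP_of_isPullback etLoc_etale hX hY hY' sq ((isEtaleMor_iff_locP hY _).1 hf))

end Groth.Agent.H25.AS
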