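import Groth.Agent.H25.AlgSp47
import Groth.Prelude.Def_AlgSpInf

/-!
# Algebraic spaces toolkit, part 48: open subspaces and thickenings
-/

universe u

open CategoryTheory CategoryTheory.Limits AlgebraicGeometry Opposite AlgSp MorphismProperty
open TopologicalSpace

namespace Groth.Agent.H25.AS

variable {S : Scheme.{u}}

/-- Two open subspaces with the same image are isomorphic. -/
theorem exists_iso_of_range_eq {A B X : Sp S} (a : A ⟶ X) (b : B ⟶ X)
    (ha : RepWith @IsOpenImmersion a) (hb : RepWith @IsOpenImmersion b)
    (h : Set.range (Points.map a) = Set.range (Points.map b)) : ∃ e : A ≅ B, e.hom ≫ b = a := by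
  have := mono_of_isOpenImmersion a ha
  have := mono_of_isOpenImmersion b hb
  obtain ⟨k, hk⟩ := exists_factor_of_range_subset b hb a (by rw [h])
  obtain ⟨l, hl⟩ := exists_factor_of_range_subset a ha b (by rw [h])
  refine ⟨⟨k, l, ?_, ?_⟩, hk⟩
  · rw [← cancel_mono a, Category.assoc, hl, hk, Category.id_comp]
  · rw [← cancel_mono b, Category.assoc, hk, hl, Category.id_comp]

theorem isOpen_range_of_isOpenImmersion {A X : Sp S} (hA : IsAlgSpace A) (hX : IsAlgSpace X)
    (a : A ⟶ X) (ha : RepWith @IsOpenImmersion a) : IsOpen (Set.range (Points.map a)) :=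
  (covClass_etale.isOpenMap hA hX a (covClass_etale.ofOpen hA hX a ha)).isOpen_range

/-- The range of the base change of a morphism on points. -/
theorem range_fst_of_isPullback {F G H P : Sp S} {f : F ⟶ G} {g : H ⟶ G} {fst : P ⟶ F}
    {snd : P ⟶ H} (sq : IsPullback fst snd f g) :
    Set.range (Points.map fst) = Points.map f ⁻¹' Set.range (Points.map g) := by
  ext x
  constructor
  · rintro ⟨p, rfl⟩
    exact ⟨Points.map snd p, by rw [← Points.map_comp, ← sq.w, Points.map_comp]⟩
  · rintro ⟨y, hy⟩
    obtain ⟨p, hp, -⟩ := exists_of_isPullback sq x y hy.symm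
    exact ⟨p, hp⟩

/-- A pullback square from an open immersion with the right image. -/
theorem isPullback_of_open_of_range {A X X' B : Sp S} (a : A ⟶ X) (i : X ⟶ X') (b : B ⟶ X')
    (k : A ⟶ B) (ha : RepWith @IsOpenImmersion a) (hb : RepWith @IsOpenImmersion b)
    (w : a ≫ i = k ≫ b)
    (h : Points.map i ⁻¹' Set.range (Points.map b) ⊆ Set.range (Points.map a)) :
    IsPullback a k i b := by
  have := mono_of_isOpenImmersion a ha
  have := mono_of_isOpenImmersion b hb
  refine isPullback_of_lift w (fun {T} x y hxy => ?_) (fun {T} l l' h1 _ => ?_)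
  · obtain ⟨l, hl⟩ := exists_factor_of_range_subset a ha x (by
      rintro _ ⟨t, rfl⟩
      apply h
      exact ⟨Points.map y t, by rw [← Points.map_comp, ← hxy, Points.map_comp]⟩)
    refine ⟨l, hl, ?_⟩
    rw [← cancel_mono b, Category.assoc, ← w, ← Category.assoc, hl, hxy]
  · rwa [cancel_mono] at h1

end Groth.Agent.H25.AS

namespace Groth.Agent.H25.AS

variable {S : Scheme.{u}}

theorem thick_injective {X X' : Sp S} (i : X ⟶ X') (hi : IsThickMor i) :
    Function.Injective (Points.map i) :=
  injective_map_of_repWith i (repWith_mono (fun _ _ g hg => by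
    have : IsClosedImmersion g := hg.1
    exact (inferInstance : UniversallyInjective g)) hi)

theorem thick_surjective {X X' : Sp S} (i : X ⟶ X') (hi : IsThickMor i) :
    Function.Surjective (Points.map i) :=
  isSurjectiveMor_of_repWith i (repWith_mono (fun _ _ _ hg => hg.2) hi)

theorem thick_isClosedMap {X X' : Sp S} (i : X ⟶ X') (hi : IsThickMor i) :
    IsClosedMap (Points.map i) :=
  isClosedMap_map_of_repWith i (repWith_mono (fun _ _ g hg => by
    have : IsClosedImmersion g := hg.1
    exact (inferInstance : UniversallyClosed g)) hi)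

theorem thick_isOpen_image {X X' : Sp S} (i : X ⟶ X') (hi : IsThickMor i) {W : Set (Points X)}
    (hW : IsOpen W) : IsOpen (Points.map i '' W) := by
  have hbij : Function.Bijective (Points.map i) := ⟨thick_injective i hi, thick_surjective i hi⟩
  have : Points.map i '' W = (Points.map i '' Wᶜ)ᶜ := by
    rw [Set.image_compl_eq hbij, compl_compl]
  rw [this]
  exact (thick_isClosedMap i hi _ hW.isClosed_compl).isOpen_compl

end Groth.Agent.H25.AS
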