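import Groth.Agent.H25.AlgSp48

/-!
# Algebraic spaces toolkit, part 49: morphisms of thickenings, topological invariance
-/

universe u

open CategoryTheory CategoryTheory.Limits AlgebraicGeometry Opposite AlgSp MorphismProperty
open TopologicalSpace

namespace Groth.Agent.H25.AS

variable {S : Scheme.{u}}

theorem thick_isHomeomorph {X X' : Sp S} (i : X ⟶ X') (hi : IsThickMor i) :
    IsHomeomorph (Points.map i) :=
  isHomeomorph_iff_continuous_isClosedMap_bijective.2
    ⟨Points.continuous_map i, thick_isClosedMap i hi, thick_injective i hi, thick_surjective i hi⟩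

theorem thick_mono {X X' : Sp S} (i : X ⟶ X') (hi : IsThickMor i) : Mono i :=
  mono_of_repWith thick (fun g hg => by
    have : IsClosedImmersion g := hg.1
    exact (inferInstance : Mono g)) i hi

theorem map_comp_fun {F G H : Sp S} (f : F ⟶ G) (g : G ⟶ H) :
    Points.map (f ≫ g) = Points.map g ∘ Points.map f :=
  funext fun x => Points.map_comp f g x

/-- Comparison of the base changes of `f` and `f'` in a morphism of thickenings. -/
theorem thick_comparison {X X' Y Y' Z P P' : Sp S} (i : X ⟶ X') (j : Y ⟶ Y') (f : X ⟶ Y)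
    (f' : X' ⟶ Y') (hi : IsThickMor i) [Mono j] (w : i ≫ f' = f ≫ j) (g : Z ⟶ Y)
    {fst : P ⟶ X} {snd : P ⟶ Z} (sq : IsPullback fst snd f g) {fst' : P' ⟶ X'} {snd' : P' ⟶ Z}
    (sq' : IsPullback fst' snd' f' (g ≫ j)) : ∃ t : P ⟶ P', IsThickMor t ∧ t ≫ snd' = snd := by
  have hc : (fst ≫ i) ≫ f' = snd ≫ g ≫ j := by
    rw [Category.assoc, w, ← Category.assoc, sq.w, Category.assoc]
  refine ⟨sq'.lift (fst ≫ i) snd hc, ?_, sq'.lift_snd _ _ _⟩
  have sqt : IsPullback fst (sq'.lift (fst ≫ i) snd hc) i fst' := by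
    refine isPullback_of_lift (sq'.lift_fst _ _ _).symm (fun {T} a b hab => ?_)
      (fun {T} l l' h1 h2 => ?_)
    · have h3 : a ≫ f = (b ≫ snd') ≫ g := by
        rw [← cancel_mono j, Category.assoc, ← w, ← Category.assoc, hab, Category.assoc, sq'.w,
          Category.assoc, Category.assoc]
      refine ⟨sq.lift a (b ≫ snd') h3, sq.lift_fst _ _ _, ?_⟩
      apply sq'.hom_ext
      · rw [Category.assoc, sq'.lift_fst, ← Category.assoc, sq.lift_fst, hab]
      · rw [Category.assoc, sq'.lift_snd, sq.lift_snd]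
    · apply sq.hom_ext h1
      have := congrArg (· ≫ snd') h2
      simpa only [Category.assoc, sq'.lift_snd] using this
  exact repWith_snd_of_isPullback sqt hi

end Groth.Agent.H25.AS

namespace Groth.Agent.H25.AS

variable {S : Scheme.{u}}

/-- A predicate on maps between spaces (of points) that is invariant under homeomorphisms. -/
structure HomeoInv (q : ∀ {A B : Type (u + 1)} [TopologicalSpace A] [TopologicalSpace B],
    (A → B) → Prop) : Prop where
  precomp : ∀ {A A' B : Type (u + 1)} [TopologicalSpace A] [TopologicalSpace A']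
    [TopologicalSpace B] (h : A → A') (s : A' → B), IsHomeomorph h → (q (s ∘ h) ↔ q s)
  postcomp : ∀ {A B B' : Type (u + 1)} [TopologicalSpace A] [TopologicalSpace B]
    [TopologicalSpace B'] (s : A → B) (h : B → B'), IsHomeomorph h → (q (h ∘ s) ↔ q s)

theorem homeoInv_isClosedMap : HomeoInv.{u} (fun {_ _} _ _ s => IsClosedMap s) where
  precomp h s hh := by
    obtain ⟨e, rfl⟩ := isHomeomorph_iff_exists_homeomorph.1 hh
    refine ⟨fun H => ?_, fun H => H.comp e.isClosedMap⟩
    have : s = (s ∘ e) ∘ e.symm := by ext x; simp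
    rw [this]
    exact H.comp e.symm.isClosedMap
  postcomp s h hh := by
    obtain ⟨e, rfl⟩ := isHomeomorph_iff_exists_homeomorph.1 hh
    refine ⟨fun H => ?_, fun H => e.isClosedMap.comp H⟩
    have : s = e.symm ∘ (e ∘ s) := by ext x; simp
    rw [this]
    exact e.symm.isClosedMap.comp H

theorem homeoInv_isOpenMap : HomeoInv.{u} (fun {_ _} _ _ s => IsOpenMap s) where
  precomp h s hh := by
    obtain ⟨e, rfl⟩ := isHomeomorph_iff_exists_homeomorph.1 hh
    refine ⟨fun H => ?_, fun H => H.comp e.isOpenMap⟩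
    have : s = (s ∘ e) ∘ e.symm := by ext x; simp
    rw [this]
    exact H.comp e.symm.isOpenMap
  postcomp s h hh := by
    obtain ⟨e, rfl⟩ := isHomeomorph_iff_exists_homeomorph.1 hh
    refine ⟨fun H => ?_, fun H => e.isOpenMap.comp H⟩
    have : s = e.symm ∘ (e ∘ s) := by ext x; simp
    rw [this]
    exact e.symm.isOpenMap.comp H

theorem homeoInv_injective : HomeoInv.{u} (fun {_ _} _ _ s => Function.Injective s) where
  precomp h s hh := by
    obtain ⟨e, rfl⟩ := isHomeomorph_iff_exists_homeomorph.1 hh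
    exact ⟨fun H => by
      have : s = (s ∘ e) ∘ e.symm := by ext x; simp
      rw [this]
      exact H.comp e.symm.injective, fun H => H.comp e.injective⟩
  postcomp s h hh := by
    obtain ⟨e, rfl⟩ := isHomeomorph_iff_exists_homeomorph.1 hh
    exact ⟨fun H => by
      have : s = e.symm ∘ (e ∘ s) := by ext x; simp
      rw [this]
      exact e.symm.injective.comp H, fun H => e.injective.comp H⟩

section Main

variable {q : ∀ {A B : Type (u + 1)} [TopologicalSpace A] [TopologicalSpace B], (A → B) → Prop}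

theorem univSp_of_thick (hq : HomeoInv.{u} @q) {X X' Y Y' : Sp S} (i : X ⟶ X') (j : Y ⟶ Y')
    (f : X ⟶ Y) (f' : X' ⟶ Y') (hi : IsThickMor i) (hj : IsThickMor j) (w : i ≫ f' = f ≫ j)
    (h : UnivSp (fun _ _ s => q (Points.map s)) f') :
    UnivSp (fun _ _ s => q (Points.map s)) f := by
  intro Z P hZ g fst snd sq
  have := thick_mono j hj
  have sq' := IsPullback.of_hasPullback f' (g ≫ j)
  obtain ⟨t, ht, hts⟩ := thick_comparison i j f f' hi w g sq sq'
  have h' : q (Points.map (pullback.snd f' (g ≫ j))) := h hZ (g ≫ j) _ _ sq'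
  change q (Points.map snd)
  rw [← hts, map_comp_fun]
  exact (hq.precomp _ _ (thick_isHomeomorph t ht)).2 h'

theorem univSp_to_thick (hq : HomeoInv.{u} @q) {X X' Y Y' : Sp S} (hY : IsAlgSpace Y)
    (hY' : IsAlgSpace Y') (i : X ⟶ X') (j : Y ⟶ Y')
    (f : X ⟶ Y) (f' : X' ⟶ Y') (hi : IsThickMor i) (hj : IsThickMor j) (w : i ≫ f' = f ≫ j)
    (h : UnivSp (fun _ _ s => q (Points.map s)) f) :
    UnivSp (fun _ _ s => q (Points.map s)) f' := by
  intro Z' P' hZ' g' fst' snd' sq'
  have := thick_mono j hj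
  have sqZ := IsPullback.of_hasPullback j g'
  have hZ : IsAlgSpace (pullback j g') := isAlgSpace_of_isPullback hY'.diag hY hZ' sqZ
  have htZ : IsThickMor (pullback.snd j g') := repWith_snd_of_isPullback sqZ hj
  have sqP := IsPullback.of_hasPullback f (pullback.fst j g')
  have hP : q (Points.map (pullback.snd f (pullback.fst j g'))) := h hZ _ _ _ sqP
  have sqA := IsPullback.of_hasPullback snd' (pullback.snd j g')
  have hA : IsThickMor (pullback.fst snd' (pullback.snd j g')) :=
    repWith_fst_of_isPullback sqA htZ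
  have sq'' : IsPullback (pullback.fst snd' (pullback.snd j g') ≫ fst')
      (pullback.snd snd' (pullback.snd j g')) f' (pullback.fst j g' ≫ j) := by
    have := sqA.paste_horiz sq'
    rwa [← pullback.condition] at this
  obtain ⟨t, ht, hts⟩ := thick_comparison i j f f' hi w (pullback.fst j g') sqP sq''
  have h1 : q (Points.map (pullback.snd snd' (pullback.snd j g'))) := by
    rw [← hts, map_comp_fun] at hP
    exact (hq.precomp _ _ (thick_isHomeomorph t ht)).1 hP
  have h2 : q (Points.map (pullback.snd j g') ∘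
      Points.map (pullback.snd snd' (pullback.snd j g'))) :=
    (hq.postcomp _ _ (thick_isHomeomorph _ htZ)).2 h1
  rw [← map_comp_fun, ← sqA.w, map_comp_fun] at h2
  exact (hq.precomp _ _ (thick_isHomeomorph _ hA)).1 h2

end Main

end Groth.Agent.H25.AS

namespace Groth.Agent.H25.AS

variable {S : Scheme.{u}}

theorem isQuasiCompactSp_iff_of_thick {P P' : Sp S} (hP : IsAlgSpace P) (hP' : IsAlgSpace P')
    (t : P ⟶ P') (ht : IsThickMor t) : IsQuasiCompactSp P ↔ IsQuasiCompactSp P' := by
  rw [isQuasiCompactSp_iff_compactSpace hP, isQuasiCompactSp_iff_compactSpace hP']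
  obtain ⟨e, -⟩ := isHomeomorph_iff_exists_homeomorph.1 (thick_isHomeomorph t ht)
  exact ⟨fun _ => e.compactSpace, fun _ => e.symm.compactSpace⟩

theorem isQuasiCompactMor_of_thick {X X' Y Y' : Sp S} (hX : IsAlgSpace X) (hX' : IsAlgSpace X')
    (hY : IsAlgSpace Y) (hY' : IsAlgSpace Y') (i : X ⟶ X') (j : Y ⟶ Y')
    (f : X ⟶ Y) (f' : X' ⟶ Y') (hi : IsThickMor i) (hj : IsThickMor j) (w : i ≫ f' = f ≫ j)
    (h : IsQuasiCompactMor f') : IsQuasiCompactMor f := by
  intro Z P hZ hZq g fst snd sq
  have := thick_mono j hj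
  have sq' := IsPullback.of_hasPullback f' (g ≫ j)
  obtain ⟨t, ht, -⟩ := thick_comparison i j f f' hi w g sq sq'
  have hP : IsAlgSpace P := isAlgSpace_of_isPullback hY.diag hX hZ sq
  have hP' : IsAlgSpace (pullback f' (g ≫ j)) := isAlgSpace_of_isPullback hY'.diag hX' hZ sq'
  exact (isQuasiCompactSp_iff_of_thick hP hP' t ht).2 (h hZ hZq (g ≫ j) _ _ sq')

theorem isQuasiCompactMor_to_thick {X X' Y Y' : Sp S} (hX : IsAlgSpace X) (hX' : IsAlgSpace X')
    (hY : IsAlgSpace Y) (hY' : IsAlgSpace Y') (i : X ⟶ X') (j : Y ⟶ Y')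
    (f : X ⟶ Y) (f' : X' ⟶ Y') (hi : IsThickMor i) (hj : IsThickMor j) (w : i ≫ f' = f ≫ j)
    (h : IsQuasiCompactMor f) : IsQuasiCompactMor f' := by
  intro Z' P' hZ' hZ'q g' fst' snd' sq'
  have := thick_mono j hj
  have sqZ := IsPullback.of_hasPullback j g'
  have hZ : IsAlgSpace (pullback j g') := isAlgSpace_of_isPullback hY'.diag hY hZ' sqZ
  have htZ : IsThickMor (pullback.snd j g') := repWith_snd_of_isPullback sqZ hj
  have hZq : IsQuasiCompactSp (pullback j g') :=
    (isQuasiCompactSp_iff_of_thick hZ hZ' _ htZ).2 hZ'q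
  have sqP := IsPullback.of_hasPullback f (pullback.fst j g')
  have hPq : IsQuasiCompactSp (pullback f (pullback.fst j g')) := h hZ hZq _ _ _ sqP
  have hPa : IsAlgSpace (pullback f (pullback.fst j g')) :=
    isAlgSpace_of_isPullback hY.diag hX hZ sqP
  have sqA := IsPullback.of_hasPullback snd' (pullback.snd j g')
  have hA : IsThickMor (pullback.fst snd' (pullback.snd j g')) :=
    repWith_fst_of_isPullback sqA htZ
  have hP'a : IsAlgSpace P' := isAlgSpace_of_isPullback hY'.diag hX' hZ' sq'
  have hAa : IsAlgSpace (pullback snd' (pullback.snd j g')) :=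
    isAlgSpace_of_isPullback hZ'.diag hP'a hZ sqA
  have sq'' : IsPullback (pullback.fst snd' (pullback.snd j g') ≫ fst')
      (pullback.snd snd' (pullback.snd j g')) f' (pullback.fst j g' ≫ j) := by
    have := sqA.paste_horiz sq'
    rwa [← pullback.condition] at this
  obtain ⟨t, ht, -⟩ := thick_comparison i j f f' hi w (pullback.fst j g') sqP sq''
  have h1 : IsQuasiCompactSp (pullback snd' (pullback.snd j g')) :=
    (isQuasiCompactSp_iff_of_thick hPa hAa t ht).1 hPq
  exact (isQuasiCompactSp_iff_of_thick hAa hP'a _ hA).1 h1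

theorem isSurjectiveMor_iff_of_thick {X X' Y Y' : Sp S} (i : X ⟶ X') (j : Y ⟶ Y')
    (f : X ⟶ Y) (f' : X' ⟶ Y') (hi : IsThickMor i) (hj : IsThickMor j) (w : i ≫ f' = f ≫ j) :
    IsSurjectiveMor f ↔ IsSurjectiveMor f' := by
  have hw : ∀ x, Points.map f' (Points.map i x) = Points.map j (Points.map f x) := fun x => by
    rw [← Points.map_comp, ← Points.map_comp, w]
  constructor
  · intro h y'
    obtain ⟨y, rfl⟩ := thick_surjective j hj y'
    obtain ⟨x, rfl⟩ := h y
    exact ⟨Points.map i x, hw x⟩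
  · intro h y
    obtain ⟨x', hx'⟩ := h (Points.map j y)
    obtain ⟨x, rfl⟩ := thick_surjective i hi x'
    exact ⟨x, thick_injective j hj ((hw x).symm.trans hx')⟩

end Groth.Agent.H25.AS
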