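import Groth.Agent.H25.AlgSp4

/-!
# Algebraic spaces toolkit, part 5: diagonals, representable morphisms into algebraic spaces
-/

universe u v w

open CategoryTheory CategoryTheory.Limits AlgebraicGeometry Opposite AlgSp

namespace Groth.Agent.H25.AS

section Cat

variable {C : Type v} [Category.{w} C]

/-- Build a pullback square from the universal property in existence/uniqueness form. -/
theorem isPullback_of_lift {P X Y Z : C} {fst : P ⟶ X} {snd : P ⟶ Y} {f : X ⟶ Z} {g : Y ⟶ Z}
    (w : fst ≫ f = snd ≫ g)
    (lift : ∀ {W : C} (u : W ⟶ X) (v : W ⟶ Y), u ≫ f = v ≫ g →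
      ∃ l : W ⟶ P, l ≫ fst = u ∧ l ≫ snd = v)
    (ext : ∀ {W : C} (l l' : W ⟶ P), l ≫ fst = l' ≫ fst → l ≫ snd = l' ≫ snd → l = l') :
    IsPullback fst snd f g :=
  IsPullback.of_isLimit (PullbackCone.IsLimit.mk w
    (fun s => (lift s.fst s.snd s.condition).choose)
    (fun s => (lift s.fst s.snd s.condition).choose_spec.1)
    (fun s => (lift s.fst s.snd s.condition).choose_spec.2)
    (fun s _ h1 h2 => ext _ _ (h1.trans (lift s.fst s.snd s.condition).choose_spec.1.symm)
      (h2.trans (lift s.fst s.snd s.condition).choose_spec.2.symm)))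

/-- The base change of the diagonal of `f` along a pair `(a, b)` is the "equalizer" of the two
sections of the base change of `f` determined by `a` and `b`, computed as their fibre product. -/
theorem isPullback_diagonal_of_sections [HasPullbacks C] {X Y T P E : C} {f : X ⟶ Y}
    {a b : T ⟶ X} (h : a ≫ f = b ≫ f) {p : P ⟶ X} {q : P ⟶ T} (hP : IsPullback p q f (a ≫ f))
    {sa sb : T ⟶ P} (ha1 : sa ≫ p = a) (ha2 : sa ≫ q = 𝟙 T) (hb1 : sb ≫ p = b)
    (hb2 : sb ≫ q = 𝟙 T) {π₁ π₂ : E ⟶ T} (hE : IsPullback π₁ π₂ sa sb) :
    IsPullback (π₁ ≫ a) π₁ (pullback.diagonal f) (pullback.lift a b h) := by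
  have hπ : π₁ = π₂ := by
    have := congrArg (· ≫ q) hE.w
    simpa only [Category.assoc, ha2, hb2, Category.comp_id] using this
  have hab : π₁ ≫ a = π₁ ≫ b := by
    rw [← ha1, ← hb1, ← Category.assoc, hE.w, hπ, Category.assoc]
  refine isPullback_of_lift ?_ ?_ ?_
  · apply pullback.hom_ext
    · rw [Category.assoc, Category.assoc, pullback.diagonal_fst, Category.assoc,
        pullback.lift_fst, Category.comp_id]
    · rw [Category.assoc, Category.assoc, pullback.diagonal_snd, Category.assoc,
        pullback.lift_snd, Category.comp_id, hab]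
  · intro W u v huv
    have h1 : u = v ≫ a := by
      have := congrArg (· ≫ pullback.fst f f) huv
      simp only [Category.assoc, pullback.diagonal_fst, pullback.lift_fst,
        Category.comp_id] at this
      exact this
    have h2 : u = v ≫ b := by
      have := congrArg (· ≫ pullback.snd f f) huv
      simp only [Category.assoc, pullback.diagonal_snd, pullback.lift_snd,
        Category.comp_id] at this
      exact this
    have hvs : v ≫ sa = v ≫ sb := by
      apply hP.hom_ext
      · rw [Category.assoc, Category.assoc, ha1, hb1, ← h1, ← h2]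
      · rw [Category.assoc, Category.assoc, ha2, hb2]
    refine ⟨hE.lift v v hvs, ?_, hE.lift_fst _ _ _⟩
    rw [← Category.assoc, hE.lift_fst, ← h1]
  · intro W l l' _ h2
    apply hE.hom_ext h2
    rw [← hπ]
    exact h2

end Cat

variable {S : Scheme.{u}}

/-- The relative diagonal of a representable morphism of sheaves is representable. -/
theorem representable_diagonal {F G : Sp S} (f : F ⟶ G) (hf : Representable f) :
    Representable (pullback.diagonal f) := by
  intro T c
  let a := c ≫ pullback.fst f f
  let b := c ≫ pullback.snd f f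
  have h : a ≫ f = b ≫ f := by
    simp only [a, b, Category.assoc, pullback.condition]
  have hc : c = pullback.lift a b h := by
    apply pullback.hom_ext
    · rw [pullback.lift_fst]
    · rw [pullback.lift_snd]
  -- base change of `f` along `a ≫ f`
  have hP := hf.isPullback (a ≫ f)
  let sa : T ⟶ hf.pullback (a ≫ f) := hf.lift a (𝟙 T) (by simp)
  let sb : T ⟶ hf.pullback (a ≫ f) := hf.lift b (𝟙 T) (by simp [h])
  have ha1 : (yon S).map sa ≫ hf.fst (a ≫ f) = a := hf.lift_fst _ _ _
  have ha2 : sa ≫ hf.snd (a ≫ f) = 𝟙 T := hf.lift_snd _ _ _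
  have hb1 : (yon S).map sb ≫ hf.fst (a ≫ f) = b := hf.lift_fst _ _ _
  have hb2 : sb ≫ hf.snd (a ≫ f) = 𝟙 T := hf.lift_snd _ _ _
  have hE := (IsPullback.of_hasPullback sa sb).map (yon S)
  have key := isPullback_diagonal_of_sections h hP ha1
    (by rw [← (yon S).map_comp, ha2, (yon S).map_id]) hb1
    (by rw [← (yon S).map_comp, hb2, (yon S).map_id]) hE
  refine ⟨pullback sa sb, pullback.fst sa sb, (yon S).map (pullback.fst sa sb) ≫ a, ?_⟩
  rw [hc]
  exact key

/-- A sheaf with a representable morphism to a representable sheaf is representable. -/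
theorem exists_iso_yon_of_representable {P : Sp S} {Q : Over S} (m : P ⟶ (yon S).obj Q)
    (hm : Representable m) : ∃ (Q' : Over S) (e : (yon S).obj Q' ≅ P) (r : Q' ⟶ Q),
      e.hom ≫ m = (yon S).map r := by
  have sq := hm.isPullback (𝟙 ((yon S).obj Q))
  have : IsIso (hm.fst (𝟙 ((yon S).obj Q))) := sq.isIso_fst_of_isIso
  refine ⟨hm.pullback (𝟙 _), asIso (hm.fst (𝟙 _)), hm.snd (𝟙 _), ?_⟩
  simpa using sq.w

/-- If `g` and `c ≫ g` are representable, then so is `c` (for `c` with representable source). -/
theorem representable_of_comp {G' X : Sp S} {T : Over S} (c : (yon S).obj T ⟶ G') (g : G' ⟶ X)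
    (hg : Representable g) (hcg : Representable (c ≫ g)) : Representable c := by
  intro W d
  have hμ : Representable (pullback.map c d (c ≫ g) (d ≫ g) (𝟙 _) (𝟙 _) g
      (Category.id_comp _).symm (Category.id_comp _).symm) :=
    MorphismProperty.of_isPullback (pullback_map_diagonal_isPullback c d g)
      (representable_diagonal g hg)
  -- the target of `μ` is representable
  have sq1 := hcg.isPullback (d ≫ g)
  let e1 : (yon S).obj (hcg.pullback (d ≫ g)) ≅ pullback (c ≫ g) (d ≫ g) := sq1.isoPullback
  have hμ' : Representable (pullback.map c d (c ≫ g) (d ≫ g) (𝟙 _) (𝟙 _) g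
      (Category.id_comp _).symm (Category.id_comp _).symm ≫ e1.inv) :=
    (Representable (S := S)).comp_mem _ _ hμ (Functor.relativelyRepresentable.of_isIso _ _)
  obtain ⟨Q', e, r, -⟩ := exists_iso_yon_of_representable _ hμ'
  obtain ⟨s, hs⟩ := (yon S).map_surjective (e.hom ≫ pullback.snd c d)
  refine ⟨Q', s, e.hom ≫ pullback.fst c d, ?_⟩
  rw [hs]
  exact IsPullback.of_iso_pullback ⟨by simp [pullback.condition]⟩ e rfl rfl

/-- The source of a representable morphism to an algebraic space is an algebraic space. -/
theorem isAlgSpace_of_representable {G' X : Sp S} (g : G' ⟶ X) (hg : Representable g)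
    (hX : IsAlgSpace X) : IsAlgSpace G' where
  diag := Functor.relativelyRepresentable.diag_of_map_from_obj
    (fun _ c => representable_of_comp c g hg (hX.representable_from_yon (c ≫ g)))
  atlas := by
    obtain ⟨U, p, hpe, hps⟩ := hX.atlas
    exact ⟨hg.pullback p, hg.fst p, MorphismProperty.of_isPullback (hg.isPullback p).flip hpe,
      MorphismProperty.of_isPullback (hg.isPullback p).flip hps⟩

end Groth.Agent.H25.AS
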