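import Groth.Agent.H25.AlgSp50
import Groth.Prelude.Def_AlgSpMor5
import Mathlib.AlgebraicGeometry.ValuativeCriterion

/-!
# Algebraic spaces toolkit, part 51: valuative criteria (uniqueness part)
-/

universe u

open CategoryTheory CategoryTheory.Limits AlgebraicGeometry Opposite AlgSp MorphismProperty
open TopologicalSpace

namespace Groth.Agent.H25.AS

variable {S : Scheme.{u}}

/-- A quasi-separated morphism satisfying the uniqueness part of the valuative criterion is
separated. -/
theorem isSeparatedMor_of_uniqVC {X Y : Sp S} (hX : IsAlgSpace X) (f : X ⟶ Y)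
    (hqs : IsQuasiSeparatedMor f) (hu : UniqVC f) : IsSeparatedMor f := by
  obtain ⟨hrep, hlft, hmono, -, -⟩ := repWith_diagonal_all hX f
  refine repWith_isClosedImmersion_of_univClosed _ ⟨hrep, fun T E g fst e sq => ?_⟩ hmono hlft
  have hqc : QuasiCompact e.left := hqs.property g fst e sq
  have hm : Mono e.left := hmono.property g fst e sq
  show UniversallyClosed e.left
  apply UniversallyClosed.of_valuativeCriterion
  intro Sq
  let str : Spec (.of Sq.R) ⟶ S := Sq.i₂ ≫ T.hom
  let ptA : Over S := Over.mk str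
  let ptK : Over S := Over.mk (Spec.map (CommRingCat.ofHom (algebraMap Sq.R Sq.K)) ≫ str)
  let i₂' : ptA ⟶ T := Over.homMk Sq.i₂ rfl
  have hE : E.hom = e.left ≫ T.hom := (Over.w e).symm
  let i₁' : ptK ⟶ E := Over.homMk Sq.i₁ (by
    change Sq.i₁ ≫ E.hom = Spec.map _ ≫ Sq.i₂ ≫ T.hom
    rw [hE, ← Category.assoc, Sq.commSq.w, Category.assoc])
  let jK : ptK ⟶ ptA := Over.homMk (Spec.map (CommRingCat.ofHom (algebraMap Sq.R Sq.K))) rfl
  have hcomm : i₁' ≫ e = jK ≫ i₂' := by
    ext
    exact Sq.commSq.w
  let a : (yon S).obj ptA ⟶ X := (yon S).map i₂' ≫ g ≫ pullback.fst f f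
  let b : (yon S).obj ptA ⟶ X := (yon S).map i₂' ≫ g ≫ pullback.snd f f
  have hfst1 : fst = (yon S).map e ≫ g ≫ pullback.fst f f := by
    rw [← Category.assoc, ← sq.w, Category.assoc, pullback.diagonal_fst, Category.comp_id]
  have hfst2 : fst = (yon S).map e ≫ g ≫ pullback.snd f f := by
    rw [← Category.assoc, ← sq.w, Category.assoc, pullback.diagonal_snd, Category.comp_id]
  have ha : (yon S).map jK ≫ a = (yon S).map i₁' ≫ fst := by
    calc (yon S).map jK ≫ a = (yon S).map (jK ≫ i₂') ≫ g ≫ pullback.fst f f := by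
          simp only [a, Functor.map_comp, Category.assoc]
      _ = (yon S).map (i₁' ≫ e) ≫ g ≫ pullback.fst f f := by rw [hcomm]
      _ = (yon S).map i₁' ≫ fst := by rw [Functor.map_comp, Category.assoc, ← hfst1]
  have hb : (yon S).map jK ≫ b = (yon S).map i₁' ≫ fst := by
    calc (yon S).map jK ≫ b = (yon S).map (jK ≫ i₂') ≫ g ≫ pullback.snd f f := by
          simp only [b, Functor.map_comp, Category.assoc]
      _ = (yon S).map (i₁' ≫ e) ≫ g ≫ pullback.snd f f := by rw [hcomm]
      _ = (yon S).map i₁' ≫ fst := by rw [Functor.map_comp, Category.assoc, ← hfst2]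
  have hab : b ≫ f = a ≫ f := by
    simp only [a, b, Category.assoc, pullback.condition]
  let vsq : ValSq f :=
    { A := Sq.R, K := Sq.K, str := str, top := (yon S).map i₁' ≫ fst, bot := a ≫ f,
      comm := by rw [← ha, Category.assoc] }
  have heq : a = b := hu vsq a b ha rfl hb hab
  have hg : a ≫ pullback.diagonal f = (yon S).map i₂' ≫ g := by
    apply pullback.hom_ext
    · rw [Category.assoc, pullback.diagonal_fst, Category.comp_id, Category.assoc]
    · rw [Category.assoc, pullback.diagonal_snd, Category.comp_id, Category.assoc]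
      exact heq
  obtain ⟨l₀, hl₀⟩ := (yon S).map_surjective (sq.lift a ((yon S).map i₂') hg)
  have hl₀e : l₀ ≫ e = i₂' := (yon S).map_injective (by rw [Functor.map_comp, hl₀, sq.lift_snd])
  have hright : l₀.left ≫ e.left = Sq.i₂ := congrArg (·.left) hl₀e
  refine ⟨⟨⟨l₀.left, ?_, hright⟩⟩⟩
  rw [← cancel_mono e.left, Category.assoc, hright, Sq.commSq.w]

end Groth.Agent.H25.AS

namespace Groth.Agent.H25.AS

variable {S : Scheme.{u}}

/-- A separated morphism satisfies the uniqueness part of the valuative criterion. -/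
theorem uniqVC_of_isSeparatedMor {X Y : Sp S} (f : X ⟶ Y) (hf : IsSeparatedMor f) :
    UniqVC f := by
  intro vsq l l' h1 h2 h3 h4
  let p : (yon S).obj vsq.ptA ⟶ pullback f f := pullback.lift l l' (h2.trans h4.symm)
  have sq := hf.rep.isPullback p
  have hci : IsClosedImmersion (hf.rep.snd p).left := hf.property_snd p
  have hk : vsq.top ≫ pullback.diagonal f = (yon S).map vsq.j ≫ p := by
    apply pullback.hom_ext
    · rw [Category.assoc, pullback.diagonal_fst, Category.comp_id, Category.assoc,
        pullback.lift_fst, h1]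
    · rw [Category.assoc, pullback.diagonal_snd, Category.comp_id, Category.assoc,
        pullback.lift_snd, h3]
  obtain ⟨k₀, hk₀⟩ := (yon S).map_surjective (sq.lift vsq.top ((yon S).map vsq.j) hk)
  have hk₀e : k₀ ≫ hf.rep.snd p = vsq.j :=
    (yon S).map_injective (by rw [Functor.map_comp, hk₀, sq.lift_snd])
  have hex : ValuativeCriterion.Existence (hf.rep.snd p).left := by
    have : (ValuativeCriterion.Existence ⊓ @QuasiCompact) (hf.rep.snd p).left := by
      rw [← UniversallyClosed.eq_valuativeCriterion]
      exact (inferInstance : UniversallyClosed (hf.rep.snd p).left)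
    exact this.1
  let Sq : ValuativeCommSq (hf.rep.snd p).left :=
    { R := vsq.A, K := vsq.K, i₁ := k₀.left, i₂ := 𝟙 _,
      commSq := ⟨by
        rw [Category.comp_id]
        exact congrArg (·.left) hk₀e⟩ }
  obtain ⟨⟨s, -, hs⟩⟩ := (hex Sq).exists_lift
  have hs' : s ≫ (hf.rep.snd p).left = 𝟙 _ := hs
  let s' : vsq.ptA ⟶ hf.rep.pullback p := Over.homMk s (by
    have := Over.w (hf.rep.snd p)
    rw [← this, ← Category.assoc, hs']
    exact Category.id_comp _)
  have hs'e : s' ≫ hf.rep.snd p = 𝟙 _ := by
    ext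
    exact hs'
  have key : ((yon S).map s' ≫ hf.rep.fst p) ≫ pullback.diagonal f = p := by
    rw [Category.assoc, sq.w, ← Category.assoc, ← Functor.map_comp, hs'e,
      CategoryTheory.Functor.map_id, Category.id_comp]
  have e1 : (yon S).map s' ≫ hf.rep.fst p = l := by
    have := congrArg (· ≫ pullback.fst f f) key
    simpa only [Category.assoc, pullback.diagonal_fst, Category.comp_id, p,
      pullback.lift_fst] using this
  have e2 : (yon S).map s' ≫ hf.rep.fst p = l' := by
    have := congrArg (· ≫ pullback.snd f f) key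
    simpa only [Category.assoc, pullback.diagonal_snd, Category.comp_id, p,
      pullback.lift_snd] using this
  exact e1.symm.trans e2

end Groth.Agent.H25.AS
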