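import Groth.Agent.H25.AlgSp51

/-!
# Algebraic spaces toolkit, part 52: valuative criteria, base change and composition
-/

universe u

open CategoryTheory CategoryTheory.Limits AlgebraicGeometry Opposite AlgSp MorphismProperty
open TopologicalSpace

namespace Groth.Agent.H25.AS

variable {S : Scheme.{u}}

/-- The valuative square for `f` obtained from one for a base change `f'`. -/
@[reducible] noncomputable def ValSq.ofIsPullback {X Y Z X' : Sp S} {f : X ⟶ Y} {g : Z ⟶ Y} {fst : X' ⟶ X}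
    {f' : X' ⟶ Z} (sq : IsPullback fst f' f g) (v : ValSq f') : ValSq f :=
  { A := v.A, K := v.K, str := v.str, top := v.top ≫ fst, bot := v.bot ≫ g,
    comm := by rw [Category.assoc, sq.w, ← Category.assoc, v.comm, Category.assoc] }

theorem uniqVC_of_isPullback {X Y Z X' : Sp S} {f : X ⟶ Y} {g : Z ⟶ Y} {fst : X' ⟶ X}
    {f' : X' ⟶ Z} (sq : IsPullback fst f' f g) (h : UniqVC f) : UniqVC f' := by
  intro v l l' h1 h2 h3 h4
  have e1 : (yon S).map v.j ≫ (l ≫ fst) = v.top ≫ fst := by rw [← Category.assoc, h1]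
  have e2 : (l ≫ fst) ≫ f = v.bot ≫ g := by rw [Category.assoc, sq.w, ← Category.assoc, h2]
  have e3 : (yon S).map v.j ≫ (l' ≫ fst) = v.top ≫ fst := by rw [← Category.assoc, h3]
  have e4 : (l' ≫ fst) ≫ f = v.bot ≫ g := by rw [Category.assoc, sq.w, ← Category.assoc, h4]
  have key : l ≫ fst = l' ≫ fst :=
    h (ValSq.ofIsPullback sq v) (l ≫ fst) (l' ≫ fst) e1 e2 e3 e4
  exact sq.hom_ext key (h2.trans h4.symm)

theorem existVC_of_isPullback {X Y Z X' : Sp S} {f : X ⟶ Y} {g : Z ⟶ Y} {fst : X' ⟶ X}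
    {f' : X' ⟶ Z} (sq : IsPullback fst f' f g) (h : ExistVC f) : ExistVC f' := by
  intro v
  obtain ⟨e0, l, hl1, hl2⟩ := h (ValSq.ofIsPullback sq v)
  let e : v.DomExt :=
    { A' := e0.A', K' := e0.K', φ := e0.φ, ψ := e0.ψ, comm := e0.comm,
      isLocalHom := e0.isLocalHom }
  refine ⟨e, ?_⟩
  have hl2' : l ≫ f = ((yon S).map (Over.homMk (Spec.map (CommRingCat.ofHom e.φ)) rfl :
      e.ptA' ⟶ v.ptA) ≫ v.bot) ≫ g := by
    rw [Category.assoc]
    exact hl2
  refine ⟨sq.lift l _ hl2', ?_, sq.lift_snd _ _ _⟩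
  apply sq.hom_ext
  · rw [Category.assoc, sq.lift_fst, Category.assoc]
    exact hl1
  · rw [Category.assoc, sq.lift_snd, Category.assoc, v.comm, ← Category.assoc, ← Category.assoc,
      ← Functor.map_comp, ← Functor.map_comp]
    congr 2
    ext
    change Spec.map _ ≫ Spec.map _ = Spec.map _ ≫ Spec.map _
    rw [← Spec.map_comp, ← Spec.map_comp, ← CommRingCat.ofHom_comp, ← CommRingCat.ofHom_comp,
      e.comm]

end Groth.Agent.H25.AS

namespace Groth.Agent.H25.AS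

variable {S : Scheme.{u}}

theorem uniqVC_comp {X Y Z : Sp S} (f : X ⟶ Y) (g : Y ⟶ Z) (hf : UniqVC f) (hg : UniqVC g) :
    UniqVC (f ≫ g) := by
  intro v l l' h1 h2 h3 h4
  let vg : ValSq g :=
    { A := v.A, K := v.K, str := v.str, top := v.top ≫ f, bot := v.bot,
      comm := by rw [Category.assoc]; exact v.comm }
  have e1 : (yon S).map v.j ≫ (l ≫ f) = v.top ≫ f := by rw [← Category.assoc, h1]
  have e2 : (l ≫ f) ≫ g = v.bot := by rw [Category.assoc]; exact h2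
  have e3 : (yon S).map v.j ≫ (l' ≫ f) = v.top ≫ f := by rw [← Category.assoc, h3]
  have e4 : (l' ≫ f) ≫ g = v.bot := by rw [Category.assoc]; exact h4
  have key : l ≫ f = l' ≫ f := hg vg (l ≫ f) (l' ≫ f) e1 e2 e3 e4
  let vf : ValSq f :=
    { A := v.A, K := v.K, str := v.str, top := v.top, bot := l ≫ f,
      comm := by rw [← h1, Category.assoc] }
  exact hf vf l l' h1 rfl h3 key.symm

theorem existVC_comp {X Y Z : Sp S} (f : X ⟶ Y) (g : Y ⟶ Z) (hf : ExistVC f) (hg : ExistVC g) :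
    ExistVC (f ≫ g) := by
  intro v
  let vg : ValSq g :=
    { A := v.A, K := v.K, str := v.str, top := v.top ≫ f, bot := v.bot,
      comm := by rw [Category.assoc]; exact v.comm }
  obtain ⟨e1, m, hm1, hm2⟩ := hg vg
  let vf : ValSq f :=
    { A := e1.A', K := e1.K', str := Spec.map (CommRingCat.ofHom e1.φ) ≫ v.str,
      top := (yon S).map (Over.homMk (Spec.map (CommRingCat.ofHom e1.ψ)) (by
          change Spec.map _ ≫ Spec.map _ ≫ _ = Spec.map _ ≫ Spec.map _ ≫ _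
          rw [← Spec.map_comp_assoc, ← Spec.map_comp_assoc, ← CommRingCat.ofHom_comp,
            ← CommRingCat.ofHom_comp, e1.comm]) : e1.ptK' ⟶ v.ptK) ≫ v.top,
      bot := m,
      comm := by rw [Category.assoc]; exact hm1.symm }
  obtain ⟨e2, n, hn1, hn2⟩ := hf vf
  have := e1.isLocalHom
  have := e2.isLocalHom
  let e : v.DomExt :=
    { A' := e2.A', K' := e2.K', φ := e2.φ.comp e1.φ, ψ := e2.ψ.comp e1.ψ,
      comm := by
        rw [← RingHom.comp_assoc, e2.comm, RingHom.comp_assoc, e1.comm, RingHom.comp_assoc]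
      isLocalHom := RingHom.isLocalHom_comp _ _ }
  refine ⟨e, ?_⟩
  have hφ : Spec.map (CommRingCat.ofHom (e2.φ.comp e1.φ)) =
      Spec.map (CommRingCat.ofHom e2.φ) ≫ Spec.map (CommRingCat.ofHom e1.φ) := by
    rw [← Spec.map_comp, ← CommRingCat.ofHom_comp]
  have hψ : Spec.map (CommRingCat.ofHom (e2.ψ.comp e1.ψ)) =
      Spec.map (CommRingCat.ofHom e2.ψ) ≫ Spec.map (CommRingCat.ofHom e1.ψ) := by
    rw [← Spec.map_comp, ← CommRingCat.ofHom_comp]
  let θA : e.ptA' ⟶ e2.ptA' := Over.homMk (𝟙 _) (by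
    change 𝟙 _ ≫ Spec.map _ ≫ Spec.map _ ≫ _ = Spec.map _ ≫ _
    rw [Category.id_comp, hφ, Category.assoc])
  let θK : e.ptK' ⟶ e2.ptK' := Over.homMk (𝟙 _) (by
    change 𝟙 _ ≫ Spec.map _ ≫ Spec.map _ ≫ Spec.map _ ≫ _ = Spec.map _ ≫ Spec.map _ ≫ _
    rw [Category.id_comp, hφ, Category.assoc])
  have wψ1 : Spec.map (CommRingCat.ofHom e1.ψ) ≫ Spec.map (CommRingCat.ofHom (algebraMap v.A v.K)) ≫ v.str =
      Spec.map (CommRingCat.ofHom (algebraMap e1.A' e1.K')) ≫ Spec.map (CommRingCat.ofHom e1.φ) ≫ v.str := by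
    rw [← Spec.map_comp_assoc, ← Spec.map_comp_assoc, ← CommRingCat.ofHom_comp,
      ← CommRingCat.ofHom_comp, e1.comm]
  have wψ2 : Spec.map (CommRingCat.ofHom e2.ψ) ≫ Spec.map (CommRingCat.ofHom (algebraMap e1.A' e1.K')) ≫
        Spec.map (CommRingCat.ofHom e1.φ) ≫ v.str =
      Spec.map (CommRingCat.ofHom (algebraMap e2.A' e2.K')) ≫ Spec.map (CommRingCat.ofHom e2.φ) ≫
        Spec.map (CommRingCat.ofHom e1.φ) ≫ v.str := by
    rw [← Spec.map_comp_assoc, ← Spec.map_comp_assoc (CommRingCat.ofHom e2.φ), ← CommRingCat.ofHom_comp,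
      ← CommRingCat.ofHom_comp, e2.comm]
  have wψ : Spec.map (CommRingCat.ofHom e.ψ) ≫ Spec.map (CommRingCat.ofHom (algebraMap v.A v.K)) ≫ v.str =
      Spec.map (CommRingCat.ofHom (algebraMap e.A' e.K')) ≫ Spec.map (CommRingCat.ofHom e.φ) ≫ v.str := by
    rw [← Spec.map_comp_assoc, ← Spec.map_comp_assoc, ← CommRingCat.ofHom_comp,
      ← CommRingCat.ofHom_comp, e.comm]
  let ψ1m : e1.ptK' ⟶ v.ptK := Over.homMk (Spec.map (CommRingCat.ofHom e1.ψ)) wψ1
  let ψ2m : e2.ptK' ⟶ e1.ptK' := Over.homMk (Spec.map (CommRingCat.ofHom e2.ψ)) wψ2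
  let ψm : e.ptK' ⟶ v.ptK := Over.homMk (Spec.map (CommRingCat.ofHom e.ψ)) wψ
  let φ1m : e1.ptA' ⟶ v.ptA := Over.homMk (Spec.map (CommRingCat.ofHom e1.φ)) rfl
  let φ2m : e2.ptA' ⟶ e1.ptA' := Over.homMk (Spec.map (CommRingCat.ofHom e2.φ)) rfl
  let φm : e.ptA' ⟶ v.ptA := Over.homMk (Spec.map (CommRingCat.ofHom e.φ)) rfl
  let jK : e.ptK' ⟶ e.ptA' := Over.homMk (Spec.map (CommRingCat.ofHom (algebraMap e.A' e.K'))) rfl
  let j2 : e2.ptK' ⟶ e2.ptA' := Over.homMk (Spec.map (CommRingCat.ofHom (algebraMap e2.A' e2.K'))) rfl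
  have hn1' : (yon S).map j2 ≫ n = (yon S).map ψ2m ≫ (yon S).map ψ1m ≫ v.top := hn1
  have hn2' : n ≫ f = (yon S).map φ2m ≫ m := hn2
  have hm2' : m ≫ g = (yon S).map φ1m ≫ v.bot := hm2
  have c1 : jK ≫ θA = θK ≫ j2 := by
    ext
    change Spec.map _ ≫ 𝟙 _ = 𝟙 _ ≫ Spec.map _
    rw [Category.comp_id, Category.id_comp]
  have c2 : (θK ≫ ψ2m) ≫ ψ1m = ψm := by
    ext
    change (𝟙 _ ≫ Spec.map _) ≫ Spec.map _ = Spec.map _
    rw [Category.id_comp, hψ]
  have c3 : (θA ≫ φ2m) ≫ φ1m = φm := by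
    ext
    change (𝟙 _ ≫ Spec.map _) ≫ Spec.map _ = Spec.map _
    rw [Category.id_comp, hφ]
  refine ⟨(yon S).map θA ≫ n, ?_, ?_⟩
  · change (yon S).map jK ≫ (yon S).map θA ≫ n = (yon S).map ψm ≫ v.top
    calc (yon S).map jK ≫ (yon S).map θA ≫ n = (yon S).map (jK ≫ θA) ≫ n := by
          rw [Functor.map_comp, Category.assoc]
      _ = (yon S).map (θK ≫ j2) ≫ n := by rw [c1]
      _ = (yon S).map θK ≫ (yon S).map j2 ≫ n := by rw [Functor.map_comp, Category.assoc]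
      _ = (yon S).map θK ≫ (yon S).map ψ2m ≫ (yon S).map ψ1m ≫ v.top := by rw [hn1']
      _ = (yon S).map ((θK ≫ ψ2m) ≫ ψ1m) ≫ v.top := by
          simp only [Functor.map_comp, Category.assoc]
      _ = (yon S).map ψm ≫ v.top := by rw [c2]
  · change ((yon S).map θA ≫ n) ≫ f ≫ g = (yon S).map φm ≫ v.bot
    calc ((yon S).map θA ≫ n) ≫ f ≫ g = (yon S).map θA ≫ (n ≫ f) ≫ g := by
          simp only [Category.assoc]
      _ = (yon S).map θA ≫ ((yon S).map φ2m ≫ m) ≫ g := by rw [hn2']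
      _ = (yon S).map θA ≫ (yon S).map φ2m ≫ (yon S).map φ1m ≫ v.bot := by
          rw [Category.assoc, hm2']
      _ = (yon S).map ((θA ≫ φ2m) ≫ φ1m) ≫ v.bot := by
          simp only [Functor.map_comp, Category.assoc]
      _ = (yon S).map φm ≫ v.bot := by rw [c3]

end Groth.Agent.H25.AS
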