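import Groth.Agent.H25.AlgSp52

/-!
# Algebraic spaces toolkit, part 53: unramified implies locally quasi-finite
-/

universe u

open CategoryTheory CategoryTheory.Limits AlgebraicGeometry Opposite AlgSp MorphismProperty

namespace Groth.Agent.H25.AS

theorem lqf_of_unram {X Y : Scheme.{u}} (f : X ⟶ Y) [LocallyOfFiniteType f] [FormallyUnramified f] :
    LocallyQuasiFinite f := by
  rw [HasRingHomProperty.iff_appLE (P := @LocallyQuasiFinite)]
  intro U V e
  have h1 := HasRingHomProperty.appLE @LocallyOfFiniteType f ‹_› U V e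
  have h2 := HasRingHomProperty.appLE @FormallyUnramified f ‹_› U V e
  algebraize [(f.appLE U.1 V.1 e).hom]
  have : Algebra.FiniteType Γ(Y, U.1) Γ(X, V.1) := h1
  have : Algebra.FormallyUnramified Γ(Y, U.1) Γ(X, V.1) := h2
  exact (inferInstance : Algebra.QuasiFinite Γ(Y, U.1) Γ(X, V.1))

end Groth.Agent.H25.AS
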