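import Groth.Agent.H25.AlgSp53
import Groth.Prelude.Def_AlgSpDec

/-!
# Algebraic spaces toolkit, part 54: decent spaces, permanence
-/

universe u

open CategoryTheory CategoryTheory.Limits AlgebraicGeometry Opposite AlgSp MorphismProperty

namespace Groth.Agent.H25.AS

variable {S : Scheme.{u}}

theorem mono_fst_of_isPullback {F G H Q : Sp S} {f : F ⟶ G} {g : H ⟶ G} {fst : Q ⟶ F}
    {snd : Q ⟶ H} (sq : IsPullback fst snd f g) [Mono g] : Mono fst := by
  refine ⟨fun a b hab => sq.hom_ext hab ?_⟩
  rw [← cancel_mono g, Category.assoc, Category.assoc, ← sq.w, ← Category.assoc, hab,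
    Category.assoc]

theorem mono_snd_of_isPullback {F G H Q : Sp S} {f : F ⟶ G} {g : H ⟶ G} {fst : Q ⟶ F}
    {snd : Q ⟶ H} (sq : IsPullback fst snd f g) [Mono f] : Mono snd :=
  mono_fst_of_isPullback sq.flip

theorem mono_yon_map_resPt (Z : Over S) (z : ↥Z.left) : Mono ((yon S).map (resPt Z z)) :=
  mono_of_repWith (MorphismProperty.monomorphisms Scheme.{u}) (fun _ hg => hg) _
    ((repWith_yon_map_iff _ _).2
      (show Mono (Z.left.fromSpecResidueField z) from inferInstance))

theorem quasiCompact_fromSpecResidueField {X : Scheme.{u}} (x : X) :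
    QuasiCompact (X.fromSpecResidueField x) := by
  constructor
  intro U hU hU'
  exact TopologicalSpace.NoetherianSpace.isCompact _

theorem repWith_quasiCompact_comp {F G H : Sp S} {f : F ⟶ G} {g : G ⟶ H}
    (hf : RepWith @QuasiCompact f) (hg : RepWith @QuasiCompact g) :
    RepWith @QuasiCompact (f ≫ g) := by
  have : (RepWith (S := S) @QuasiCompact).IsMultiplicative := repWith_isMultiplicative _
  exact (RepWith (S := S) @QuasiCompact).comp_mem _ _ hf hg

/-- A point in the image of a quasi-compact monomorphism from a scheme is represented by a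
quasi-compact monomorphism from the spectrum of a field. -/
theorem exists_decent_point {F : Sp S} {Z : Over S} (m : (yon S).obj Z ⟶ F) (hm1 : Mono m)
    (hm2 : RepWith @QuasiCompact m) (z : ↥Z.left) :
    ∃ p : FieldPt F, Points.mk p = Points.ofPt m z ∧ Mono p.toHom ∧
      RepWith @QuasiCompact p.toHom := by
  refine ⟨FieldPt.ofPt m z, rfl, ?_, ?_⟩
  · rw [FieldPt.toHom_ofPt]
    have := mono_yon_map_resPt Z z
    exact mono_comp ((yon S).map (resPt Z z)) m
  · rw [FieldPt.toHom_ofPt]
    exact repWith_quasiCompact_comp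
      ((repWith_yon_map_iff _ _).2 (quasiCompact_fromSpecResidueField z)) hm2

theorem exists_mono_point {F : Sp S} {Z : Over S} (m : (yon S).obj Z ⟶ F) (hm1 : Mono m)
    (z : ↥Z.left) :
    ∃ p : FieldPt F, Points.mk p = Points.ofPt m z ∧ Mono p.toHom := by
  refine ⟨FieldPt.ofPt m z, rfl, ?_⟩
  rw [FieldPt.toHom_ofPt]
  have := mono_yon_map_resPt Z z
  exact mono_comp ((yon S).map (resPt Z z)) m

/-- The source of a representable morphism to a decent space is decent. -/
theorem isDecent_of_representable {X Y : Sp S} (f : X ⟶ Y) (hf : Representable f)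
    (hY : IsDecent Y) : IsDecent X := by
  intro x
  obtain ⟨q, hq, hqm, hqc⟩ := hY (Points.map f x)
  have sq := hf.isPullback q.toHom
  have hm1 : Mono (hf.fst q.toHom) := mono_fst_of_isPullback sq
  have hm2 : RepWith @QuasiCompact (hf.fst q.toHom) := repWith_fst_of_isPullback sq hqc
  obtain ⟨z, -, hz⟩ := exists_point_of_isPullback sq
    (show ↥q.pt.left from IsLocalRing.closedPoint q.K) x (by rw [Points.ofPt_toHom, hq])
  obtain ⟨p, hp1, hp2, hp3⟩ := exists_decent_point _ hm1 hm2 z
  exact ⟨p, hp1.trans hz, hp2, hp3⟩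

/-- Points represented by monomorphisms lift along representable morphisms. -/
theorem exists_mono_point_of_representable {X Y : Sp S} (f : X ⟶ Y) (hf : Representable f)
    (hY : ∀ y : Points Y, ∃ q : FieldPt Y, Points.mk q = y ∧ Mono q.toHom) (x : Points X) :
    ∃ p : FieldPt X, Points.mk p = x ∧ Mono p.toHom := by
  obtain ⟨q, hq, hqm⟩ := hY (Points.map f x)
  have sq := hf.isPullback q.toHom
  have hm1 : Mono (hf.fst q.toHom) := mono_fst_of_isPullback sq
  obtain ⟨z, -, hz⟩ := exists_point_of_isPullback sq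
    (show ↥q.pt.left from IsLocalRing.closedPoint q.K) x (by rw [Points.ofPt_toHom, hq])
  obtain ⟨p, hp1, hp2⟩ := exists_mono_point _ hm1 z
  exact ⟨p, hp1.trans hz, hp2⟩

/-- A space over a decent space all of whose fibres over quasi-compact monomorphic points are
decent is decent. -/
theorem isDecent_of_fibres {X Y : Sp S} (f : X ⟶ Y) (hY : IsDecent Y)
    (h : ∀ q : FieldPt Y, Mono q.toHom → RepWith @QuasiCompact q.toHom →
      IsDecent (pullback f q.toHom)) : IsDecent X := by
  intro x
  obtain ⟨q, hq, hqm, hqc⟩ := hY (Points.map f x)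
  have sq : IsPullback (pullback.fst f q.toHom) (pullback.snd f q.toHom) f q.toHom :=
    IsPullback.of_hasPullback _ _
  have hm1 : Mono (pullback.fst f q.toHom) := mono_fst_of_isPullback sq
  have hm2 : RepWith @QuasiCompact (pullback.fst f q.toHom) := repWith_fst_of_isPullback sq hqc
  obtain ⟨w, hw1, hw2⟩ := exists_of_isPullback sq.flip
    (Points.ofScheme q.pt (show ↥q.pt.left from IsLocalRing.closedPoint q.K)) x (by
      rw [← Points.ofPt_eq_map_ofScheme, Points.ofPt_toHom, hq])
  obtain ⟨p', hp1, hp2, hp3⟩ := h q hqm hqc w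
  refine ⟨p'.map (pullback.fst f q.toHom), ?_, ?_, ?_⟩
  · rw [← Points.map_mk, hp1, hw2]
  · rw [FieldPt.toHom_map]
    exact @mono_comp _ _ _ _ _ _ hp2 _ hm1
  · rw [FieldPt.toHom_map]
    exact repWith_quasiCompact_comp hp3 hm2

end Groth.Agent.H25.AS
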