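import Groth.Agent.H25.AlgSp54

/-!
# Algebraic spaces toolkit, part 55: points represented by quasi-compact monomorphisms
-/

universe u

open CategoryTheory CategoryTheory.Limits AlgebraicGeometry Opposite AlgSp MorphismProperty

namespace Groth.Agent.H25.AS

variable {S : Scheme.{u}}

/-- If a point is represented by a quasi-compact monomorphism, every field-valued point in its
class is quasi-compact. -/
theorem repWith_quasiCompact_of_rel {X : Sp S} (p q : FieldPt X) (hm : Mono p.toHom)
    (hp : RepWith @QuasiCompact p.toHom) (h : Points.mk q = Points.mk p) :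
    RepWith @QuasiCompact q.toHom := by
  have sq := hp.rep.isPullback q.toHom
  have h1 : Mono ((yon S).map (hp.rep.snd q.toHom)) := mono_snd_of_isPullback sq
  obtain ⟨w, -, -⟩ := exists_point_of_isPullback sq
    (show ↥q.pt.left from IsLocalRing.closedPoint q.K)
    (Points.ofScheme p.pt (show ↥p.pt.left from IsLocalRing.closedPoint p.K)) (by
      rw [← Points.ofPt_eq_map_ofScheme, Points.ofPt_toHom, Points.ofPt_toHom, h])
  have h5 : IsIso ((yon S).map (hp.rep.snd q.toHom)) :=
    isIso_of_mono_to_field q.str (IsAlgSpace.yon_obj _) _ ⟨Points.ofScheme _ w⟩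
  have e : q.toHom = inv ((yon S).map (hp.rep.snd q.toHom)) ≫ hp.rep.fst q.toHom ≫ p.toHom := by
    rw [IsIso.eq_inv_comp]
    exact sq.w.symm
  obtain ⟨ψ, hψ⟩ := (yon S).map_surjective
    (inv ((yon S).map (hp.rep.snd q.toHom)) ≫ hp.rep.fst q.toHom)
  rw [e, ← Category.assoc, ← hψ]
  refine repWith_quasiCompact_comp ((repWith_yon_map_iff _ _).2 ?_) hp
  exact (inferInstance : QuasiCompact (show Spec (.of q.K) ⟶ Spec (.of p.K) from ψ.left))

end Groth.Agent.H25.AS
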