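import Groth.Agent.H25.AlgSp55
import Mathlib.AlgebraicGeometry.Sites.Fpqc
import Mathlib.AlgebraicGeometry.Sites.Etale

/-!
# Algebraic spaces toolkit, part 56: locality on the source for chart-wise properties
-/

universe u

open CategoryTheory CategoryTheory.Limits AlgebraicGeometry Opposite AlgSp MorphismProperty

namespace Groth.Agent.H25.AS

variable {S : Scheme.{u}}

/-- Precomposition with a member of a covering family keeps a chart-wise property. -/
theorem locP_comp_of_member {P Q₀ : MorphismProperty Scheme.{u}}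
    (hA : ∀ {T W V : Scheme.{u}} (t : T ⟶ W) (k : W ⟶ V), Q₀ t → P k → P (t ≫ k))
    (hB : ∀ {T U V : Scheme.{u}} (e : T ⟶ U) (k : U ⟶ V), Etale e → Surjective e →
      P (e ≫ k) → P k)
    {Xi X Y : Sp S} (hX : IsAlgSpace X) (g : Xi ⟶ X) (hg : LocP Q₀ g) (f : X ⟶ Y)
    (hf : LocP P f) : LocP P (g ≫ f) := by
  intro U V a b h ha hb comm
  obtain ⟨W, e, he1, he2⟩ := hX.atlas
  have sqT := he1.rep.isPullback' (a ≫ g)
  have hr1 : Etale (he1.rep.snd (a ≫ g)).left := he1.property _ _ _ sqT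
  have hr2 : Surjective (he1.rep.snd (a ≫ g)).left := he2.property _ _ _ sqT
  have sqW := hb.rep.isPullback' (e ≫ f)
  have hw : Etale (hb.rep.snd (e ≫ f)).left := hb.property _ _ _ sqW
  have hcomm : (yon S).map (he1.rep.snd (a ≫ g) ≫ h) ≫ b =
      (yon S).map (he1.rep.fst' (a ≫ g)) ≫ e ≫ f := by
    rw [Functor.map_comp, Category.assoc, ← comm, ← Category.assoc _ e f, sqT.w]
    simp only [Category.assoc]
  obtain ⟨τ', hτ1, hτ2⟩ := sqW.exists_lift _ _ hcomm
  obtain ⟨τ, rfl⟩ := (yon S).map_surjective τ'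
  have eτ1 : τ ≫ hb.rep.fst' (e ≫ f) = he1.rep.snd (a ≫ g) ≫ h :=
    (yon S).map_injective (by rw [Functor.map_comp]; exact hτ1)
  have eτ2 : τ ≫ hb.rep.snd (e ≫ f) = he1.rep.fst' (a ≫ g) :=
    (yon S).map_injective (by rw [Functor.map_comp]; exact hτ2)
  have hbe : RepWith @Etale ((yon S).map (hb.rep.snd (e ≫ f)) ≫ e) :=
    repWith_etale_comp ((repWith_yon_map_iff _ _).2 hw) he1
  have hPv : P (hb.rep.fst' (e ≫ f)).left :=
    hf _ b _ hbe hb (by rw [Category.assoc]; exact sqW.w.symm)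
  have hQτ : Q₀ τ.left :=
    hg ((yon S).map (he1.rep.snd (a ≫ g)) ≫ a) _ τ
      (repWith_etale_comp ((repWith_yon_map_iff _ _).2 hr1) ha) hbe (by
        rw [← Category.assoc ((yon S).map τ), ← Functor.map_comp, eτ2, Category.assoc]
        exact sqT.w.symm)
  have h1 : P (τ.left ≫ (hb.rep.fst' (e ≫ f)).left) := hA _ _ hQτ hPv
  have h2 : τ.left ≫ (hb.rep.fst' (e ≫ f)).left = (he1.rep.snd (a ≫ g)).left ≫ h.left := by
    rw [← Over.comp_left, eτ1, Over.comp_left]
  rw [h2] at h1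
  exact hB _ _ hr1 hr2 h1

/-- Descent of a chart-wise property along a jointly surjective family on the source. -/
theorem locP_of_cover {P Q₀ : MorphismProperty Scheme.{u}}
    (hC : ∀ {U V : Scheme.{u}} (k : U ⟶ V) {ι : Type u} (E : ι → Scheme.{u})
      (d : ∀ i, E i ⟶ U), (∀ i, Q₀ (d i)) → (∀ x : U, ∃ i, x ∈ Set.range (d i)) →
      (∀ i, P (d i ≫ k)) → P k)
    {ι : Type u} {X Y : Sp S} (Xi : ι → Sp S) (g : ∀ i, Xi i ⟶ X) (hX : IsAlgSpace X)
    (hXi : ∀ i, IsAlgSpace (Xi i)) (hg : ∀ i, LocP Q₀ (g i))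
    (hsurj : ∀ x : Points X, ∃ i, x ∈ Set.range (Points.map (g i)))
    (f : X ⟶ Y) (hall : ∀ i, LocP P (g i ≫ f)) : LocP P f := by
  intro U V a b h ha hb comm
  have sq : ∀ i, IsPullback (pullback.fst (g i) a) (pullback.snd (g i) a) (g i) a :=
    fun i => IsPullback.of_hasPullback _ _
  have hPi : ∀ i, IsAlgSpace (pullback (g i) a) := fun i =>
    isAlgSpace_of_isPullback hX.diag (hXi i) (IsAlgSpace.yon_obj U) (sq i)
  choose E e hee hes using fun i => (hPi i).atlas
  choose d hd using fun i => (yon S).map_surjective (e i ≫ pullback.snd (g i) a)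
  have hch : ∀ i, RepWith @Etale (e i ≫ pullback.fst (g i) a) := fun i =>
    repWith_etale_comp (hee i) (repWith_fst_of_isPullback (sq i) ha)
  have hcomm1 : ∀ i, (e i ≫ pullback.fst (g i) a) ≫ g i = (yon S).map (d i) ≫ a := by
    intro i
    rw [Category.assoc, (sq i).w, ← Category.assoc, hd i]
  refine hC h.left (fun i => (E i).left) (fun i => (d i).left)
    (fun i => hg i _ a (d i) (hch i) ha (hcomm1 i)) ?_ ?_
  · intro u
    obtain ⟨i, xi, hxi⟩ := hsurj (Points.ofPt a u)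
    obtain ⟨p, -, hp2⟩ := exists_of_isPullback (sq i) xi (Points.ofScheme U u) (by
      rw [hxi, ← Points.ofPt_eq_map_ofScheme])
    obtain ⟨ε', hε'⟩ := isSurjectiveMor_of_repWith (e i) (hes i) p
    obtain ⟨ε, rfl⟩ := exists_ofScheme ε'
    refine ⟨i, ε, ofScheme_injective U ?_⟩
    rw [← map_yon_map_ofScheme (d i) ε, hd i, Points.map_comp, hε', hp2]
  · intro i
    refine hall i _ b (d i ≫ h) (hch i) hb ?_
    rw [← Category.assoc, hcomm1 i, Functor.map_comp, Category.assoc, Category.assoc, comm]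

end Groth.Agent.H25.AS

namespace Groth.Agent.H25.AS

variable {S : Scheme.{u}}

section Pre

variable {P Q₀ : MorphismProperty Scheme.{u}}

theorem hA_of_isLocalAtSource [Q₀.ContainsIdentities]
    (hK : P.IsLocalAtSource (Scheme.precoverage Q₀))
    {T W V : Scheme.{u}} (t : T ⟶ W) (k : W ⟶ V) (ht : Q₀ t) (hk : P k) : P (t ≫ k) := by
  let E : PreZeroHypercover.{0} W := (PreZeroHypercover.singleton (𝟙 W)).add t
  have hE : E.presieve₀ ∈ Scheme.precoverage Q₀ W := by
    rw [Scheme.presieve₀_mem_precoverage_iff]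
    refine ⟨fun x => ⟨some ⟨⟩, x, rfl⟩, ?_⟩
    rintro (_ | _)
    · exact ht
    · exact Q₀.id_mem W
  exact hK.comp hE t (Presieve.ofArrows.mk (none : E.I₀)) hk

theorem hB_of_isLocalAtSource (hEt : ∀ {A B : Scheme.{u}} (f : A ⟶ B), Etale f → Q₀ f)
    (hK : P.IsLocalAtSource (Scheme.precoverage Q₀))
    {T U V : Scheme.{u}} (e : T ⟶ U) (k : U ⟶ V) (he1 : Etale e) (he2 : Surjective e)
    (h : P (e ≫ k)) : P k := by
  let E : PreZeroHypercover.{0} U := PreZeroHypercover.singleton e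
  have hE : E.presieve₀ ∈ Scheme.precoverage Q₀ U := by
    rw [Scheme.presieve₀_mem_precoverage_iff]
    exact ⟨fun x => ⟨⟨⟩, he2.surj x⟩, fun _ => hEt e he1⟩
  refine hK.of_forall_comp hE ?_
  rintro _ _ ⟨i⟩
  exact h

theorem hC_of_isLocalAtSource (hK : P.IsLocalAtSource (Scheme.precoverage Q₀))
    {U V : Scheme.{u}} (k : U ⟶ V) {ι : Type u} (E : ι → Scheme.{u})
    (d : ∀ i, E i ⟶ U) (h1 : ∀ i, Q₀ (d i)) (h2 : ∀ x : U, ∃ i, x ∈ Set.range (d i))
    (h3 : ∀ i, P (d i ≫ k)) : P k := by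
  let E' : PreZeroHypercover.{u} U := ⟨ι, E, d⟩
  have hE : E'.presieve₀ ∈ Scheme.precoverage Q₀ U := by
    rw [Scheme.presieve₀_mem_precoverage_iff]
    exact ⟨h2, h1⟩
  refine hK.of_forall_comp hE ?_
  rintro _ _ ⟨i⟩
  exact h3 i

/-- The chart-wise property `LocP P` is local on the source for `Q₀`-coverings whenever `P` is
local at the source for the `Q₀`-precoverage of schemes. -/
theorem isLocalOnSource_locP_of_isLocalAtSource [Q₀.ContainsIdentities]
    (hEt : ∀ {A B : Scheme.{u}} (f : A ⟶ B), Etale f → Q₀ f)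
    (hK : P.IsLocalAtSource (Scheme.precoverage Q₀)) :
    IsLocalOnSource (fun _ _ Y g => IsCover (S := S) (LocP Q₀) Y g) (LocP P) := by
  intro ι X Xi g hX hXi hcov Y f hY
  obtain ⟨hg, hsurj⟩ := hcov
  constructor
  · intro hf i
    exact locP_comp_of_member (hA_of_isLocalAtSource hK) (hB_of_isLocalAtSource hEt hK) hX (g i)
      (hg i) f hf
  · intro hall
    exact locP_of_cover (hC_of_isLocalAtSource hK) Xi g hX hXi hg hsurj f hall

end Pre

end Groth.Agent.H25.AS

namespace Groth.Agent.H25.AS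

variable {S : Scheme.{u}}

section Fpqc

variable {P : MorphismProperty Scheme.{u}}

theorem hA_fpqc (hK : P.IsLocalAtSource Scheme.fpqcPrecoverage)
    {T W V : Scheme.{u}} (t : T ⟶ W) (k : W ⟶ V) (ht : Flat t) (hk : P k) : P (t ≫ k) := by
  let E : PreZeroHypercover.{0} W := (PreZeroHypercover.singleton (𝟙 W)).add t
  have hE1 : E.presieve₀ ∈ Scheme.precoverage @Flat W := by
    refine (Scheme.presieve₀_mem_precoverage_iff (P := @Flat) E).2
      ⟨fun x => ⟨some ⟨⟩, x, rfl⟩, ?_⟩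
    rintro (_ | _)
    · exact ht
    · exact (inferInstance : Flat (𝟙 W))
  have hE2 : QuasiCompactCover E :=
    QuasiCompactCover.of_hom (𝒱 := PreZeroHypercover.singleton (𝟙 W))
      ⟨fun i => some i, fun _ => 𝟙 W, fun _ => (Category.id_comp _).trans rfl⟩
  have hE : E.presieve₀ ∈ Scheme.fpqcPrecoverage W :=
    ⟨Scheme.presieve₀_mem_qcPrecoverage_iff.2 hE2, hE1⟩
  exact hK.comp hE t (Presieve.ofArrows.mk (none : E.I₀)) hk

theorem hB_fpqc (hK : P.IsLocalAtSource Scheme.fpqcPrecoverage)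
    {T U V : Scheme.{u}} (e : T ⟶ U) (k : U ⟶ V) (he1 : Etale e) (he2 : Surjective e)
    (h : P (e ≫ k)) : P k := by
  have hK' : P.IsLocalAtSource (Scheme.precoverage (@Flat ⊓ @LocallyOfFinitePresentation)) :=
    IsLocalAtSource.of_le (L := Scheme.fpqcPrecoverage) Scheme.fppfPrecoverage_le_fpqcPrecoverage
  exact hB_of_isLocalAtSource
    (fun f hf => by have : Etale f := hf; exact ⟨inferInstance, inferInstance⟩) hK' e k he1 he2 h

end Fpqc

end Groth.Agent.H25.AS

namespace Groth.Agent.H25.AS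

variable {S : Scheme.{u}}

/-- Descent of a chart-wise property along an fpqc covering on the source. -/
theorem locP_of_fpqcCover {P : MorphismProperty Scheme.{u}}
    (hK : P.IsLocalAtSource Scheme.fpqcPrecoverage)
    {ι : Type u} {X Y : Sp S} (Xi : ι → Sp S) (g : ∀ i, Xi i ⟶ X) (hX : IsAlgSpace X)
    (hXi : ∀ i, IsAlgSpace (Xi i)) (hcov : IsFpqcCover Xi g)
    (f : X ⟶ Y) (hall : ∀ i, LocP P (g i ≫ f)) : LocP P f := by
  obtain ⟨hgf, href⟩ := hcov
  intro U V a b h ha hb comm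
  refine hK.of_forall_comp (R := U.left.affineCover.presieve₀)
    (Scheme.zariskiPrecoverage_le_fpqcPrecoverage _ U.left.affineCover.mem₀) ?_
  rintro _ _ ⟨k⟩
  let Z : Over S := Over.mk (U.left.affineCover.f k ≫ U.hom)
  let jk : Z ⟶ U := Over.homMk (U.left.affineCover.f k) rfl
  have hZaff : IsAffine Z.left := (inferInstance : IsAffine (U.left.affineCover.X k))
  have hZ : IsAlgSpace ((yon S).obj Z) := IsAlgSpace.yon_obj Z
  have hjk : Etale jk.left := (inferInstance : Etale (U.left.affineCover.f k))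
  have haZ : RepWith @Etale ((yon S).map jk ≫ a) :=
    repWith_etale_comp ((repWith_yon_map_iff _ _).2 hjk) ha
  obtain ⟨m, W, c, hWaff, hcfl, hcsurj, hl⟩ := href Z hZaff ((yon S).map jk ≫ a)
  have sq : ∀ i, IsPullback (pullback.fst (g i) ((yon S).map jk ≫ a))
      (pullback.snd (g i) ((yon S).map jk ≫ a)) (g i) ((yon S).map jk ≫ a) :=
    fun i => IsPullback.of_hasPullback _ _
  have hP : ∀ i, IsAlgSpace (pullback (g i) ((yon S).map jk ≫ a)) := fun i =>
    isAlgSpace_of_isPullback hX.diag (hXi i) hZ (sq i)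
  choose E e hee hes using fun i => (hP i).atlas
  choose d hd using fun i =>
    (yon S).map_surjective (e i ≫ pullback.snd (g i) ((yon S).map jk ≫ a))
  have hch : ∀ i, RepWith @Etale (e i ≫ pullback.fst (g i) ((yon S).map jk ≫ a)) := fun i =>
    repWith_etale_comp (hee i) (repWith_fst_of_isPullback (sq i) haZ)
  have hcomm1 : ∀ i, (e i ≫ pullback.fst (g i) ((yon S).map jk ≫ a)) ≫ g i =
      (yon S).map (d i) ≫ (yon S).map jk ≫ a := by
    intro i
    rw [Category.assoc, (sq i).w, ← Category.assoc, hd i]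
  have hdfl : ∀ i, Flat (d i).left := fun i => hgf i _ _ (d i) (hch i) haZ (hcomm1 i)
  have hdh : ∀ i, P ((d i).left ≫ U.left.affineCover.f k ≫ h.left) := by
    intro i
    refine hall i _ b (d i ≫ jk ≫ h) (hch i) hb ?_
    rw [← Category.assoc, hcomm1 i, Functor.map_comp, Functor.map_comp]
    simp only [Category.assoc]
    rw [comm]
  choose idx l hl' using hl
  let t : ∀ j, (yon S).obj (W j) ⟶ pullback (g (idx j)) ((yon S).map jk ≫ a) := fun j =>
    (sq (idx j)).lift (l j) ((yon S).map (c j)) (hl' j)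
  have ht : ∀ j, t j ≫ pullback.snd (g (idx j)) ((yon S).map jk ≫ a) = (yon S).map (c j) :=
    fun j => (sq (idx j)).lift_snd _ _ _
  have sqW : ∀ j, IsPullback ((yon S).map ((hee (idx j)).rep.fst' (t j)))
      ((yon S).map ((hee (idx j)).rep.snd (t j))) (e (idx j)) (t j) :=
    fun j => (hee (idx j)).rep.isPullback' (t j)
  have hρ1 : ∀ j, Etale ((hee (idx j)).rep.snd (t j)).left :=
    fun j => (hee (idx j)).property _ _ _ (sqW j)
  have hρ2 : ∀ j, Surjective ((hee (idx j)).rep.snd (t j)).left :=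
    fun j => (hes (idx j)).property _ _ _ (sqW j)
  have hw₀ : ∀ j, (hee (idx j)).rep.fst' (t j) ≫ d (idx j) =
      (hee (idx j)).rep.snd (t j) ≫ c j := by
    intro j
    apply (yon S).map_injective
    rw [Functor.map_comp, Functor.map_comp, hd, ← Category.assoc, (sqW j).w, Category.assoc, ht]
  have hsurj : ∀ z : ↥Z.left, ∃ i, z ∈ Set.range (d i).left := by
    intro z
    obtain ⟨j, w, rfl⟩ := hcsurj z
    obtain ⟨w', rfl⟩ := (hρ2 j).surj w
    refine ⟨idx j, ((hee (idx j)).rep.fst' (t j)).left w', ?_⟩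
    rw [← Scheme.Hom.comp_apply, ← Scheme.Hom.comp_apply, ← Over.comp_left, ← Over.comp_left, hw₀]
  let 𝒰 : PreZeroHypercover.{u} Z.left := ⟨ι, fun i => (E i).left, fun i => (d i).left⟩
  let 𝒲 : Scheme.Cover.{0} (Scheme.precoverage @Flat) Z.left :=
    Scheme.Cover.mkOfCovers (Fin m) (fun j => (W j).left) (fun j => (c j).left)
      (fun z => by obtain ⟨j, w, hw⟩ := hcsurj z; exact ⟨j, w, hw⟩) hcfl
  have hqc𝒲 : ∀ j, QuasiCompact (𝒲.f j) := fun j => by
    have := hWaff j
    exact (inferInstance : QuasiCompact (c j).left)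
  have hfin : Finite 𝒲.I₀ := inferInstanceAs (Finite (Fin m))
  haveI js1 : Scheme.JointlySurjective (Scheme.precoverage @Flat) :=
    Scheme.instJointlySurjectivePrecoverage
  haveI js2 : Scheme.JointlySurjective (Scheme.precoverage @Etale) :=
    Scheme.instJointlySurjectivePrecoverage
  have hq𝒲 : QuasiCompactCover 𝒲.toPreZeroHypercover := QuasiCompactCover.of_finite
  let 𝒲' : ∀ j : Fin m, Scheme.Cover.{0} (Scheme.precoverage @Etale) (W j).left := fun j =>
    Scheme.Cover.mkOfCovers PUnit (fun _ => ((hee (idx j)).rep.pullback (t j)).left)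
      (fun _ => ((hee (idx j)).rep.snd (t j)).left) (fun w => ⟨⟨⟩, (hρ2 j).surj w⟩)
      (fun _ => hρ1 j)
  have hq𝒲' : ∀ j, QuasiCompactCover (𝒲' j).toPreZeroHypercover := fun j =>
    QuasiCompactCover.of_isOpenMap (fun _ => by
      have := hρ1 j
      exact ((hee (idx j)).rep.snd (t j)).left.isOpenMap)
  let F : ∀ j : 𝒲.toPreZeroHypercover.I₀, PreZeroHypercover.{0} (𝒲.toPreZeroHypercover.X j) :=
    fun j => (𝒲' j).toPreZeroHypercover
  haveI hqF : ∀ j, QuasiCompactCover (F j) := hq𝒲'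
  have hq𝒱 : QuasiCompactCover (𝒲.toPreZeroHypercover.bind F) := inferInstance
  have hq𝒰 : QuasiCompactCover 𝒰 :=
    QuasiCompactCover.of_hom (𝒱 := 𝒲.toPreZeroHypercover.bind F)
      ⟨fun ij => idx ij.1, fun ij => ((hee (idx ij.1)).rep.fst' (t ij.1)).left, fun ij => by
        have := congrArg (fun φ => φ.left) (hw₀ ij.1)
        exact this⟩
  have h𝒰 : 𝒰.presieve₀ ∈ Scheme.fpqcPrecoverage Z.left :=
    ⟨Scheme.presieve₀_mem_qcPrecoverage_iff.2 hq𝒰,
      (Scheme.presieve₀_mem_precoverage_iff (P := @Flat) 𝒰).2 ⟨hsurj, hdfl⟩⟩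
  refine hK.of_forall_comp h𝒰 ?_
  rintro _ _ ⟨i⟩
  exact hdh i

end Groth.Agent.H25.AS
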