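import Groth.Agent.H25.AlgSp56

/-!
# Algebraic spaces toolkit, part 57: fppf coverings are surjections of sheaves
-/

universe u

open CategoryTheory CategoryTheory.Limits AlgebraicGeometry Opposite AlgSp MorphismProperty

namespace Groth.Agent.H25.AS

variable {S : Scheme.{u}}

theorem exists_fppf_local_lift {ι : Type u} {X : Sp S} (hX : IsAlgSpace X) (Xi : ι → Sp S)
    (hXi : ∀ i, IsAlgSpace (Xi i)) (g : ∀ i, Xi i ⟶ X) (h : IsFppfCover Xi g) (T : Over S)
    (t : (yon S).obj T ⟶ X) :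
    ∃ (κ : Type u) (Tk : κ → Over S) (c : ∀ k, Tk k ⟶ T),
      Sieve.ofArrows Tk c ∈ J S T ∧
      ∀ k, ∃ (i : ι) (l : (yon S).obj (Tk k) ⟶ Xi i), l ≫ g i = (yon S).map (c k) ≫ t := by
  obtain ⟨hg, hsurj⟩ := h
  haveI : MorphismProperty.ContainsIdentities (@Etale : MorphismProperty Scheme.{u}) :=
    ⟨fun X => inferInstance⟩
  have hT := IsAlgSpace.yon_obj T
  have sq : ∀ i, IsPullback (pullback.fst (g i) t) (pullback.snd (g i) t) (g i) t :=
    fun i => IsPullback.of_hasPullback _ _
  have hPi : ∀ i, IsAlgSpace (pullback (g i) t) := fun i =>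
    isAlgSpace_of_isPullback hX.diag (hXi i) hT (sq i)
  choose E e hee hes using fun i => (hPi i).atlas
  choose d hd using fun i => (yon S).map_surjective (e i ≫ pullback.snd (g i) t)
  have hfl : ∀ i, Flat (d i).left := fun i =>
    (locP_of_isPullback etLoc_flat (hXi i) hX hT (sq i) (hg i).1) (e i) (𝟙 _) (d i) (hee i)
      (repWith_id _ T) (by rw [hd i, Category.comp_id])
  have hfp : ∀ i, LocallyOfFinitePresentation (d i).left := fun i =>
    (locP_of_isPullback etLoc_locallyOfFinitePresentation (hXi i) hX hT (sq i) (hg i).2) (e i)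
      (𝟙 _) (d i) (hee i) (repWith_id _ T) (by rw [hd i, Category.comp_id])
  have hsurj' : ∀ z : ↥T.left, ∃ i, z ∈ Set.range (d i).left := by
    intro u
    obtain ⟨i, xi, hxi⟩ := hsurj (Points.ofPt t u)
    obtain ⟨p, -, hp2⟩ := exists_of_isPullback (sq i) xi (Points.ofScheme T u) (by
      rw [hxi, ← Points.ofPt_eq_map_ofScheme])
    obtain ⟨ε', hε'⟩ := isSurjectiveMor_of_repWith (e i) (hes i) p
    obtain ⟨ε, rfl⟩ := exists_ofScheme ε'
    refine ⟨i, ε, ofScheme_injective T ?_⟩
    rw [← map_yon_map_ofScheme (d i) ε, hd i, Points.map_comp, hε', hp2]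
  refine ⟨ι, E, d, ?_, fun i => ⟨i, e i ≫ pullback.fst (g i) t, by
    rw [Category.assoc, (sq i).w, ← Category.assoc, hd i]⟩⟩
  rw [GrothendieckTopology.mem_over_iff]
  let 𝒰 : PreZeroHypercover.{u} T.left := ⟨ι, fun i => (E i).left, fun i => (d i).left⟩
  have h𝒰 : 𝒰.presieve₀ ∈ Scheme.fppfPrecoverage T.left :=
    (Scheme.presieve₀_mem_precoverage_iff (P := @Flat ⊓ @LocallyOfFinitePresentation) 𝒰).2
      ⟨hsurj', fun i => ⟨hfl i, hfp i⟩⟩
  refine GrothendieckTopology.superset_covering _ ?_ (Precoverage.generate_mem_toGrothendieck h𝒰)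
  rw [Sieve.generate_le_iff]
  rintro _ _ ⟨i⟩
  rw [Sieve.overEquiv_iff]
  have e1 : (d i).left ≫ T.hom = (E i).hom := Over.w (d i)
  have : (Over.homMk (d i).left : Over.mk ((d i).left ≫ T.hom) ⟶ T) =
      (Over.homMk (𝟙 _) (by simp [e1]) : Over.mk ((d i).left ≫ T.hom) ⟶ E i) ≫ d i := by
    ext
    simp
  rw [this]
  exact (Sieve.ofArrows E d).downward_closed (Sieve.ofArrows_mk _ _ i) _

end Groth.Agent.H25.AS

namespace Groth.Agent.H25.AS

variable {S : Scheme.{u}}

section EtTarget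

variable (P : MorphismProperty Scheme.{u}) [P.IsLocalAtTarget Scheme.etalePrecoverage]

include P in
theorem etTarget_baseChange {X Y U X' : Scheme.{u}} {f : X ⟶ Y} {g : U ⟶ Y} {fst : X' ⟶ X}
    {snd : X' ⟶ U} (h : IsPullback fst snd f g) (hg : Etale g) (hf : P f) : P snd := by
  let E : PreZeroHypercover.{0} Y := (PreZeroHypercover.singleton (𝟙 Y)).add g
  have hE : E.presieve₀ ∈ Scheme.etalePrecoverage Y := by
    refine (Scheme.presieve₀_mem_precoverage_iff (P := @Etale) E).2
      ⟨fun x => ⟨some ⟨⟩, x, rfl⟩, ?_⟩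
    rintro (_ | _)
    · exact hg
    · exact (inferInstance : Etale (𝟙 Y))
  have : HasPullback f g := h.hasPullback
  rw [← P.cancel_left_of_respectsIso h.isoPullback.inv, h.isoPullback_inv_snd]
  exact IsLocalAtTarget.pullbackSnd hE (Presieve.ofArrows.mk (none : E.I₀)) hf

include P in
theorem etTarget_descent {X Y U X' : Scheme.{u}} {f : X ⟶ Y} {g : U ⟶ Y} {fst : X' ⟶ X}
    {snd : X' ⟶ U} (h : IsPullback fst snd f g) (hg : Etale g) (hg' : Surjective g)
    (hs : P snd) : P f := by
  let E : PreZeroHypercover.{0} Y := PreZeroHypercover.singleton g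
  have hE : E.presieve₀ ∈ Scheme.etalePrecoverage Y :=
    (Scheme.presieve₀_mem_precoverage_iff (P := @Etale) E).2
      ⟨fun x => ⟨⟨⟩, hg'.surj x⟩, fun _ => hg⟩
  refine IsLocalAtTarget.of_forall_pullbackSnd hE ?_
  rintro _ _ _ ⟨i⟩
  have : HasPullback f g := h.hasPullback
  change P (pullback.snd f g)
  rw [← h.isoPullback_inv_snd, P.cancel_left_of_respectsIso]
  exact hs

end EtTarget

end Groth.Agent.H25.AS

namespace Groth.Agent.H25.AS

variable {S : Scheme.{u}}

/-- Comparison of represented pullbacks: a represented pullback of `f` along `h_p ≫ b` maps to a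
represented pullback of `f` along `b`, forming a pullback square of schemes. -/
theorem exists_isPullback_left {X Y : Sp S} {f : X ⟶ Y} {V W V'' W'' : Over S}
    {b : (yon S).obj V ⟶ Y} {fst : (yon S).obj W ⟶ X} {snd : W ⟶ V}
    (sq : IsPullback fst ((yon S).map snd) f b) (p : V'' ⟶ V)
    {fst'' : (yon S).obj W'' ⟶ X} {snd'' : W'' ⟶ V''}
    (sq'' : IsPullback fst'' ((yon S).map snd'') f ((yon S).map p ≫ b)) :
    ∃ α : W'' ⟶ W, IsPullback α.left snd''.left snd.left p.left := by
  obtain ⟨α', hα1, hα2⟩ := sq.exists_lift fst'' ((yon S).map (snd'' ≫ p)) (by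
    rw [sq''.w, Functor.map_comp, Category.assoc])
  obtain ⟨α, rfl⟩ := (yon S).map_surjective α'
  have hα2' : α ≫ snd = snd'' ≫ p :=
    (yon S).map_injective (by rw [Functor.map_comp]; exact hα2)
  have big : IsPullback ((yon S).map α ≫ fst) ((yon S).map snd'') f ((yon S).map p ≫ b) := by
    rw [hα1]
    exact sq''
  have left : IsPullback ((yon S).map α) ((yon S).map snd'') ((yon S).map snd) ((yon S).map p) :=
    IsPullback.of_right big (by rw [← Functor.map_comp, ← Functor.map_comp, hα2']) sq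
  have left' : IsPullback α snd'' snd p := IsPullback.of_map (yon S) hα2' left
  exact ⟨α, left'.map (Over.forget S)⟩

theorem repLocT_of_chart (P : MorphismProperty Scheme.{u})
    [P.IsLocalAtTarget Scheme.etalePrecoverage] {X Y : Sp S} (f : X ⟶ Y) (hf : Representable f)
    {V W : Over S} (b : (yon S).obj V ⟶ Y) (hb1 : RepWith @Etale b)
    (hb2 : RepWith @Surjective b) (fst : (yon S).obj W ⟶ X) (snd : W ⟶ V)
    (sq : IsPullback fst ((yon S).map snd) f b) (hP : P snd.left) : RepLocT P f := by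
  refine ⟨hf, fun V' W' b' fst' snd' hb' sq' => ?_⟩
  have sqV := hb1.rep.isPullback' b'
  have hq1 : Etale (hb1.rep.snd b').left := hb1.property _ _ _ sqV
  have hq2 : Surjective (hb1.rep.snd b').left := hb2.property _ _ _ sqV
  have hp : Etale (hb1.rep.fst' b').left := hb'.property _ _ _ sqV.flip
  have sqW := hf.isPullback ((yon S).map (hb1.rep.fst' b') ≫ b)
  obtain ⟨α, hα⟩ := exists_isPullback_left sq (hb1.rep.fst' b') sqW
  have sqW' : IsPullback (hf.fst ((yon S).map (hb1.rep.fst' b') ≫ b))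
      ((yon S).map (hf.snd ((yon S).map (hb1.rep.fst' b') ≫ b))) f
      ((yon S).map (hb1.rep.snd b') ≫ b') := by
    rw [← sqV.w]
    exact sqW
  obtain ⟨β, hβ⟩ := exists_isPullback_left sq' (hb1.rep.snd b') sqW'
  have h1 : P (hf.snd ((yon S).map (hb1.rep.fst' b') ≫ b)).left :=
    etTarget_baseChange P hα hp hP
  exact etTarget_descent P hβ hq1 hq2 h1

end Groth.Agent.H25.AS
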