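import Mathlib

/-!
# Support of a base change and the unramified locus under base change (ring level)
-/

open TensorProduct

namespace Groth.Agent.H25.Unr

universe u

section Fields

variable {A K L M : Type*} [CommRing A] [Field K] [Field L] [Algebra A K] [Algebra A L]
  [Algebra K L] [IsScalarTower A K L] [AddCommGroup M] [Module A M]

theorem nontrivial_tensor_field_iff : Nontrivial (L ⊗[A] M) ↔ Nontrivial (K ⊗[A] M) := by
  let e : L ⊗[K] (K ⊗[A] M) ≃ₗ[L] L ⊗[A] M := AlgebraTensorModule.cancelBaseChange A K L L M
  rw [← e.nontrivial_congr]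
  constructor
  · intro h
    by_contra h'
    rw [not_nontrivial_iff_subsingleton] at h'
    exact not_subsingleton (L ⊗[K] (K ⊗[A] M)) inferInstance
  · intro h
    exact Module.FaithfullyFlat.lTensor_nontrivial K L (K ⊗[A] M)

end Fields

section Support

variable {A A₁ M : Type*} [CommRing A] [CommRing A₁] [Algebra A A₁] [AddCommGroup M] [Module A M]
  [Module.Finite A M]

theorem mem_support_baseChange_iff (q₁ : PrimeSpectrum A₁) :
    q₁ ∈ Module.support A₁ (A₁ ⊗[A] M) ↔
      PrimeSpectrum.comap (algebraMap A A₁) q₁ ∈ Module.support A M := by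
  set q := PrimeSpectrum.comap (algebraMap A A₁) q₁ with hq
  rw [Module.mem_support_iff_nontrivial_residueField_tensorProduct,
    Module.mem_support_iff_nontrivial_residueField_tensorProduct]
  let φ : q.asIdeal.ResidueField →+* q₁.asIdeal.ResidueField :=
    Ideal.ResidueField.map q.asIdeal q₁.asIdeal (algebraMap A A₁) rfl
  letI : Algebra q.asIdeal.ResidueField q₁.asIdeal.ResidueField := φ.toAlgebra
  haveI : IsScalarTower A q.asIdeal.ResidueField q₁.asIdeal.ResidueField :=
    IsScalarTower.of_algebraMap_eq fun r => by
      change _ = φ (algebraMap A _ r)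
      rw [Ideal.ResidueField.map_algebraMap]
      exact IsScalarTower.algebraMap_apply A A₁ _ r
  let e : q₁.asIdeal.ResidueField ⊗[A₁] (A₁ ⊗[A] M) ≃ₗ[q₁.asIdeal.ResidueField]
      q₁.asIdeal.ResidueField ⊗[A] M :=
    AlgebraTensorModule.cancelBaseChange A A₁ q₁.asIdeal.ResidueField q₁.asIdeal.ResidueField M
  rw [e.nontrivial_congr]
  exact nontrivial_tensor_field_iff

end Support

section Locus

variable {R S A B : Type*} [CommRing R] [CommRing S] [CommRing A] [CommRing B] [Algebra R S]
  [Algebra R A] [Algebra R B] [Algebra A B] [Algebra S B] [IsScalarTower R A B]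
  [IsScalarTower R S B] [Algebra.IsPushout R S A B] [Algebra.FiniteType R A]

/-- The unramified locus of a finite type algebra commutes with arbitrary base change. -/
theorem mem_unramifiedLocus_baseChange_iff (q₁ : PrimeSpectrum B) :
    q₁ ∈ Algebra.unramifiedLocus S B ↔
      PrimeSpectrum.comap (algebraMap A B) q₁ ∈ Algebra.unramifiedLocus R A := by
  rw [Algebra.unramifiedLocus_eq_compl_support, Algebra.unramifiedLocus_eq_compl_support,
    Set.mem_compl_iff, Set.mem_compl_iff, not_iff_not,
    ← mem_support_baseChange_iff (M := Ω[A⁄R]) q₁,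
    (KaehlerDifferential.tensorKaehlerEquiv R S A B).support_eq]

end Locus

end Groth.Agent.H25.Unr
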