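import Mathlib
import Groth.Agent.H25.Unr1

/-!
# Formally unramified near a point: base change (scheme level)
-/

open CategoryTheory CategoryTheory.Limits AlgebraicGeometry TensorProduct

namespace Groth.Agent.H25.Unr

universe u

attribute [local instance] Algebra.TensorProduct.rightAlgebra

/-- Precomposing with an open immersion whose range lies in `W` keeps formal unramifiedness of
`W.ι ≫ f`. -/
theorem fu_of_range_le {X Y T : Scheme.{u}} (f : X ⟶ Y) (W : X.Opens)
    (hW : FormallyUnramified (W.ι ≫ f)) (j : T ⟶ X) [IsOpenImmersion j]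
    (hj : Set.range j ⊆ (W : Set X)) : FormallyUnramified (j ≫ f) := by
  have hr : Set.range j ⊆ Set.range W.ι := by
    rwa [Scheme.Opens.range_ι]
  have e : IsOpenImmersion.lift W.ι j hr ≫ W.ι = j := IsOpenImmersion.lift_fac _ _ _
  have : IsOpenImmersion (IsOpenImmersion.lift W.ι j hr ≫ W.ι) := by rw [e]; infer_instance
  have : IsOpenImmersion (IsOpenImmersion.lift W.ι j hr) := IsOpenImmersion.of_comp _ W.ι
  rw [← e, Category.assoc]
  exact MorphismProperty.comp_mem _ _ _ (inferInstance : FormallyUnramified _) hW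

theorem affine_case {R A R₁ : Type u} [CommRing R] [CommRing A] [CommRing R₁] [Algebra R A]
    [Algebra R R₁] [Algebra.FiniteType R A]
    (p : ↥(pullback (Spec.map (CommRingCat.ofHom (algebraMap R A)))
      (Spec.map (CommRingCat.ofHom (algebraMap R R₁)))))
    (W₁ : (pullback (Spec.map (CommRingCat.ofHom (algebraMap R A)))
      (Spec.map (CommRingCat.ofHom (algebraMap R R₁)))).Opens) (hp : p ∈ W₁)
    (hFU : FormallyUnramified (W₁.ι ≫ pullback.snd _ _)) :
    ∃ W : (Spec (.of A)).Opens,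
      (pullback.fst (Spec.map (CommRingCat.ofHom (algebraMap R A)))
        (Spec.map (CommRingCat.ofHom (algebraMap R R₁)))) p ∈ W ∧
      FormallyUnramified (W.ι ≫ Spec.map (CommRingCat.ofHom (algebraMap R A))) := by
  let e := pullbackSpecIso R A R₁
  let B := A ⊗[R] R₁
  let q₁ : PrimeSpectrum B := e.hom p
  have hq₁ : e.inv q₁ = p := by
    change (e.hom ≫ e.inv) p = p
    rw [Iso.hom_inv_id]; rfl
  have hq₁W : q₁ ∈ (e.inv ⁻¹ᵁ W₁ : (Spec (.of B)).Opens) := by
    change e.inv q₁ ∈ W₁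
    rwa [hq₁]
  obtain ⟨_, ⟨_, ⟨t, rfl⟩, rfl⟩, hqt, htW⟩ :=
    PrimeSpectrum.isBasis_basic_opens.exists_subset_of_mem_open hq₁W (e.inv ⁻¹ᵁ W₁).isOpen
  -- the basic open `D(t)` is formally unramified over `R₁`
  let j : Spec (.of (Localization.Away t)) ⟶ Spec (.of B) :=
    Spec.map (CommRingCat.ofHom (algebraMap B (Localization.Away t)))
  have hjr : Set.range (j ≫ e.inv) ⊆ (W₁ : Set _) := by
    rintro _ ⟨y, rfl⟩
    have : j y ∈ (PrimeSpectrum.basicOpen t : Set (PrimeSpectrum B)) := by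
      rw [← PrimeSpectrum.localization_away_comap_range (Localization.Away t) t]
      exact ⟨y, rfl⟩
    exact htW this
  have h1 : FormallyUnramified ((j ≫ e.inv) ≫ pullback.snd _ _) :=
    fu_of_range_le _ W₁ hFU (j ≫ e.inv) hjr
  have h2 : Algebra.FormallyUnramified R₁ (Localization.Away t) := by
    rw [Category.assoc, pullbackSpecIso_inv_snd, ← Spec.map_comp,
      HasRingHomProperty.Spec_iff (P := @FormallyUnramified)] at h1
    rw [← RingHom.formallyUnramified_algebraMap, IsScalarTower.algebraMap_eq R₁ B]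
    exact h1
  have h3 : q₁ ∈ Algebra.unramifiedLocus R₁ B :=
    (Algebra.basicOpen_subset_unramifiedLocus_iff.mpr h2) hqt
  have h4 := (mem_unramifiedLocus_baseChange_iff (R := R) (S := R₁) (A := A) (B := B) q₁).1 h3
  set q : PrimeSpectrum A := PrimeSpectrum.comap (algebraMap A B) q₁ with hq
  have hqp : (pullback.fst (Spec.map (CommRingCat.ofHom (algebraMap R A)))
        (Spec.map (CommRingCat.ofHom (algebraMap R R₁)))) p = q := by
    rw [← hq₁]
    change (e.inv ≫ pullback.fst _ _) q₁ = q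
    rw [pullbackSpecIso_inv_fst]
    rfl
  haveI : Algebra.IsUnramifiedAt R q.asIdeal := h4
  obtain ⟨f, hfq, hf⟩ := Algebra.exists_formallyUnramified_of_isUnramifiedAt (R := R) q.asIdeal
  let jf : Spec (.of (Localization.Away f)) ⟶ Spec (.of A) :=
    Spec.map (CommRingCat.ofHom (algebraMap A (Localization.Away f)))
  refine ⟨jf.opensRange, ?_, ?_⟩
  · rw [hqp]
    change q ∈ Set.range jf
    erw [PrimeSpectrum.localization_away_comap_range (Localization.Away f) f]
    exact hfq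
  · rw [← Scheme.Hom.isoOpensRange_inv_comp, Category.assoc,
      MorphismProperty.cancel_left_of_respectsIso (P := @FormallyUnramified), ← Spec.map_comp,
      HasRingHomProperty.Spec_iff (P := @FormallyUnramified)]
    rw [← RingHom.formallyUnramified_algebraMap, IsScalarTower.algebraMap_eq R A] at hf
    exact hf

theorem affine_case' {R A R₁ : CommRingCat.{u}} (φ : R ⟶ A) (ψ : R ⟶ R₁)
    (hφ : φ.hom.FiniteType) (p : ↥(pullback (Spec.map φ) (Spec.map ψ)))
    (W₁ : (pullback (Spec.map φ) (Spec.map ψ)).Opens) (hp : p ∈ W₁)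
    (hFU : FormallyUnramified (W₁.ι ≫ pullback.snd _ _)) :
    ∃ W : (Spec A).Opens, (pullback.fst (Spec.map φ) (Spec.map ψ)) p ∈ W ∧
      FormallyUnramified (W.ι ≫ Spec.map φ) := by
  algebraize [φ.hom, ψ.hom]
  exact affine_case (R := R) (A := A) (R₁ := R₁) p W₁ hp hFU

/-- If `k` is an open immersion and `k ≫ h` is formally unramified then so is the restriction of
`h` to the range of `k`. -/
theorem fu_opensRange {T U V : Scheme.{u}} (k : T ⟶ U) [IsOpenImmersion k] (h : U ⟶ V)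
    (hk : FormallyUnramified (k ≫ h)) : FormallyUnramified (k.opensRange.ι ≫ h) := by
  rw [← Scheme.Hom.isoOpensRange_inv_comp, Category.assoc,
    MorphismProperty.cancel_left_of_respectsIso (P := @FormallyUnramified)]
  exact hk

/-- Formal unramifiedness near a point descends along arbitrary base change, for morphisms locally
of finite type. -/
theorem fu_near_of_isPullback {U V V₁ U₁ : Scheme.{u}} {g' : U₁ ⟶ U} {h₁ : U₁ ⟶ V₁} {h : U ⟶ V}
    {g : V₁ ⟶ V} (sq : IsPullback g' h₁ h g) [LocallyOfFiniteType h] (u₁ : U₁) (W₁ : U₁.Opens)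
    (hu₁ : u₁ ∈ W₁) (hFU : FormallyUnramified (W₁.ι ≫ h₁)) :
    ∃ W : U.Opens, g' u₁ ∈ W ∧ FormallyUnramified (W.ι ≫ h) := by
  obtain ⟨V₀, hV₀, hvV₀, -⟩ :=
    exists_isAffineOpen_mem_and_subset (x := h (g' u₁)) (U := ⊤) trivial
  obtain ⟨U₀, hU₀, huU₀, hU₀V₀⟩ :=
    exists_isAffineOpen_mem_and_subset (x := g' u₁) (U := h ⁻¹ᵁ V₀) hvV₀
  have hgv : g (h₁ u₁) ∈ V₀ := by
    rw [← Scheme.Hom.comp_apply, ← sq.w, Scheme.Hom.comp_apply]; exact hvV₀
  obtain ⟨V₁₀, hV₁₀, hvV₁₀, hV₁₀V₀⟩ :=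
    exists_isAffineOpen_mem_and_subset (x := h₁ u₁) (U := g ⁻¹ᵁ V₀) hgv
  let φ := h.appLE V₀ U₀ hU₀V₀
  let ψ := g.appLE V₀ V₁₀ hV₁₀V₀
  have e1 : Spec.map φ ≫ hV₀.fromSpec = hU₀.fromSpec ≫ h :=
    IsAffineOpen.SpecMap_appLE_fromSpec h hV₀ hU₀ _
  have e2 : Spec.map ψ ≫ hV₀.fromSpec = hV₁₀.fromSpec ≫ g :=
    IsAffineOpen.SpecMap_appLE_fromSpec g hV₀ hV₁₀ _
  let θ : pullback (Spec.map φ) (Spec.map ψ) ⟶ U₁ :=
    sq.lift (pullback.fst _ _ ≫ hU₀.fromSpec) (pullback.snd _ _ ≫ hV₁₀.fromSpec) (by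
      rw [Category.assoc, ← e1, ← Category.assoc, pullback.condition, Category.assoc, e2,
        Category.assoc])
  have hθ : θ = pullback.map (Spec.map φ) (Spec.map ψ) h g hU₀.fromSpec hV₁₀.fromSpec hV₀.fromSpec
      e1 e2 ≫ sq.isoPullback.inv := by
    apply sq.hom_ext
    · simp [θ]
      exact (pullback.lift_fst _ _ _).symm
    · simp [θ]
      exact (pullback.lift_snd _ _ _).symm
  haveI : IsOpenImmersion θ := by rw [hθ]; infer_instance
  have hu₁θ : u₁ ∈ Set.range θ := by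
    have hm : sq.isoPullback.hom u₁ ∈ Set.range (pullback.map (Spec.map φ) (Spec.map ψ) h g
        hU₀.fromSpec hV₁₀.fromSpec hV₀.fromSpec e1 e2) := by
      rw [Scheme.Pullback.range_map]
      refine ⟨?_, ?_⟩
      · change (sq.isoPullback.hom ≫ pullback.fst h g) u₁ ∈ Set.range hU₀.fromSpec
        rw [sq.isoPullback_hom_fst, hU₀.range_fromSpec]
        exact huU₀
      · change (sq.isoPullback.hom ≫ pullback.snd h g) u₁ ∈ Set.range hV₁₀.fromSpec
        rw [sq.isoPullback_hom_snd, hV₁₀.range_fromSpec]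
        exact hvV₁₀
    obtain ⟨p, hp⟩ := hm
    refine ⟨p, ?_⟩
    rw [hθ, Scheme.Hom.comp_apply, hp]
    change (sq.isoPullback.hom ≫ sq.isoPullback.inv) u₁ = u₁
    rw [Iso.hom_inv_id]; rfl
  obtain ⟨p, hp⟩ := hu₁θ
  have hFU' : FormallyUnramified ((θ ⁻¹ᵁ W₁).ι ≫ pullback.snd (Spec.map φ) (Spec.map ψ)) := by
    have h0 : FormallyUnramified (((θ ⁻¹ᵁ W₁).ι ≫ pullback.snd (Spec.map φ) (Spec.map ψ)) ≫
        hV₁₀.fromSpec) := by
      have : ((θ ⁻¹ᵁ W₁).ι ≫ pullback.snd (Spec.map φ) (Spec.map ψ)) ≫ hV₁₀.fromSpec =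
          ((θ ⁻¹ᵁ W₁).ι ≫ θ) ≫ h₁ := by
        rw [Category.assoc, Category.assoc, sq.lift_snd]
      rw [this]
      refine fu_of_range_le h₁ W₁ hFU ((θ ⁻¹ᵁ W₁).ι ≫ θ) ?_
      rintro _ ⟨y, rfl⟩
      exact y.2
    exact FormallyUnramified.of_comp _ hV₁₀.fromSpec
  have hφ : φ.hom.FiniteType := LocallyOfFiniteType.finiteType_appLE h hV₀ hU₀ _
  obtain ⟨W, hW, hWFU⟩ := affine_case' φ ψ hφ p (θ ⁻¹ᵁ W₁) (by
    change θ p ∈ W₁
    rw [hp]; exact hu₁) hFU'
  refine ⟨(W.ι ≫ hU₀.fromSpec).opensRange, ?_, ?_⟩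
  · refine ⟨⟨_, hW⟩, ?_⟩
    change hU₀.fromSpec ((pullback.fst (Spec.map φ) (Spec.map ψ)) p) = g' u₁
    rw [← hp]
    change _ = (θ ≫ g') p
    rw [sq.lift_fst]
    rfl
  · apply fu_opensRange
    rw [Category.assoc, ← e1, ← Category.assoc]
    exact MorphismProperty.comp_mem _ _ _ hWFU (inferInstance : FormallyUnramified _)

end Groth.Agent.H25.Unr
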