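import Mathlib
import Groth.Agent.H25.Unr2

/-!
# Formally unramified / locally quasi-finite under thickening base change (scheme level)
-/

open CategoryTheory CategoryTheory.Limits AlgebraicGeometry

namespace Groth.Agent.H25.Unr

universe u

/-- If the base change of a morphism locally of finite type along a surjective morphism is
formally unramified, so is the morphism. -/
theorem fu_of_isPullback_surjective {X X' Y Y' : Scheme.{u}} {iX : X ⟶ X'} {iY : Y ⟶ Y'}
    {f : X ⟶ Y} {f' : X' ⟶ Y'} (hc : IsPullback iX f f' iY) (hs : Surjective iX)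
    [LocallyOfFiniteType f'] (hf : FormallyUnramified f) : FormallyUnramified f' := by
  have key : ∀ x' : X', ∃ W : X'.Opens, x' ∈ W ∧ FormallyUnramified (W.ι ≫ f') := by
    intro x'
    obtain ⟨x, rfl⟩ := hs.surj x'
    refine fu_near_of_isPullback hc x ⊤ trivial ?_
    exact MorphismProperty.comp_mem _ _ _ (inferInstance : FormallyUnramified _) hf
  choose W hW hWf using key
  refine IsZariskiLocalAtSource.of_iSup_eq_top (P := @FormallyUnramified) W ?_ hWf
  exact top_le_iff.mp fun x _ => TopologicalSpace.Opens.mem_iSup.mpr ⟨x, hW x⟩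

theorem surjective_of_isPullback {X X' Y Y' : Scheme.{u}} {iX : X ⟶ X'} {iY : Y ⟶ Y'}
    {f : X ⟶ Y} {f' : X' ⟶ Y'} (hc : IsPullback iX f f' iY) (hs : Surjective iY) :
    Surjective iX :=
  MorphismProperty.of_isPullback (P := @Surjective) hc.flip hs

theorem isClosedImmersion_of_isPullback {X X' Y Y' : Scheme.{u}} {iX : X ⟶ X'} {iY : Y ⟶ Y'}
    {f : X ⟶ Y} {f' : X' ⟶ Y'} (hc : IsPullback iX f f' iY) (hs : IsClosedImmersion iY) :
    IsClosedImmersion iX :=
  MorphismProperty.of_isPullback (P := @IsClosedImmersion) hc.flip hs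

/-- Locally quasi-finite ascends along a thickening base change. -/
theorem lqf_of_isPullback_thick {X X' Y Y' : Scheme.{u}} {iX : X ⟶ X'} {iY : Y ⟶ Y'}
    {f : X ⟶ Y} {f' : X' ⟶ Y'} (hc : IsPullback iX f f' iY) (hs : Surjective iY)
    (hci : IsClosedImmersion iY) [LocallyOfFiniteType f] [LocallyOfFiniteType f']
    (hf : LocallyQuasiFinite f) : LocallyQuasiFinite f' := by
  have hsX := surjective_of_isPullback hc hs
  have hcX := isClosedImmersion_of_isPullback hc hci
  rw [locallyQuasiFinite_iff_isDiscrete_preimage_singleton] at hf ⊢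
  intro y'
  obtain ⟨y, rfl⟩ := hs.surj y'
  have hinjY : Function.Injective iY := iY.isClosedEmbedding.injective
  have : f' ⁻¹' {iY y} = iX '' (f ⁻¹' {y}) := by
    ext x'
    constructor
    · intro hx'
      obtain ⟨x, rfl⟩ := hsX.surj x'
      refine ⟨x, ?_, rfl⟩
      apply hinjY
      have : iY (f x) = f' (iX x) := by
        rw [← Scheme.Hom.comp_apply, ← Scheme.Hom.comp_apply, hc.w]
      rw [this]
      exact hx'
    · rintro ⟨x, hx, rfl⟩
      have : iY (f x) = f' (iX x) := by
        rw [← Scheme.Hom.comp_apply, ← Scheme.Hom.comp_apply, hc.w]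
      rw [Set.mem_preimage, Set.mem_singleton_iff, ← this, hx]
  rw [this]
  exact (hf y).image iX.isClosedEmbedding.isInducing

end Groth.Agent.H25.Unr
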