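import Groth.Agent.H25.AlgSp57
import Groth.Agent.H25.Unr3
import Groth.Prelude.Def_AlgSpInf

/-!
# Algebraic spaces toolkit, part 58: properties ascending along thickening base change
-/

universe u

open CategoryTheory CategoryTheory.Limits AlgebraicGeometry Opposite AlgSp MorphismProperty

namespace Groth.Agent.H25.AS

variable {S : Scheme.{u}}

/-- If a property of morphisms of schemes locally of finite type ascends along thickening base
change, so does the corresponding etale-local property of morphisms of algebraic spaces. -/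
theorem locP_thick_ascend {P : MorphismProperty Scheme.{u}} (hP : EtLoc P)
    (hasc : ∀ {X X' Y Y' : Scheme.{u}} {iX : X ⟶ X'} {iY : Y ⟶ Y'} {f : X ⟶ Y} {f' : X' ⟶ Y'},
      IsPullback iX f f' iY → thick iY → LocallyOfFiniteType f' → P f → P f')
    {X X' Y Y' : Sp S} (hX' : IsAlgSpace X') (hY' : IsAlgSpace Y')
    {i : X ⟶ X'} {j : Y ⟶ Y'} {f : X ⟶ Y} {f' : X' ⟶ Y'}
    (hj : IsThickMor j) (hcart : IsPullback i f f' j) (hft' : LocP @LocallyOfFiniteType f')
    (hf : LocP P f) : LocP P f' := by
  obtain ⟨V', b', hb'e, hb's⟩ := hY'.atlas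
  obtain ⟨U', u', h', hu'e, hu's, hh'⟩ := exists_chart_over hX' hY'.diag f' b'
  have sqf'b' := IsPullback.of_hasPullback f' b'
  have ha'e : RepWith @Etale (u' ≫ pullback.fst f' b') :=
    repWith_etale_comp hu'e (repWith_fst_of_isPullback sqf'b' hb'e)
  have ha's : RepWith @Surjective (u' ≫ pullback.fst f' b') :=
    repWith_surjective_comp hu's (repWith_fst_of_isPullback sqf'b' hb's)
  have c' : (u' ≫ pullback.fst f' b') ≫ f' = (yon S).map h' ≫ b' := by
    rw [Category.assoc, sqf'b'.w, ← Category.assoc, hh']
  have hLFT : LocallyOfFiniteType h'.left := hft' _ _ h' ha'e hb'e c'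
  -- base change of the target chart along the thickening
  have sqV := hj.rep.isPullback b'
  have hthick : thick (hj.rep.snd b').left := hj.property b' _ _ sqV
  have hbe : RepWith @Etale (hj.rep.fst b') := repWith_fst_of_isPullback sqV hb'e
  -- the source chart
  have sqU := (IsPullback.of_hasPullback h' (hj.rep.snd b')).map (yon S)
  have big := sqU.paste_vert sqV.flip
  have w1 : ((yon S).map (pullback.fst h' (hj.rep.snd b')) ≫ (u' ≫ pullback.fst f' b')) ≫ f' =
      ((yon S).map (pullback.snd h' (hj.rep.snd b')) ≫ hj.rep.fst b') ≫ j := by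
    rw [Category.assoc, c', big.w]
  obtain ⟨a, ha1, ha2⟩ := hcart.exists_lift _ _ w1
  have big' : IsPullback ((yon S).map (pullback.fst h' (hj.rep.snd b'))) (a ≫ f)
      ((u' ≫ pullback.fst f' b') ≫ f') j := by
    rw [ha2, c']
    exact big
  have top : IsPullback ((yon S).map (pullback.fst h' (hj.rep.snd b'))) a
      (u' ≫ pullback.fst f' b') i := IsPullback.of_bot big' ha1.symm hcart
  have hae : RepWith @Etale a := repWith_snd_of_isPullback top ha'e
  have hPh : P (pullback.snd h' (hj.rep.snd b')).left := hf a (hj.rep.fst b') _ hae hbe ha2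
  have sqSch := (IsPullback.of_hasPullback h' (hj.rep.snd b')).map (Over.forget S)
  exact locP_of_chart hP f' _ b' h' ha'e ha's hb'e c' (hasc sqSch hthick hLFT hPh)

end Groth.Agent.H25.AS
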