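import Groth.Agent.H25.AlgSp58

/-!
# Algebraic spaces toolkit, part 59: properties "near a point" and chart independence of `HasAtMor`
-/

universe u

open CategoryTheory CategoryTheory.Limits AlgebraicGeometry Opposite AlgSp MorphismProperty

namespace Groth.Agent.H25.AS

/-- A property of pointed morphisms of schemes which is etale local on the source-and-target. -/
structure PtEtLoc (Q : ∀ (U V : Scheme.{u}), (U ⟶ V) → ↥U → Prop) : Prop where
  iff_of_square : ∀ {U₁ V₁ U₃ V₃ : Scheme.{u}} (h₁ : U₁ ⟶ V₁) (h₃ : U₃ ⟶ V₃) (α : U₃ ⟶ U₁)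
    (β : V₃ ⟶ V₁), Etale α → Etale β → α ≫ h₁ = h₃ ≫ β → ∀ u₃ : ↥U₃,
      (Q U₁ V₁ h₁ (α u₃) ↔ Q U₃ V₃ h₃ u₃)

/-- `P` holds on an open neighbourhood of the point. -/
def NearP (P : MorphismProperty Scheme.{u}) (U V : Scheme.{u}) (h : U ⟶ V) (u : ↥U) : Prop :=
  ∃ W : U.Opens, u ∈ W ∧ P (W.ι ≫ h)

theorem ptEtLoc_near {P : MorphismProperty Scheme.{u}} (hP : EtLoc P) : PtEtLoc (NearP P) where
  iff_of_square := by
    intro U₁ V₁ U₃ V₃ h₁ h₃ α β hα hβ w u₃
    constructor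
    · rintro ⟨W₁, hu, hW₁⟩
      refine ⟨α ⁻¹ᵁ W₁, hu, ?_⟩
      have hr : Etale (α ∣_ W₁) :=
        MorphismProperty.of_isPullback (P := @Etale) (isPullback_morphismRestrict α W₁).flip hα
      have h1 : P ((α ∣_ W₁) ≫ (W₁.ι ≫ h₁)) := hP.comp _ _ (hP.etale_le _ hr) hW₁
      have e : (α ∣_ W₁) ≫ (W₁.ι ≫ h₁) = ((α ⁻¹ᵁ W₁).ι ≫ h₃) ≫ β := by
        rw [← Category.assoc, morphismRestrict_ι, Category.assoc, w, Category.assoc]
      rw [e] at h1
      exact hP.cancel _ _ hβ h1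
    · rintro ⟨W₃, hu, hW₃⟩
      let k : W₃.toScheme ⟶ U₁ := W₃.ι ≫ α
      haveI : Etale k := by
        haveI := hα
        infer_instance
      let W₁ : U₁.Opens := ⟨Set.range k, k.isOpenMap.isOpen_range⟩
      have hr : Set.range k ⊆ Set.range W₁.ι := by
        rw [Scheme.Opens.range_ι]; exact subset_rfl
      let k' : W₃.toScheme ⟶ W₁.toScheme := IsOpenImmersion.lift W₁.ι k hr
      have ek : k' ≫ W₁.ι = k := IsOpenImmersion.lift_fac _ _ _
      have hk'e : Etale k' := etLoc_etale.cancel k' W₁.ι inferInstance (by rw [ek]; infer_instance)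
      have hk's : Surjective k' := by
        refine ⟨fun y => ?_⟩
        obtain ⟨z, hz⟩ : (W₁.ι y) ∈ Set.range k := y.2
        refine ⟨z, ?_⟩
        apply W₁.ι.isOpenEmbedding.injective
        rw [← Scheme.Hom.comp_apply, ek]
        exact hz
      refine ⟨W₁, ⟨⟨u₃, hu⟩, rfl⟩, ?_⟩
      have h1 : P ((W₃.ι ≫ h₃) ≫ β) := hP.comp _ _ hW₃ (hP.etale_le _ hβ)
      have e : (W₃.ι ≫ h₃) ≫ β = k' ≫ (W₁.ι ≫ h₁) := by
        rw [← Category.assoc k', ek, Category.assoc, ← w, Category.assoc]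
      rw [e] at h1
      exact hP.source _ _ hk'e hk's h1

variable {S : Scheme.{u}}

/-- Chart independence: if `f` has `Q` at `x` for some chart diagram, it has `Q` for every chart
diagram through `x`. -/
theorem hasAtMor_all_of_some {Q : ∀ (U V : Scheme.{u}), (U ⟶ V) → ↥U → Prop} (hQ : PtEtLoc Q)
    {X Y : Sp S} (f : X ⟶ Y) (x : Points X) (hx : HasAtMor Q f x)
    {U V : Over S} (a : (yon S).obj U ⟶ X) (b : (yon S).obj V ⟶ Y) (h : U ⟶ V) (u : ↥U.left)
    (ha : RepWith @Etale a) (hb : RepWith @Etale b) (w : a ≫ f = (yon S).map h ≫ b)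
    (hu : Points.ofPt a u = x) : Q U.left V.left h.left u := by
  obtain ⟨U₁, V₁, a₁, b₁, h₁, u₁, ha₁, hb₁, w₁, hu₁, hQ₁⟩ := hx
  have sqU := ha₁.rep.isPullback' a
  have sqV := hb₁.rep.isPullback' b
  have hp2e : Etale (ha₁.rep.snd a).left := ha₁.property_snd a
  have hp1e : Etale (ha₁.rep.fst' a).left := ha.property _ _ _ sqU.flip
  have hq2e : Etale (hb₁.rep.snd b).left := hb₁.property_snd b
  have hq1e : Etale (hb₁.rep.fst' b).left := hb.property _ _ _ sqV.flip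
  have hw : ((yon S).map (ha₁.rep.fst' a) ≫ (yon S).map h₁) ≫ b₁ =
      ((yon S).map (ha₁.rep.snd a) ≫ (yon S).map h) ≫ b := by
    rw [Category.assoc, ← w₁, ← Category.assoc, sqU.w, Category.assoc, w, Category.assoc]
  obtain ⟨l, hl1, hl2⟩ := sqV.exists_lift _ _ hw
  obtain ⟨h₃, rfl⟩ := (yon S).map_surjective l
  have e1 : h₃ ≫ hb₁.rep.fst' b = ha₁.rep.fst' a ≫ h₁ := (yon S).map_injective (by
    rw [Functor.map_comp, hl1, Functor.map_comp])
  have e2 : h₃ ≫ hb₁.rep.snd b = ha₁.rep.snd a ≫ h := (yon S).map_injective (by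
    rw [Functor.map_comp, hl2, Functor.map_comp])
  obtain ⟨u₃, hu₃a, hu₃b⟩ := exists_point_of_isPullback' sqU u u₁ (by rw [hu, hu₁])
  have e1' : (ha₁.rep.fst' a).left ≫ h₁.left = h₃.left ≫ (hb₁.rep.fst' b).left := by
    rw [← Over.comp_left, ← Over.comp_left, e1]
  have e2' : (ha₁.rep.snd a).left ≫ h.left = h₃.left ≫ (hb₁.rep.snd b).left := by
    rw [← Over.comp_left, ← Over.comp_left, e2]
  have h3 : Q _ _ h₃.left u₃ := by
    rw [← hQ.iff_of_square h₁.left h₃.left _ _ hp1e hq1e e1' u₃, hu₃b]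
    exact hQ₁
  rw [← hu₃a, hQ.iff_of_square h.left h₃.left _ _ hp2e hq2e e2' u₃]
  exact h3

theorem isOpen_hasAtMor_near (P : MorphismProperty Scheme.{u}) {X Y : Sp S} (f : X ⟶ Y) :
    IsOpen {x : Points X | HasAtMor (NearP P) f x} := by
  rw [isOpen_iff_forall_mem_open]
  rintro x ⟨U, V, a, b, h, u, ha, hb, w, hu, W, huW, hW⟩
  refine ⟨Points.ofPt a '' W, ?_, isOpenMap_ofPt a ha _ W.isOpen, ⟨u, huW, hu⟩⟩
  rintro _ ⟨u', hu', rfl⟩
  exact ⟨U, V, a, b, h, u', ha, hb, w, rfl, W, hu', hW⟩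

/-- Compatible chart diagrams of a morphism and of a base change of it, forming a pullback square
of schemes. -/
theorem exists_chart_baseChange {X Y Y' X' : Sp S} (hX : IsAlgSpace X) (hY : IsAlgSpace Y)
    (hY' : IsAlgSpace Y') {f : X ⟶ Y} {g : Y' ⟶ Y} {fst : X' ⟶ X} {f' : X' ⟶ Y'}
    (sq : IsPullback fst f' f g) :
    ∃ (U V U'' V'' : Over S) (aU : (yon S).obj U ⟶ X) (bV : (yon S).obj V ⟶ Y) (h : U ⟶ V)
      (a'' : (yon S).obj U'' ⟶ X') (b'' : (yon S).obj V'' ⟶ Y') (h'' : U'' ⟶ V'')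
      (gU : U'' ⟶ U) (k : V'' ⟶ V),
      RepWith @Etale aU ∧ RepWith @Etale bV ∧ aU ≫ f = (yon S).map h ≫ bV ∧
      RepWith @Etale a'' ∧ RepWith @Surjective a'' ∧ RepWith @Etale b'' ∧
      a'' ≫ f' = (yon S).map h'' ≫ b'' ∧
      IsPullback gU.left h''.left h.left k.left ∧ a'' ≫ fst = (yon S).map gU ≫ aU := by
  obtain ⟨V, b, hbe, hbs⟩ := hY.atlas
  obtain ⟨V', v', k, hv'e, hv's, hk⟩ := exists_chart_over hY' hY.diag g b
  obtain ⟨U, u, h, hue, hus, hh⟩ := exists_chart_over hX hY.diag f b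
  have sqfb := IsPullback.of_hasPullback f b
  have sqgb := IsPullback.of_hasPullback g b
  have hb'e : RepWith @Etale (v' ≫ pullback.fst g b) :=
    repWith_etale_comp hv'e (repWith_fst_of_isPullback sqgb hbe)
  have hb's : RepWith @Surjective (v' ≫ pullback.fst g b) :=
    repWith_surjective_comp hv's (repWith_fst_of_isPullback sqgb hbs)
  have hae : RepWith @Etale (u ≫ pullback.fst f b) :=
    repWith_etale_comp hue (repWith_fst_of_isPullback sqfb hbe)
  have hkb : (v' ≫ pullback.fst g b) ≫ g = (yon S).map k ≫ b := by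
    rw [Category.assoc, sqgb.w, ← Category.assoc, hk]
  have sqA := isPullback_lift_of_isPullback sq b (v' ≫ pullback.fst g b) ((yon S).map k) hkb
  have sqB : IsPullback ((yon S).map (pullback.fst h k)) ((yon S).map (pullback.snd h k))
      (u ≫ pullback.snd f b) ((yon S).map k) := by
    rw [← hh]
    exact (IsPullback.of_hasPullback h k).map (yon S)
  have sqW := IsPullback.of_bot' sqB sqA
  have sqf'b' := IsPullback.of_hasPullback f' (v' ≫ pullback.fst g b)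
  refine ⟨U, V, pullback h k, V', u ≫ pullback.fst f b, b, h,
    sqA.lift _ _ _ ≫ pullback.fst f' (v' ≫ pullback.fst g b), v' ≫ pullback.fst g b,
    pullback.snd h k, pullback.fst h k, k, hae, hbe, ?_,
    repWith_etale_comp (repWith_snd_of_isPullback sqW hue) (repWith_fst_of_isPullback sqf'b' hb'e),
    repWith_surjective_comp (repWith_snd_of_isPullback sqW hus)
      (repWith_fst_of_isPullback sqf'b' hb's), hb'e, ?_,
    (IsPullback.of_hasPullback h k).map (Over.forget S), ?_⟩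
  · rw [Category.assoc, sqfb.w, ← Category.assoc, hh]
  · rw [Category.assoc]
    refine (congrArg (_ ≫ ·) sqf'b'.w).trans ?_
    rw [← Category.assoc, sqA.lift_snd]
  · rw [Category.assoc]
    have e : pullback.fst f' (v' ≫ pullback.fst g b) ≫ fst =
        pullback.lift (pullback.fst f' (v' ≫ pullback.fst g b) ≫ fst)
          (pullback.snd f' (v' ≫ pullback.fst g b) ≫ (yon S).map k)
          (by rw [Category.assoc, sq.w, ← Category.assoc, pullback.condition, Category.assoc, hkb,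
            Category.assoc]) ≫ pullback.fst f b := (pullback.lift_fst _ _ _).symm
    refine (congrArg (_ ≫ ·) e).trans ?_
    rw [← Category.assoc, sqA.lift_fst, Category.assoc]

/-- A pointed property which is etale local on the source-and-target and compatible with base
change (for chart maps having `P₀`) is compatible with base change of algebraic spaces. -/
theorem hasAtMor_baseChange_iff {Q : ∀ (U V : Scheme.{u}), (U ⟶ V) → ↥U → Prop} (hQ : PtEtLoc Q)
    {P₀ : MorphismProperty Scheme.{u}}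
    (hbc : ∀ {U V V₁ U₁ : Scheme.{u}} {g' : U₁ ⟶ U} {h₁ : U₁ ⟶ V₁} {h : U ⟶ V} {g : V₁ ⟶ V},
      IsPullback g' h₁ h g → P₀ h → ∀ u₁ : ↥U₁, (Q U₁ V₁ h₁ u₁ ↔ Q U V h (g' u₁)))
    {X Y Y' X' : Sp S} (hX : IsAlgSpace X) (hY : IsAlgSpace Y) (hY' : IsAlgSpace Y')
    {f : X ⟶ Y} {g : Y' ⟶ Y} {fst : X' ⟶ X} {f' : X' ⟶ Y'} (sq : IsPullback fst f' f g)
    (hf : LocP P₀ f) (x' : Points X') :
    HasAtMor Q f' x' ↔ HasAtMor Q f (Points.map fst x') := by
  obtain ⟨U, V, U'', V'', aU, bV, h, a'', b'', h'', gU, k, haU, hbV, wU, ha''e, ha''s, hb''e, w'',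
    sqS, hcomp⟩ := exists_chart_baseChange hX hY hY' sq
  obtain ⟨u'', rfl⟩ := ofPt_surjective a'' ha''s x'
  have hu : Points.ofPt aU (gU.left u'') = Points.map fst (Points.ofPt a'' u'') := by
    rw [Points.map_ofPt, hcomp, ofPt_map_comp]
  have hP₀ : P₀ h.left := hf aU bV h haU hbV wU
  constructor
  · intro hx'
    have h1 := hasAtMor_all_of_some hQ f' _ hx' a'' b'' h'' u'' ha''e hb''e w'' rfl
    exact ⟨U, V, aU, bV, h, gU.left u'', haU, hbV, wU, hu, (hbc sqS hP₀ u'').1 h1⟩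
  · intro hx
    have h1 := hasAtMor_all_of_some hQ f _ hx aU bV h (gU.left u'') haU hbV wU hu
    exact ⟨U'', V'', a'', b'', h'', u'', ha''e, hb''e, w'', rfl, (hbc sqS hP₀ u'').2 h1⟩

theorem near_baseChange {P : MorphismProperty Scheme.{u}} [P.IsStableUnderBaseChange]
    {U V V₁ U₁ : Scheme.{u}} {g' : U₁ ⟶ U} {h₁ : U₁ ⟶ V₁} {h : U ⟶ V} {g : V₁ ⟶ V}
    (sq : IsPullback g' h₁ h g) (u₁ : ↥U₁) (hu : NearP P U V h (g' u₁)) : NearP P U₁ V₁ h₁ u₁ := by
  obtain ⟨W, hW, hP⟩ := hu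
  refine ⟨g' ⁻¹ᵁ W, hW, ?_⟩
  exact MorphismProperty.of_isPullback ((isPullback_morphismRestrict g' W).paste_vert sq) hP

theorem near_lft_fu_baseChange {U V V₁ U₁ : Scheme.{u}} {g' : U₁ ⟶ U} {h₁ : U₁ ⟶ V₁} {h : U ⟶ V}
    {g : V₁ ⟶ V} (sq : IsPullback g' h₁ h g) (hh : LocallyOfFiniteType h) (u₁ : ↥U₁) :
    NearP (@LocallyOfFiniteType ⊓ @FormallyUnramified) U₁ V₁ h₁ u₁ ↔
      NearP (@LocallyOfFiniteType ⊓ @FormallyUnramified) U V h (g' u₁) := by
  constructor
  · rintro ⟨W₁, hu, -, hFU⟩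
    obtain ⟨W, hW, hWFU⟩ := Groth.Agent.H25.Unr.fu_near_of_isPullback sq u₁ W₁ hu hFU
    exact ⟨W, hW, inferInstance, hWFU⟩
  · exact near_baseChange sq u₁

end Groth.Agent.H25.AS
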