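import Groth.Agent.H25.AlgSp5

/-!
# Algebraic spaces toolkit, part 6: products and fibre products of algebraic spaces
-/

universe u v w

open CategoryTheory CategoryTheory.Limits AlgebraicGeometry Opposite AlgSp

namespace Groth.Agent.H25.AS

section Cat

variable {C : Type v} [Category.{w} C] [HasBinaryProducts C]

/-- simp set for binary products (the Mathlib lemmas are not simp-normal here). -/
macro "psimp" : tactic => `(tactic| simp only [prod.lift_fst, prod.lift_snd, prod.map_fst,
  prod.map_snd, prod.comp_lift, prod.lift_map, Category.assoc, Category.comp_id, Category.id_comp,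
  prod.lift_fst_assoc, prod.lift_snd_assoc, prod.map_fst_assoc, prod.map_snd_assoc, Limits.diag])

macro "psimp" "at" h:ident : tactic => `(tactic| simp only [prod.lift_fst, prod.lift_snd,
  prod.map_fst, prod.map_snd, prod.comp_lift, prod.lift_map, Category.assoc, Category.comp_id,
  Category.id_comp, prod.lift_fst_assoc, prod.lift_snd_assoc, prod.map_fst_assoc,
  prod.map_snd_assoc, Limits.diag] at $h:ident)

theorem isPullback_prod_map_fst {A A' : C} (a : A ⟶ A') (B : C) :
    IsPullback (prod.fst : A ⨯ B ⟶ A) (prod.map a (𝟙 B)) a (prod.fst : A' ⨯ B ⟶ A') := by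
  refine isPullback_of_lift (by rw [prod.map_fst]) ?_ ?_
  · intro W u v huv
    refine ⟨prod.lift u (v ≫ prod.snd), by rw [prod.lift_fst], ?_⟩
    apply Limits.prod.hom_ext
    · psimp
      exact huv
    · psimp
  · intro W l l' h1 h2
    apply Limits.prod.hom_ext h1
    have := congrArg (· ≫ prod.snd) h2
    psimp at this
    exact this

theorem isPullback_prod_map_snd (A : C) {B B' : C} (b : B ⟶ B') :
    IsPullback (prod.snd : A ⨯ B ⟶ B) (prod.map (𝟙 A) b) b (prod.snd : A ⨯ B' ⟶ B') := by
  refine isPullback_of_lift (by rw [prod.map_snd]) ?_ ?_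
  · intro W u v huv
    refine ⟨prod.lift (v ≫ prod.fst) u, by rw [prod.lift_snd], ?_⟩
    apply Limits.prod.hom_ext
    · psimp
    · psimp
      exact huv
  · intro W l l' h1 h2
    refine Limits.prod.hom_ext ?_ h1
    have := congrArg (· ≫ prod.fst) h2
    psimp at this
    exact this

theorem isPullback_prod_lift_diag {X Y H P : C} {f : X ⟶ H} {g : Y ⟶ H} {fst : P ⟶ X}
    {snd : P ⟶ Y} (h : IsPullback fst snd f g) :
    IsPullback (fst ≫ f) (prod.lift fst snd) (Limits.diag H) (prod.map f g) := by
  refine isPullback_of_lift ?_ ?_ ?_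
  · apply Limits.prod.hom_ext
    · psimp
    · psimp
      exact h.w
  · intro W u v huv
    have h1 : u = v ≫ prod.fst ≫ f := by
      have := congrArg (· ≫ prod.fst) huv
      psimp at this
      exact this
    have h2 : u = v ≫ prod.snd ≫ g := by
      have := congrArg (· ≫ prod.snd) huv
      psimp at this
      exact this
    refine ⟨h.lift (v ≫ prod.fst) (v ≫ prod.snd) (by
      rw [Category.assoc, Category.assoc, ← h1, ← h2]), ?_, ?_⟩
    · rw [← Category.assoc, h.lift_fst, Category.assoc, ← h1]
    · apply Limits.prod.hom_ext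
      · psimp
        exact h.lift_fst _ _ _
      · psimp
        exact h.lift_snd _ _ _
  · intro W l l' _ h2
    apply h.hom_ext
    · have := congrArg (· ≫ prod.fst) h2
      psimp at this
      exact this
    · have := congrArg (· ≫ prod.snd) h2
      psimp at this
      exact this

end Cat

variable {S : Scheme.{u}}

theorem representable_prod_map {F F' G G' : Sp S} (f : F ⟶ F') (g : G ⟶ G')
    (hf : Representable f) (hg : Representable g) : Representable (prod.map f g) := by
  have h1 : Representable (prod.map f (𝟙 G)) :=
    MorphismProperty.of_isPullback (isPullback_prod_map_fst f G) hf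
  have h2 : Representable (prod.map (𝟙 F') g) :=
    MorphismProperty.of_isPullback (isPullback_prod_map_snd F' g) hg
  have := (Representable (S := S)).comp_mem _ _ h1 h2
  rwa [prod.map_map, Category.comp_id, Category.id_comp] at this

theorem repWith_prod_map (P : MorphismProperty Scheme.{u}) [P.IsStableUnderBaseChange]
    [P.IsMultiplicative] {F F' G G' : Sp S} (f : F ⟶ F') (g : G ⟶ G')
    (hf : RepWith P f) (hg : RepWith P g) : RepWith P (prod.map f g) := by
  have h1 : RepWith P (prod.map f (𝟙 G)) :=
    MorphismProperty.of_isPullback (isPullback_prod_map_fst f G) hf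
  have h2 : RepWith P (prod.map (𝟙 F') g) :=
    MorphismProperty.of_isPullback (isPullback_prod_map_snd F' g) hg
  have := (RepWith (S := S) P).comp_mem _ _ h1 h2
  rwa [prod.map_map, Category.comp_id, Category.id_comp] at this

theorem representable_to_prod {X Y : Sp S} (hX : Representable (Limits.diag X))
    (hY : Representable (Limits.diag Y)) {T : Over S} (c : (yon S).obj T ⟶ X ⨯ Y) :
    Representable c := by
  have hc : c = Limits.diag ((yon S).obj T) ≫ prod.map (c ≫ prod.fst) (c ≫ prod.snd) := by
    apply Limits.prod.hom_ext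
    · psimp
    · psimp
  rw [hc]
  exact (Representable (S := S)).comp_mem _ _ (IsAlgSpace.yon_obj T).diag
    (representable_prod_map _ _ (Functor.relativelyRepresentable.of_diag hX _)
      (Functor.relativelyRepresentable.of_diag hY _))

theorem isAlgSpace_prod {X Y : Sp S} (hX : IsAlgSpace X) (hY : IsAlgSpace Y) :
    IsAlgSpace (X ⨯ Y) where
  diag := Functor.relativelyRepresentable.diag_of_map_from_obj
    (fun _ c => representable_to_prod hX.diag hY.diag c)
  atlas := by
    obtain ⟨U, p, hpe, hps⟩ := hX.atlas
    obtain ⟨V, q, hqe, hqs⟩ := hY.atlas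
    refine ⟨U ⨯ V, prodComparison (yon S) U V ≫ prod.map p q, ?_, ?_⟩
    · exact MorphismProperty.RespectsIso.precomp _ _ _ (repWith_prod_map _ p q hpe hqe)
    · exact MorphismProperty.RespectsIso.precomp _ _ _ (repWith_prod_map _ p q hps hqs)

/-- Fibre products of algebraic spaces over a sheaf with representable diagonal are algebraic
spaces. -/
theorem isAlgSpace_of_isPullback {H X Y P : Sp S} (hH : Representable (Limits.diag H))
    (hX : IsAlgSpace X) (hY : IsAlgSpace Y) {f : X ⟶ H} {g : Y ⟶ H} {fst : P ⟶ X} {snd : P ⟶ Y}
    (h : IsPullback fst snd f g) : IsAlgSpace P :=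
  isAlgSpace_of_representable (prod.lift fst snd)
    (MorphismProperty.of_isPullback (isPullback_prod_lift_diag h) hH) (isAlgSpace_prod hX hY)

end Groth.Agent.H25.AS

namespace Groth.Agent.H25.AS

variable {S : Scheme.{u}}

instance isAlgSpace_isClosedUnderLimitsOfShape_walkingCospan :
    ObjectProperty.IsClosedUnderLimitsOfShape (IsAlgSpace (S := S)) WalkingCospan where
  limitsOfShape_le := by
    rintro X ⟨h⟩
    have sq := IsPullback.of_isLimit_cone h.isLimit
    exact isAlgSpace_of_isPullback (h.prop_diag_obj WalkingCospan.one).diag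
      (h.prop_diag_obj WalkingCospan.left) (h.prop_diag_obj WalkingCospan.right) sq

theorem hasPullbacks_space : HasPullbacks (Space S) ∧
    PreservesLimitsOfShape WalkingCospan (ObjectProperty.ι (IsAlgSpace (S := S))) :=
  ⟨inferInstance, inferInstance⟩

end Groth.Agent.H25.AS
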