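import Groth.Agent.H25.AlgSp59
import Groth.Agent.H25.AlgSp43

/-!
# Flat quasi-compact surjective morphisms of algebraic spaces are universally submersive
-/

universe u

open CategoryTheory CategoryTheory.Limits AlgebraicGeometry Opposite AlgSp MorphismProperty
open TopologicalSpace

namespace Groth.Agent.H25.AS

variable {S : Scheme.{u}}

theorem isQuasiCompactSp_yon_of_isAffine (Z : Over S) [CompactSpace ↥Z.left] :
    IsQuasiCompactSp ((yon S).obj Z) :=
  ⟨Z, 𝟙 _, repWith_id @Etale Z, repWith_id @Surjective Z, inferInstance⟩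

theorem isSubmersiveMor_of_flat_qc_surj_affine {P : Sp S} (Z : Over S) (hZ : IsAffine Z.left)
    (snd : P ⟶ (yon S).obj Z) (hfl : LocP @Flat snd) (hqc : IsQuasiCompactMor snd)
    (hs : IsSurjectiveMor snd) : IsSubmersiveMor snd := by
  have hPqc : IsQuasiCompactSp P :=
    hqc (IsAlgSpace.yon_obj Z) (isQuasiCompactSp_yon_of_isAffine Z) (𝟙 _) (𝟙 P) snd
      (IsPullback.id_horiz snd)
  obtain ⟨U, p, hpe, hps, hUc⟩ := hPqc
  obtain ⟨h, hh⟩ := (yon S).map_surjective (p ≫ snd)
  haveI : Flat h.left :=
    hfl p (𝟙 _) h hpe (repWith_id @Etale Z) (by rw [hh, Category.comp_id])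
  haveI : CompactSpace ↥U.left := hUc
  haveI : QuasiCompact h.left := (HasAffineProperty.iff_of_isAffine (P := @QuasiCompact)).2 hUc
  have hcomm : ∀ u : ↥U.left, Points.map snd (Points.ofPt p u) = Points.ofScheme Z (h.left u) := by
    intro u
    rw [Points.map_ofPt, ← hh, ofPt_yon_map]
  haveI : Surjective h.left := by
    constructor
    intro z
    obtain ⟨x, hx⟩ := hs (Points.ofScheme Z z)
    obtain ⟨u, rfl⟩ := ofPt_surjective p hps x
    refine ⟨u, ofScheme_injective Z ?_⟩
    rw [← hcomm, hx]
  have hq : Topology.IsQuotientMap h.left := Flat.isQuotientMap_of_surjective h.left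
  have hq2 : Topology.IsQuotientMap (Points.map snd ∘ Points.ofPt p) := by
    have h3 := (Points.schemeHomeo Z).isQuotientMap.comp hq
    have h4 : (Points.map snd ∘ Points.ofPt p) = (Points.schemeHomeo Z) ∘ h.left := by
      funext u
      exact hcomm u
    rw [h4]
    exact h3
  exact Topology.IsQuotientMap.of_comp (Points.continuous_ofPt p) (Points.continuous_map snd) hq2

end Groth.Agent.H25.AS
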