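import Groth.Agent.H25.AlgSp60

/-!
# Universally closed morphisms of algebraic spaces are quasi-compact
-/

universe u

open CategoryTheory CategoryTheory.Limits AlgebraicGeometry Opposite AlgSp MorphismProperty
open TopologicalSpace

namespace Groth.Agent.H25.AS

variable {S : Scheme.{u}}

open _root_.PrimeSpectrum MvPolynomial in
/-- An algebraic space universally closed over a field is quasi-compact. -/
theorem compactSpace_of_univClosed_field {K : Type u} [Field K] (str : Spec (CommRingCat.of K) ⟶ S)
    {P : Sp S} (hP : IsAlgSpace P) (snd : P ⟶ (yon S).obj (Over.mk str))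
    (hf : IsUnivClosedMor snd) : CompactSpace (Points P) := by
  classical
  obtain ⟨U, p, hpe, hps⟩ := hP.atlas
  let I := U.left.affineOpens
  let A := MvPolynomial I K
  let T : Over S := Over.mk (Spec.map (CommRingCat.ofHom (MvPolynomial.C : K →+* A)) ≫ str)
  let q : T ⟶ Over.mk str := Over.homMk (Spec.map (CommRingCat.ofHom (MvPolynomial.C : K →+* A))) rfl
  have sq := IsPullback.of_hasPullback snd ((yon S).map q)
  let fst' := pullback.fst snd ((yon S).map q)
  let snd' := pullback.snd snd ((yon S).map q)
  have hcl : IsClosedMap (Points.map snd') := hf (IsAlgSpace.yon_obj T) ((yon S).map q) fst' snd' sq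
  let Wi (i : I) : Set (Points P) := Points.ofPt p '' (i.1 : Set ↥U.left)
  have hWi : ∀ i, IsOpen (Wi i) := fun i => isOpenMap_ofPt p hpe _ i.1.isOpen
  let τ : Points ((yon S).obj T) → PrimeSpectrum A := (Points.schemeHomeo T).symm
  have hτ : Continuous τ := (Points.schemeHomeo T).symm.continuous
  let σm : Points (pullback snd ((yon S).map q)) → PrimeSpectrum A := τ ∘ Points.map snd'
  have hσc : Continuous σm := hτ.comp (Points.continuous_map snd')
  have hσcl : IsClosedMap σm := (Points.schemeHomeo T).symm.isClosedMap.comp hcl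
  let C : Set (Points (pullback snd ((yon S).map q))) :=
    (⋃ i : I, σm ⁻¹' (basicOpen (MvPolynomial.X i : A) : Set (PrimeSpectrum A)) ∩
      Points.map fst' ⁻¹' Wi i)ᶜ
  have hC : IsClosed C := by
    simp only [C, isClosed_compl_iff]
    exact isOpen_iUnion fun i => ((basicOpen (MvPolynomial.X i : A)).isOpen.preimage hσc).inter
      ((hWi i).preimage (Points.continuous_map fst'))
  let Kc : Opens (PrimeSpectrum A) := ⟨(σm '' C)ᶜ, (hσcl _ hC).isOpen_compl⟩
  let ψ : A →ₐ[K] K := MvPolynomial.aeval (fun _ ↦ 1)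
  let t : PrimeSpectrum A := PrimeSpectrum.comap ψ.toRingHom default
  have ht (i : I) : t ∈ basicOpen (MvPolynomial.X i : A) := by
    rw [PrimeSpectrum.mem_basicOpen]
    intro h
    have h1 : ψ (MvPolynomial.X i) ∈ (default : PrimeSpectrum K).asIdeal := h
    have h2 : ψ (MvPolynomial.X i) = 1 := MvPolynomial.aeval_X _ i
    rw [h2] at h1
    exact (default : PrimeSpectrum K).isPrime.one_notMem h1
  have htKc : t ∈ Kc := by
    rintro ⟨c, hc, hct⟩
    apply hc
    obtain ⟨u, hu⟩ := ofPt_surjective p hps (Points.map fst' c)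
    obtain ⟨V, hV, huV, -⟩ := (Opens.isBasis_iff_nbhd.mp U.left.isBasis_affineOpens)
      (show u ∈ (⊤ : U.left.Opens) from trivial)
    refine Set.mem_iUnion.2 ⟨⟨V, hV⟩, ?_, ?_⟩
    · rw [Set.mem_preimage, hct]; exact ht _
    · exact ⟨u, huV, hu⟩
  obtain ⟨U', ⟨g, rfl⟩, htU', hU'le⟩ := Opens.isBasis_iff_nbhd.mp isBasis_basic_opens htKc
  let σ : Finset I := MvPolynomial.vars g
  let φ : A →+* A :=
    (MvPolynomial.aeval fun i : I ↦ if i ∈ σ then MvPolynomial.X i else 0).toRingHom
  let t' : PrimeSpectrum A := PrimeSpectrum.comap φ t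
  have ht'g : t' ∈ PrimeSpectrum.basicOpen g :=
    show φ g ∉ t.asIdeal from (show φ g = g from aeval_ite_mem_eq_self g subset_rfl).symm ▸ htU'
  have h : t' ∉ σm '' C := hU'le ht'g
  suffices hcov : ⋃ i ∈ σ, Wi i = Set.univ from
    ⟨hcov ▸ Finset.isCompact_biUnion _ fun i _ ↦
      (i.2.isCompact).image (Points.continuous_ofPt p)⟩
  rw [Set.iUnion₂_eq_univ_iff]
  contrapose! h
  obtain ⟨x, hx⟩ := h
  have hcompat : Points.map ((yon S).map q) (Points.ofScheme T t') = Points.map snd x := by
    haveI : Subsingleton ↥(Over.mk str).left := (inferInstance : Subsingleton (PrimeSpectrum K))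
    apply (Points.schemeEquiv (Over.mk str)).symm.injective
    exact Subsingleton.elim _ _
  obtain ⟨c, hc1, hc2⟩ := exists_of_isPullback sq.flip (Points.ofScheme T t') x hcompat
  have hσc' : σm c = t' := by
    show τ (Points.map snd' c) = t'
    rw [hc1]
    exact (Points.schemeHomeo T).symm_apply_apply t'
  refine ⟨c, ?_, hσc'⟩
  intro hcU
  obtain ⟨i, hi1, hi2⟩ := Set.mem_iUnion.1 hcU
  have hi1' : t' ∈ basicOpen (MvPolynomial.X i : A) := by rw [← hσc']; exact hi1
  have hi2' : x ∈ Wi i := by rw [← hc2]; exact hi2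
  by_cases hiσ : i ∈ σ
  · exact hx i hiσ hi2'
  · apply hi1'
    show φ (MvPolynomial.X i) ∈ t.asIdeal
    have : φ (MvPolynomial.X i) = 0 := by
      show (MvPolynomial.aeval fun i : I ↦ if i ∈ σ then (MvPolynomial.X i : A) else 0) (MvPolynomial.X i) = 0
      rw [MvPolynomial.aeval_X, if_neg hiσ]
    rw [this]
    exact t.asIdeal.zero_mem

/-- The source of a universally closed morphism to a quasi-compact scheme is quasi-compact. -/
theorem isQuasiCompactSp_of_univClosed_yon {P : Sp S} (hP : IsAlgSpace P) (Z : Over S)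
    [CompactSpace ↥Z.left] (snd : P ⟶ (yon S).obj Z) (hf : IsUnivClosedMor snd) :
    IsQuasiCompactSp P := by
  rw [isQuasiCompactSp_iff_compactSpace hP]
  haveI : CompactSpace (Points ((yon S).obj Z)) := (Points.schemeHomeo Z).compactSpace
  have hprop : IsProperMap (Points.map snd) := by
    rw [isProperMap_iff_isClosedMap_and_compact_fibers]
    refine ⟨Points.continuous_map snd,
      hf (IsAlgSpace.yon_obj Z) (𝟙 _) (𝟙 P) snd (IsPullback.id_horiz snd), fun y => ?_⟩
    obtain ⟨z, rfl⟩ := exists_ofScheme y
    let str : Spec (CommRingCat.of (Z.left.residueField z)) ⟶ S :=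
      Z.left.fromSpecResidueField z ≫ Z.hom
    let r : Over.mk str ⟶ Z := Over.homMk (Z.left.fromSpecResidueField z) rfl
    have sq := IsPullback.of_hasPullback snd ((yon S).map r)
    have hPz : IsAlgSpace (pullback snd ((yon S).map r)) :=
      isAlgSpace_of_isPullback (IsAlgSpace.yon_obj Z).diag hP (IsAlgSpace.yon_obj _) sq
    have huc : IsUnivClosedMor (pullback.snd snd ((yon S).map r)) := univSp_of_isPullback sq hf
    haveI := compactSpace_of_univClosed_field str hPz _ huc
    have hr : Set.range (Points.map ((yon S).map r)) = {Points.ofScheme Z z} := by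
      ext y
      constructor
      · rintro ⟨s, rfl⟩
        obtain ⟨s₀, rfl⟩ := exists_ofScheme s
        rw [map_yon_map_ofScheme]
        show Points.ofScheme Z ((Z.left.fromSpecResidueField z) s₀) = _
        rw [Scheme.fromSpecResidueField_apply]
      · rintro rfl
        refine ⟨Points.ofScheme _ (IsLocalRing.closedPoint (Z.left.residueField z)), ?_⟩
        rw [map_yon_map_ofScheme]
        show Points.ofScheme Z ((Z.left.fromSpecResidueField z) _) = _
        rw [Scheme.fromSpecResidueField_apply]
    have hfib : Points.map snd ⁻¹' {Points.ofScheme Z z} =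
        Set.range (Points.map (pullback.fst snd ((yon S).map r))) := by
      rw [range_fst_of_isPullback sq, hr]
    rw [hfib]
    exact isCompact_range (Points.continuous_map _)
  exact ⟨by simpa using hprop.isCompact_preimage isCompact_univ⟩

/-- A universally closed morphism of algebraic spaces is quasi-compact. -/
theorem isQuasiCompactMor_of_isUnivClosedMor {X Y : Sp S} (hX : IsAlgSpace X) (hY : IsAlgSpace Y)
    (f : X ⟶ Y) (hf : IsUnivClosedMor f) : IsQuasiCompactMor f := by
  refine isQuasiCompactMor_of_affine f fun Z hZ k P fst snd sqZ => ?_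
  have hP : IsAlgSpace P := isAlgSpace_of_isPullback hY.diag hX (IsAlgSpace.yon_obj Z) sqZ
  exact isQuasiCompactSp_of_univClosed_yon hP Z snd (univSp_of_isPullback sqZ hf)

end Groth.Agent.H25.AS
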