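import Groth.Agent.H25.AlgSp61

/-!
# Descending (quasi-)separatedness along surjective universally closed morphisms
-/

universe u

open CategoryTheory CategoryTheory.Limits AlgebraicGeometry Opposite AlgSp MorphismProperty
open TopologicalSpace

namespace Groth.Agent.H25.AS

variable {S : Scheme.{u}}

theorem isUnivClosedMor_of_comp_surjective {X Y Z : Sp S} (f : X ⟶ Y) (g : Y ⟶ Z)
    (hs : IsSurjectiveMor f) (h : IsUnivClosedMor (f ≫ g)) : IsUnivClosedMor g := by
  intro Z₁ Z' hZ₁ k fst snd sq
  have sqW := IsPullback.of_hasPullback f fst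
  have big : IsPullback (pullback.fst f fst) (pullback.snd f fst ≫ snd) (f ≫ g) k :=
    sqW.paste_vert sq
  have hcl : IsClosedMap (Points.map (pullback.snd f fst ≫ snd)) := h hZ₁ k _ _ big
  have hsurj : Function.Surjective (Points.map (pullback.snd f fst)) :=
    isSurjectiveMor_of_isPullback sqW hs
  show IsClosedMap (Points.map snd)
  have e : Points.map (pullback.snd f fst ≫ snd) =
      Points.map snd ∘ Points.map (pullback.snd f fst) := funext (Points.map_comp _ _)
  rw [e] at hcl
  exact IsClosedMap.of_comp_surjective hsurj (Points.continuous_map _) hcl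

theorem isQuasiCompactMor_of_comp_surjective {X Y Z : Sp S} (hY : IsAlgSpace Y)
    (hZ : Representable (Limits.diag Z)) (f : X ⟶ Y) (g : Y ⟶ Z)
    (hs : IsSurjectiveMor f) (h : IsQuasiCompactMor (f ≫ g)) : IsQuasiCompactMor g := by
  intro Z₁ Z' hZ₁ hqc k fst snd sq
  have sqW := IsPullback.of_hasPullback f fst
  have big : IsPullback (pullback.fst f fst) (pullback.snd f fst ≫ snd) (f ≫ g) k :=
    sqW.paste_vert sq
  have hW : IsQuasiCompactSp (pullback f fst) := h hZ₁ hqc k _ _ big
  have hZ' : IsAlgSpace Z' := isAlgSpace_of_isPullback hZ hY hZ₁ sq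
  exact isQuasiCompactSp_of_isSurjectiveMor hZ' (pullback.snd f fst)
    (isSurjectiveMor_of_isPullback sqW hs) hW

section prod

variable {X Y B : Sp S} (f : X ⟶ Y) (p : X ⟶ B) (q : Y ⟶ B) (comm : f ≫ q = p)

/-- `f × f : X ×_B X ⟶ Y ×_B Y` -/
noncomputable abbrev prodMap : pullback p p ⟶ pullback q q :=
  pullback.map p p q q f f (𝟙 B) (by rw [Category.comp_id, comm]) (by rw [Category.comp_id, comm])

theorem diagonal_prodMap : f ≫ pullback.diagonal q = pullback.diagonal p ≫ prodMap f p q comm := by
  apply pullback.hom_ext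
  · rw [Category.assoc, pullback.diagonal_fst, Category.comp_id, Category.assoc, pullback.lift_fst,
      ← Category.assoc, pullback.diagonal_fst, Category.id_comp]
  · rw [Category.assoc, pullback.diagonal_snd, Category.comp_id, Category.assoc, pullback.lift_snd,
      ← Category.assoc, pullback.diagonal_snd, Category.id_comp]

include comm in
theorem isUnivClosedMor_prodMap (hX : IsAlgSpace X) (hY : IsAlgSpace Y) (hB : IsAlgSpace B)
    (hf : IsUnivClosedMor f) : IsUnivClosedMor (prodMap f p q comm) := by
  let m₁ : pullback p p ⟶ pullback q p :=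
    pullback.map p p q p f (𝟙 X) (𝟙 B) (by rw [Category.comp_id, comm])
      (by rw [Category.comp_id, Category.id_comp])
  let m₂ : pullback q p ⟶ pullback q q :=
    pullback.map q p q q (𝟙 Y) f (𝟙 B) (by rw [Category.comp_id, Category.id_comp])
      (by rw [Category.comp_id, comm])
  have e : prodMap f p q comm = m₁ ≫ m₂ := by
    apply pullback.hom_ext
    · rw [pullback.lift_fst, Category.assoc, pullback.lift_fst, ← Category.assoc, pullback.lift_fst,
        Category.assoc, Category.comp_id]
    · rw [pullback.lift_snd, Category.assoc, pullback.lift_snd, ← Category.assoc, pullback.lift_snd,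
        Category.comp_id]
  have sq1 : IsPullback (pullback.fst p p) m₁ f (pullback.fst q p) := by
    have hout : IsPullback (m₁ ≫ pullback.snd q p) (pullback.fst p p) p (f ≫ q) := by
      have h1 : m₁ ≫ pullback.snd q p = pullback.snd p p := by
        rw [pullback.lift_snd, Category.comp_id]
      rw [h1, comm]
      exact (IsPullback.of_hasPullback p p).flip
    exact (IsPullback.of_right hout (by rw [pullback.lift_fst]) (IsPullback.of_hasPullback q p).flip).flip
  have sq2 : IsPullback (pullback.snd q p) m₂ f (pullback.snd q q) := by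
    have hout : IsPullback (m₂ ≫ pullback.fst q q) (pullback.snd q p) q (f ≫ q) := by
      have h1 : m₂ ≫ pullback.fst q q = pullback.fst q p := by
        rw [pullback.lift_fst, Category.comp_id]
      rw [h1, comm]
      exact IsPullback.of_hasPullback q p
    exact (IsPullback.of_right hout (by rw [pullback.lift_snd]) (IsPullback.of_hasPullback q q)).flip
  have h1 : IsUnivClosedMor m₁ := univSp_of_isPullback sq1 hf
  have h2 : IsUnivClosedMor m₂ := univSp_of_isPullback sq2 hf
  have hqp : IsAlgSpace (pullback q p) :=
    isAlgSpace_of_isPullback hB.diag hY hX (IsPullback.of_hasPullback q p)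
  have hqq : IsAlgSpace (pullback q q) :=
    isAlgSpace_of_isPullback hB.diag hY hY (IsPullback.of_hasPullback q q)
  rw [e]
  exact isUnivClosedMor_comp hqp hqq.diag m₁ m₂ h1 h2

include comm in
theorem isQuasiSeparatedMor_of_surjective_univClosed (hX : IsAlgSpace X) (hY : IsAlgSpace Y)
    (hB : IsAlgSpace B) (hs : IsSurjectiveMor f) (hf : IsUnivClosedMor f)
    (hp : IsQuasiSeparatedMor p) : IsQuasiSeparatedMor q := by
  have hpp : IsAlgSpace (pullback p p) :=
    isAlgSpace_of_isPullback hB.diag hX hX (IsPullback.of_hasPullback p p)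
  have hqq : IsAlgSpace (pullback q q) :=
    isAlgSpace_of_isPullback hB.diag hY hY (IsPullback.of_hasPullback q q)
  have h1 : IsQuasiCompactMor (pullback.diagonal p) := isQuasiCompactMor_of_repWith _ hp
  have h2 : IsQuasiCompactMor (prodMap f p q comm) :=
    isQuasiCompactMor_of_isUnivClosedMor hpp hqq _ (isUnivClosedMor_prodMap f p q comm hX hY hB hf)
  have h3 : IsQuasiCompactMor (f ≫ pullback.diagonal q) := by
    rw [diagonal_prodMap f p q comm]
    exact isQuasiCompactMor_comp hpp hqq.diag _ _ h1 h2
  have h4 : IsQuasiCompactMor (pullback.diagonal q) :=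
    isQuasiCompactMor_of_comp_surjective hY hqq.diag f _ hs h3
  exact repWith_quasiCompact_of_isQuasiCompactMor _ (repWith_diagonal_all hY q).1 h4

include comm in
theorem isSeparatedMor_of_surjective_univClosed (hX : IsAlgSpace X) (hY : IsAlgSpace Y)
    (hB : IsAlgSpace B) (hs : IsSurjectiveMor f) (hf : IsUnivClosedMor f)
    (hp : IsSeparatedMor p) : IsSeparatedMor q := by
  have hpp : IsAlgSpace (pullback p p) :=
    isAlgSpace_of_isPullback hB.diag hX hX (IsPullback.of_hasPullback p p)
  have hqq : IsAlgSpace (pullback q q) :=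
    isAlgSpace_of_isPullback hB.diag hY hY (IsPullback.of_hasPullback q q)
  have h1 : IsUnivClosedMor (pullback.diagonal p) :=
    (isSeparatedMor_iff_isUnivClosedMor_diagonal hX p).1 hp
  have h2 := isUnivClosedMor_prodMap f p q comm hX hY hB hf
  have h3 : IsUnivClosedMor (f ≫ pullback.diagonal q) := by
    rw [diagonal_prodMap f p q comm]
    exact isUnivClosedMor_comp hpp hqq.diag _ _ h1 h2
  exact (isSeparatedMor_iff_isUnivClosedMor_diagonal hY q).2
    (isUnivClosedMor_of_comp_surjective f _ hs h3)

end prod

end Groth.Agent.H25.AS
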