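import Groth.Agent.H25.AlgSp62

/-!
# Algebraic spaces toolkit, part 63: specializations and points of decent spaces
-/

universe u

open CategoryTheory CategoryTheory.Limits AlgebraicGeometry Opposite AlgSp MorphismProperty
open scoped Topology

namespace Groth.Agent.H25.AS

variable {S : Scheme.{u}}

/-- A scheme étale over the spectrum of a field is discrete. -/
theorem discreteTopology_of_etale_field {W : Scheme.{u}} {K : Type u} [Field K]
    (c : W ⟶ Spec (CommRingCat.of K)) [Etale c] : DiscreteTopology W := by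
  have : LocallyQuasiFinite c := lqf_of_unram c
  have h := c.isDiscrete_preimage_singleton (IsLocalRing.closedPoint K)
  have e : (c ⁻¹' {IsLocalRing.closedPoint K} : Set W) = Set.univ := by
    ext w
    simp only [Set.mem_preimage, Set.mem_univ, iff_true]
    exact Subsingleton.elim (α := PrimeSpectrum K) _ _
  have h' : _root_.IsDiscrete (Set.univ : Set W) := by
    convert h using 1
    exact e.symm
  exact isDiscrete_univ_iff.mp h'

/-- If `x' ⤳ x` in `|X|` and `x'` is represented by a quasi-compact morphism from the spectrum of a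
field, then for every étale chart `a : U ⟶ X` and `u` over `x` there is a generization `u'` of `u`
over `x'`. -/
theorem exists_generization_of_qc_point {X : Sp S} {x x' : Points X} (h : x' ⤳ x)
    (p : FieldPt X) (hp : Points.mk p = x') (hq : RepWith @QuasiCompact p.toHom)
    {U : Over S} (a : (yon S).obj U ⟶ X) (ha : RepWith @Etale a) (u : ↥U.left)
    (hu : Points.ofPt a u = x) : ∃ u' : ↥U.left, u' ⤳ u ∧ Points.ofPt a u' = x' := by
  have sq := ha.rep.isPullback' p.toHom
  have het : Etale (ha.rep.snd p.toHom).left := ha.property_snd p.toHom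
  set W := ha.rep.pullback p.toHom with hW
  set r : W ⟶ U := ha.rep.fst' p.toHom with hr
  set c : W ⟶ p.pt := ha.rep.snd p.toHom with hc
  have hqc : QuasiCompact r.left := hq.2 a ((yon S).map c) r sq.flip
  have : DiscreteTopology ↥W.left := discreteTopology_of_etale_field (K := p.K) c.left
  -- the fibre over x'
  have hfib : Points.ofPt a ⁻¹' {x'} = Set.range r.left := by
    ext v
    constructor
    · intro hv
      obtain ⟨w, -, hw⟩ := exists_point_of_isPullback' sq (IsLocalRing.closedPoint p.K) v
        (by rw [Points.ofPt_toHom, hp]; exact hv.symm)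
      exact ⟨w, hw⟩
    · rintro ⟨w, rfl⟩
      change Points.ofPt a (r.left w) = x'
      rw [← ofPt_map_comp, sq.w, ofPt_map_comp, ← hp, ← Points.ofPt_toHom]
  -- u is in the closure of the fibre
  have hcl : u ∈ closure (Points.ofPt a ⁻¹' {x'}) := by
    rw [← (isOpenMap_ofPt a ha).preimage_closure_eq_closure_preimage (Points.continuous_ofPt a)]
    change Points.ofPt a u ∈ closure {x'}
    rw [hu]
    exact h.mem_closure
  -- an affine open neighbourhood of u
  obtain ⟨U0, hU0, huU0, -⟩ := exists_isAffineOpen_mem_and_subset (X := U.left) (x := u)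
    (U := ⊤) trivial
  have hfin : (r.left ⁻¹' (U0 : Set U.left)).Finite :=
    ((hqc.1 U0 U0.2 (hU0 : IsAffineOpen U0).isCompact)).finite_of_discrete
  have h1 : u ∈ closure ((U0 : Set ↥U.left) ∩ Set.range r.left) :=
    U0.2.inter_closure ⟨huU0, hfib ▸ hcl⟩
  have h2 : (U0 : Set ↥U.left) ∩ Set.range r.left = ⋃ w ∈ r.left ⁻¹' (U0 : Set ↥U.left), {r.left w} := by
    ext v
    simp only [Set.mem_inter_iff, Set.mem_range, Set.mem_iUnion, Set.mem_preimage,
      Set.mem_singleton_iff, exists_prop]
    constructor
    · rintro ⟨hv, w, rfl⟩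
      exact ⟨w, hv, rfl⟩
    · rintro ⟨w, hw, rfl⟩
      exact ⟨hw, w, rfl⟩
  rw [h2, hfin.closure_biUnion] at h1
  simp only [Set.mem_iUnion, exists_prop] at h1
  obtain ⟨w, -, hw⟩ := h1
  refine ⟨r.left w, specializes_iff_mem_closure.2 hw, ?_⟩
  have : r.left w ∈ Points.ofPt a ⁻¹' {x'} := hfib ▸ ⟨w, rfl⟩
  exact this

/-- In a finite subset of a T0 space in which every point has a generization in the subset
different from it, there are no points. -/
theorem finite_no_strict_generization {T : Type*} [TopologicalSpace T] [T0Space T] (F : Set T)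
    (hF : F.Finite) (h : ∀ v ∈ F, ∃ v' ∈ F, v' ⤳ v ∧ v' ≠ v) : F = ∅ := by
  by_contra hne
  obtain ⟨v, hv, hmax⟩ := hF.exists_maximalFor (fun v : T => closure ({v} : Set T)) F
    (Set.nonempty_iff_ne_empty.2 hne)
  obtain ⟨v', hv', hs, hne'⟩ := h v hv
  have h2 := hmax hv' hs.closure_subset
  have : v ⤳ v' := specializes_iff_closure_subset.2 h2
  exact hne' ((this.antisymm hs).eq).symm

/-- The key step: for `u' ⤳ u` distinct points in the fibre of an étale chart over `x`, every point
of the fibre has a strict generization in the fibre. -/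
theorem exists_strict_generization_in_fibre {X : Sp S} {U : Over S} (a : (yon S).obj U ⟶ X)
    (ha : RepWith @Etale a) (u u' : ↥U.left) (he : Points.ofPt a u' = Points.ofPt a u)
    (hs : u' ⤳ u) (hne : u' ≠ u) (v : ↥U.left) (hv : Points.ofPt a v = Points.ofPt a u) :
    ∃ v' : ↥U.left, Points.ofPt a v' = Points.ofPt a u ∧ v' ⤳ v ∧ v' ≠ v := by
  have sq := ha.rep.isPullback' a
  set R := ha.rep.pullback a
  set t : R ⟶ U := ha.rep.fst' a
  set s : R ⟶ U := ha.rep.snd a
  have hs' : Etale s.left := ha.property_snd a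
  have ht' : Etale t.left := ha.2 a ((yon S).map s) t sq.flip
  obtain ⟨ρ, hρs, hρt⟩ := exists_point_of_isPullback' sq v u hv
  obtain ⟨ρ', hρ', hρ't⟩ := (Flat.generalizingMap t.left) (hρt ▸ hs : u' ⤳ t.left ρ)
  refine ⟨s.left ρ', ?_, ?_, ?_⟩
  · rw [← ofPt_map_comp, ← sq.w, ofPt_map_comp, hρ't, he]
  · rw [← hρs]
    exact hρ'.map s.left.continuous
  · intro heq
    have : LocallyQuasiFinite s.left := lqf_of_unram s.left
    have h1 := (s.left.isDiscrete_preimage_singleton v).eq_of_specializes hρ'
      (by simp [heq]) (by simp [hρs])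
    rw [h1, hρt] at hρ't
    exact hne hρ't.symm

/-- If the fibres over `x` of affine étale charts are finite, there are no nontrivial
specializations within the fibre over `x` of any étale chart. -/
theorem eq_of_specializes_of_finite_fibre {X : Sp S} (x : Points X)
    (hx : ∀ (V : Over S) (b : (yon S).obj V ⟶ X), IsAffine V.left → RepWith @Etale b →
      (Points.ofPt b ⁻¹' {x}).Finite)
    {U : Over S} (a : (yon S).obj U ⟶ X) (ha : RepWith @Etale a) (u u' : ↥U.left)
    (hu : Points.ofPt a u = x) (hu' : Points.ofPt a u' = x) (hs : u' ⤳ u) : u = u' := by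
  by_contra hne
  obtain ⟨U0, hU0, huU0, -⟩ := exists_isAffineOpen_mem_and_subset (X := U.left) (x := u)
    (U := ⊤) trivial
  have hu'U0 : u' ∈ U0 := hs.mem_open U0.2 huU0
  set a0 := (yon S).map (openIncl U U0) ≫ a with ha0def
  have ha0 : RepWith @Etale a0 := repWith_etale_comp (repWith_etale_openIncl U U0) ha
  have hfin := hx (openOver U U0) a0 hU0 ha0
  let w : ↥(openOver U U0).left := ⟨u, huU0⟩
  let w' : ↥(openOver U U0).left := ⟨u', hu'U0⟩
  have hw : Points.ofPt a0 w = x := by rw [ha0def, ofPt_map_comp]; exact hu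
  have hw' : Points.ofPt a0 w' = x := by rw [ha0def, ofPt_map_comp]; exact hu'
  have hs0 : w' ⤳ w := (U0.ι.isOpenEmbedding.isInducing.specializes_iff).1 hs
  have hne0 : w' ≠ w := fun h => hne (congrArg Subtype.val h).symm
  have hempty : Points.ofPt a0 ⁻¹' {x} = ∅ := by
    refine finite_no_strict_generization _ hfin (fun v hv => ?_)
    obtain ⟨v', h1, h2, h3⟩ := exists_strict_generization_in_fibre a0 ha0 w w' (hw'.trans hw.symm)
      hs0 hne0 v ((show Points.ofPt a0 v = x from hv).trans hw.symm)
    exact ⟨v', h1.trans hw, h2, h3⟩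
  exact (hempty ▸ (show w ∈ Points.ofPt a0 ⁻¹' {x} from hw) : w ∈ (∅ : Set _))

/-- The fibre of an étale chart over a point represented by a quasi-compact morphism from the
spectrum of a field is the image of a discrete scheme under a quasi-compact morphism. -/
theorem exists_fibre_scheme {X : Sp S} (p : FieldPt X) (hq : RepWith @QuasiCompact p.toHom)
    {U : Over S} (a : (yon S).obj U ⟶ X) (ha : RepWith @Etale a) :
    ∃ (W : Over S) (r : W ⟶ U), DiscreteTopology ↥W.left ∧ QuasiCompact r.left ∧
      Points.ofPt a ⁻¹' {Points.mk p} = Set.range r.left := by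
  have sq := ha.rep.isPullback' p.toHom
  have het : Etale (ha.rep.snd p.toHom).left := ha.property_snd p.toHom
  refine ⟨ha.rep.pullback p.toHom, ha.rep.fst' p.toHom,
    discreteTopology_of_etale_field (K := p.K) (ha.rep.snd p.toHom).left,
    hq.2 a ((yon S).map (ha.rep.snd p.toHom)) (ha.rep.fst' p.toHom) sq.flip, ?_⟩
  ext v
  constructor
  · intro hv
    obtain ⟨w, -, hw⟩ := exists_point_of_isPullback' sq (IsLocalRing.closedPoint p.K) v
      (by rw [Points.ofPt_toHom]; exact hv.symm)
    exact ⟨w, hw⟩
  · rintro ⟨w, rfl⟩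
    change Points.ofPt a ((ha.rep.fst' p.toHom).left w) = Points.mk p
    rw [← ofPt_map_comp, sq.w, ofPt_map_comp, ← Points.ofPt_toHom]

/-- Finite fibres of affine étale charts over a point represented by a quasi-compact morphism
from the spectrum of a field. -/
theorem finite_fibre_of_qc_point {X : Sp S} (p : FieldPt X) (hq : RepWith @QuasiCompact p.toHom)
    {V : Over S} (hV : IsAffine V.left) (b : (yon S).obj V ⟶ X) (hb : RepWith @Etale b) :
    (Points.ofPt b ⁻¹' {Points.mk p}).Finite := by
  obtain ⟨W, r, hd, hqc, he⟩ := exists_fibre_scheme p hq b hb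
  rw [he]
  have hc : IsCompact (r.left ⁻¹' (Set.univ : Set ↥V.left)) :=
    hqc.1 Set.univ isOpen_univ isCompact_univ
  rw [Set.preimage_univ] at hc
  have : Finite ↥W.left := Set.finite_univ_iff.1 hc.finite_of_discrete
  exact Set.finite_range _

/-- `|X|` is T0 for a decent algebraic space. -/
theorem t0Space_points_of_isDecent {X : Sp S} (hXa : IsAlgSpace X) (hX : IsDecent X) :
    T0Space (Points X) := by
  refine ⟨fun x y hxy => ?_⟩
  obtain ⟨U, a, hae, has⟩ := hXa.atlas
  obtain ⟨u, rfl⟩ := ofPt_surjective a has x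
  obtain ⟨px, hpx, -, hqx⟩ := hX (Points.ofPt a u)
  obtain ⟨py, hpy, -, hqy⟩ := hX y
  obtain ⟨u', hu'u, hu'⟩ := exists_generization_of_qc_point hxy.specializes' py hpy hqy a hae u rfl
  obtain ⟨u'', hu''u', hu''⟩ := exists_generization_of_qc_point hxy.specializes px hpx hqx a hae
    u' hu'
  have h1 : u = u'' := eq_of_specializes_of_finite_fibre (Points.ofPt a u)
    (fun V b hV hb => hpx ▸ finite_fibre_of_qc_point px hqx hV b hb) a hae u u'' rfl hu''
    (hu''u'.trans hu'u)
  have h2 : u = u' := ((h1 ▸ hu''u' : u ⤳ u').antisymm hu'u).eq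
  rw [← hu', ← h2]

/-- Generizations lift along flat morphisms, at points whose generization is represented by a
quasi-compact morphism from a field. -/
theorem exists_generization_of_flat {X Y : Sp S} (hX : IsAlgSpace X) (hY : IsAlgSpace Y)
    (f : Y ⟶ X) (hf : LocP @Flat f) {x x' : Points X} (h : x' ⤳ x)
    (p : FieldPt X) (hp : Points.mk p = x') (hq : RepWith @QuasiCompact p.toHom)
    (y : Points Y) (hy : Points.map f y = x) :
    ∃ y' : Points Y, y' ⤳ y ∧ Points.map f y' = x' := by
  obtain ⟨V, b, hbe, hbs⟩ := hX.atlas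
  obtain ⟨U, c, g, hce, hcs, hg⟩ := exists_chart_over hY hX.diag f b
  have sq := IsPullback.of_hasPullback f b
  have hae : RepWith @Etale (c ≫ pullback.fst f b) :=
    repWith_etale_comp hce (repWith_fst_of_isPullback sq hbe)
  have has : RepWith @Surjective (c ≫ pullback.fst f b) :=
    (RepWith (S := S) @Surjective).comp_mem _ _ hcs (repWith_fst_of_isPullback sq hbs)
  have comm : (c ≫ pullback.fst f b) ≫ f = (yon S).map g ≫ b := by
    rw [Category.assoc, pullback.condition, ← Category.assoc, hg]
  have hfl : Flat g.left := hf _ b g hae hbe comm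
  obtain ⟨u, rfl⟩ := ofPt_surjective _ has y
  have hv : Points.ofPt b (g.left u) = x := by
    rw [← ofPt_map_comp, ← comm, ← Points.map_ofPt]; exact hy
  obtain ⟨v', hv'1, hv'2⟩ := exists_generization_of_qc_point h p hp hq b hbe (g.left u) hv
  obtain ⟨u', hu'1, hu'2⟩ := (Flat.generalizingMap g.left) hv'1
  refine ⟨Points.ofPt (c ≫ pullback.fst f b) u', hu'1.map (Points.continuous_ofPt _), ?_⟩
  rw [Points.map_ofPt, comm, ofPt_map_comp, hu'2, hv'2]

end Groth.Agent.H25.AS
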