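import Groth.Agent.H25.AlgSp63
import Mathlib.AlgebraicGeometry.ValuativeCriterion

/-!
# Algebraic spaces toolkit, part 64: quasi-compact + existence part of the valuative criterion
implies universally closed
-/

universe u

open CategoryTheory CategoryTheory.Limits AlgebraicGeometry Opposite AlgSp MorphismProperty
open scoped Topology

namespace Groth.Agent.H25.AS

variable {S : Scheme.{u}}

open IsLocalRing in
set_option backward.isDefEq.respectTransparency.types false in
/-- For a morphism of schemes `h : U ⟶ Z`, a point `u` and a specialization `h u ⤳ z'` there is a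
valuation ring of the residue field of `u` and a commutative square whose closed point goes to
`z'`. -/
theorem exists_valuationRing_of_specializes {U Z : Scheme.{u}} (h : U ⟶ Z) (u : U) (z' : Z)
    (hs : h u ⤳ z') :
    ∃ (A : ValuationSubring (U.residueField u)) (b : Spec (.of A) ⟶ Z),
      U.fromSpecResidueField u ≫ h =
        Spec.map (CommRingCat.ofHom (algebraMap A (U.residueField u))) ≫ b ∧
      b (closedPoint A) = z' := by
  let φ : Z.presheaf.stalk z' ⟶ U.residueField u :=
    Z.presheaf.stalkSpecializes hs ≫ h.stalkMap u ≫ U.residue u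
  obtain ⟨A, hA, hA_local⟩ := exists_factor_valuationRing φ.hom
  let ψ : Z.presheaf.stalk z' ⟶ .of A := CommRingCat.ofHom (φ.hom.codRestrict _ hA)
  refine ⟨A, Spec.map ψ ≫ Z.fromSpecStalk z', ?_, ?_⟩
  · rw [Scheme.fromSpecResidueField, Category.assoc, ← Scheme.SpecMap_stalkMap_fromSpecStalk,
      ← Scheme.SpecMap_stalkSpecializes_fromSpecStalk hs]
    simp_rw [← Spec.map_comp_assoc]
    rfl
  · have : Spec.map ψ (closedPoint A) = closedPoint (Z.presheaf.stalk z') :=
      comap_closedPoint (S := A) (φ.hom.codRestrict A.toSubring hA)
    rw [Scheme.Hom.comp_apply, this, Z.fromSpecStalk_closedPoint]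

/-- The image of a closed subset under a morphism of affine schemes is closed as soon as it is
stable under specialization. -/
theorem isClosed_image_of_stableUnderSpecialization_affine {X Y : Scheme.{u}} [IsAffine X]
    [IsAffine Y] (f : X ⟶ Y) (E : Set X) (hE : IsClosed E)
    (H : StableUnderSpecialization (f '' E)) : IsClosed (f '' E) := by
  have e : f ≫ Y.isoSpec.hom = X.isoSpec.hom ≫ Spec.map f.appTop :=
    (Scheme.isoSpec_hom_naturality f).symm
  have h1 : Y.isoSpec.hom '' (f '' E) = (Spec.map f.appTop) '' (X.isoSpec.hom '' E) := by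
    rw [Set.image_image, Set.image_image]
    refine Set.image_congr' fun x => ?_
    rw [← Scheme.Hom.comp_apply, ← Scheme.Hom.comp_apply, e]
  have h2 : IsClosed (Y.isoSpec.hom '' (f '' E)) := by
    rw [h1]
    refine PrimeSpectrum.isClosed_image_of_stableUnderSpecialization f.appTop.hom _
      (X.isoSpec.hom.homeomorph.isClosedMap _ hE) ?_
    have h3 : StableUnderSpecialization (Y.isoSpec.hom '' (f '' E)) :=
      H.image (Y.isoSpec.hom.homeomorph.isClosedMap.specializingMap)
    rw [h1] at h3
    exact h3
  have hinj : Function.Injective Y.isoSpec.hom := Y.isoSpec.hom.homeomorph.injective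
  have := h2.preimage Y.isoSpec.hom.continuous
  rwa [Set.preimage_image_eq _ hinj] at this

/-- A morphism from a quasi-compact sheaf to an affine scheme satisfying the existence part of the
valuative criterion is closed on points. -/
theorem isClosedMor_of_existVC_affine {P : Sp S} {Z : Over S} (hZ : IsAffine Z.left)
    (snd : P ⟶ (yon S).obj Z) (hP : IsQuasiCompactSp P) (he : ExistVC snd) : IsClosedMor snd := by
  obtain ⟨U, c, hU, hce, hcs⟩ := exists_affine_chart hP
  obtain ⟨h, hh⟩ := (yon S).map_surjective (c ≫ snd)
  intro C hC
  have key : ∀ u : ↥U.left, Points.map snd (Points.ofPt c u) = Points.ofScheme Z (h.left u) := by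
    intro u
    rw [Points.map_ofPt, ← hh, ofPt_yon_map]
  set E : Set ↥U.left := Points.ofPt c ⁻¹' C with hE
  have hEc : IsClosed E := hC.preimage (Points.continuous_ofPt c)
  have hD : Points.ofScheme Z ⁻¹' (Points.map snd '' C) = h.left '' E := by
    ext z
    constructor
    · rintro ⟨π, hπ, hz⟩
      obtain ⟨u, rfl⟩ := ofPt_surjective c hcs π
      rw [key] at hz
      exact ⟨u, hπ, ofScheme_injective Z hz⟩
    · rintro ⟨u, hu, rfl⟩
      exact ⟨Points.ofPt c u, hu, key u⟩
  have hst : StableUnderSpecialization (h.left '' E) := by
    rintro _ z' hs ⟨u, hu, rfl⟩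
    rw [← hD]
    obtain ⟨A, b, hw, hb⟩ := exists_valuationRing_of_specializes h.left u z' hs
    let m : Over.mk (Spec.map (CommRingCat.ofHom (algebraMap A (U.left.residueField u))) ≫
        b ≫ Z.hom) ⟶ U := Over.homMk (U.left.fromSpecResidueField u) (by
          have h0 : U.left.fromSpecResidueField u ≫ U.hom =
              (Spec.map (CommRingCat.ofHom (algebraMap A (U.left.residueField u))) ≫ b) ≫ Z.hom := by
            rw [← hw, Category.assoc, Over.w h]
          rw [Category.assoc] at h0
          exact h0)
    let bb : Over.mk (b ≫ Z.hom) ⟶ Z := Over.homMk b rfl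
    let sq : ValSq snd :=
      { A := A
        K := U.left.residueField u
        str := b ≫ Z.hom
        top := (yon S).map m ≫ c
        bot := (yon S).map bb
        comm := by
          rw [Category.assoc, ← hh, ← Functor.map_comp, ← Functor.map_comp]
          congr 1
          ext
          exact hw }
    obtain ⟨e, l, hl1, hl2⟩ := he sq
    refine ⟨Points.ofPt l (IsLocalRing.closedPoint e.A'), ?_, ?_⟩
    · have hsp : (Spec.map (CommRingCat.ofHom (algebraMap e.A' e.K'))) (IsLocalRing.closedPoint e.K') ⤳
          IsLocalRing.closedPoint e.A' := IsLocalRing.specializes_closedPoint _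
      have h1 := hsp.map (Points.continuous_ofPt l)
      refine h1.mem_closed hC ?_
      have h2 := ofPt_map_comp (Over.homMk (Spec.map (CommRingCat.ofHom (algebraMap e.A' e.K'))) rfl :
        e.ptK' ⟶ e.ptA') l (IsLocalRing.closedPoint e.K')
      change Points.ofPt l _ ∈ C
      erw [← h2, hl1, ofPt_map_comp]
      change Points.ofPt ((yon S).map m ≫ c) _ ∈ C
      rw [ofPt_map_comp]
      change Points.ofPt c (U.left.fromSpecResidueField u _) ∈ C
      rw [Scheme.fromSpecResidueField_apply]
      exact hu
    · rw [Points.map_ofPt, hl2, ofPt_map_comp]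
      change Points.ofPt ((yon S).map bb) _ = _
      rw [ofPt_yon_map]
      congr 1
      change b (Spec.map (CommRingCat.ofHom e.φ) (IsLocalRing.closedPoint e.A')) = z'
      have : IsLocalHom e.φ := e.isLocalHom
      have h3 : Spec.map (CommRingCat.ofHom e.φ) (IsLocalRing.closedPoint e.A') =
          IsLocalRing.closedPoint A := IsLocalRing.comap_closedPoint e.φ
      rw [h3, hb]
  have hcl := isClosed_image_of_stableUnderSpecialization_affine h.left E hEc hst
  rw [← hD] at hcl
  have := (Points.schemeHomeo Z).symm.isClosed_preimage.2 hcl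
  convert this using 1
  ext x
  simp only [Set.mem_preimage]
  rw [show Points.ofScheme Z ((Points.schemeHomeo Z).symm x) = x from
    (Points.schemeHomeo Z).apply_symm_apply x]

/-- A quasi-compact morphism satisfying the existence part of the valuative criterion is
universally closed. -/
theorem isUnivClosedMor_of_quasiCompact_existVC {X Y : Sp S} (f : X ⟶ Y)
    (hq : IsQuasiCompactMor f) (he : ExistVC f) : IsUnivClosedMor f := by
  refine univSp_of_affine descFam_isClosedMor f (fun Z hZ g P fst snd sq => ?_)
  exact isClosedMor_of_existVC_affine hZ snd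
    (hq (IsAlgSpace.yon_obj Z) (have := hZ; isQuasiCompactSp_yon_of_isAffine Z) g fst snd sq)
    (existVC_of_isPullback sq he)

end Groth.Agent.H25.AS
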