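import Groth.Agent.H25.AlgSp64
import Mathlib.RingTheory.Ideal.KrullsHeightTheorem

/-!
# Algebraic spaces toolkit, part 65: specializations in fibres of charts, locally Noetherian case
-/

universe u

open CategoryTheory CategoryTheory.Limits AlgebraicGeometry Opposite AlgSp MorphismProperty
open scoped Topology

namespace Groth.Agent.H25.AS

variable {S : Scheme.{u}}

/-- On an affine Noetherian scheme, strict generization strictly decreases the height. -/
theorem height_lt_of_specializes {W : Scheme.{u}} [IsAffine W] [IsNoetherianRing Γ(W, ⊤)]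
    {v v' : W} (h : v' ⤳ v) (hne : v' ≠ v) :
    (W.isoSpec.hom v').asIdeal.height < (W.isoSpec.hom v).asIdeal.height := by
  have h1 : W.isoSpec.hom v' ⤳ W.isoSpec.hom v := h.map W.isoSpec.hom.continuous
  have h2 : (W.isoSpec.hom v').asIdeal ≤ (W.isoSpec.hom v).asIdeal :=
    (PrimeSpectrum.asIdeal_le_asIdeal _ _).2 ((PrimeSpectrum.le_iff_specializes
      (W.isoSpec.hom v' : PrimeSpectrum Γ(W, ⊤)) (W.isoSpec.hom v)).2 h1)
  have h3 : W.isoSpec.hom v' ≠ W.isoSpec.hom v := fun e =>
    hne (W.isoSpec.hom.homeomorph.injective e)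
  have h4 : (W.isoSpec.hom v').asIdeal < (W.isoSpec.hom v).asIdeal :=
    lt_of_le_of_ne h2 (fun e => h3 (PrimeSpectrum.ext e))
  exact Ideal.height_strict_mono_of_isPrime_of_isPrime h4

/-- In a locally Noetherian algebraic space there are no nontrivial specializations within the
fibres of étale charts. -/
theorem eq_of_specializes_of_isLocNoethSp {X : Sp S} (hX : IsLocNoethSp X)
    {U : Over S} (a : (yon S).obj U ⟶ X) (ha : RepWith @Etale a) (u u' : ↥U.left)
    (he : Points.ofPt a u = Points.ofPt a u') (hs : u' ⤳ u) : u = u' := by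
  by_contra hne
  obtain ⟨U0, hU0, huU0, -⟩ := exists_isAffineOpen_mem_and_subset (X := U.left) (x := u)
    (U := ⊤) trivial
  have hu'U0 : u' ∈ U0 := hs.mem_open U0.2 huU0
  set a0 := (yon S).map (openIncl U U0) ≫ a with ha0def
  have ha0 : RepWith @Etale a0 := repWith_etale_comp (repWith_etale_openIncl U U0) ha
  have hN : IsLocallyNoetherian (openOver U U0).left := isLocallyNoetherian_of_chart hX a0 ha0
  have hA : IsAffine (openOver U U0).left := hU0
  have hNR : IsNoetherianRing Γ((openOver U U0).left, ⊤) :=
    IsLocallyNoetherian.component_noetherian ⟨⊤, isAffineOpen_top _⟩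
  let w : ↥(openOver U U0).left := ⟨u, huU0⟩
  let w' : ↥(openOver U U0).left := ⟨u', hu'U0⟩
  have hw : Points.ofPt a0 w = Points.ofPt a u := by rw [ha0def, ofPt_map_comp]; rfl
  have hw' : Points.ofPt a0 w' = Points.ofPt a u := by rw [ha0def, ofPt_map_comp, he]; rfl
  have hs0 : w' ⤳ w := (U0.ι.isOpenEmbedding.isInducing.specializes_iff).1 hs
  have hne0 : w' ≠ w := fun h => hne (congrArg Subtype.val h).symm
  have key : ∀ n : ℕ∞, ∀ v : ↥(openOver U U0).left, Points.ofPt a0 v = Points.ofPt a0 w →
      ((openOver U U0).left.isoSpec.hom v).asIdeal.height = n → False := by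
    intro n
    induction n using WellFoundedLT.induction with
    | ind n ih =>
      intro v hv hn
      obtain ⟨v', h1, h2, h3⟩ := exists_strict_generization_in_fibre a0 ha0 w w' (hw'.trans hw.symm)
        hs0 hne0 v hv
      have := height_lt_of_specializes h2 h3
      exact ih _ (hn ▸ this) v' h1 rfl
  exact key _ w rfl rfl

end Groth.Agent.H25.AS
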