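import Groth.Agent.H25.AlgSp65

/-!
# Algebraic spaces toolkit, part 66: finiteness of fibres of étale charts
-/

universe u

open CategoryTheory CategoryTheory.Limits AlgebraicGeometry Opposite AlgSp MorphismProperty
open scoped Topology

namespace Groth.Agent.H25.AS

variable {S : Scheme.{u}}

/-- A locally quasi-finite morphism from a quasi-compact scheme has finite fibres (no assumption
on the target). -/
theorem finite_preimage_singleton_of_compact {W U : Scheme.{u}} (q : W ⟶ U)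
    [LocallyQuasiFinite q] [CompactSpace W] (u : U) : (q ⁻¹' {u}).Finite := by
  have hloc : ∀ w : W, ∃ O : W.Opens, w ∈ O ∧ ((O : Set W) ∩ q ⁻¹' {u}).Finite := by
    intro w
    obtain ⟨U0, hU0, hqU0, -⟩ := exists_isAffineOpen_mem_and_subset (X := U) (x := q w)
      (U := ⊤) trivial
    obtain ⟨O, hO, hwO, hOle⟩ := exists_isAffineOpen_mem_and_subset (X := W) (x := w)
      (U := q ⁻¹ᵁ U0) hqU0
    refine ⟨O, hwO, ?_⟩
    have e : O ≤ q ⁻¹ᵁ U0 := hOle
    have : IsAffine O.toScheme := hO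
    have : IsAffine U0.toScheme := hU0
    have : QuasiCompact (q.resLE U0 O e) := inferInstance
    by_cases hu : u ∈ U0
    · have hf := (q.resLE U0 O e).finite_preimage_singleton ⟨u, hu⟩
      refine (hf.image O.ι).subset ?_
      rintro w' ⟨hw'O, hw'u⟩
      refine ⟨⟨w', hw'O⟩, ?_, rfl⟩
      apply Subtype.ext
      have h1 := congrArg (fun f : O.toScheme ⟶ U => f ⟨w', hw'O⟩) (Scheme.Hom.resLE_comp_ι q e)
      simp only [Scheme.Hom.comp_apply] at h1
      exact h1.trans hw'u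
    · convert Set.finite_empty
      ext w'
      simp only [Set.mem_inter_iff, SetLike.mem_coe, Set.mem_preimage, Set.mem_singleton_iff,
        Set.mem_empty_iff_false, iff_false, not_and]
      intro hw'O hw'u
      exact hu (hw'u ▸ e hw'O)
  choose O hO hfin using hloc
  obtain ⟨t, ht⟩ := isCompact_univ.elim_finite_subcover (fun w => (O w : Set W))
    (fun w => (O w).2) (fun w _ => Set.mem_iUnion.2 ⟨w, hO w⟩)
  refine ((t.finite_toSet.biUnion (fun w _ => hfin w))).subset ?_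
  intro w' hw'
  obtain ⟨w, hwt, hw⟩ : ∃ w ∈ t, w' ∈ O w := by simpa using ht (Set.mem_univ w')
  exact Set.mem_biUnion hwt ⟨hw, hw'⟩

/-- If a jointly surjective family of étale charts has finite fibres over `x`, then every étale
chart from a quasi-compact scheme has finite fibre over `x`. -/
theorem finite_fibre_of_cover {X : Sp S} (x : Points X) {ι : Type u} (U : ι → Over S)
    (φ : ∀ i, (yon S).obj (U i) ⟶ X) (hφ : ∀ i, RepWith @Etale (φ i))
    (hsurj : ∀ y : Points X, ∃ (i : ι) (v : ↥(U i).left), Points.ofPt (φ i) v = y)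
    (hfin : ∀ i, (Points.ofPt (φ i) ⁻¹' {x}).Finite)
    {V : Over S} [CompactSpace ↥V.left] (ψ : (yon S).obj V ⟶ X) (hψ : RepWith @Etale ψ) :
    (Points.ofPt ψ ⁻¹' {x}).Finite := by
  have sq := fun i => (hφ i).rep.isPullback' ψ
  have hp : ∀ i, Etale ((hφ i).rep.snd ψ).left := fun i => (hφ i).property_snd ψ
  have hq : ∀ i, Etale ((hφ i).rep.fst' ψ).left := fun i => hψ.2 (φ i) _ _ (sq i).flip
  have hloc : ∀ v : ↥V.left, ∃ N : Set ↥V.left, IsOpen N ∧ v ∈ N ∧
      (N ∩ Points.ofPt ψ ⁻¹' {x}).Finite := by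
    intro v
    obtain ⟨i, ui, hui⟩ := hsurj (Points.ofPt ψ v)
    obtain ⟨π, hπ1, hπ2⟩ := exists_point_of_isPullback' (sq i) v ui hui.symm
    obtain ⟨O, hO, hπO, -⟩ := exists_isAffineOpen_mem_and_subset
      (X := ((hφ i).rep.pullback ψ).left) (x := π) (U := ⊤) trivial
    have := hp i
    have := hq i
    refine ⟨((hφ i).rep.snd ψ).left '' (O : Set _), ((hφ i).rep.snd ψ).left.isOpenMap _ O.2,
      ⟨π, hπO, hπ1⟩, ?_⟩
    have : CompactSpace ↥O.toScheme := isCompact_iff_compactSpace.1 hO.isCompact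
    have : LocallyQuasiFinite (O.ι ≫ ((hφ i).rep.fst' ψ).left) := lqf_of_unram _
    have hfinO : ((O.ι ≫ ((hφ i).rep.fst' ψ).left) ⁻¹' (Points.ofPt (φ i) ⁻¹' {x})).Finite :=
      (hfin i).preimage' (fun u _ => finite_preimage_singleton_of_compact _ u)
    refine (hfinO.image (O.ι ≫ ((hφ i).rep.snd ψ).left)).subset ?_
    rintro _ ⟨⟨π', hπ'O, rfl⟩, hG⟩
    refine ⟨⟨π', hπ'O⟩, ?_, rfl⟩
    change Points.ofPt (φ i) (((hφ i).rep.fst' ψ).left π') = x
    rw [← ofPt_map_comp, (sq i).w, ofPt_map_comp]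
    exact hG
  choose N hN1 hN2 hN3 using hloc
  obtain ⟨t, ht⟩ := isCompact_univ.elim_finite_subcover N hN1
    (fun v _ => Set.mem_iUnion.2 ⟨v, hN2 v⟩)
  refine ((t.finite_toSet.biUnion (fun v _ => hN3 v))).subset ?_
  intro v' hv'
  obtain ⟨v, hvt, hv⟩ : ∃ v ∈ t, v' ∈ N v := by simpa using ht (Set.mem_univ v')
  exact Set.mem_biUnion hvt ⟨hv, hv'⟩

end Groth.Agent.H25.AS
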