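import Groth.Agent.H25.AlgSp66

/-!
# Algebraic spaces toolkit, part 67: points represented by monomorphisms, relation fibres
-/

universe u

open CategoryTheory CategoryTheory.Limits AlgebraicGeometry Opposite AlgSp MorphismProperty
open scoped Topology

namespace Groth.Agent.H25.AS

variable {S : Scheme.{u}}

/-- If `x` is represented by a monomorphism `Spec k ⟶ X`, then for any point `u` of an étale chart
over `x` the morphism `Spec κ(u) ⟶ X` factors through `Spec k`, by a locally quasi-finite map. -/
theorem exists_factor_through_mono_point {X : Sp S} (p : FieldPt X)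
    (hm : Mono p.toHom) {U : Over S} (φ : (yon S).obj U ⟶ X) (hφ : RepWith @Etale φ) (u : ↥U.left)
    (hu : Points.ofPt φ u = Points.mk p) :
    ∃ e : Over.mk (U.left.fromSpecResidueField u ≫ U.hom) ⟶ p.pt,
      LocallyQuasiFinite e.left ∧ (yon S).map e ≫ p.toHom = (yon S).map (resPt U u) ≫ φ := by
  set q := (yon S).map (resPt U u) ≫ φ with hq
  have hq1 : RepWith @LocallyQuasiFinite q := by
    have h1 : RepWith @LocallyQuasiFinite ((yon S).map (resPt U u)) :=
      (repWith_yon_map_iff _ _).2
        (show LocallyQuasiFinite (U.left.fromSpecResidueField u) from inferInstance)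
    have h2 : RepWith @LocallyQuasiFinite φ :=
      repWith_mono (fun _ _ g (_ : Etale g) => lqf_of_unram g) hφ
    exact (RepWith (S := S) @LocallyQuasiFinite).comp_mem _ _ h1 h2
  have sq := hq1.rep.isPullback' p.toHom
  have hl : LocallyQuasiFinite (hq1.rep.snd p.toHom).left := hq1.property_snd p.toHom
  have hmono : Mono ((yon S).map (hq1.rep.fst' p.toHom)) := mono_fst_of_isPullback sq
  obtain ⟨v, -, -⟩ := exists_point_of_isPullback' sq
    (show ↥p.pt.left from IsLocalRing.closedPoint p.K)
    (show ↥(Over.mk (U.left.fromSpecResidueField u ≫ U.hom)).left from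
      IsLocalRing.closedPoint (U.left.residueField u)) (by
      rw [Points.ofPt_toHom, hq, ofPt_map_comp, ← hu]
      congr 1
      exact (Scheme.fromSpecResidueField_apply u _).symm)
  have hiso : IsIso ((yon S).map (hq1.rep.fst' p.toHom)) :=
    isIso_of_mono_to_field (k := U.left.residueField u) (U.left.fromSpecResidueField u ≫ U.hom)
      (IsAlgSpace.yon_obj _) _ ⟨Points.ofScheme _ v⟩
  have hiso' : IsIso (hq1.rep.fst' p.toHom) := isIso_of_reflects_iso _ (yon S)
  refine ⟨inv (hq1.rep.fst' p.toHom) ≫ hq1.rep.snd p.toHom, ?_, ?_⟩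
  · rw [Over.comp_left]
    have : IsIso (inv (hq1.rep.fst' p.toHom)).left :=
      Functor.map_isIso (Over.forget S) (inv (hq1.rep.fst' p.toHom))
    infer_instance
  · rw [Functor.map_comp, Category.assoc, ← sq.w, ← Category.assoc, ← Functor.map_comp,
      IsIso.inv_hom_id, CategoryTheory.Functor.map_id, Category.id_comp]

/-- A purely categorical lifting lemma used for relation fibres. -/
theorem lift_aux {C : Type*} [Category C] {X k K K' R U Z P1 P2 : C} (φ : U ⟶ X) (pm : k ⟶ X)
    [Mono pm] (a : K ⟶ U) (a' : K' ⟶ U) (s t : R ⟶ U) (sqR : IsPullback t s φ φ)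
    (e : K ⟶ k) (e' : K' ⟶ k) (he : e ≫ pm = a ≫ φ) (he' : e' ≫ pm = a' ≫ φ)
    (zf : Z ⟶ K) (zs : Z ⟶ K') (sqZ : IsPullback zf zs e e')
    (θ : Z ⟶ R) (hθt : θ ≫ t = zs ≫ a') (hθs : θ ≫ s = zf ≫ a)
    (f1 : P1 ⟶ K) (g1 : P1 ⟶ R) (c1 : f1 ≫ a = g1 ≫ s)
    (f2 : P2 ⟶ P1) (g2 : P2 ⟶ K') (c2 : f2 ≫ g1 ≫ t = g2 ≫ a') :
    ∃ l : P2 ⟶ Z, l ≫ θ = f2 ≫ g1 := by
  have h : (f2 ≫ f1) ≫ e = g2 ≫ e' := by
    rw [← cancel_mono pm]
    calc ((f2 ≫ f1) ≫ e) ≫ pm = f2 ≫ (f1 ≫ a) ≫ φ := by simp only [Category.assoc, he]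
      _ = f2 ≫ g1 ≫ (s ≫ φ) := by rw [c1, Category.assoc]
      _ = (f2 ≫ g1 ≫ t) ≫ φ := by rw [← sqR.w]; simp only [Category.assoc]
      _ = (g2 ≫ a') ≫ φ := by rw [c2]
      _ = (g2 ≫ e') ≫ pm := by simp only [Category.assoc, he']
  refine ⟨sqZ.lift (f2 ≫ f1) g2 h, sqR.hom_ext ?_ ?_⟩
  · rw [Category.assoc, hθt, ← Category.assoc, sqZ.lift_snd, Category.assoc, ← c2]
  · rw [Category.assoc, hθs, ← Category.assoc, sqZ.lift_fst, Category.assoc, c1, Category.assoc]

/-- If `x` is represented by a monomorphism from the spectrum of a field, then the fibres of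
`|U ×_X U| → |U| × |U|` over pairs of points over `x` are finite. -/
theorem finite_relation_fibre_of_mono_point {X : Sp S} (p : FieldPt X) (hm : Mono p.toHom)
    {U : Over S} (φ : (yon S).obj U ⟶ X) (hφ : RepWith @Etale φ) (u u' : ↥U.left)
    (hu : Points.ofPt φ u = Points.mk p) (hu' : Points.ofPt φ u' = Points.mk p)
    (R : Over S) (s t : R ⟶ U) (sqR : IsPullback ((yon S).map t) ((yon S).map s) φ φ) :
    {r : ↥R.left | s.left r = u ∧ t.left r = u'}.Finite := by
  obtain ⟨e, hel, he⟩ := exists_factor_through_mono_point p hm φ hφ u hu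
  obtain ⟨e', hel', he'⟩ := exists_factor_through_mono_point p hm φ hφ u' hu'
  have sqZ : IsPullback (pullback.fst e e') (pullback.snd e e') e e' :=
    IsPullback.of_hasPullback _ _
  have sqZl := sqZ.map (Over.forget S)
  have sqZy := sqZ.map (yon S)
  -- finiteness of the pullback
  have hZfin : Finite ↥(pullback e e').left := by
    have hsnd : LocallyQuasiFinite (pullback.snd e e').left :=
      MorphismProperty.of_isPullback (P := @LocallyQuasiFinite) sqZl hel
    have haff : IsAffine (pullback e e').left := by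
      have h1 : IsAffine (Over.mk (U.left.fromSpecResidueField u ≫ U.hom)).left :=
        inferInstanceAs (IsAffine (Spec (U.left.residueField u)))
      have h2 : IsAffine (Over.mk (U.left.fromSpecResidueField u' ≫ U.hom)).left :=
        inferInstanceAs (IsAffine (Spec (U.left.residueField u')))
      have h3 : IsAffine p.pt.left := inferInstanceAs (IsAffine (Spec (.of p.K)))
      have : IsAffine (pullback ((Over.forget S).map e) ((Over.forget S).map e')) :=
        (inferInstance : IsAffine (pullback e.left e'.left))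
      exact IsAffine.of_isIso sqZl.isoPullback.hom
    have := finite_preimage_singleton_of_compact (pullback.snd e e').left
      (IsLocalRing.closedPoint (U.left.residueField u'))
    rw [← Set.finite_univ_iff]
    convert this using 1
    ext z
    simp only [Set.mem_univ, Set.mem_preimage, Set.mem_singleton_iff, true_iff]
    exact Subsingleton.elim (α := PrimeSpectrum (U.left.residueField u')) _ _
  -- the map to R
  have comm : (yon S).map (pullback.snd e e' ≫ resPt U u') ≫ φ =
      (yon S).map (pullback.fst e e' ≫ resPt U u) ≫ φ := by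
    rw [Functor.map_comp, Functor.map_comp, Category.assoc, Category.assoc, ← he, ← he',
      ← Category.assoc, ← Category.assoc, sqZy.w]
  obtain ⟨θ, hθ⟩ := (yon S).map_surjective (sqR.lift _ _ comm)
  have hθt : (yon S).map θ ≫ (yon S).map t = (yon S).map (pullback.snd e e' ≫ resPt U u') := by
    rw [hθ, sqR.lift_fst]
  have hθs : (yon S).map θ ≫ (yon S).map s = (yon S).map (pullback.fst e e' ≫ resPt U u) := by
    rw [hθ, sqR.lift_snd]
  refine (Set.finite_range θ.left).subset ?_
  rintro ρ ⟨hρs, hρt⟩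
  -- iterated pullbacks of sheaves
  have sq1 := IsPullback.of_hasPullback ((yon S).map (resPt U u)) ((yon S).map s)
  obtain ⟨z₁, hz₁a, hz₁b⟩ := exists_of_isPullback sq1
    (Points.ofScheme _ (show ↥(Over.mk (U.left.fromSpecResidueField u ≫ U.hom)).left from
      IsLocalRing.closedPoint (U.left.residueField u))) (Points.ofScheme R ρ) (by
      rw [map_yon_map_ofScheme, map_yon_map_ofScheme, hρs]
      congr 1
      exact Scheme.fromSpecResidueField_apply u _)
  have sq2 := IsPullback.of_hasPullback
    (pullback.snd ((yon S).map (resPt U u)) ((yon S).map s) ≫ (yon S).map t)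
    ((yon S).map (resPt U u'))
  obtain ⟨z₂, hz₂a, hz₂b⟩ := exists_of_isPullback sq2.flip
    (Points.ofScheme _ (show ↥(Over.mk (U.left.fromSpecResidueField u' ≫ U.hom)).left from
      IsLocalRing.closedPoint (U.left.residueField u'))) z₁ (by
      rw [Points.map_comp, hz₁b, map_yon_map_ofScheme, map_yon_map_ofScheme, hρt]
      congr 1
      exact Scheme.fromSpecResidueField_apply u' _)
  obtain ⟨l, hl⟩ := lift_aux φ p.toHom ((yon S).map (resPt U u)) ((yon S).map (resPt U u'))
    ((yon S).map s) ((yon S).map t) sqR ((yon S).map e) ((yon S).map e') he he'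
    _ _ sqZy ((yon S).map θ)
    (by rw [hθt, Functor.map_comp]) (by rw [hθs, Functor.map_comp])
    _ _ sq1.w _ _ sq2.w
  obtain ⟨z, hz⟩ := exists_ofScheme (Points.map l z₂)
  refine ⟨z, ofScheme_injective R ?_⟩
  rw [← map_yon_map_ofScheme, hz, ← Points.map_comp, hl, Points.map_comp, hz₂b, hz₁b]

end Groth.Agent.H25.AS
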