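import Groth.Agent.H25.AlgSp67

/-!
# Algebraic spaces toolkit, part 68: fibres of fibre products over a monomorphic point
-/

universe u

open CategoryTheory CategoryTheory.Limits AlgebraicGeometry Opposite AlgSp MorphismProperty
open scoped Topology

namespace Groth.Agent.H25.AS

variable {S : Scheme.{u}}

/-- General factorization through a monomorphic point. -/
theorem exists_factor_through_mono_point_gen {Y : Sp S} (hY : IsAlgSpace Y) (r : FieldPt Y)
    (hm : Mono r.toHom) {K : Type u} [Field K] (str : Spec (CommRingCat.of K) ⟶ S)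
    (q : (yon S).obj (Over.mk str) ⟶ Y)
    (hq : Points.ofPt q (IsLocalRing.closedPoint K) = Points.mk r) :
    ∃ e : Over.mk str ⟶ r.pt, (yon S).map e ≫ r.toHom = q := by
  have hrep : Representable q := hY.representable_from_yon q
  have sq := hrep.isPullback' r.toHom
  have hmono : Mono ((yon S).map (hrep.fst' r.toHom)) := mono_fst_of_isPullback sq
  obtain ⟨v, -, -⟩ := exists_point_of_isPullback' sq
    (show ↥r.pt.left from IsLocalRing.closedPoint r.K)
    (show ↥(Over.mk str).left from IsLocalRing.closedPoint K) (by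
      rw [Points.ofPt_toHom, hq])
  have hiso : IsIso ((yon S).map (hrep.fst' r.toHom)) :=
    isIso_of_mono_to_field str (IsAlgSpace.yon_obj _) _ ⟨Points.ofScheme _ v⟩
  have hiso' : IsIso (hrep.fst' r.toHom) := isIso_of_reflects_iso _ (yon S)
  refine ⟨inv (hrep.fst' r.toHom) ≫ hrep.snd r.toHom, ?_⟩
  rw [Functor.map_comp, Category.assoc, ← sq.w, ← Category.assoc, ← Functor.map_comp,
    IsIso.inv_hom_id, CategoryTheory.Functor.map_id, Category.id_comp]

/-- Variant with local quasi-finiteness. -/
theorem exists_factor_through_mono_point_lqf {Y : Sp S} (r : FieldPt Y)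
    (hm : Mono r.toHom) {K : Type u} [Field K] (str : Spec (CommRingCat.of K) ⟶ S)
    (q : (yon S).obj (Over.mk str) ⟶ Y) (hq1 : RepWith @LocallyQuasiFinite q)
    (hq : Points.ofPt q (IsLocalRing.closedPoint K) = Points.mk r) :
    ∃ e : Over.mk str ⟶ r.pt, LocallyQuasiFinite e.left ∧ (yon S).map e ≫ r.toHom = q := by
  have sq := hq1.rep.isPullback' r.toHom
  have hl : LocallyQuasiFinite (hq1.rep.snd r.toHom).left := hq1.property_snd r.toHom
  have hmono : Mono ((yon S).map (hq1.rep.fst' r.toHom)) := mono_fst_of_isPullback sq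
  obtain ⟨v, -, -⟩ := exists_point_of_isPullback' sq
    (show ↥r.pt.left from IsLocalRing.closedPoint r.K)
    (show ↥(Over.mk str).left from IsLocalRing.closedPoint K) (by
      rw [Points.ofPt_toHom, hq])
  have hiso : IsIso ((yon S).map (hq1.rep.fst' r.toHom)) :=
    isIso_of_mono_to_field str (IsAlgSpace.yon_obj _) _ ⟨Points.ofScheme _ v⟩
  have hiso' : IsIso (hq1.rep.fst' r.toHom) := isIso_of_reflects_iso _ (yon S)
  refine ⟨inv (hq1.rep.fst' r.toHom) ≫ hq1.rep.snd r.toHom, ?_, ?_⟩
  · rw [Over.comp_left]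
    have : IsIso (inv (hq1.rep.fst' r.toHom)).left :=
      Functor.map_isIso (Over.forget S) (inv (hq1.rep.fst' r.toHom))
    infer_instance
  · rw [Functor.map_comp, Category.assoc, ← sq.w, ← Category.assoc, ← Functor.map_comp,
      IsIso.inv_hom_id, CategoryTheory.Functor.map_id, Category.id_comp]

/-- The residue field inclusion composed with a morphism that is locally quasi-finite near the
point is locally quasi-finite. -/
theorem lqf_fromSpecResidueField_comp {V Y' : Scheme.{u}} (h : V ⟶ Y') (v : V) (W₀ : V.Opens)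
    (hv : v ∈ W₀) [LocallyQuasiFinite (W₀.ι ≫ h)] :
    LocallyQuasiFinite (V.fromSpecResidueField v ≫ h) := by
  have hsurj : Function.Surjective (pullback.fst (V.fromSpecResidueField v) W₀.ι) := by
    intro x
    obtain ⟨z, hz, -⟩ := Scheme.Pullback.exists_preimage_pullback (f := V.fromSpecResidueField v)
      (g := W₀.ι) x ⟨v, hv⟩ (by rw [Scheme.fromSpecResidueField_apply]; rfl)
    exact ⟨z, hz⟩
  have : Surjective (pullback.fst (V.fromSpecResidueField v) W₀.ι) := ⟨hsurj⟩
  have hiso : IsIso (pullback.fst (V.fromSpecResidueField v) W₀.ι) :=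
    (isIso_iff_isOpenImmersion_and_surjective _).2 ⟨inferInstance, inferInstance⟩
  have e : V.fromSpecResidueField v ≫ h = inv (pullback.fst (V.fromSpecResidueField v) W₀.ι) ≫
      pullback.snd (V.fromSpecResidueField v) W₀.ι ≫ (W₀.ι ≫ h) := by
    rw [IsIso.eq_inv_comp, ← Category.assoc, ← Category.assoc, pullback.condition]
  rw [e]
  infer_instance

/-- A purely categorical lifting lemma used for fibres of fibre products. -/
theorem lift_aux' {C : Type*} [Category C] {Y k K K' W X Z Z₀ P1 P2 : C} (f : X ⟶ Y) (g : Z ⟶ Y)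
    (pm : k ⟶ Y) [Mono pm] (a : K ⟶ X) (a' : K' ⟶ Z) (p : W ⟶ X) (q : W ⟶ Z)
    (sqW : IsPullback p q f g)
    (e : K ⟶ k) (e' : K' ⟶ k) (he : e ≫ pm = a ≫ f) (he' : e' ≫ pm = a' ≫ g)
    (zf : Z₀ ⟶ K) (zs : Z₀ ⟶ K') (sqZ : IsPullback zf zs e e')
    (θ : Z₀ ⟶ W) (hθp : θ ≫ p = zf ≫ a) (hθq : θ ≫ q = zs ≫ a')
    (f1 : P1 ⟶ K) (g1 : P1 ⟶ W) (c1 : f1 ≫ a = g1 ≫ p)
    (f2 : P2 ⟶ P1) (g2 : P2 ⟶ K') (c2 : f2 ≫ g1 ≫ q = g2 ≫ a') :
    ∃ l : P2 ⟶ Z₀, l ≫ θ = f2 ≫ g1 := by
  have h : (f2 ≫ f1) ≫ e = g2 ≫ e' := by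
    rw [← cancel_mono pm]
    calc ((f2 ≫ f1) ≫ e) ≫ pm = f2 ≫ (f1 ≫ a) ≫ f := by simp only [Category.assoc, he]
      _ = f2 ≫ g1 ≫ (p ≫ f) := by rw [c1, Category.assoc]
      _ = (f2 ≫ g1 ≫ q) ≫ g := by rw [sqW.w]; simp only [Category.assoc]
      _ = (g2 ≫ a') ≫ g := by rw [c2]
      _ = (g2 ≫ e') ≫ pm := by simp only [Category.assoc, he']
  refine ⟨sqZ.lift (f2 ≫ f1) g2 h, sqW.hom_ext ?_ ?_⟩
  · rw [Category.assoc, hθp, ← Category.assoc, sqZ.lift_fst, Category.assoc, c1, Category.assoc]
  · rw [Category.assoc, hθq, ← Category.assoc, sqZ.lift_snd, Category.assoc, ← c2]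

/-- Finiteness of the set of points of a fibre product over a pair of points, over a point
represented by a monomorphism, when one of the morphisms is quasi-finite at its point. -/
theorem finite_points_fibre_product {X Y Z W : Sp S} (hX : IsAlgSpace X) (hY : IsAlgSpace Y)
    (f : X ⟶ Y) (g : Z ⟶ Y) (p : W ⟶ X) (q : W ⟶ Z) (hW : IsPullback p q f g) (x : Points X)
    (z : Points Z) (hxz : Points.map f x = Points.map g z)
    (hy : ∃ r : FieldPt Y, Points.mk r = Points.map g z ∧ Mono r.toHom)
    (hg : HasAtMor (fun U _ h u => ∃ W : U.Opens, u ∈ W ∧ LocallyQuasiFinite (W.ι ≫ h) ∧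
      LocallyOfFiniteType (W.ι ≫ h)) g z) :
    {w : Points W | Points.map p w = x ∧ Points.map q w = z}.Finite := by
  obtain ⟨r, hr, hm⟩ := hy
  obtain ⟨V, Y', b, c, h, v, hbe, hce, comm, hv, W₀, hvW₀, hlqf, -⟩ := hg
  obtain ⟨U, a, hae, has⟩ := hX.atlas
  obtain ⟨u, hu⟩ := ofPt_surjective a has x
  -- the two field points
  have hq1 : Points.ofPt ((yon S).map (resPt U u) ≫ a ≫ f)
      (IsLocalRing.closedPoint (U.left.residueField u)) = Points.mk r := by
    rw [ofPt_map_comp, ← Points.map_ofPt, hr, ← hxz, ← hu]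
    congr 2
    exact Scheme.fromSpecResidueField_apply u _
  obtain ⟨e, he⟩ := exists_factor_through_mono_point_gen hY r hm
    (K := U.left.residueField u) (U.left.fromSpecResidueField u ≫ U.hom) _ hq1
  have hq2' : RepWith @LocallyQuasiFinite ((yon S).map (resPt V v) ≫ b ≫ g) := by
    rw [comm, ← Category.assoc, ← Functor.map_comp]
    have h1 : RepWith @LocallyQuasiFinite ((yon S).map (resPt V v ≫ h)) :=
      (repWith_yon_map_iff _ _).2
        (show LocallyQuasiFinite (V.left.fromSpecResidueField v ≫ h.left) from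
          lqf_fromSpecResidueField_comp h.left v W₀ hvW₀)
    have h2 : RepWith @LocallyQuasiFinite c :=
      repWith_mono (fun _ _ g (_ : Etale g) => lqf_of_unram g) hce
    exact (RepWith (S := S) @LocallyQuasiFinite).comp_mem _ _ h1 h2
  have hq2 : Points.ofPt ((yon S).map (resPt V v) ≫ b ≫ g)
      (IsLocalRing.closedPoint (V.left.residueField v)) = Points.mk r := by
    rw [ofPt_map_comp, ← Points.map_ofPt, hr, ← hv]
    congr 2
    exact Scheme.fromSpecResidueField_apply v _
  obtain ⟨e', hel', he'⟩ := exists_factor_through_mono_point_lqf r hm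
    (K := V.left.residueField v) (V.left.fromSpecResidueField v ≫ V.hom) _ hq2' hq2
  have sqZ : IsPullback (pullback.fst e e') (pullback.snd e e') e e' :=
    IsPullback.of_hasPullback _ _
  have sqZl := sqZ.map (Over.forget S)
  have sqZy := sqZ.map (yon S)
  have hZfin : Finite ↥(pullback e e').left := by
    have hfst : LocallyQuasiFinite (pullback.fst e e').left :=
      MorphismProperty.of_isPullback (P := @LocallyQuasiFinite) sqZl.flip hel'
    have haff : IsAffine (pullback e e').left := by
      have h1 : IsAffine (Over.mk (U.left.fromSpecResidueField u ≫ U.hom)).left :=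
        inferInstanceAs (IsAffine (Spec (U.left.residueField u)))
      have h2 : IsAffine (Over.mk (V.left.fromSpecResidueField v ≫ V.hom)).left :=
        inferInstanceAs (IsAffine (Spec (V.left.residueField v)))
      have h3 : IsAffine r.pt.left := inferInstanceAs (IsAffine (Spec (.of r.K)))
      have : IsAffine (pullback ((Over.forget S).map e) ((Over.forget S).map e')) :=
        (inferInstance : IsAffine (pullback e.left e'.left))
      exact IsAffine.of_isIso sqZl.isoPullback.hom
    have := finite_preimage_singleton_of_compact (pullback.fst e e').left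
      (IsLocalRing.closedPoint (U.left.residueField u))
    rw [← Set.finite_univ_iff]
    convert this using 1
    ext z
    simp only [Set.mem_univ, Set.mem_preimage, Set.mem_singleton_iff, true_iff]
    exact Subsingleton.elim (α := PrimeSpectrum (U.left.residueField u)) _ _
  have comm' : ((yon S).map (pullback.fst e e') ≫ (yon S).map (resPt U u) ≫ a) ≫ f =
      ((yon S).map (pullback.snd e e') ≫ (yon S).map (resPt V v) ≫ b) ≫ g := by
    rw [Category.assoc, Category.assoc, Category.assoc, Category.assoc, ← he, ← he',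
      ← Category.assoc, ← Category.assoc, sqZy.w]
  have hθp := hW.lift_fst _ _ comm'
  have hθq := hW.lift_snd _ _ comm'
  refine (Set.finite_range (fun z₀ : ↥(pullback e e').left =>
    Points.map (hW.lift _ _ comm') (Points.ofScheme _ z₀))).subset ?_
  rintro w ⟨hwp, hwq⟩
  have sq1 := IsPullback.of_hasPullback ((yon S).map (resPt U u) ≫ a) p
  obtain ⟨z₁, hz₁a, hz₁b⟩ := exists_of_isPullback sq1
    (Points.ofScheme _ (show ↥(Over.mk (U.left.fromSpecResidueField u ≫ U.hom)).left from
      IsLocalRing.closedPoint (U.left.residueField u))) w (by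
      rw [← Points.ofPt_eq_map_ofScheme, ofPt_map_comp, hwp, ← hu]
      congr 1
      exact Scheme.fromSpecResidueField_apply u _)
  have sq2 := IsPullback.of_hasPullback
    (pullback.snd ((yon S).map (resPt U u) ≫ a) p ≫ q) ((yon S).map (resPt V v) ≫ b)
  obtain ⟨z₂, hz₂a, hz₂b⟩ := exists_of_isPullback sq2.flip
    (Points.ofScheme _ (show ↥(Over.mk (V.left.fromSpecResidueField v ≫ V.hom)).left from
      IsLocalRing.closedPoint (V.left.residueField v))) z₁ (by
      rw [← Points.ofPt_eq_map_ofScheme, ofPt_map_comp, Points.map_comp, hz₁b, hwq, ← hv]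
      congr 1
      exact Scheme.fromSpecResidueField_apply v _)
  obtain ⟨l, hl⟩ := lift_aux' f g r.toHom ((yon S).map (resPt U u) ≫ a)
    ((yon S).map (resPt V v) ≫ b) p q hW ((yon S).map e) ((yon S).map e')
    (by rw [he, Category.assoc]) (by rw [he', Category.assoc])
    _ _ sqZy (hW.lift _ _ comm') hθp hθq _ _ sq1.w _ _ sq2.w
  obtain ⟨z₀, hz₀⟩ := exists_ofScheme (Points.map l z₂)
  refine ⟨z₀, ?_⟩
  change Points.map (hW.lift _ _ comm') (Points.ofScheme _ z₀) = w
  rw [hz₀, ← Points.map_comp, hl, Points.map_comp, hz₂b, hz₁b]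

end Groth.Agent.H25.AS
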