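import Groth.Agent.H25.AlgSp68

/-!
# Algebraic spaces toolkit, part 69: universally closed morphisms and the existence part of the
valuative criterion
-/

universe u

open CategoryTheory CategoryTheory.Limits AlgebraicGeometry Opposite AlgSp MorphismProperty
open TopologicalSpace

namespace Groth.Agent.H25.AS

variable {S : Scheme.{u}}

/-- The valuative square over `Spec A` itself. -/
@[reducible] noncomputable def ValSq.overBase {XA : Sp S} {A K : Type u} [CommRing A] [IsDomain A]
    [ValuationRing A] [Field K] [Algebra A K] [IsFractionRing A K] (str : Spec (.of A) ⟶ S)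
    (fA : XA ⟶ (yon S).obj (Over.mk str))
    (σ : (yon S).obj (Over.mk (Spec.map (CommRingCat.ofHom (algebraMap A K)) ≫ str)) ⟶ XA)
    (hσ : σ ≫ fA = (yon S).map (Over.homMk (Spec.map (CommRingCat.ofHom (algebraMap A K))) rfl :
      Over.mk (Spec.map (CommRingCat.ofHom (algebraMap A K)) ≫ str) ⟶ Over.mk str)) : ValSq fA :=
  { A := A, K := K, str := str, top := σ, bot := 𝟙 _, comm := by rw [hσ, Category.comp_id] }

open IsLocalRing in
theorem hasLiftExt_aux {XA : Sp S} {A K : Type u} [CommRing A] [IsDomain A]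
    [ValuationRing A] [Field K] [Algebra A K] [IsFractionRing A K] (str : Spec (.of A) ⟶ S)
    (fA : XA ⟶ (yon S).obj (Over.mk str))
    (σ : (yon S).obj (Over.mk (Spec.map (CommRingCat.ofHom (algebraMap A K)) ≫ str)) ⟶ XA)
    (hσ : σ ≫ fA = (yon S).map (Over.homMk (Spec.map (CommRingCat.ofHom (algebraMap A K))) rfl :
      Over.mk (Spec.map (CommRingCat.ofHom (algebraMap A K)) ≫ str) ⟶ Over.mk str))
    {U W : Over S} (a : (yon S).obj U ⟶ XA) (h : U ⟶ Over.mk str)
    (hh : a ≫ fA = (yon S).map h) (r : W ⟶ U)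
    (c : W ⟶ Over.mk (Spec.map (CommRingCat.ofHom (algebraMap A K)) ≫ str))
    (hw : (yon S).map r ≫ a = (yon S).map c ≫ σ) (w : ↥W.left)
    (A' : ValuationSubring (W.left.residueField w)) (b : Spec (.of A') ⟶ U.left)
    (hb : W.left.fromSpecResidueField w ≫ r.left =
      Spec.map (CommRingCat.ofHom (algebraMap A' (W.left.residueField w))) ≫ b)
    (hcl : h.left (b (closedPoint A')) = closedPoint A) :
    (ValSq.overBase str fA σ hσ).HasLiftExt := by
  let φ' : CommRingCat.of A ⟶ CommRingCat.of A' := Spec.preimage (b ≫ h.left)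
  have hφ' : Spec.map φ' = b ≫ h.left := Spec.map_preimage _
  let ψ' : CommRingCat.of K ⟶ W.left.residueField w :=
    Spec.preimage (W.left.fromSpecResidueField w ≫ c.left)
  have hψ' : Spec.map ψ' = W.left.fromSpecResidueField w ≫ c.left := Spec.map_preimage _
  have hrc : r ≫ h = c ≫ (Over.homMk (Spec.map (CommRingCat.ofHom (algebraMap A K))) rfl :
      Over.mk (Spec.map (CommRingCat.ofHom (algebraMap A K)) ≫ str) ⟶ Over.mk str) := by
    apply (yon S).map_injective
    rw [Functor.map_comp, Functor.map_comp, ← hh, ← Category.assoc, hw, Category.assoc, hσ]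
  have hrc' : r.left ≫ h.left = c.left ≫ Spec.map (CommRingCat.ofHom (algebraMap A K)) :=
    congrArg (·.left) hrc
  have hcomm0 : CommRingCat.ofHom (algebraMap A K) ≫ ψ' =
      φ' ≫ CommRingCat.ofHom (algebraMap A' (W.left.residueField w)) := by
    apply Spec.map_injective
    rw [Spec.map_comp, Spec.map_comp, hφ', hψ', Category.assoc, ← hrc', ← Category.assoc, hb,
      Category.assoc]
  have hcomm : (algebraMap A' (W.left.residueField w)).comp φ'.hom =
      ψ'.hom.comp (algebraMap A K) := (congrArg CommRingCat.Hom.hom hcomm0).symm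
  have hloc : IsLocalHom φ'.hom := by
    rw [isLocalHom_iff_comap_closedPoint]
    have : (Spec.map φ') (closedPoint A') = closedPoint A := by rw [hφ']; exact hcl
    exact this
  let e : (ValSq.overBase str fA σ hσ).DomExt :=
    { A' := A', K' := W.left.residueField w, φ := φ'.hom, ψ := ψ'.hom, comm := hcomm,
      isLocalHom := hloc }
  refine ⟨e, ?_⟩
  have hstr : h.left ≫ str = U.hom := Over.w h
  let b' : e.ptA' ⟶ U := Over.homMk b (by
    change b ≫ U.hom = Spec.map φ' ≫ str
    rw [hφ', Category.assoc, hstr])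
  let wpt : e.ptK' ⟶ W := Over.homMk (W.left.fromSpecResidueField w) (by
    change _ ≫ W.hom = Spec.map (CommRingCat.ofHom (algebraMap A' (W.left.residueField w))) ≫
      Spec.map φ' ≫ str
    rw [hφ', ← Over.w r, ← Category.assoc, hb, Category.assoc, Category.assoc, hstr])
  refine ⟨(yon S).map b' ≫ a, ?_, ?_⟩
  · have h1 : (Over.homMk (Spec.map (CommRingCat.ofHom (algebraMap e.A' e.K'))) rfl :
        e.ptK' ⟶ e.ptA') ≫ b' = wpt ≫ r := by
      ext
      exact hb.symm
    change (yon S).map _ ≫ (yon S).map b' ≫ a = (yon S).map _ ≫ σ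
    rw [← Category.assoc, ← Functor.map_comp, h1, Functor.map_comp, Category.assoc, hw,
      ← Category.assoc, ← Functor.map_comp]
    congr 2
    ext
    exact hψ'.symm
  · change ((yon S).map b' ≫ a) ≫ fA = (yon S).map _ ≫ 𝟙 _
    rw [Category.assoc, hh, ← Functor.map_comp, Category.comp_id]
    congr 1
    ext
    exact hφ'.symm

end Groth.Agent.H25.AS

namespace Groth.Agent.H25.AS

variable {S : Scheme.{u}}

open IsLocalRing in
/-- The core of "universally closed implies the existence part of the valuative criterion": over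
the spectrum of a valuation ring, a closed morphism from an algebraic space with a section over
the generic point whose image point is represented by a quasi-compact morphism from a field. -/
theorem hasLiftExt_of_isClosedMor {XA : Sp S} (hXA : IsAlgSpace XA) {A K : Type u} [CommRing A]
    [IsDomain A] [ValuationRing A] [Field K] [Algebra A K] [IsFractionRing A K]
    (str : Spec (.of A) ⟶ S) (fA : XA ⟶ (yon S).obj (Over.mk str)) (hc : IsClosedMor fA)
    (σ : (yon S).obj (Over.mk (Spec.map (CommRingCat.ofHom (algebraMap A K)) ≫ str)) ⟶ XA)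
    (hσ : σ ≫ fA = (yon S).map (Over.homMk (Spec.map (CommRingCat.ofHom (algebraMap A K))) rfl :
      Over.mk (Spec.map (CommRingCat.ofHom (algebraMap A K)) ≫ str) ⟶ Over.mk str))
    (p' : FieldPt XA) (hp' : Points.mk p' = Points.ofPt σ (closedPoint K))
    (hq : RepWith @QuasiCompact p'.toHom) :
    (ValSq.overBase str fA σ hσ).HasLiftExt := by
  have hcl : IsClosed (Points.map fA '' closure {Points.ofPt σ (closedPoint K)}) :=
    hc _ isClosed_closure
  have hη : Points.map fA (Points.ofPt σ (closedPoint K)) = Points.ofScheme (Over.mk str)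
      (Spec.map (CommRingCat.ofHom (algebraMap A K)) (closedPoint K)) := by
    rw [Points.map_ofPt, hσ, ofPt_yon_map]
    rfl
  have hspec : Points.ofScheme (Over.mk str)
      (Spec.map (CommRingCat.ofHom (algebraMap A K)) (closedPoint K)) ⤳
      Points.ofScheme (Over.mk str) (closedPoint A) :=
    (specializes_closedPoint _).map (Points.continuous_ofPt _)
  have hmem : Points.ofScheme (Over.mk str) (closedPoint A) ∈
      Points.map fA '' closure {Points.ofPt σ (closedPoint K)} :=
    hspec.mem_closed hcl ⟨_, subset_closure rfl, hη⟩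
  obtain ⟨x₀, hx₀, hx₀'⟩ := hmem
  have hsp : Points.ofPt σ (closedPoint K) ⤳ x₀ := specializes_iff_mem_closure.2 hx₀
  obtain ⟨U, a, hae, has⟩ := hXA.atlas
  obtain ⟨u₀, hu₀⟩ := ofPt_surjective a has x₀
  obtain ⟨u₁, hu₁, hu₁'⟩ := exists_generization_of_qc_point hsp p' hp' hq a hae u₀ hu₀
  have sq := hae.rep.isPullback' σ
  obtain ⟨w, hw1, hw2⟩ := exists_point_of_isPullback' sq (closedPoint K) u₁ hu₁'.symm
  have hh : a ≫ fA = (yon S).map ((yon S).preimage (a ≫ fA)) := ((yon S).map_preimage _).symm
  have hspec2 : (hae.rep.fst' σ).left w ⤳ u₀ := hw2 ▸ hu₁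
  obtain ⟨A', b, hb, hbcl⟩ :=
    exists_valuationRing_of_specializes (hae.rep.fst' σ).left w u₀ hspec2
  refine hasLiftExt_aux str fA σ hσ a _ hh (hae.rep.fst' σ) (hae.rep.snd σ) sq.w w A' b hb ?_
  rw [hbcl]
  apply ofScheme_injective (Over.mk str)
  rw [← map_yon_map_ofScheme, ← hh, ← Points.ofPt_eq_map_ofScheme, ← Points.map_ofPt, hu₀, hx₀']

end Groth.Agent.H25.AS

namespace Groth.Agent.H25.AS

variable {S : Scheme.{u}}

open IsLocalRing in
/-- Reduction of the existence part of the valuative criterion for one square to the base change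
over the spectrum of the valuation ring. -/
theorem hasLiftExt_of_pullback {X Y : Sp S} {f : X ⟶ Y} (sq : ValSq f) {XA : Sp S} (fst : XA ⟶ X)
    (fA : XA ⟶ (yon S).obj sq.ptA) (pb : IsPullback fst fA f sq.bot) (hXA : IsAlgSpace XA)
    (hc : IsClosedMor fA)
    (hpt : ∀ σ : (yon S).obj sq.ptK ⟶ XA, σ ≫ fA = (yon S).map sq.j →
      ∃ p' : FieldPt XA, Points.mk p' = Points.ofPt σ (closedPoint sq.K) ∧
        RepWith @QuasiCompact p'.toHom) : sq.HasLiftExt := by
  have hσ : pb.lift sq.top ((yon S).map sq.j) sq.comm ≫ fA = (yon S).map sq.j := pb.lift_snd _ _ _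
  obtain ⟨p', hp', hq⟩ := hpt _ hσ
  obtain ⟨e0, l, hl1, hl2⟩ := hasLiftExt_of_isClosedMor hXA sq.str fA hc _ hσ p' hp' hq
  let e : sq.DomExt :=
    { A' := e0.A', K' := e0.K', φ := e0.φ, ψ := e0.ψ, comm := e0.comm,
      isLocalHom := e0.isLocalHom }
  refine ⟨e, l ≫ fst, ?_, ?_⟩
  · rw [← Category.assoc]
    change ((yon S).map _ ≫ l) ≫ fst = (yon S).map _ ≫ sq.top
    have := congrArg (· ≫ fst) hl1
    simp only [Category.assoc, pb.lift_fst] at this
    rw [Category.assoc]
    exact this
  · rw [Category.assoc, pb.w, ← Category.assoc]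
    change (l ≫ fA) ≫ sq.bot = (yon S).map _ ≫ sq.bot
    have := hl2
    simp only [Category.comp_id] at this
    rw [this]

end Groth.Agent.H25.AS

namespace Groth.Agent.H25.AS

variable {S : Scheme.{u}}

open IsLocalRing in
theorem existVC_of_isUnivClosedMor_aux {X Y : Sp S} (hX : IsAlgSpace X) (hY : IsAlgSpace Y)
    (f : X ⟶ Y) (hc : IsUnivClosedMor f)
    (hpt : ∀ (sq : ValSq f) (σ : (yon S).obj sq.ptK ⟶ pullback f sq.bot),
      σ ≫ pullback.snd f sq.bot = (yon S).map sq.j →
      ∃ p' : FieldPt (pullback f sq.bot), Points.mk p' = Points.ofPt σ (closedPoint sq.K) ∧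
        RepWith @QuasiCompact p'.toHom) : ExistVC f := by
  intro sq
  have pb := IsPullback.of_hasPullback f sq.bot
  have hXA : IsAlgSpace (pullback f sq.bot) :=
    isAlgSpace_of_isPullback hY.diag hX (IsAlgSpace.yon_obj _) pb
  exact hasLiftExt_of_pullback sq _ _ pb hXA (hc (IsAlgSpace.yon_obj _) sq.bot _ _ pb) (hpt sq)

open IsLocalRing in
/-- A quasi-separated universally closed morphism of algebraic spaces satisfies the existence
part of the valuative criterion. -/
theorem existVC_of_quasiSeparated {X Y : Sp S} (hX : IsAlgSpace X) (hY : IsAlgSpace Y)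
    (f : X ⟶ Y) (hqs : IsQuasiSeparatedMor f) (hc : IsUnivClosedMor f) : ExistVC f := by
  refine existVC_of_isUnivClosedMor_aux hX hY f hc (fun sq σ hσ => ?_)
  have pb := IsPullback.of_hasPullback f sq.bot
  have hqs' : IsQuasiSeparatedMor (pullback.snd f sq.bot) :=
    isQuasiSeparatedMor_of_isPullback pb hqs
  have hσq : RepWith @QuasiCompact σ := by
    apply repWith_of_comp_of_diagonal σ _ _ hqs'
    rw [hσ]
    exact (repWith_yon_map_iff _ _).2 (by dsimp; infer_instance)
  refine ⟨fpOf sq.K _ σ, mk_fpOf_eq_ofPt_id _ _ _, ?_⟩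
  have : (fpOf sq.K _ σ).toHom = σ := Equiv.symm_apply_apply _ _
  rw [this]
  exact hσq

open IsLocalRing in
/-- A decent universally closed morphism of algebraic spaces satisfies the existence part of the
valuative criterion. -/
theorem existVC_of_isDecentMor {X Y : Sp S} (hX : IsAlgSpace X) (hY : IsAlgSpace Y)
    (f : X ⟶ Y) (hd : IsDecentMor f) (hc : IsUnivClosedMor f) : ExistVC f := by
  refine existVC_of_isUnivClosedMor_aux hX hY f hc (fun sq σ hσ => ?_)
  have pb := IsPullback.of_hasPullback f sq.bot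
  have hd' : IsDecent (pullback f sq.bot) := hd sq.bot _ _ pb
  obtain ⟨p, hp, -, hq⟩ := hd' (Points.ofPt σ (closedPoint sq.K))
  exact ⟨p, hp, hq⟩

open IsLocalRing in
/-- A universally closed morphism from a decent algebraic space satisfies the existence part of
the valuative criterion. -/
theorem existVC_of_isDecent {X Y : Sp S} (hX : IsAlgSpace X) (hY : IsAlgSpace Y)
    (f : X ⟶ Y) (hd : IsDecent X) (hc : IsUnivClosedMor f) : ExistVC f := by
  refine existVC_of_isUnivClosedMor_aux hX hY f hc (fun sq σ hσ => ?_)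
  have pb := IsPullback.of_hasPullback f sq.bot
  have hrep : Representable (pullback.fst f sq.bot) :=
    MorphismProperty.of_isPullback pb.flip (hY.representable_from_yon sq.bot)
  have hd' : IsDecent (pullback f sq.bot) := isDecent_of_representable _ hrep hd
  obtain ⟨p, hp, -, hq⟩ := hd' (Points.ofPt σ (closedPoint sq.K))
  exact ⟨p, hp, hq⟩

end Groth.Agent.H25.AS
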