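import Groth.Agent.H25.AlgSp6

/-!
# Algebraic spaces toolkit, part 7: the diagonal dictionary for representable morphisms
-/

universe u v w v' w'

open CategoryTheory CategoryTheory.Limits AlgebraicGeometry Opposite AlgSp

namespace Groth.Agent.H25.AS

section Cat

variable {C : Type v} [Category.{w} C] {D : Type v'} [Category.{w'} D]

/-- Functor-generic version: the relative diagonal of a relatively representable morphism is
relatively representable. -/
theorem relativelyRepresentable_diagonal [HasPullbacks C] [HasPullbacks D] (F : C ⥤ D) [F.Full]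
    [F.Faithful] [PreservesLimitsOfShape WalkingCospan F] {X Y : D} (f : X ⟶ Y)
    (hf : F.relativelyRepresentable f) : F.relativelyRepresentable (pullback.diagonal f) := by
  intro T c
  let a := c ≫ pullback.fst f f
  let b := c ≫ pullback.snd f f
  have h : a ≫ f = b ≫ f := by
    simp only [a, b, Category.assoc, pullback.condition]
  have hc : c = pullback.lift a b h := by
    apply pullback.hom_ext
    · rw [pullback.lift_fst]
    · rw [pullback.lift_snd]
  have hP := hf.isPullback (a ≫ f)
  let sa : T ⟶ hf.pullback (a ≫ f) := hf.lift a (𝟙 T) (by simp)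
  let sb : T ⟶ hf.pullback (a ≫ f) := hf.lift b (𝟙 T) (by simp [h])
  have ha1 : F.map sa ≫ hf.fst (a ≫ f) = a := hf.lift_fst _ _ _
  have ha2 : sa ≫ hf.snd (a ≫ f) = 𝟙 T := hf.lift_snd _ _ _
  have hb1 : F.map sb ≫ hf.fst (a ≫ f) = b := hf.lift_fst _ _ _
  have hb2 : sb ≫ hf.snd (a ≫ f) = 𝟙 T := hf.lift_snd _ _ _
  have hE := (IsPullback.of_hasPullback sa sb).map F
  have key := isPullback_diagonal_of_sections h hP ha1
    (by rw [← F.map_comp, ha2, F.map_id]) hb1
    (by rw [← F.map_comp, hb2, F.map_id]) hE
  refine ⟨pullback sa sb, pullback.fst sa sb, F.map (pullback.fst sa sb) ≫ a, ?_⟩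
  rw [hc]
  exact key

/-- simp set for pullbacks. -/
macro "pbsimp" : tactic => `(tactic| simp only [pullback.map, pullback.lift_fst, pullback.lift_snd,
  pullback.lift_fst_assoc, pullback.lift_snd_assoc, pullback.diagonal_fst, pullback.diagonal_snd,
  pullback.diagonal_fst_assoc, pullback.diagonal_snd_assoc, Category.assoc, Category.comp_id,
  Category.id_comp])

macro "pbsimp" "at" h:ident : tactic => `(tactic| simp only [pullback.map, pullback.lift_fst,
  pullback.lift_snd, pullback.lift_fst_assoc, pullback.lift_snd_assoc, pullback.diagonal_fst,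
  pullback.diagonal_snd, pullback.diagonal_fst_assoc, pullback.diagonal_snd_assoc, Category.assoc,
  Category.comp_id, Category.id_comp] at $h:ident)

/-- The diagonal of a base change is the base change of the diagonal. -/
theorem isPullback_diagonal_of_isPullback [HasPullbacks C] {P X U Y : C} {f : X ⟶ Y} {g : U ⟶ Y}
    {fst : P ⟶ X} {snd : P ⟶ U} (sq : IsPullback fst snd f g) :
    IsPullback fst (pullback.diagonal snd) (pullback.diagonal f)
      (pullback.map snd snd f f fst fst g sq.w.symm sq.w.symm) := by
  refine isPullback_of_lift ?_ ?_ ?_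
  · apply pullback.hom_ext
    · pbsimp
    · pbsimp
  · intro W u v huv
    have h1 : u = v ≫ pullback.fst snd snd ≫ fst := by
      have := congrArg (· ≫ pullback.fst f f) huv
      pbsimp at this
      exact this
    have h2 : u = v ≫ pullback.snd snd snd ≫ fst := by
      have := congrArg (· ≫ pullback.snd f f) huv
      pbsimp at this
      exact this
    have hv : v ≫ pullback.fst snd snd = v ≫ pullback.snd snd snd := by
      apply sq.hom_ext
      · rw [Category.assoc, Category.assoc, ← h1, ← h2]
      · rw [Category.assoc, Category.assoc, pullback.condition]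
    refine ⟨v ≫ pullback.fst snd snd, by rw [Category.assoc, ← h1], ?_⟩
    apply pullback.hom_ext
    · pbsimp
    · pbsimp
      exact hv
  · intro W l l' _ h2
    have := congrArg (· ≫ pullback.fst snd snd) h2
    pbsimp at this
    exact this

end Cat

variable {S : Scheme.{u}}

/-- The pullback of the diagonal of a representable `f` along any map from a representable is
computed by the fibre product of two sections of a base change of `f`. -/
theorem exists_sections_pullback_diagonal {F G : Sp S} (f : F ⟶ G) (hf : Representable f)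
    {T : Over S} (c : (yon S).obj T ⟶ pullback f f) :
    ∃ (V : Over S) (r : V ⟶ T) (fstV : (yon S).obj V ⟶ F) (g : (yon S).obj T ⟶ G)
      (sa sb : T ⟶ V),
      IsPullback fstV ((yon S).map r) f g ∧ sa ≫ r = 𝟙 T ∧ sb ≫ r = 𝟙 T ∧
      IsPullback ((yon S).map (pullback.fst sa sb) ≫ c ≫ pullback.fst f f)
        ((yon S).map (pullback.fst sa sb)) (pullback.diagonal f) c := by
  let a := c ≫ pullback.fst f f
  let b := c ≫ pullback.snd f f
  have h : a ≫ f = b ≫ f := by
    simp only [a, b, Category.assoc, pullback.condition]
  have hc : c = pullback.lift a b h := by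
    apply pullback.hom_ext
    · rw [pullback.lift_fst]
    · rw [pullback.lift_snd]
  have hP := hf.isPullback (a ≫ f)
  let sa : T ⟶ hf.pullback (a ≫ f) := hf.lift a (𝟙 T) (by simp)
  let sb : T ⟶ hf.pullback (a ≫ f) := hf.lift b (𝟙 T) (by simp [h])
  have ha1 : (yon S).map sa ≫ hf.fst (a ≫ f) = a := hf.lift_fst _ _ _
  have ha2 : sa ≫ hf.snd (a ≫ f) = 𝟙 T := hf.lift_snd _ _ _
  have hb1 : (yon S).map sb ≫ hf.fst (a ≫ f) = b := hf.lift_fst _ _ _
  have hb2 : sb ≫ hf.snd (a ≫ f) = 𝟙 T := hf.lift_snd _ _ _
  have hE := (IsPullback.of_hasPullback sa sb).map (yon S)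
  have key := isPullback_diagonal_of_sections h hP ha1
    (by rw [← (yon S).map_comp, ha2, (yon S).map_id]) hb1
    (by rw [← (yon S).map_comp, hb2, (yon S).map_id]) hE
  refine ⟨_, hf.snd (a ≫ f), hf.fst (a ≫ f), a ≫ f, sa, sb, hP, ha2, hb2, ?_⟩
  rw [← hc] at key
  exact key

/-- If sections of `Q`-morphisms are `P`, then the diagonal of a representable `Q`-morphism is
representable `P`. -/
theorem repWith_diagonal_of_sections (P Q : MorphismProperty Scheme.{u})
    [P.IsStableUnderBaseChange]
    (hPQ : ∀ {A B : Scheme.{u}} (s : A ⟶ B) (r : B ⟶ A), s ≫ r = 𝟙 A → Q r → P s)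
    {F G : Sp S} (f : F ⟶ G) (hf : RepWith Q f) : RepWith P (pullback.diagonal f) := by
  have : P.RespectsIso := MorphismProperty.IsStableUnderBaseChange.respectsIso
  apply MorphismProperty.relative.of_exists
  intro T c
  obtain ⟨V, r, fstV, g, sa, sb, hsq, ha, hb, key⟩ := exists_sections_pullback_diagonal f hf.rep c
  refine ⟨pullback sa sb, _, pullback.fst sa sb, key, ?_⟩
  have hQr : Q r.left := hf.property g fstV r hsq
  have hPsb : P sb.left := hPQ sb.left r.left (by
    rw [← Over.comp_left, hb]; rfl) hQr
  have sqS := (IsPullback.of_hasPullback sa sb).map (Over.forget S)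
  exact P.of_isPullback sqS.flip hPsb

/-- If `P` of the diagonal implies `Q`, then a representable morphism with `P`-diagonal is
representable `Q`. -/
theorem repWith_of_repWith_diagonal (P Q : MorphismProperty Scheme.{u})
    [P.IsStableUnderBaseChange]
    (hQP : ∀ {A B : Scheme.{u}} (r : A ⟶ B), P (pullback.diagonal r) → Q r)
    {F G : Sp S} (f : F ⟶ G) (hr : Representable f) (hf : RepWith P (pullback.diagonal f)) :
    RepWith Q f := by
  refine ⟨hr, fun U V g fst snd sq => ?_⟩
  have h1 : RepWith P (pullback.diagonal ((yon S).map snd)) :=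
    MorphismProperty.of_isPullback (isPullback_diagonal_of_isPullback sq) hf
  exact hQP _ ((repWith_diagonal_yon_map_iff P snd).1 h1)

theorem isSeparatedMor_iff_repWith {F G : Sp S} (f : F ⟶ G) (hr : Representable f) :
    IsSeparatedMor f ↔ RepWith @IsSeparated f := by
  constructor
  · intro h
    exact repWith_of_repWith_diagonal @IsClosedImmersion @IsSeparated
      (fun r hr' => ⟨hr'⟩) f hr h
  · intro h
    refine repWith_diagonal_of_sections @IsClosedImmersion @IsSeparated ?_ f h
    intro A B s r hsr hr'
    have : IsSeparated r := hr'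
    have : IsClosedImmersion (s ≫ r) := by rw [hsr]; infer_instance
    exact IsClosedImmersion.of_comp s r

theorem isQuasiSeparatedMor_iff_repWith {F G : Sp S} (f : F ⟶ G) (hr : Representable f) :
    IsQuasiSeparatedMor f ↔ RepWith @QuasiSeparated f := by
  constructor
  · intro h
    exact repWith_of_repWith_diagonal @QuasiCompact @QuasiSeparated
      (fun r hr' => ⟨hr'⟩) f hr h
  · intro h
    refine repWith_diagonal_of_sections @QuasiCompact @QuasiSeparated ?_ f h
    intro A B s r hsr hr'
    have : QuasiSeparated r := hr'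
    have : QuasiCompact (s ≫ r) := by rw [hsr]; infer_instance
    exact QuasiCompact.of_comp s r

end Groth.Agent.H25.AS
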