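import Groth.Agent.H25.AlgSp69
import Mathlib.AlgebraicGeometry.AlgClosed.Basic

/-!
# Algebraic spaces toolkit, part 70: closed points of decent spaces
-/

universe u

open CategoryTheory CategoryTheory.Limits AlgebraicGeometry Opposite AlgSp MorphismProperty
open TopologicalSpace

namespace Groth.Agent.H25.AS

variable {S : Scheme.{u}}

open IsLocalRing in
/-- A point of a scheme over a field whose residue field is algebraic over the base field has no
nontrivial specializations. -/
theorem eq_of_specializes_of_integral_point {F : Scheme.{u}} {κ : Type u} [Field κ]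
    {K : CommRingCat.{u}} [Subsingleton ↥(Spec K)]
    (g : F ⟶ Spec (.of κ)) (m : Spec K ⟶ F) [IsIntegralHom (m ≫ g)] (z : ↥(Spec K)) (w' : F)
    (h : m z ⤳ w') : m z = w' := by
  obtain ⟨V, hV, hw'V, -⟩ := exists_isAffineOpen_mem_and_subset (X := F) (x := w') (U := ⊤) trivial
  have hwV : m z ∈ V := h.mem_open V.2 hw'V
  have hrange : Set.range m ⊆ V := by
    rintro _ ⟨z', rfl⟩
    rw [Subsingleton.elim z' z]
    exact hwV
  let m' : Spec K ⟶ V.toScheme := IsOpenImmersion.lift V.ι m (by rwa [Scheme.Opens.range_ι])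
  have hm' : m' ≫ V.ι = m := IsOpenImmersion.lift_fac _ _ _
  have : IsAffine V.toScheme := hV
  have h1 : IsIntegralHom (m' ≫ (V.ι ≫ g)) := by
    rw [← Category.assoc, hm']
    infer_instance
  have h2 : IsIntegralHom m' := IsIntegralHom.of_comp m' (V.ι ≫ g)
  have hcl : IsClosed (Set.range m') := m'.isClosedMap.isClosed_range
  have hsp : m' z ⤳ (⟨w', hw'V⟩ : V.toScheme) := by
    rw [← V.ι.isOpenEmbedding.isInducing.specializes_iff]
    rw [← Scheme.Hom.comp_apply, hm']
    exact h
  have hmem : (⟨w', hw'V⟩ : V.toScheme) ∈ Set.range m' := hsp.mem_closed hcl ⟨_, rfl⟩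
  obtain ⟨z', hz⟩ := hmem
  rw [Subsingleton.elim z' z] at hz
  have := congrArg V.ι hz
  rw [← Scheme.Hom.comp_apply, hm'] at this
  exact this

end Groth.Agent.H25.AS

namespace Groth.Agent.H25.AS

variable {S : Scheme.{u}}

open IsLocalRing in
/-- Scheme-level core: a point of `U` coming from a scheme étale over a field algebraic over the
residue field of a closed point of the base has no nontrivial specializations. -/
theorem eq_of_specializes_aux {B U W : Scheme.{u}} (π : U ⟶ B) (s : B)
    (hs : IsClosed ({s} : Set B)) {k : Type u} [Field k] (φ : B.residueField s ⟶ .of k)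
    (hφ : φ.hom.IsIntegral) (r : W ⟶ U) (c : W ⟶ Spec (.of k)) [Etale c]
    (comm : r ≫ π = c ≫ Spec.map φ ≫ B.fromSpecResidueField s) (w : W) (u' : U)
    (h : r w ⤳ u') : r w = u' := by
  have hci : IsClosedImmersion (B.fromSpecResidueField s) :=
    isClosed_singleton_iff_isClosedImmersion.1 hs
  have hdisc : DiscreteTopology W := discreteTopology_of_etale_field (K := k) c
  have hciw : IsClosedImmersion (W.fromSpecResidueField w) :=
    isClosed_singleton_iff_isClosedImmersion.1 (isClosed_discrete _)
  have hfin : IsFinite (W.fromSpecResidueField w ≫ c) := by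
    rw [isFinite_iff_locallyOfFiniteType_of_jacobsonSpace]
    infer_instance
  have hint : IsIntegralHom (Spec.map φ) := IsIntegralHom.SpecMap_iff.2 hφ
  let m : Spec (W.residueField w) ⟶ pullback π (B.fromSpecResidueField s) :=
    pullback.lift (W.fromSpecResidueField w ≫ r) (W.fromSpecResidueField w ≫ c ≫ Spec.map φ)
      (by rw [Category.assoc, comm]; simp only [Category.assoc])
  have hm1 : m ≫ pullback.fst _ _ = W.fromSpecResidueField w ≫ r := pullback.lift_fst _ _ _
  have hm2 : m ≫ pullback.snd _ _ = W.fromSpecResidueField w ≫ c ≫ Spec.map φ :=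
    pullback.lift_snd _ _ _
  have hmint : IsIntegralHom (m ≫ pullback.snd π (B.fromSpecResidueField s)) := by
    rw [hm2, ← Category.assoc]
    infer_instance
  obtain ⟨z⟩ : Nonempty ↥(Spec (W.residueField w)) := inferInstance
  have hιm : (pullback.fst π (B.fromSpecResidueField s)) (m z) = r w := by
    rw [← Scheme.Hom.comp_apply, hm1, Scheme.Hom.comp_apply, Scheme.fromSpecResidueField_apply]
  -- u' lies over s
  have hπ : π (r w) = s := by
    rw [← Scheme.Hom.comp_apply, comm, Scheme.Hom.comp_apply, Scheme.Hom.comp_apply,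
      Scheme.fromSpecResidueField_apply]
  have hπ' : π u' = s := by
    have h1 : π (r w) ⤳ π u' := h.map π.continuous
    rw [hπ] at h1
    have := h1.mem_closed hs rfl
    exact this
  have hu'r : u' ∈ Set.range (pullback.fst π (B.fromSpecResidueField s)) := by
    rw [Scheme.Pullback.range_fst, Scheme.range_fromSpecResidueField]
    exact hπ'
  obtain ⟨ũ', hũ'⟩ := hu'r
  have hsp : m z ⤳ ũ' := by
    rw [← (pullback.fst π (B.fromSpecResidueField s)).isClosedEmbedding.isInducing.specializes_iff,
      hιm, hũ']
    exact h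
  have key := @eq_of_specializes_of_integral_point _ _ _ _ _
    (pullback.snd π (B.fromSpecResidueField s)) m hmint z ũ' hsp
  rw [← hιm, ← hũ']
  exact congrArg _ key

end Groth.Agent.H25.AS

namespace Groth.Agent.H25.AS

variable {S : Scheme.{u}}

/-- On a decent algebraic space, a point represented by a field algebraic over the residue field
of a closed point of the base is closed. -/
theorem isClosed_point_of_algebraic {X : Sp S} (hXa : IsAlgSpace X) (hX : IsDecent X) (s : ↥S)
    (hs : IsClosed ({s} : Set ↥S)) (k : Type u) [Field k]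
    (φ : S.residueField s ⟶ CommRingCat.of k) (hφ : φ.hom.IsIntegral)
    (p : (yon S).obj (Over.mk (Spec.map φ ≫ S.fromSpecResidueField s)) ⟶ X)
    (t : ↥(Spec (CommRingCat.of k))) :
    IsClosed ({Points.ofPt p t} : Set (Points X)) := by
  rw [← closure_subset_iff_isClosed]
  intro x' hx'
  have hsp : Points.ofPt p t ⤳ x' := specializes_iff_mem_closure.2 hx'
  obtain ⟨q, hq1, -, hq3⟩ := hX (Points.ofPt p t)
  obtain ⟨U, a, hae, has⟩ := hXa.atlas
  obtain ⟨u', hu'⟩ := ofPt_surjective a has x'
  obtain ⟨u, hu, hu2⟩ := exists_generization_of_qc_point hsp q hq1 hq3 a hae u' hu'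
  have sq := hae.rep.isPullback' p
  obtain ⟨w, hw1, hw2⟩ := exists_point_of_isPullback' sq t u hu2.symm
  have het : Etale (hae.rep.snd p).left := hae.property_snd p
  have comm : (hae.rep.fst' p).left ≫ U.hom =
      (hae.rep.snd p).left ≫ Spec.map φ ≫ S.fromSpecResidueField s :=
    (Over.w (hae.rep.fst' p)).trans (Over.w (hae.rep.snd p)).symm
  have key := eq_of_specializes_aux U.hom s hs φ hφ (hae.rep.fst' p).left (hae.rep.snd p).left
    comm w u' (hw2 ▸ hu)
  rw [Set.mem_singleton_iff, ← hu', ← key, hw2, hu2]

end Groth.Agent.H25.AS
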