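import Groth.Agent.H25.AlgSp70

/-!
# Algebraic spaces toolkit, part 71: one-point spaces covered by the spectrum of a field
-/

universe u

open CategoryTheory CategoryTheory.Limits AlgebraicGeometry Opposite AlgSp MorphismProperty
open TopologicalSpace

namespace Groth.Agent.H25.AS

variable {S : Scheme.{u}}

/-- A monomorphism from a nonempty algebraic space to a space with an fppf cover by the
spectrum of a field is an isomorphism. -/
theorem isIso_of_mono_of_field_cover {Z' Z : Sp S} (hZ' : IsAlgSpace Z') (hZ : IsAlgSpace Z)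
    (f : Z' ⟶ Z) [Mono f] {k : Type u} [Field k] (str : Spec (.of k) ⟶ S)
    (p : (yon S).obj (Over.mk str) ⟶ Z) (hfp : LocP @LocallyOfFinitePresentation p)
    (hfl : LocP @Flat p) (hs : IsSurjectiveMor p) (hne : Nonempty (Points Z')) : IsIso f := by
  have hrep := hZ.representable_from_yon p
  have h1 : RepWith @Flat p := repWith_of_locP etLoc_flat hZ p hrep hfl
  have h2 : RepWith @LocallyOfFinitePresentation p :=
    repWith_of_locP etLoc_locallyOfFinitePresentation hZ p hrep hfp
  have h3 : RepWith @Surjective p := repWith_surjective_of_isSurjectiveMor p hrep hs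
  have hls : Sheaf.IsLocallySurjective p := isLocallySurjective_of_repWith p h1 h2 h3
  have pb := IsPullback.of_hasPullback f p
  have hP : IsAlgSpace (pullback f p) :=
    isAlgSpace_of_isPullback hZ.diag hZ' (IsAlgSpace.yon_obj _) pb
  have hm : Mono (pullback.snd f p) := inferInstance
  obtain ⟨z'⟩ := hne
  obtain ⟨y, hy⟩ := hs (Points.map f z')
  obtain ⟨q, -, -⟩ := exists_of_isPullback pb z' y hy.symm
  have hiso : IsIso (pullback.snd f p) := isIso_of_mono_to_field str hP _ ⟨q⟩
  have hepi : Epi p := inferInstance
  have hfac : (inv (pullback.snd f p) ≫ pullback.fst f p) ≫ f = p := by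
    rw [Category.assoc, pullback.condition, ← Category.assoc, IsIso.inv_hom_id, Category.id_comp]
  have : Epi f := epi_of_epi_fac hfac
  exact isIso_of_mono_of_epi f

/-- Two monomorphisms with the same one-point image whose sources have fppf covers by spectra
of fields are isomorphic over the target. -/
theorem exists_iso_of_field_covers {X Z Z' : Sp S} (hX : IsAlgSpace X) (hZ : IsAlgSpace Z)
    (hZ' : IsAlgSpace Z') (x : Points X) (i : Z ⟶ X) (i' : Z' ⟶ X) [Mono i] [Mono i']
    (hi : Set.range (Points.map i) = {x}) (hi' : Set.range (Points.map i') = {x})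
    {k : Type u} [Field k] (str : Spec (.of k) ⟶ S)
    (p : (yon S).obj (Over.mk str) ⟶ Z) (hfp : LocP @LocallyOfFinitePresentation p)
    (hfl : LocP @Flat p) (hs : IsSurjectiveMor p)
    {k' : Type u} [Field k'] (str' : Spec (.of k') ⟶ S)
    (p' : (yon S).obj (Over.mk str') ⟶ Z') (hfp' : LocP @LocallyOfFinitePresentation p')
    (hfl' : LocP @Flat p') (hs' : IsSurjectiveMor p') :
    ∃ e : Z' ≅ Z, e.hom ≫ i = i' := by
  have pb := IsPullback.of_hasPullback i i'
  have hP : IsAlgSpace (pullback i i') := isAlgSpace_of_isPullback hX.diag hZ hZ' pb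
  have hm1 : Mono (pullback.fst i i') := inferInstance
  have hm2 : Mono (pullback.snd i i') := inferInstance
  obtain ⟨z, hz⟩ : x ∈ Set.range (Points.map i) := hi ▸ rfl
  obtain ⟨z', hz'⟩ : x ∈ Set.range (Points.map i') := hi' ▸ rfl
  obtain ⟨q, -, -⟩ := exists_of_isPullback pb z z' (hz.trans hz'.symm)
  have h1 : IsIso (pullback.fst i i') :=
    isIso_of_mono_of_field_cover hP hZ _ str p hfp hfl hs ⟨q⟩
  have h2 : IsIso (pullback.snd i i') :=
    isIso_of_mono_of_field_cover hP hZ' _ str' p' hfp' hfl' hs' ⟨q⟩
  refine ⟨(asIso (pullback.snd i i')).symm ≪≫ asIso (pullback.fst i i'), ?_⟩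
  simp only [Iso.trans_hom, Iso.symm_hom, asIso_inv, asIso_hom, Category.assoc, IsIso.inv_comp_eq]
  exact pullback.condition

end Groth.Agent.H25.AS

namespace Groth.Agent.H25.AS

variable {S : Scheme.{u}}

/-- `Spec O_{X,x} ⟶ X` is flat. -/
theorem flat_fromSpecStalk (X : Scheme.{u}) (x : X) : Flat (X.fromSpecStalk x) := by
  obtain ⟨U, hU, hxU, -⟩ := TopologicalSpace.Opens.isBasis_iff_nbhd.mp X.isBasis_affineOpens
    (show x ∈ (⊤ : X.Opens) from trivial)
  have hU' : IsAffineOpen U := hU
  rw [← hU'.fromSpecStalk_eq_fromSpecStalk hxU]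
  have h1 : Flat (Spec.map (X.presheaf.germ U x hxU)) := by
    rw [Flat.SpecMap_iff]
    letI : Algebra Γ(X, U) (X.presheaf.stalk x) := (X.presheaf.germ U x hxU).hom.toAlgebra
    haveI := hU'.isLocalization_stalk ⟨x, hxU⟩
    exact IsLocalization.flat (X.presheaf.stalk x) (hU'.primeIdealOf ⟨x, hxU⟩).asIdeal.primeCompl
  dsimp [IsAffineOpen.fromSpecStalk]
  infer_instance

/-- If the local ring at `x` is a field, then `Spec κ(x) ⟶ X` is flat. -/
theorem flat_fromSpecResidueField_of_isField (X : Scheme.{u}) (x : X)
    (h : IsField (X.presheaf.stalk x)) : Flat (X.fromSpecResidueField x) := by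
  have h1 : Flat (X.fromSpecStalk x) := flat_fromSpecStalk X x
  have hbij : Function.Bijective (X.residue x).hom := by
    refine ⟨?_, IsLocalRing.residue_surjective⟩
    change Function.Injective (IsLocalRing.residue (X.presheaf.stalk x))
    rw [RingHom.injective_iff_ker_eq_bot, IsLocalRing.ker_residue]
    exact IsLocalRing.isField_iff_maximalIdeal_eq.1 h
  have : IsIso (X.residue x) := (ConcreteCategory.isIso_iff_bijective _).2 hbij
  rw [Scheme.fromSpecResidueField]
  infer_instance

/-- Every nonempty scheme has a point whose closure is an irreducible component. -/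
theorem exists_closure_mem_irreducibleComponents (X : Scheme.{u}) (x₀ : X) :
    ∃ x : X, closure {x} ∈ irreducibleComponents X := by
  have hirr : IsIrreducible (irreducibleComponent x₀) := isIrreducible_irreducibleComponent
  have hcl : IsClosed (irreducibleComponent x₀) := isClosed_irreducibleComponent
  refine ⟨hirr.genericPoint, ?_⟩
  have := hirr.isGenericPoint_genericPoint hcl
  rw [this.def]
  exact irreducibleComponent_mem_irreducibleComponents x₀

end Groth.Agent.H25.AS

namespace Groth.Agent.H25.AS

variable {S : Scheme.{u}}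

/-- The points of the spectrum of a field form a subsingleton. -/
theorem subsingleton_points_field {k : Type u} [Field k] (str : Spec (.of k) ⟶ S) :
    Subsingleton (Points ((yon S).obj (Over.mk str))) := by
  refine ⟨fun y y' => ?_⟩
  obtain ⟨t, rfl⟩ := exists_ofScheme y
  obtain ⟨t', rfl⟩ := exists_ofScheme y'
  congr 1
  exact Subsingleton.elim (α := PrimeSpectrum k) _ _

theorem isReducedSp_field {k : Type u} [Field k] (str : Spec (.of k) ⟶ S) :
    IsReducedSp ((yon S).obj (Over.mk str)) :=
  ⟨Over.mk str, 𝟙 _, repWith_id _ _, repWith_id _ _,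
    inferInstanceAs (IsReduced (Spec (.of k)))⟩

/-- A space with a flat surjective morphism from the spectrum of a field is reduced with a
single point. -/
theorem one_point_of_field_cover {Z : Sp S} (hZ : IsAlgSpace Z) {k : Type u} [Field k]
    (str : Spec (.of k) ⟶ S) (p : (yon S).obj (Over.mk str) ⟶ Z) (hfl : LocP @Flat p)
    (hs : IsSurjectiveMor p) :
    IsReducedSp Z ∧ Nonempty (Points Z) ∧ Subsingleton (Points Z) := by
  refine ⟨isReducedSp_of_flat_surjective (IsAlgSpace.yon_obj _) hZ p hfl hs (isReducedSp_field str),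
    ⟨Points.map p (Points.ofScheme _ (IsLocalRing.closedPoint k))⟩, ⟨fun z z' => ?_⟩⟩
  obtain ⟨y, rfl⟩ := hs z
  obtain ⟨y', rfl⟩ := hs z'
  have := subsingleton_points_field str
  rw [Subsingleton.elim y y']

/-- A reduced one-point space admits a flat surjective morphism from the spectrum of a field:
the residue field point at a generic point of an irreducible component of a reduced atlas. -/
theorem exists_flat_surjective_field_point {Z : Sp S} (hr : IsReducedSp Z)
    (hne : Nonempty (Points Z)) (hsub : Subsingleton (Points Z)) :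
    ∃ (k : Type u) (_ : Field k) (str : Spec (CommRingCat.of k) ⟶ S)
      (p : (yon S).obj (Over.mk str) ⟶ Z), LocP @Flat p ∧ IsSurjectiveMor p := by
  obtain ⟨U, a, hae, has, hU⟩ := hr
  have : IsReduced U.left := hU
  obtain ⟨z⟩ := hne
  obtain ⟨u₀, -⟩ := ofPt_surjective a has z
  obtain ⟨u, hu⟩ := exists_closure_mem_irreducibleComponents U.left u₀
  have hfield : IsField (U.left.presheaf.stalk u) :=
    isField_stalk_of_closure_mem_irreducibleComponents (X := U.left) u hu
  have hflat : Flat (U.left.fromSpecResidueField u) :=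
    flat_fromSpecResidueField_of_isField U.left u hfield
  refine ⟨U.left.residueField u, inferInstance, U.left.fromSpecResidueField u ≫ U.hom,
    (yon S).map (resPt U u) ≫ a, ?_, ?_⟩
  · exact locP_of_chart etLoc_flat _ (𝟙 _) a (resPt U u) (repWith_id _ _) (repWith_id _ _) hae
      (Category.id_comp _) hflat
  · intro z'
    refine ⟨Points.ofScheme _ (IsLocalRing.closedPoint (U.left.residueField u)), ?_⟩
    exact Subsingleton.elim _ _

end Groth.Agent.H25.AS

namespace Groth.Agent.H25.AS

variable {S : Scheme.{u}}

/-- In a quasi-sober space without nontrivial specializations the closure of every point is an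
irreducible component. -/
theorem closure_mem_irreducibleComponents_of_no_specialization {T : Type*} [TopologicalSpace T]
    [QuasiSober T] (h : ∀ t t' : T, t' ⤳ t → t = t') (t : T) :
    closure {t} ∈ irreducibleComponents T := by
  have hcl : closure ({t} : Set T) = {t} := by
    apply Set.Subset.antisymm _ subset_closure
    intro x hx
    exact h x t (specializes_iff_mem_closure.2 hx)
  rw [hcl]
  refine ⟨isIrreducible_singleton, fun A hA hle => ?_⟩
  intro x hx
  have hA' : IsIrreducible (closure A) := hA.closure
  have hg := hA'.isGenericPoint_genericPoint isClosed_closure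
  have h1 : hA'.genericPoint ⤳ x := by
    rw [specializes_iff_mem_closure, hg.def]
    exact subset_closure hx
  have h2 : hA'.genericPoint ⤳ t := by
    rw [specializes_iff_mem_closure, hg.def]
    exact subset_closure (hle rfl)
  rw [Set.mem_singleton_iff, h x _ h1, ← h t _ h2]

theorem isLocNoethSp_field {k : Type u} [Field k] (str : Spec (.of k) ⟶ S) :
    IsLocNoethSp ((yon S).obj (Over.mk str)) :=
  ⟨Over.mk str, 𝟙 _, repWith_id _ _, repWith_id _ _,
    inferInstanceAs (IsLocallyNoetherian (Spec (.of k)))⟩

/-- A reduced locally Noetherian atlas of a one-point space has fields as local rings and no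
nontrivial specializations. -/
theorem atlas_of_one_point {Z : Sp S} (hr : IsReducedSp Z) (hN : IsLocNoethSp Z)
    (hsub : Subsingleton (Points Z)) :
    ∃ (U : Over S) (a : (yon S).obj U ⟶ Z), RepWith @Etale a ∧ RepWith @Surjective a ∧
      IsLocallyNoetherian U.left ∧ (∀ u u' : ↥U.left, u' ⤳ u → u = u') ∧
      ∀ u : ↥U.left, IsField (U.left.presheaf.stalk u) := by
  obtain ⟨U, a, hae, has, hU⟩ := hr
  have : IsReduced U.left := hU
  have hUN : IsLocallyNoetherian U.left := isLocallyNoetherian_of_chart hN a hae
  have hns : ∀ u u' : ↥U.left, u' ⤳ u → u = u' := fun u u' hs =>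
    eq_of_specializes_of_isLocNoethSp hN a hae u u' (Subsingleton.elim _ _) hs
  refine ⟨U, a, hae, has, hUN, hns, fun u => ?_⟩
  exact isField_stalk_of_closure_mem_irreducibleComponents (X := U.left) u
    (closure_mem_irreducibleComponents_of_no_specialization hns u)

/-- A reduced locally Noetherian one-point space admits an fppf cover by the spectrum of a
field. -/
theorem exists_fppf_field_point {Z : Sp S} (hr : IsReducedSp Z) (hN : IsLocNoethSp Z)
    (hne : Nonempty (Points Z)) (hsub : Subsingleton (Points Z)) :
    ∃ (k : Type u) (_ : Field k) (str : Spec (CommRingCat.of k) ⟶ S)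
      (p : (yon S).obj (Over.mk str) ⟶ Z),
      LocP @LocallyOfFinitePresentation p ∧ LocP @Flat p ∧ IsSurjectiveMor p := by
  obtain ⟨U, a, hae, has, hUN, hns, hfield⟩ := atlas_of_one_point hr hN hsub
  obtain ⟨z⟩ := hne
  obtain ⟨u, -⟩ := ofPt_surjective a has z
  have hflat : Flat (U.left.fromSpecResidueField u) :=
    flat_fromSpecResidueField_of_isField U.left u (hfield u)
  have hcl : IsClosed ({u} : Set ↥U.left) := by
    rw [← closure_subset_iff_isClosed]
    intro x hx
    exact hns x u (specializes_iff_mem_closure.2 hx)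
  have hci : IsClosedImmersion (U.left.fromSpecResidueField u) :=
    isClosed_singleton_iff_isClosedImmersion.1 hcl
  have hlfp : LocallyOfFinitePresentation (U.left.fromSpecResidueField u) := by
    rw [LocallyOfFinitePresentation.iff_locallyOfFiniteType]
    infer_instance
  refine ⟨U.left.residueField u, inferInstance, U.left.fromSpecResidueField u ≫ U.hom,
    (yon S).map (resPt U u) ≫ a, ?_, ?_, ?_⟩
  · exact locP_of_chart etLoc_locallyOfFinitePresentation _ (𝟙 _) a (resPt U u) (repWith_id _ _)
      (repWith_id _ _) hae (Category.id_comp _) hlfp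
  · exact locP_of_chart etLoc_flat _ (𝟙 _) a (resPt U u) (repWith_id _ _) (repWith_id _ _) hae
      (Category.id_comp _) hflat
  · intro z'
    refine ⟨Points.ofScheme _ (IsLocalRing.closedPoint (U.left.residueField u)), ?_⟩
    exact Subsingleton.elim _ _

/-- A reduced locally Noetherian one-point space is regular. -/
theorem regular_of_one_point {Z : Sp S} (hr : IsReducedSp Z) (hN : IsLocNoethSp Z)
    (hsub : Subsingleton (Points Z)) :
    EtaleLocally (fun U => IsLocallyNoetherian U ∧
      ∀ u : ↥U, IsRegularLocalRing ↥(U.presheaf.stalk u)) Z := by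
  obtain ⟨U, a, hae, has, hUN, hns, hfield⟩ := atlas_of_one_point hr hN hsub
  refine ⟨U, a, hae, has, hUN, fun u => ?_⟩
  letI := (hfield u).toField
  infer_instance

end Groth.Agent.H25.AS

namespace Groth.Agent.H25.AS

variable {S : Scheme.{u}}

/-- A space with a flat surjective field point has a reduced atlas without nontrivial
specializations all of whose local rings are fields. -/
theorem atlas_of_field_cover {Z : Sp S} (hZ : IsAlgSpace Z) {k : Type u} [Field k]
    (str : Spec (.of k) ⟶ S) (p : (yon S).obj (Over.mk str) ⟶ Z) (hfl : LocP @Flat p)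
    (hs : IsSurjectiveMor p) :
    ∃ (U : Over S) (a : (yon S).obj U ⟶ Z), RepWith @Etale a ∧ RepWith @Surjective a ∧
      (∀ u u' : ↥U.left, u' ⤳ u → u = u') ∧
      ∀ u : ↥U.left, IsField (U.left.presheaf.stalk u) := by
  obtain ⟨hr, -, -⟩ := one_point_of_field_cover hZ str p hfl hs
  obtain ⟨U, a, hae, has, hU⟩ := hr
  have : IsReduced U.left := hU
  have hrep := hZ.representable_from_yon p
  have h1 : RepWith @Flat p := repWith_of_locP etLoc_flat hZ p hrep hfl
  have h3 : RepWith @Surjective p := repWith_surjective_of_isSurjectiveMor p hrep hs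
  have sq := hae.rep.isPullback' p
  have het : Etale (hae.rep.snd p).left := hae.property_snd p
  have hdisc : DiscreteTopology ↥(hae.rep.pullback p).left :=
    discreteTopology_of_etale_field (K := k) (hae.rep.snd p).left
  have hgfl : Flat (hae.rep.fst' p).left := h1.property a _ _ sq.flip
  have hgs : Surjective (hae.rep.fst' p).left := h3.property a _ _ sq.flip
  have hns : ∀ u u' : ↥U.left, u' ⤳ u → u = u' := by
    intro u u' hsp
    obtain ⟨w, rfl⟩ := hgs.surj u
    obtain ⟨w', hw', rfl⟩ := (Flat.generalizingMap (hae.rep.fst' p).left) hsp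
    rw [(specializes_iff_eq.1 hw')]
  refine ⟨U, a, hae, has, hns, fun u => ?_⟩
  exact isField_stalk_of_closure_mem_irreducibleComponents (X := U.left) u
    (closure_mem_irreducibleComponents_of_no_specialization hns u)

/-- Any morphism to a scheme whose local rings are fields is flat. -/
theorem flat_of_isField_stalks {W U : Scheme.{u}} (g : W ⟶ U)
    (h : ∀ u : U, IsField (U.presheaf.stalk u)) : Flat g := by
  rw [Flat.iff_flat_stalkMap]
  intro w
  letI := (h (g w)).toField
  letI : Algebra (U.presheaf.stalk (g w)) (W.presheaf.stalk w) := (g.stalkMap w).hom.toAlgebra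
  change Module.Flat (U.presheaf.stalk (g w)) (W.presheaf.stalk w)
  infer_instance

/-- Every field point of a space with a flat surjective field point is flat and surjective. -/
theorem flat_surjective_of_field_cover {Z : Sp S} (hZ : IsAlgSpace Z) {k : Type u} [Field k]
    (str : Spec (.of k) ⟶ S) (p : (yon S).obj (Over.mk str) ⟶ Z) (hfl : LocP @Flat p)
    (hs : IsSurjectiveMor p) {k' : Type u} [Field k'] (str' : Spec (.of k') ⟶ S)
    (q : (yon S).obj (Over.mk str') ⟶ Z) : LocP @Flat q ∧ IsSurjectiveMor q := by
  obtain ⟨U, a, hae, has, hns, hfield⟩ := atlas_of_field_cover hZ str p hfl hs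
  obtain ⟨-, -, hsub⟩ := one_point_of_field_cover hZ str p hfl hs
  refine ⟨?_, fun z => ⟨Points.ofScheme _ (IsLocalRing.closedPoint k'), Subsingleton.elim _ _⟩⟩
  have sq := hae.rep.isPullback' q
  have h1 : Etale (hae.rep.snd q).left := hae.property_snd q
  have h2 : Surjective (hae.rep.snd q).left := has.property _ _ _ sq
  refine locP_of_chart etLoc_flat q ((yon S).map (hae.rep.snd q)) a (hae.rep.fst' q)
    ((repWith_yon_map_iff _ _).2 h1) ((repWith_yon_map_iff _ _).2 h2) hae sq.w.symm
    (flat_of_isField_stalks _ hfield)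

/-- A space with a flat surjective field point has one which is moreover locally of finite
type. -/
theorem exists_lft_field_point {Z : Sp S} (hZ : IsAlgSpace Z) {k : Type u} [Field k]
    (str : Spec (.of k) ⟶ S) (p : (yon S).obj (Over.mk str) ⟶ Z) (hfl : LocP @Flat p)
    (hs : IsSurjectiveMor p) :
    ∃ (k' : Type u) (_ : Field k') (str' : Spec (CommRingCat.of k') ⟶ S)
      (q : (yon S).obj (Over.mk str') ⟶ Z),
      LocP @LocallyOfFiniteType q ∧ LocP @Flat q ∧ IsSurjectiveMor q := by
  obtain ⟨U, a, hae, has, hns, hfield⟩ := atlas_of_field_cover hZ str p hfl hs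
  obtain ⟨-, ⟨z⟩, hsub⟩ := one_point_of_field_cover hZ str p hfl hs
  obtain ⟨u, -⟩ := ofPt_surjective a has z
  have hcl : IsClosed ({u} : Set ↥U.left) := by
    rw [← closure_subset_iff_isClosed]
    intro x hx
    exact hns x u (specializes_iff_mem_closure.2 hx)
  have hci : IsClosedImmersion (U.left.fromSpecResidueField u) :=
    isClosed_singleton_iff_isClosedImmersion.1 hcl
  have hlft : LocallyOfFiniteType (U.left.fromSpecResidueField u) := inferInstance
  refine ⟨U.left.residueField u, inferInstance, U.left.fromSpecResidueField u ≫ U.hom,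
    (yon S).map (resPt U u) ≫ a, ?_, ?_⟩
  · exact locP_of_chart etLoc_locallyOfFiniteType _ (𝟙 _) a (resPt U u) (repWith_id _ _)
      (repWith_id _ _) hae (Category.id_comp _) hlft
  · exact flat_surjective_of_field_cover hZ str p hfl hs _ _

end Groth.Agent.H25.AS
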