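import Groth.Agent.H25.AlgSp71
import Mathlib.RingTheory.Unramified.Field
import Mathlib.AlgebraicGeometry.Morphisms.FormallyUnramified

/-!
# Algebraic spaces toolkit, part 72: finite separable extensions suffice in the existence part of
the valuative criterion
-/

universe u

open CategoryTheory CategoryTheory.Limits AlgebraicGeometry Opposite AlgSp MorphismProperty
open TopologicalSpace

namespace Groth.Agent.H25.AS

variable {S : Scheme.{u}}

open IsLocalRing in
theorem hasLiftExt_finsep_aux {XA : Sp S} {A K : Type u} [CommRing A] [IsDomain A]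
    [ValuationRing A] [Field K] [Algebra A K] [IsFractionRing A K] (str : Spec (.of A) ⟶ S)
    (fA : XA ⟶ (yon S).obj (Over.mk str))
    (σ : (yon S).obj (Over.mk (Spec.map (CommRingCat.ofHom (algebraMap A K)) ≫ str)) ⟶ XA)
    (hσ : σ ≫ fA = (yon S).map (Over.homMk (Spec.map (CommRingCat.ofHom (algebraMap A K))) rfl :
      Over.mk (Spec.map (CommRingCat.ofHom (algebraMap A K)) ≫ str) ⟶ Over.mk str))
    {U W : Over S} (a : (yon S).obj U ⟶ XA) (h : U ⟶ Over.mk str)
    (hh : a ≫ fA = (yon S).map h) (r : W ⟶ U)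
    (c : W ⟶ Over.mk (Spec.map (CommRingCat.ofHom (algebraMap A K)) ≫ str))
    (hw : (yon S).map r ≫ a = (yon S).map c ≫ σ) (w : ↥W.left)
    (A' : ValuationSubring (W.left.residueField w)) (b : Spec (.of A') ⟶ U.left)
    (hb : W.left.fromSpecResidueField w ≫ r.left =
      Spec.map (CommRingCat.ofHom (algebraMap A' (W.left.residueField w))) ≫ b)
    (hcl : h.left (b (closedPoint A')) = closedPoint A) (het : Etale c.left) :
    ∃ e : (ValSq.overBase str fA σ hσ).DomExt,
      (letI := e.ψ.toAlgebra; Module.Finite K e.K' ∧ Algebra.IsSeparable K e.K') ∧ e.HasLift := by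
  let φ' : CommRingCat.of A ⟶ CommRingCat.of A' := Spec.preimage (b ≫ h.left)
  have hφ' : Spec.map φ' = b ≫ h.left := Spec.map_preimage _
  let ψ' : CommRingCat.of K ⟶ W.left.residueField w :=
    Spec.preimage (W.left.fromSpecResidueField w ≫ c.left)
  have hψ' : Spec.map ψ' = W.left.fromSpecResidueField w ≫ c.left := Spec.map_preimage _
  have hrc : r ≫ h = c ≫ (Over.homMk (Spec.map (CommRingCat.ofHom (algebraMap A K))) rfl :
      Over.mk (Spec.map (CommRingCat.ofHom (algebraMap A K)) ≫ str) ⟶ Over.mk str) := by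
    apply (yon S).map_injective
    rw [Functor.map_comp, Functor.map_comp, ← hh, ← Category.assoc, hw, Category.assoc, hσ]
  have hrc' : r.left ≫ h.left = c.left ≫ Spec.map (CommRingCat.ofHom (algebraMap A K)) :=
    congrArg (·.left) hrc
  have hcomm0 : CommRingCat.ofHom (algebraMap A K) ≫ ψ' =
      φ' ≫ CommRingCat.ofHom (algebraMap A' (W.left.residueField w)) := by
    apply Spec.map_injective
    rw [Spec.map_comp, Spec.map_comp, hφ', hψ', Category.assoc, ← hrc', ← Category.assoc, hb,
      Category.assoc]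
  have hcomm : (algebraMap A' (W.left.residueField w)).comp φ'.hom =
      ψ'.hom.comp (algebraMap A K) := (congrArg CommRingCat.Hom.hom hcomm0).symm
  have hloc : IsLocalHom φ'.hom := by
    rw [isLocalHom_iff_comap_closedPoint]
    have : (Spec.map φ') (closedPoint A') = closedPoint A := by rw [hφ']; exact hcl
    exact this
  let e : (ValSq.overBase str fA σ hσ).DomExt :=
    { A' := A', K' := W.left.residueField w, φ := φ'.hom, ψ := ψ'.hom, comm := hcomm,
      isLocalHom := hloc }
  refine ⟨e, ?_, ?_⟩
  · -- finite separable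
    have hdisc : DiscreteTopology ↥W.left := discreteTopology_of_etale_field (K := K) c.left
    have hciw : IsClosedImmersion (W.left.fromSpecResidueField w) :=
      isClosed_singleton_iff_isClosedImmersion.1 (isClosed_discrete _)
    have hJ : JacobsonSpace ↥(Over.mk (Spec.map (CommRingCat.ofHom (algebraMap A K)) ≫ str)).left :=
      inferInstanceAs (JacobsonSpace ↥(Spec (CommRingCat.of K)))
    have hfin : IsFinite (W.left.fromSpecResidueField w ≫ c.left) := by
      rw [isFinite_iff_locallyOfFiniteType_of_jacobsonSpace]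
      infer_instance
    have hmono : Mono (W.left.fromSpecResidueField w) := inferInstance
    have hdiag : IsIso (pullback.diagonal (W.left.fromSpecResidueField w)) := inferInstance
    have hu1 : FormallyUnramified (W.left.fromSpecResidueField w) := inferInstance
    have hu2 : FormallyUnramified c.left := inferInstance
    have hunr : FormallyUnramified (W.left.fromSpecResidueField w ≫ c.left) :=
      MorphismProperty.comp_mem @FormallyUnramified _ _ hu1 hu2
    rw [← hψ'] at hfin hunr
    rw [IsFinite.SpecMap_iff] at hfin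
    rw [HasRingHomProperty.Spec_iff (P := @FormallyUnramified)] at hunr
    change (letI := ψ'.hom.toAlgebra; Module.Finite K (W.left.residueField w) ∧
      Algebra.IsSeparable K (W.left.residueField w))
    letI := ψ'.hom.toAlgebra
    have h1 : Module.Finite K (W.left.residueField w) := hfin
    have h2 : Algebra.FormallyUnramified K (W.left.residueField w) := hunr
    exact ⟨h1, Algebra.FormallyUnramified.isSeparable K (W.left.residueField w)⟩
  have hstr : h.left ≫ str = U.hom := Over.w h
  let b' : e.ptA' ⟶ U := Over.homMk b (by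
    change b ≫ U.hom = Spec.map φ' ≫ str
    rw [hφ', Category.assoc, hstr])
  let wpt : e.ptK' ⟶ W := Over.homMk (W.left.fromSpecResidueField w) (by
    change _ ≫ W.hom = Spec.map (CommRingCat.ofHom (algebraMap A' (W.left.residueField w))) ≫
      Spec.map φ' ≫ str
    rw [hφ', ← Over.w r, ← Category.assoc, hb, Category.assoc, Category.assoc, hstr])
  refine ⟨(yon S).map b' ≫ a, ?_, ?_⟩
  · have h1 : (Over.homMk (Spec.map (CommRingCat.ofHom (algebraMap e.A' e.K'))) rfl :
        e.ptK' ⟶ e.ptA') ≫ b' = wpt ≫ r := by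
      ext
      exact hb.symm
    change (yon S).map _ ≫ (yon S).map b' ≫ a = (yon S).map _ ≫ σ
    rw [← Category.assoc, ← Functor.map_comp, h1, Functor.map_comp, Category.assoc, hw,
      ← Category.assoc, ← Functor.map_comp]
    congr 2
    ext
    exact hψ'.symm
  · change ((yon S).map b' ≫ a) ≫ fA = (yon S).map _ ≫ 𝟙 _
    rw [Category.assoc, hh, ← Functor.map_comp, Category.comp_id]
    congr 1
    ext
    exact hφ'.symm

end Groth.Agent.H25.AS

namespace Groth.Agent.H25.AS

variable {S : Scheme.{u}}

open IsLocalRing in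
/-- Over the spectrum of a valuation ring: a lift after an arbitrary dominating extension gives a
lift after a finite separable one. -/
theorem exists_finsep_lift_of_lift {XA : Sp S} (hXA : IsAlgSpace XA) {A K : Type u} [CommRing A]
    [IsDomain A] [ValuationRing A] [Field K] [Algebra A K] [IsFractionRing A K]
    (str : Spec (.of A) ⟶ S) (fA : XA ⟶ (yon S).obj (Over.mk str))
    (σ : (yon S).obj (Over.mk (Spec.map (CommRingCat.ofHom (algebraMap A K)) ≫ str)) ⟶ XA)
    (hσ : σ ≫ fA = (yon S).map (Over.homMk (Spec.map (CommRingCat.ofHom (algebraMap A K))) rfl :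
      Over.mk (Spec.map (CommRingCat.ofHom (algebraMap A K)) ≫ str) ⟶ Over.mk str))
    (h0 : (ValSq.overBase str fA σ hσ).HasLiftExt) :
    ∃ e : (ValSq.overBase str fA σ hσ).DomExt,
      (letI := e.ψ.toAlgebra; Module.Finite K e.K' ∧ Algebra.IsSeparable K e.K') ∧ e.HasLift := by
  obtain ⟨e0, l0, hl1, hl2⟩ := h0
  obtain ⟨U, a, hae, has⟩ := hXA.atlas
  have sqV := hae.rep.isPullback' l0
  have hcVe : Etale (hae.rep.snd l0).left := hae.property_snd l0
  have hcVs : Surjective (hae.rep.snd l0).left := has.property _ _ _ sqV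
  obtain ⟨v₀, hv₀⟩ := hcVs.surj (closedPoint e0.A')
  have hgen : (⊥ : PrimeSpectrum e0.A') ⤳ (hae.rep.snd l0).left v₀ := by
    rw [hv₀]
    exact specializes_closedPoint _
  obtain ⟨v₁, hv₁, hv₁'⟩ := (Flat.generalizingMap (hae.rep.snd l0).left) hgen
  have hu : (hae.rep.fst' l0).left v₁ ⤳ (hae.rep.fst' l0).left v₀ :=
    hv₁.map (hae.rep.fst' l0).left.continuous
  -- the generic point of `Spec A'`
  have hbot : (Spec.map (CommRingCat.ofHom (algebraMap e0.A' e0.K'))) (closedPoint e0.K') =
      (⊥ : PrimeSpectrum e0.A') := by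
    apply PrimeSpectrum.ext
    change Ideal.comap (algebraMap e0.A' e0.K') (closedPoint e0.K').asIdeal = ⊥
    have h4 : (closedPoint e0.K').asIdeal = ⊥ := IsLocalRing.maximalIdeal_eq_bot
    rw [h4]
    exact (RingHom.injective_iff_ker_eq_bot _).1 (IsFractionRing.injective e0.A' e0.K')
  have hu₁ : Points.ofPt a ((hae.rep.fst' l0).left v₁) = Points.ofPt σ (closedPoint K) := by
    rw [← ofPt_map_comp, sqV.w, ofPt_map_comp, hv₁', ← hbot]
    have h := ofPt_map_comp (Over.homMk (Spec.map (CommRingCat.ofHom (algebraMap e0.A' e0.K'))) rfl :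
      e0.ptK' ⟶ e0.ptA') l0 (closedPoint e0.K')
    rw [hl1, ofPt_map_comp] at h
    refine h.symm.trans ?_
    congr 1
    exact Subsingleton.elim (α := PrimeSpectrum K) _ _
  obtain ⟨h, hh⟩ := (yon S).map_surjective (a ≫ fA)
  have hu₀ : h.left ((hae.rep.fst' l0).left v₀) = closedPoint A := by
    apply ofScheme_injective (Over.mk str)
    rw [← map_yon_map_ofScheme, hh, ← Points.ofPt_eq_map_ofScheme, ← ofPt_map_comp,
      ← Category.assoc, sqV.w, Category.assoc, ofPt_map_comp, hv₀, hl2, ofPt_map_comp]
    have hloc := e0.isLocalHom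
    congr 1
    exact IsLocalRing.comap_closedPoint e0.φ
  have sq := hae.rep.isPullback' σ
  obtain ⟨w, hw1, hw2⟩ := exists_point_of_isPullback' sq (closedPoint K)
    ((hae.rep.fst' l0).left v₁) hu₁.symm
  have hspec2 : (hae.rep.fst' σ).left w ⤳ (hae.rep.fst' l0).left v₀ := hw2 ▸ hu
  obtain ⟨A', b, hb, hbcl⟩ :=
    exists_valuationRing_of_specializes (hae.rep.fst' σ).left w _ hspec2
  exact hasLiftExt_finsep_aux str fA σ hσ a h hh.symm (hae.rep.fst' σ) (hae.rep.snd σ) sq.w w A' b hb
    (by rw [hbcl]; exact hu₀) (hae.property_snd σ)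

end Groth.Agent.H25.AS

namespace Groth.Agent.H25.AS

variable {S : Scheme.{u}}

/-- In the existence part of the valuative criterion one may restrict to finite separable
extensions of the fraction field. -/
theorem exists_finsep_lift {X Y : Sp S} (hX : IsAlgSpace X) (hY : IsAlgSpace Y) (f : X ⟶ Y)
    (hf : ExistVC f) (sq : ValSq f) :
    ∃ e : sq.DomExt, (letI := e.ψ.toAlgebra; Module.Finite sq.K e.K' ∧
      Algebra.IsSeparable sq.K e.K') ∧ e.HasLift := by
  have pb := IsPullback.of_hasPullback f sq.bot
  have hXA : IsAlgSpace (pullback f sq.bot) :=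
    isAlgSpace_of_isPullback hY.diag hX (IsAlgSpace.yon_obj _) pb
  have hfA : ExistVC (pullback.snd f sq.bot) := existVC_of_isPullback pb hf
  have hσ : pb.lift sq.top ((yon S).map sq.j) sq.comm ≫ pullback.snd f sq.bot =
      (yon S).map sq.j := pb.lift_snd _ _ _
  obtain ⟨e0, hfs, l, hl1, hl2⟩ := exists_finsep_lift_of_lift hXA sq.str _ _ hσ (hfA _)
  let e : sq.DomExt :=
    { A' := e0.A', K' := e0.K', φ := e0.φ, ψ := e0.ψ, comm := e0.comm,
      isLocalHom := e0.isLocalHom }
  refine ⟨e, hfs, l ≫ pullback.fst f sq.bot, ?_, ?_⟩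
  · rw [← Category.assoc]
    change ((yon S).map _ ≫ l) ≫ pullback.fst f sq.bot = (yon S).map _ ≫ sq.top
    have := congrArg (· ≫ pullback.fst f sq.bot) hl1
    simp only [Category.assoc, pb.lift_fst] at this
    rw [Category.assoc]
    exact this
  · rw [Category.assoc, pb.w, ← Category.assoc]
    change (l ≫ pullback.snd f sq.bot) ≫ sq.bot = (yon S).map _ ≫ sq.bot
    have := hl2
    simp only [Category.comp_id] at this
    rw [this]

end Groth.Agent.H25.AS
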