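import Groth.Agent.H25.AlgSp72
import Mathlib.RingTheory.HopkinsLevitzki

/-!
# Algebraic spaces toolkit, part 73: discrete fibres and locally quasi-finite morphisms
-/

universe u

open CategoryTheory CategoryTheory.Limits AlgebraicGeometry Opposite AlgSp MorphismProperty
open scoped Topology

namespace Groth.Agent.H25.AS

variable {S : Scheme.{u}}

/-- A locally Noetherian scheme without nontrivial specializations is discrete. -/
theorem discreteTopology_of_no_specializations {W : Scheme.{u}} [IsLocallyNoetherian W]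
    (h : ∀ w w' : W, w' ⤳ w → w = w') : DiscreteTopology W := by
  rw [discreteTopology_iff_isOpen_singleton]
  intro w
  obtain ⟨W0, hW0, hwW0, -⟩ := exists_isAffineOpen_mem_and_subset (X := W) (x := w)
    (U := ⊤) trivial
  have hN : IsNoetherianRing Γ(W, W0) := IsLocallyNoetherian.component_noetherian ⟨W0, hW0⟩
  have hsp : ∀ p q : PrimeSpectrum Γ(W, W0), p ⤳ q → p = q := by
    intro p q hpq
    have h1 : hW0.fromSpec p ⤳ hW0.fromSpec q := hpq.map hW0.fromSpec.continuous
    have h2 := h _ _ h1
    exact (hW0.fromSpec.isOpenEmbedding.injective h2).symm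
  have hK : Ring.KrullDimLE 0 Γ(W, W0) := by
    rw [Ring.krullDimLE_zero_iff]
    intro I hI
    obtain ⟨m, hm, hIm⟩ := Ideal.exists_le_maximal I hI.ne_top
    have h1 : (⟨I, hI⟩ : PrimeSpectrum Γ(W, W0)) ⤳ ⟨m, hm.isPrime⟩ :=
      (PrimeSpectrum.le_iff_specializes _ _).1 hIm
    have h2 := hsp _ _ h1
    have h3 : I = m := congrArg PrimeSpectrum.asIdeal h2
    rw [h3]
    exact hm
  have hA : IsArtinianRing Γ(W, W0) := IsNoetherianRing.isArtinianRing_of_krullDimLE_zero
  have hd : DiscreteTopology (PrimeSpectrum Γ(W, W0)) := inferInstance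
  obtain ⟨p, hp⟩ : ∃ p, hW0.fromSpec p = w := by
    have : w ∈ Set.range hW0.fromSpec := by
      rw [hW0.range_fromSpec]
      exact hwW0
    exact this
  have he : ({w} : Set W) = hW0.fromSpec '' {p} := by
    rw [Set.image_singleton, hp]
  rw [he]
  exact hW0.fromSpec.isOpenEmbedding.isOpenMap _ (isOpen_discrete _)

/-- If an étale atlas is discrete then so is the space of points. -/
theorem discreteTopology_points_of_atlas {P : Sp S} {U : Over S} (a : (yon S).obj U ⟶ P)
    (hae : RepWith @Etale a) (has : RepWith @Surjective a) [DiscreteTopology U.left] :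
    DiscreteTopology (Points P) := by
  rw [discreteTopology_iff_isOpen_singleton]
  intro x
  obtain ⟨u, rfl⟩ := ofPt_surjective a has x
  have := isOpenMap_ofPt a hae {u} (isOpen_discrete _)
  rwa [Set.image_singleton] at this

/-- The chart of a fibre induced by a chart of the total space. -/
theorem exists_fibre_chart {X Y : Sp S} (f : X ⟶ Y) {V U K F : Over S} (b : (yon S).obj V ⟶ Y)
    (u : (yon S).obj U ⟶ pullback f b) (h : U ⟶ V) (hue : RepWith @Etale u)
    (hus : RepWith @Surjective u) (hh : (yon S).map h = u ≫ pullback.snd f b)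
    {p1 : F ⟶ U} {p2 : F ⟶ K} {ι : K ⟶ V} (sqO : IsPullback p1 p2 h ι)
    {P : Sp S} {fst : P ⟶ X} {snd : P ⟶ (yon S).obj K}
    (sq : IsPullback fst snd f ((yon S).map ι ≫ b)) :
    ∃ a : (yon S).obj F ⟶ P, RepWith @Etale a ∧ RepWith @Surjective a ∧
      a ≫ snd = (yon S).map p2 := by
  have sqY := sqO.map (yon S)
  have sqQ := IsPullback.of_hasPullback f b
  let t : P ⟶ pullback f b := pullback.lift fst (snd ≫ (yon S).map ι)
    (by rw [sq.w, Category.assoc])
  have ht1 : t ≫ pullback.fst f b = fst := pullback.lift_fst _ _ _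
  have ht2 : t ≫ pullback.snd f b = snd ≫ (yon S).map ι := pullback.lift_snd _ _ _
  have sqR : IsPullback t snd (pullback.snd f b) ((yon S).map ι) := by
    refine IsPullback.of_right ?_ ht2 sqQ
    rw [ht1]
    exact sq
  have hw : ((yon S).map p1 ≫ u) ≫ pullback.snd f b = (yon S).map p2 ≫ (yon S).map ι := by
    rw [Category.assoc, ← hh]
    exact sqY.w
  let a : (yon S).obj F ⟶ P := sqR.lift ((yon S).map p1 ≫ u) ((yon S).map p2) hw
  have ha1 : a ≫ t = (yon S).map p1 ≫ u := sqR.lift_fst _ _ _
  have ha2 : a ≫ snd = (yon S).map p2 := sqR.lift_snd _ _ _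
  have sqL : IsPullback a ((yon S).map p1) t u := by
    refine IsPullback.of_right ?_ ha1 sqR.flip
    rw [ha2, ← hh]
    exact sqY.flip
  exact ⟨a, repWith_fst_of_isPullback sqL hue, repWith_fst_of_isPullback sqL hus, ha2⟩

end Groth.Agent.H25.AS
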