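import Groth.Agent.H25.AlgSp74
import Mathlib.AlgebraicGeometry.ZariskisMainTheorem

/-!
# Algebraic spaces toolkit, part 75: closed points represented by quasi-compact monomorphisms
are represented by closed immersions
-/

universe u

open CategoryTheory CategoryTheory.Limits AlgebraicGeometry Opposite AlgSp MorphismProperty
open scoped Topology

namespace Groth.Agent.H25.AS

variable {S : Scheme.{u}}

/-- A monomorphism from a nonempty scheme to the spectrum of a field is an isomorphism. -/
theorem isIso_of_mono_to_field_scheme {K : Type u} [Field K] {Z : Scheme.{u}} [Nonempty Z]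
    (g : Z ⟶ Spec (CommRingCat.of K)) [Mono g] : IsIso g := by
  let φ : Over.mk g ⟶ Over.mk (𝟙 (Spec (CommRingCat.of K))) := Over.homMk g (by simp)
  have hmq : Mono ((yon (Spec (CommRingCat.of K))).map φ) :=
    mono_of_repWith (MorphismProperty.monomorphisms Scheme.{u}) (fun _ hg => hg) _
      ((repWith_yon_map_iff _ _).2 (show Mono g from inferInstance))
  obtain ⟨z⟩ := (inferInstance : Nonempty Z)
  have hiso : IsIso ((yon (Spec (CommRingCat.of K))).map φ) :=
    isIso_of_mono_to_field (S := Spec (CommRingCat.of K)) (k := K) (𝟙 _)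
      (IsAlgSpace.yon_obj _) _ ⟨Points.ofScheme (Over.mk g) z⟩
  have hφ : IsIso φ := isIso_of_reflects_iso _ (yon (Spec (CommRingCat.of K)))
  exact (inferInstance : IsIso ((CategoryTheory.Over.forget _).map φ))

/-- The fibre of an étale chart over a closed point represented by a quasi-compact
monomorphism from the spectrum of a field is a closed subscheme of the chart. -/
theorem isClosedImmersion_fibre_chart {X : Sp S} (p : FieldPt X) (hm : Mono p.toHom)
    (hq : RepWith @QuasiCompact p.toHom) (hx : IsClosed ({Points.mk p} : Set (Points X)))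
    {U R : Over S} (b : (yon S).obj U ⟶ X) (hb : RepWith @Etale b) (r1 : R ⟶ p.pt) (r : R ⟶ U)
    (sq : IsPullback ((yon S).map r1) ((yon S).map r) p.toHom b) :
    IsClosedImmersion r.left := by
  have het : Etale r1.left := hb.property p.toHom _ _ sq.flip
  have hred : IsReduced R.left :=
    isReduced_of_chart (isReducedSp_field p.str) ((yon S).map r1)
      ((repWith_yon_map_iff _ _).2 het)
  have hmono : Mono ((yon S).map r) := mono_snd_of_isPullback sq
  have hmr : Mono r := (yon S).mono_of_mono_map hmono
  have hmrl : Mono r.left := inferInstance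
  have hFcl : IsClosed (Points.ofPt b ⁻¹' {Points.mk p}) :=
    hx.preimage (Points.continuous_ofPt b)
  have hrange : ∀ w : ↥R.left, Points.ofPt b (r.left w) = Points.mk p := by
    intro w
    rw [← ofPt_map_comp, ← sq.w, ofPt_map_comp, Points.ofPt_toHom]
  apply IsZariskiLocalAtTarget.of_forall_exists_morphismRestrict (P := @IsClosedImmersion)
  intro u
  by_cases hu : Points.ofPt b u = Points.mk p
  · obtain ⟨N, huN, hN⟩ := exists_open_isolating_fibre_point p hq b hb u hu
    refine ⟨N, huN, ?_⟩
    have hucl : IsClosed ({u} : Set ↥U.left) := by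
      apply isClosed_of_closure_subset
      intro u' hu'
      have h1 : u' ∈ Points.ofPt b ⁻¹' {Points.mk p} :=
        (hFcl.closure_subset_iff.2 (Set.singleton_subset_iff.2 hu)) hu'
      have hs : u ⤳ u' := specializes_iff_mem_closure.2 hu'
      exact eq_of_specializes_of_finite_fibre (Points.mk p)
        (fun V b' hV hb' => finite_fibre_of_qc_point p hq hV b' hb') b hb u' u h1 hu hs
    have hci : IsClosedImmersion (U.left.fromSpecResidueField u) :=
      isClosed_singleton_iff_isClosedImmersion.1 hucl
    have hψ : ∀ w : ↥((r.left ⁻¹ᵁ N : R.left.Opens) : Scheme.{u}),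
        ((r.left ⁻¹ᵁ N).ι ≫ r.left) w = u := by
      intro w
      rw [Scheme.Hom.comp_apply]
      exact hN _ w.2 (hrange _)
    obtain ⟨g, hg⟩ := exists_lift_residueField_of_isReduced ((r.left ⁻¹ᵁ N).ι ≫ r.left) u hψ
    have hmg : Mono g := by
      have : Mono (g ≫ U.left.fromSpecResidueField u) := by
        rw [hg]
        infer_instance
      exact mono_of_mono g (U.left.fromSpecResidueField u)
    obtain ⟨w, -, hw⟩ := exists_point_of_isPullback' sq.flip
      (show ↥p.pt.left from IsLocalRing.closedPoint p.K) u
      ((Points.ofPt_toHom p _).trans hu.symm)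
    have hne : Nonempty ↥((r.left ⁻¹ᵁ N : R.left.Opens) : Scheme.{u}) :=
      ⟨⟨w, show r.left w ∈ N from hw ▸ huN⟩⟩
    have hgiso : IsIso g := isIso_of_mono_to_field_scheme (K := U.left.residueField u) g
    have hcomp : IsClosedImmersion ((r.left ∣_ N) ≫ N.ι) := by
      rw [morphismRestrict_ι, ← hg]
      infer_instance
    exact IsClosedImmersion.of_comp (r.left ∣_ N) N.ι
  · refine ⟨⟨(Points.ofPt b ⁻¹' {Points.mk p})ᶜ, hFcl.isOpen_compl⟩, hu, ?_⟩
    have : IsEmpty ↥((r.left ⁻¹ᵁ (⟨(Points.ofPt b ⁻¹' {Points.mk p})ᶜ, hFcl.isOpen_compl⟩ :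
        U.left.Opens) : R.left.Opens) : Scheme.{u}) := ⟨fun w => w.2 (hrange _)⟩
    infer_instance

/-- On an algebraic space, a closed point represented by a quasi-compact monomorphism from the
spectrum of a field is represented by a closed immersion. -/
theorem repWith_isClosedImmersion_of_closed_point {X : Sp S} (hX : IsAlgSpace X) (p : FieldPt X)
    (hm : Mono p.toHom) (hq : RepWith @QuasiCompact p.toHom)
    (hx : IsClosed ({Points.mk p} : Set (Points X))) :
    RepWith @IsClosedImmersion p.toHom := by
  rw [repWith_iff]
  refine ⟨hq.rep, ?_⟩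
  intro T R a' fst snd sq
  obtain ⟨U, b, hbe, hbs⟩ := hX.atlas
  have sqT := hbe.rep.isPullback' a'
  have het1 : Etale (hbe.rep.snd a').left := hbe.property_snd a'
  have hst1 : Surjective (hbe.rep.snd a').left := hbs.property _ _ _ sqT
  have sqRU := hq.rep.isPullback' b
  have hci : IsClosedImmersion (hq.rep.snd b).left :=
    isClosedImmersion_fibre_chart p hm hq hx b hbe _ _ sqRU
  have sqO := IsPullback.of_hasPullback snd (hbe.rep.snd a')
  have sqY := sqO.map (yon S)
  have big := sqY.paste_horiz sq
  rw [← sqT.w] at big
  have key := IsPullback.of_right' big sqRU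
  have hci' : IsClosedImmersion (pullback.snd snd (hbe.rep.snd a')).left :=
    ((repWith_yon_map_iff @IsClosedImmersion _).2 hci).property _ _ _ key
  have sqS := (sqO.map (CategoryTheory.Over.forget S)).flip
  have hQ : (@Surjective ⊓ @Flat ⊓ @LocallyOfFinitePresentation : MorphismProperty Scheme.{u})
      (hbe.rep.snd a').left := ⟨⟨hst1, inferInstance⟩, inferInstance⟩
  have huc : UniversallyClosed snd.left :=
    MorphismProperty.of_isPullback_of_descendsAlong (P := @UniversallyClosed)
      (Q := @Surjective ⊓ @Flat ⊓ @LocallyOfFinitePresentation) sqS hQ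
      (show UniversallyClosed (pullback.snd snd (hbe.rep.snd a')).left from inferInstance)
  have hlft : LocallyOfFiniteType snd.left :=
    MorphismProperty.of_isPullback_of_descendsAlong (P := @LocallyOfFiniteType)
      (Q := @Surjective ⊓ @Flat ⊓ @LocallyOfFinitePresentation) sqS hQ
      (show LocallyOfFiniteType (pullback.snd snd (hbe.rep.snd a')).left from inferInstance)
  have hmono : Mono ((yon S).map snd) := mono_snd_of_isPullback sq
  have hms : Mono snd := (yon S).mono_of_mono_map hmono
  have hmsl : Mono snd.left := inferInstance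
  have hprop : IsProper snd.left := {}
  exact (IsClosedImmersion.iff_isProper_and_mono _).2 ⟨hprop, hmsl⟩

end Groth.Agent.H25.AS
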