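import Groth.Agent.H25.AlgSp75

/-!
# Algebraic spaces toolkit, part 76: fibres over points represented by quasi-compact
monomorphisms
-/

universe u

open CategoryTheory CategoryTheory.Limits AlgebraicGeometry Opposite AlgSp MorphismProperty
open Topology

namespace Groth.Agent.H25.AS

variable {S : Scheme.{u}}

/-- A monomorphism of sheaves is injective on points. -/
theorem injective_map_of_mono {F G : Sp S} (f : F ⟶ G) [Mono f] :
    Function.Injective (Points.map f) := by
  intro z1 z2 h
  obtain ⟨K, _, str, m, rfl⟩ := exists_fpOf z1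
  obtain ⟨L, _, str', m', rfl⟩ := exists_fpOf z2
  rw [map_fpOf, map_fpOf, mk_fpOf_eq_iff] at h
  obtain ⟨Ω, _, w, a, b, hab⟩ := h
  rw [mk_fpOf_eq_iff]
  refine ⟨Ω, inferInstance, w, a, b, ?_⟩
  rw [← cancel_mono f]
  simpa only [Category.assoc] using hab

/-- The fibre of an étale chart over a point represented by a quasi-compact monomorphism from
the spectrum of a field, when it consists of a single point `v`, is the spectrum of the residue
field of `v`. -/
theorem isPreimmersion_fibre_chart {Y : Sp S} (p : FieldPt Y) (hm : Mono p.toHom)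
    {V R : Over S} (b : (yon S).obj V ⟶ Y) (hb : RepWith @Etale b) (r1 : R ⟶ p.pt) (rr : R ⟶ V)
    (sq : IsPullback ((yon S).map r1) ((yon S).map rr) p.toHom b) (v : ↥V.left)
    (hv : Points.ofPt b v = Points.mk p)
    (huniq : ∀ v' : ↥V.left, Points.ofPt b v' = Points.mk p → v' = v) :
    IsPreimmersion rr.left ∧ Set.range rr.left = {v} := by
  have het : Etale r1.left := hb.property p.toHom _ _ sq.flip
  have hred : IsReduced R.left :=
    isReduced_of_chart (isReducedSp_field p.str) ((yon S).map r1)
      ((repWith_yon_map_iff _ _).2 het)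
  have hmono : Mono ((yon S).map rr) := mono_snd_of_isPullback sq
  have hmr : Mono rr := (yon S).mono_of_mono_map hmono
  have hmrl : Mono rr.left := inferInstance
  have hrange : ∀ w : ↥R.left, rr.left w = v := by
    intro w
    apply huniq
    rw [← ofPt_map_comp, ← sq.w, ofPt_map_comp, Points.ofPt_toHom]
  obtain ⟨g, hg⟩ := exists_lift_residueField_of_isReduced rr.left v hrange
  have hmg : Mono g := by
    have : Mono (g ≫ V.left.fromSpecResidueField v) := by
      rw [hg]
      infer_instance
    exact mono_of_mono g (V.left.fromSpecResidueField v)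
  obtain ⟨w, -, hw⟩ := exists_point_of_isPullback' sq.flip
    (show ↥p.pt.left from IsLocalRing.closedPoint p.K) v
    ((Points.ofPt_toHom p _).trans hv.symm)
  have hne : Nonempty ↥R.left := ⟨w⟩
  have hgiso : IsIso g := isIso_of_mono_to_field_scheme (K := V.left.residueField v) g
  refine ⟨?_, ?_⟩
  · rw [← hg]
    infer_instance
  · ext v'
    constructor
    · rintro ⟨w', rfl⟩
      exact hrange w'
    · intro hv'
      exact ⟨w, hw.trans (Set.mem_singleton_iff.1 hv').symm⟩

/-- The fibre of a morphism of algebraic spaces over a point represented by a quasi-compact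
monomorphism from the spectrum of a field: on points it is a homeomorphism onto the
set-theoretic fibre. -/
theorem fibre_embedding {X Y Xk : Sp S} (hX : IsAlgSpace X) (hY : IsAlgSpace Y) (f : X ⟶ Y)
    (r : FieldPt Y) (hm : Mono r.toHom) (hq : RepWith @QuasiCompact r.toHom)
    (fst : Xk ⟶ X) (snd : Xk ⟶ (yon S).obj r.pt) (hsq : IsPullback fst snd f r.toHom) :
    IsEmbedding (Points.map fst) ∧
      Set.range (Points.map fst) = Points.map f ⁻¹' {Points.mk r} := by
  have hmf : Mono fst := mono_fst_of_isPullback hsq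
  have hinj := injective_map_of_mono fst
  have hfib : ∀ z : Points Xk, Points.map f (Points.map fst z) = Points.mk r := by
    intro z
    rw [← Points.map_comp, hsq.w, Points.map_comp]
    obtain ⟨s, hs⟩ := exists_ofScheme (Points.map snd z)
    rw [← hs, ← Points.ofPt_eq_map_ofScheme, Points.ofPt_toHom]
  have hrange : Set.range (Points.map fst) = Points.map f ⁻¹' {Points.mk r} := by
    ext x
    constructor
    · rintro ⟨z, rfl⟩
      exact hfib z
    · intro hx
      have e : Points.map f x = Points.map r.toHom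
          (Points.ofScheme r.pt (show ↥r.pt.left from IsLocalRing.closedPoint r.K)) := by
        rw [← Points.ofPt_eq_map_ofScheme, Points.ofPt_toHom]
        exact hx
      obtain ⟨z, hz, -⟩ := exists_of_isPullback hsq x _ e
      exact ⟨z, hz⟩
  refine ⟨⟨?_, hinj⟩, hrange⟩
  -- an étale chart of `Y` with a unique point over `r`
  obtain ⟨V₀, b₀, hb₀e, hb₀s⟩ := hY.atlas
  obtain ⟨v₀, hv₀⟩ := ofPt_surjective b₀ hb₀s (Points.mk r)
  obtain ⟨N, hvN, hN⟩ := exists_open_isolating_fibre_point r hq b₀ hb₀e v₀ hv₀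
  have hbe : RepWith @Etale ((yon S).map (openIncl V₀ N) ≫ b₀) :=
    repWith_etale_comp (repWith_etale_openIncl V₀ N) hb₀e
  obtain ⟨b, hbdef⟩ : ∃ b, b = (yon S).map (openIncl V₀ N) ≫ b₀ := ⟨_, rfl⟩
  rw [← hbdef] at hbe
  obtain ⟨v, hvdef⟩ : ∃ v : ↥(openOver V₀ N).left, v = ⟨v₀, hvN⟩ := ⟨_, rfl⟩
  have hv : Points.ofPt b v = Points.mk r := by
    rw [hbdef, ofPt_map_comp, hvdef]
    exact hv₀
  have huniq : ∀ v' : ↥(openOver V₀ N).left, Points.ofPt b v' = Points.mk r → v' = v := by
    intro v' hv'
    rw [hbdef, ofPt_map_comp] at hv'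
    rw [hvdef]
    exact Subtype.ext (hN _ v'.2 hv')
  -- a chart of `X ×_Y V`
  obtain ⟨U, u, g, hue, hus, hg⟩ := exists_chart_over hX hY.diag f b
  have sqXV := IsPullback.of_hasPullback f b
  have hae : RepWith @Etale (u ≫ pullback.fst f b) :=
    repWith_etale_comp hue (repWith_fst_of_isPullback sqXV hbe)
  obtain ⟨a, hadef⟩ : ∃ a, a = u ≫ pullback.fst f b := ⟨_, rfl⟩
  rw [← hadef] at hae
  have haf : a ≫ f = (yon S).map g ≫ b := by
    rw [hadef, Category.assoc, pullback.condition, ← Category.assoc, ← hg]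
  -- the induced chart of the fibre
  have hfq : RepWith @QuasiCompact fst := repWith_fst_of_isPullback hsq hq
  have sqK := hfq.rep.isPullback a
  have hce : RepWith @Etale (hfq.rep.fst a) := repWith_fst_of_isPullback sqK hae
  have hcomm : ∀ wk, Points.map fst (Points.ofPt (hfq.rep.fst a) wk) =
      Points.ofPt a ((hfq.rep.snd a).left wk) := by
    intro wk
    rw [Points.map_ofPt, sqK.w, ofPt_map_comp]
  have hcs : Function.Surjective (Points.ofPt (hfq.rep.fst a)) := by
    intro z
    have hz : Points.map f (Points.map fst z) = Points.map b (Points.ofScheme _ v) := by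
      rw [← Points.ofPt_eq_map_ofScheme, hv]
      exact hfib z
    obtain ⟨q, hq1, hq2⟩ := exists_of_isPullback sqXV (Points.map fst z)
      (Points.ofScheme _ v) hz
    obtain ⟨w, hw⟩ := ofPt_surjective u hus q
    have haw : Points.map fst z = Points.map a (Points.ofScheme U w) := by
      rw [← Points.ofPt_eq_map_ofScheme, hadef, ← Points.map_ofPt, hw, hq1]
    obtain ⟨t, ht1, ht2⟩ := exists_of_isPullback sqK z (Points.ofScheme U w) haw
    obtain ⟨wk, hwk⟩ := exists_ofScheme t
    refine ⟨wk, ?_⟩
    rw [Points.ofPt_eq_map_ofScheme, hwk, ht1]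
  -- the fibre chart is the scheme-theoretic fibre over `v`
  have big := (sqK.flip.paste_vert hsq).flip
  rw [haf] at big
  have sqR := hq.rep.isPullback' b
  have key := IsPullback.of_right' big sqR
  obtain ⟨hpre, hrr⟩ := isPreimmersion_fibre_chart r hm b hbe _ _ sqR v hv huniq
  obtain ⟨ℓ₀, hℓ₀⟩ := (yon S).map_surjective
    (sqR.lift (hfq.rep.fst a ≫ snd) ((yon S).map (hfq.rep.snd a) ≫ (yon S).map g)
      (by rw [big.w, Category.assoc]))
  have key' : IsPullback ((yon S).map ℓ₀) ((yon S).map (hfq.rep.snd a))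
      ((yon S).map (hq.rep.snd b)) ((yon S).map g) := by
    rw [hℓ₀]
    exact key
  have comm : ℓ₀ ≫ hq.rep.snd b = hfq.rep.snd a ≫ g := (yon S).map_injective (by
    rw [Functor.map_comp, Functor.map_comp, key'.w])
  have sqSch := (IsPullback.of_map (yon S) comm key').map (CategoryTheory.Over.forget S)
  have hpreι : IsPreimmersion (hfq.rep.snd a).left :=
    MorphismProperty.of_isPullback (P := @IsPreimmersion) sqSch hpre
  have hrι : Set.range (hfq.rep.snd a).left = g.left ⁻¹' {v} := by
    ext w
    constructor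
    · rintro ⟨wk, rfl⟩
      have h0 : ℓ₀.left ≫ (hq.rep.snd b).left = (hfq.rep.snd a).left ≫ g.left := sqSch.w
      have h1 : (hq.rep.snd b).left (ℓ₀.left wk) = g.left ((hfq.rep.snd a).left wk) := by
        rw [← Scheme.Hom.comp_apply, ← Scheme.Hom.comp_apply, h0]
      show g.left ((hfq.rep.snd a).left wk) = v
      rw [← h1]
      have h2 : (hq.rep.snd b).left (ℓ₀.left wk) ∈ Set.range (hq.rep.snd b).left :=
        Set.mem_range_self _
      rw [hrr] at h2
      exact h2
    · intro hw
      obtain ⟨ρ, hρ⟩ : v ∈ Set.range (hq.rep.snd b).left := hrr ▸ rfl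
      obtain ⟨wk, hwk, -⟩ := exists_point_of_isPullback' key' w ρ (by
        rw [ofPt_yon_map, ofPt_yon_map, hρ]
        exact congrArg _ hw)
      exact ⟨wk, hwk⟩
  -- the topology of the fibre is induced
  refine ⟨le_antisymm (Points.continuous_map fst).le_induced (fun A hA => ?_)⟩
  rw [isOpen_induced_iff]
  have hB : IsOpen (Points.ofPt (hfq.rep.fst a) ⁻¹' A) :=
    hA.preimage (Points.continuous_ofPt _)
  obtain ⟨W, hW, hWB⟩ := (hfq.rep.snd a).left.isEmbedding.isInducing.isOpen_iff.1 hB
  refine ⟨Points.ofPt a '' W, isOpenMap_ofPt a hae W hW, ?_⟩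
  ext z
  constructor
  · rintro ⟨w, hwW, hwz⟩
    have h1 : Points.ofPt b (g.left w) = Points.mk r := by
      rw [← ofPt_map_comp, ← haf, ← Points.map_ofPt, hwz]
      exact hfib z
    have h2 : w ∈ Set.range (hfq.rep.snd a).left := by
      rw [hrι]
      exact huniq _ h1
    obtain ⟨wk, rfl⟩ := h2
    have h3 : wk ∈ Points.ofPt (hfq.rep.fst a) ⁻¹' A := by
      rw [← hWB]
      exact hwW
    have h4 : Points.ofPt (hfq.rep.fst a) wk = z := hinj ((hcomm wk).trans hwz)
    exact h4 ▸ h3
  · intro hz
    obtain ⟨wk, rfl⟩ := hcs z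
    refine ⟨(hfq.rep.snd a).left wk, ?_, (hcomm wk).symm⟩
    have : wk ∈ (hfq.rep.snd a).left ⁻¹' W := by
      rw [hWB]
      exact hz
    exact this

end Groth.Agent.H25.AS
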