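import Groth.Agent.H25.AlgSp76

/-!
# Algebraic spaces toolkit, part 77: fpqc descent of the locally Noetherian property and
locally Noetherian fibres
-/

universe u

open CategoryTheory CategoryTheory.Limits AlgebraicGeometry Opposite AlgSp MorphismProperty
open Topology

namespace Groth.Agent.H25.AS

variable {S : Scheme.{u}}

/-- The locally Noetherian property descends along flat surjective quasi-compact morphisms. -/
theorem isLocallyNoetherian_of_fpqc_surjective {U V : Scheme.{u}} (h : U ⟶ V) [Flat h]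
    [QuasiCompact h] [Surjective h] [IsLocallyNoetherian U] : IsLocallyNoetherian V := by
  rw [isLocallyNoetherian_iff_of_affine_openCover V.affineCover]
  intro i
  have hN : IsLocallyNoetherian (pullback h (V.affineCover.f i)) :=
    LocallyOfFiniteType.isLocallyNoetherian (pullback.fst h (V.affineCover.f i))
  have hc : CompactSpace ↥(pullback h (V.affineCover.f i)) :=
    QuasiCompact.compactSpace_of_compactSpace (pullback.snd h (V.affineCover.f i))
  obtain ⟨R', j, hR', hj, hsurj⟩ :=
    exists_affine_cover_of_open (𝟙 (pullback h (V.affineCover.f i)))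
  rw [Category.comp_id] at hsurj
  have hR'n : IsLocallyNoetherian R' := LocallyOfFiniteType.isLocallyNoetherian j
  have hB : IsNoetherianRing Γ(R', ⊤) :=
    IsLocallyNoetherian.component_noetherian (X := R') ⟨⊤, isAffineOpen_top R'⟩
  have hs2 : Surjective (j ≫ pullback.snd h (V.affineCover.f i)) := inferInstance
  have hff : (j ≫ pullback.snd h (V.affineCover.f i)).appTop.hom.FaithfullyFlat :=
    (Flat.flat_and_surjective_iff_faithfullyFlat_of_isAffine
      (j ≫ pullback.snd h (V.affineCover.f i))).1 ⟨inferInstance, hs2⟩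
  algebraize [(j ≫ pullback.snd h (V.affineCover.f i)).appTop.hom]
  exact isNoetherianRing_of_faithfullyFlat Γ(V.affineCover.X i, ⊤) Γ(R', ⊤)

/-- Comparison of fibres over two field-valued points which become equal on a scheme `T` étale
over the first and faithfully flat quasi-compact over the second: if the first fibre is locally
Noetherian then so is the second. -/
theorem isLocNoethSp_fibre_of_comparison {X Y : Sp S} (hX : IsAlgSpace X) (hY : IsAlgSpace Y)
    (f : X ⟶ Y) (p p' : FieldPt Y) {T : Over S} (t : T ⟶ p.pt) (g' : T ⟶ p'.pt)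
    (ht : Etale t.left) (hg1 : Flat g'.left) (hg2 : Surjective g'.left)
    (hg3 : QuasiCompact g'.left)
    (hcomm : (yon S).map t ≫ p.toHom = (yon S).map g' ≫ p'.toHom)
    {P : Sp S} (pfst : P ⟶ X) (psnd : P ⟶ (yon S).obj p.pt) (hP : IsPullback pfst psnd f p.toHom)
    (hPn : IsLocNoethSp P)
    {Q : Sp S} (qfst : Q ⟶ X) (qsnd : Q ⟶ (yon S).obj p'.pt)
    (hQ : IsPullback qfst qsnd f p'.toHom) : IsLocNoethSp Q := by
  have hQa : IsAlgSpace Q := isAlgSpace_of_isPullback hY.diag hX (IsAlgSpace.yon_obj _) hQ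
  obtain ⟨W₀, a₀, ha₀e, ha₀s⟩ := hQa.atlas
  obtain ⟨w₀, hw₀⟩ := (yon S).map_surjective (a₀ ≫ qsnd)
  have sqT := IsPullback.of_hasPullback f ((yon S).map t ≫ p.toHom)
  -- the comparison with `P`
  have hπP1 : hP.lift (pullback.fst f ((yon S).map t ≫ p.toHom))
      (pullback.snd f ((yon S).map t ≫ p.toHom) ≫ (yon S).map t)
      (by rw [pullback.condition, Category.assoc]) ≫ pfst =
      pullback.fst f ((yon S).map t ≫ p.toHom) := hP.lift_fst _ _ _
  have hπP2 : hP.lift (pullback.fst f ((yon S).map t ≫ p.toHom))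
      (pullback.snd f ((yon S).map t ≫ p.toHom) ≫ (yon S).map t)
      (by rw [pullback.condition, Category.assoc]) ≫ psnd =
      pullback.snd f ((yon S).map t ≫ p.toHom) ≫ (yon S).map t := hP.lift_snd _ _ _
  have sqPT : IsPullback (hP.lift (pullback.fst f ((yon S).map t ≫ p.toHom))
      (pullback.snd f ((yon S).map t ≫ p.toHom) ≫ (yon S).map t)
      (by rw [pullback.condition, Category.assoc]))
      (pullback.snd f ((yon S).map t ≫ p.toHom)) psnd ((yon S).map t) := by
    refine IsPullback.of_right ?_ hπP2 hP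
    rw [hπP1]
    exact sqT
  have hπPe := repWith_fst_of_isPullback sqPT ((repWith_yon_map_iff @Etale t).2 ht)
  -- the comparison with `Q`
  have hcQ : pullback.fst f ((yon S).map t ≫ p.toHom) ≫ f =
      (pullback.snd f ((yon S).map t ≫ p.toHom) ≫ (yon S).map g') ≫ p'.toHom := by
    rw [pullback.condition, Category.assoc, ← hcomm]
  have hπQ1 : hQ.lift (pullback.fst f ((yon S).map t ≫ p.toHom))
      (pullback.snd f ((yon S).map t ≫ p.toHom) ≫ (yon S).map g') hcQ ≫ qfst =
      pullback.fst f ((yon S).map t ≫ p.toHom) := hQ.lift_fst _ _ _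
  have hπQ2 : hQ.lift (pullback.fst f ((yon S).map t ≫ p.toHom))
      (pullback.snd f ((yon S).map t ≫ p.toHom) ≫ (yon S).map g') hcQ ≫ qsnd =
      pullback.snd f ((yon S).map t ≫ p.toHom) ≫ (yon S).map g' := hQ.lift_snd _ _ _
  have sqQT : IsPullback (hQ.lift (pullback.fst f ((yon S).map t ≫ p.toHom))
      (pullback.snd f ((yon S).map t ≫ p.toHom) ≫ (yon S).map g') hcQ)
      (pullback.snd f ((yon S).map t ≫ p.toHom)) qsnd ((yon S).map g') := by
    refine IsPullback.of_right ?_ hπQ2 hQ
    rw [hπQ1, ← hcomm]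
    exact sqT
  -- the chart `W₀ ×_{p'} T`
  have sqW := IsPullback.of_hasPullback w₀ g'
  have sqWY := sqW.map (yon S)
  have hc₁ : ((yon S).map (pullback.fst w₀ g') ≫ a₀) ≫ qsnd =
      (yon S).map (pullback.snd w₀ g') ≫ (yon S).map g' := by
    rw [Category.assoc, ← hw₀]
    exact sqWY.w
  have hc₁1 := sqQT.lift_fst _ _ hc₁
  have hc₁2 := sqQT.lift_snd _ _ hc₁
  have sqW1 : IsPullback (sqQT.lift _ _ hc₁) ((yon S).map (pullback.fst w₀ g'))
      (hQ.lift (pullback.fst f ((yon S).map t ≫ p.toHom))
      (pullback.snd f ((yon S).map t ≫ p.toHom) ≫ (yon S).map g') hcQ) a₀ := by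
    refine IsPullback.of_right ?_ hc₁1 sqQT.flip
    rw [hc₁2, ← hw₀]
    exact sqWY.flip
  have hc₁e := repWith_fst_of_isPullback sqW1 ha₀e
  have hW₁ : IsLocallyNoetherian (pullback w₀ g').left :=
    isLocallyNoetherian_of_chart hPn _ (repWith_etale_comp hc₁e hπPe)
  have sqSch := (sqW.map (CategoryTheory.Over.forget S)).flip
  have h1 : Flat (pullback.fst w₀ g').left :=
    MorphismProperty.of_isPullback (P := @Flat) sqSch hg1
  have h2 : Surjective (pullback.fst w₀ g').left :=
    MorphismProperty.of_isPullback (P := @Surjective) sqSch hg2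
  have h3 : QuasiCompact (pullback.fst w₀ g').left :=
    MorphismProperty.of_isPullback (P := @QuasiCompact) sqSch hg3
  exact ⟨W₀, a₀, ha₀e, ha₀s, isLocallyNoetherian_of_fpqc_surjective (pullback.fst w₀ g').left⟩

end Groth.Agent.H25.AS
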