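import Groth.Agent.H25.AlgSp77

/-!
# Algebraic spaces toolkit, part 78: locally Noetherian fibres over points of étale charts
-/

universe u

open CategoryTheory CategoryTheory.Limits AlgebraicGeometry Opposite AlgSp MorphismProperty
open Topology

namespace Groth.Agent.H25.AS

variable {S : Scheme.{u}}

/-- If the fibre of `f` over some representative of `y` is locally Noetherian, then so is the
fibre over every point of an étale chart mapping to `y`. -/
theorem isLocNoethSp_fibre_of_chart_point {X Y : Sp S} (hX : IsAlgSpace X) (hY : IsAlgSpace Y)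
    (f : X ⟶ Y) (p : FieldPt Y)
    {P : Sp S} (pfst : P ⟶ X) (psnd : P ⟶ (yon S).obj p.pt) (hP : IsPullback pfst psnd f p.toHom)
    (hPn : IsLocNoethSp P)
    {V : Over S} (b : (yon S).obj V ⟶ Y) (hb : RepWith @Etale b) (v : ↥V.left)
    (hv : Points.ofPt b v = Points.mk p)
    {Q : Sp S} (qfst : Q ⟶ X) (qsnd : Q ⟶ (yon S).obj (FieldPt.ofPt b v).pt)
    (hQ : IsPullback qfst qsnd f (FieldPt.ofPt b v).toHom) : IsLocNoethSp Q := by
  have sq := hb.rep.isPullback' p.toHom
  have het : Etale (hb.rep.snd p.toHom).left := hb.property_snd p.toHom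
  have hdisc : DiscreteTopology ↥(hb.rep.pullback p.toHom).left :=
    discreteTopology_of_etale_field (K := p.K) (hb.rep.snd p.toHom).left
  have hred : IsReduced (hb.rep.pullback p.toHom).left :=
    isReduced_of_chart (isReducedSp_field p.str) ((yon S).map (hb.rep.snd p.toHom))
      ((repWith_yon_map_iff _ _).2 het)
  obtain ⟨ρ, -, hρ⟩ := exists_point_of_isPullback' sq
    (show ↥p.pt.left from IsLocalRing.closedPoint p.K) v
    ((Points.ofPt_toHom p _).trans hv.symm)
  obtain ⟨O, hO⟩ : ∃ O : (hb.rep.pullback p.toHom).left.Opens, (O : Set _) = {ρ} :=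
    ⟨⟨{ρ}, isOpen_discrete _⟩, rfl⟩
  have hOmem : ∀ w : ↥(O : Scheme.{u}), O.ι w = ρ := by
    intro w
    have h1 : O.ι w ∈ (O : Set _) := w.2
    rw [hO] at h1
    exact h1
  have hψ : ∀ w : ↥(O : Scheme.{u}), (O.ι ≫ (hb.rep.fst' p.toHom).left) w = v := by
    intro w
    rw [Scheme.Hom.comp_apply, hOmem w, hρ]
  obtain ⟨g₀, hg₀⟩ := exists_lift_residueField_of_isReduced
    (O.ι ≫ (hb.rep.fst' p.toHom).left) v hψ
  let g' : openOver (hb.rep.pullback p.toHom) O ⟶ (FieldPt.ofPt b v).pt :=
    Over.homMk g₀ (by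
      change g₀ ≫ V.left.fromSpecResidueField v ≫ V.hom = O.ι ≫ (hb.rep.pullback p.toHom).hom
      rw [← Category.assoc, hg₀, Category.assoc, Over.w (hb.rep.fst' p.toHom)])
  have hg' : g' ≫ resPt V v = openIncl (hb.rep.pullback p.toHom) O ≫ hb.rep.fst' p.toHom := by
    apply Over.OverMorphism.ext
    exact hg₀
  have hcomm : (yon S).map (openIncl (hb.rep.pullback p.toHom) O ≫ hb.rep.snd p.toHom) ≫
      p.toHom = (yon S).map g' ≫ (FieldPt.ofPt b v).toHom := by
    rw [FieldPt.toHom_ofPt, ← Category.assoc, ← Functor.map_comp]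
    change _ = (yon S).map (g' ≫ resPt V v) ≫ b
    rw [hg', Functor.map_comp, Functor.map_comp, Category.assoc, Category.assoc, sq.w]
  have hsub : Subsingleton ↥(FieldPt.ofPt b v).pt.left :=
    (inferInstance : Subsingleton ↥(Spec (CommRingCat.of (FieldPt.ofPt b v).K)))
  have hint : IsIntegral (FieldPt.ofPt b v).pt.left :=
    (inferInstance : IsIntegral (Spec (CommRingCat.of (FieldPt.ofPt b v).K)))
  have haff' : IsAffine (FieldPt.ofPt b v).pt.left :=
    (inferInstance : IsAffine (Spec (CommRingCat.of (FieldPt.ofPt b v).K)))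
  have hflat : Flat g'.left := inferInstance
  have hρO : ρ ∈ (O : Set _) := by rw [hO]; rfl
  have hsurj : Surjective g'.left :=
    ⟨fun x => ⟨(⟨ρ, hρO⟩ : ↥(O : Scheme.{u})), Subsingleton.elim _ _⟩⟩
  have hsubO : Subsingleton ↥(O : Scheme.{u}) :=
    ⟨fun w w' => O.ι.isOpenEmbedding.injective ((hOmem w).trans (hOmem w').symm)⟩
  have hcpt : CompactSpace ↥(openOver (hb.rep.pullback p.toHom) O).left :=
    (inferInstance : CompactSpace ↥(O : Scheme.{u}))
  have hqc : QuasiCompact g'.left :=
    (HasAffineProperty.iff_of_isAffine (P := @QuasiCompact)).2 hcpt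
  have hte : Etale (openIncl (hb.rep.pullback p.toHom) O ≫ hb.rep.snd p.toHom).left := by
    rw [Over.comp_left]
    have : Etale (openIncl (hb.rep.pullback p.toHom) O).left :=
      (inferInstance : Etale O.ι)
    infer_instance
  exact isLocNoethSp_fibre_of_comparison hX hY f p (FieldPt.ofPt b v) _ g' hte hflat hsurj hqc
    hcomm pfst psnd hP hPn qfst qsnd hQ

end Groth.Agent.H25.AS
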