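import Groth.Agent.H25.AlgSp78

/-!
# Algebraic spaces toolkit, part 79: closed points of decent (Jacobson) algebraic spaces
-/

universe u

open CategoryTheory CategoryTheory.Limits AlgebraicGeometry Opposite AlgSp MorphismProperty
open Topology

namespace Groth.Agent.H25.AS

variable {S : Scheme.{u}}

/-- On a decent space, every point of an étale chart over a closed point is closed. -/
theorem isClosed_chart_point_of_closed {X : Sp S} (hX : IsDecent X) {U : Over S}
    (a : (yon S).obj U ⟶ X) (ha : RepWith @Etale a) (u : ↥U.left)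
    (hx : IsClosed ({Points.ofPt a u} : Set (Points X))) : IsClosed ({u} : Set ↥U.left) := by
  obtain ⟨p, hp, -, hq⟩ := hX (Points.ofPt a u)
  have hFcl : IsClosed (Points.ofPt a ⁻¹' {Points.ofPt a u}) :=
    hx.preimage (Points.continuous_ofPt a)
  apply isClosed_of_closure_subset
  intro u' hu'
  have h1 : u' ∈ Points.ofPt a ⁻¹' {Points.ofPt a u} :=
    (hFcl.closure_subset_iff.2 (Set.singleton_subset_iff.2 rfl)) hu'
  have hs : u ⤳ u' := specializes_iff_mem_closure.2 hu'
  exact eq_of_specializes_of_finite_fibre (Points.ofPt a u)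
    (fun V b' hV hb' => hp ▸ finite_fibre_of_qc_point p hq hV b' hb') a ha u' u h1 rfl hs

/-- On a decent Jacobson space, the image of a closed point of an étale chart is closed. -/
theorem isClosed_point_of_closed_chart_point {X : Sp S} (hX : IsDecent X)
    (hJ : EtaleLocally (fun U => JacobsonSpace ↥U) X) {U : Over S}
    (a : (yon S).obj U ⟶ X) (ha : RepWith @Etale a) (u : ↥U.left)
    (hu : IsClosed ({u} : Set ↥U.left)) : IsClosed ({Points.ofPt a u} : Set (Points X)) := by
  obtain ⟨U₀, a₀, ha₀e, ha₀s, hJ₀⟩ := hJ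
  rw [← closure_subset_iff_isClosed]
  intro x' hx'
  have hsp : Points.ofPt a u ⤳ x' := specializes_iff_mem_closure.2 hx'
  obtain ⟨q, hq1, -, hq3⟩ := hX (Points.ofPt a u)
  obtain ⟨u₀', hu₀'⟩ := ofPt_surjective a₀ ha₀s x'
  obtain ⟨η, hη, hη2⟩ := exists_generization_of_qc_point hsp q hq1 hq3 a₀ ha₀e u₀' hu₀'
  have sq := ha.rep.isPullback' a₀
  obtain ⟨w, hw1, hw2⟩ := exists_point_of_isPullback' sq η u hη2
  have het1 : Etale (ha.rep.fst' a₀).left := ha₀e.property a _ _ sq.flip
  have het2 : Etale (ha.rep.snd a₀).left := ha.property_snd a₀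
  have hlqf : LocallyQuasiFinite (ha.rep.fst' a₀).left := lqf_of_unram _
  have hdisc := (ha.rep.fst' a₀).left.isDiscrete_preimage_singleton u
  have hfcl : IsClosed ((ha.rep.fst' a₀).left ⁻¹' {u}) :=
    hu.preimage (ha.rep.fst' a₀).left.continuous
  have hwcl : IsClosed ({w} : Set ↥(ha.rep.pullback a₀).left) := by
    have hd : DiscreteTopology ↥((ha.rep.fst' a₀).left ⁻¹' {u}) := hdisc.to_subtype
    have hwm : w ∈ (ha.rep.fst' a₀).left ⁻¹' {u} := hw2
    have h1 : IsClosed ({⟨w, hwm⟩} : Set ↥((ha.rep.fst' a₀).left ⁻¹' {u})) :=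
      isClosed_discrete _
    have h2 := hfcl.isClosedEmbedding_subtypeVal.isClosedMap _ h1
    rwa [Set.image_singleton] at h2
  have hJ₀' : JacobsonSpace ↥U₀.left := hJ₀
  have hηcl : IsClosed ({η} : Set ↥U₀.left) := by
    have := (ha.rep.snd a₀).left.closePoints_subset_preimage_closedPoints
      (show w ∈ closedPoints _ from hwcl)
    rw [Set.mem_preimage, hw1] at this
    exact this
  have hηeq : η = u₀' := by
    have h3 : u₀' ∈ closure ({η} : Set ↥U₀.left) := specializes_iff_mem_closure.1 hη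
    rw [hηcl.closure_eq] at h3
    exact (Set.mem_singleton_iff.1 h3).symm
  rw [Set.mem_singleton_iff, ← hu₀', ← hηeq, hη2]

end Groth.Agent.H25.AS
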