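import Groth.Agent.H25.AlgSp7

/-!
# Algebraic spaces toolkit, part 8: quasi-compact morphisms
-/

universe u

open CategoryTheory CategoryTheory.Limits AlgebraicGeometry Opposite AlgSp TopologicalSpace

namespace Groth.Agent.H25.AS

variable {S : Scheme.{u}}

theorem repWith_mono {P P' : MorphismProperty Scheme.{u}} (h : P ≤ P') {F G : Sp S} {f : F ⟶ G}
    (hf : RepWith P f) : RepWith P' f :=
  ⟨hf.rep, fun _ _ g fst snd sq => h _ (hf.property g fst snd sq)⟩

/-- Base change of `RepWith P` along an arbitrary pullback square. -/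
theorem repWith_snd_of_isPullback {P : MorphismProperty Scheme.{u}} {F G H Q : Sp S} {f : F ⟶ G}
    {g : H ⟶ G} {fst : Q ⟶ F} {snd : Q ⟶ H} (sq : IsPullback fst snd f g) (hf : RepWith P f) :
    RepWith P snd :=
  MorphismProperty.of_isPullback sq hf

theorem repWith_fst_of_isPullback {P : MorphismProperty Scheme.{u}} {F G H Q : Sp S} {f : F ⟶ G}
    {g : H ⟶ G} {fst : Q ⟶ F} {snd : Q ⟶ H} (sq : IsPullback fst snd f g) (hg : RepWith P g) :
    RepWith P fst :=
  MorphismProperty.of_isPullback sq.flip hg

theorem isQuasiCompactSp_yon_iff (T : Over S) :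
    IsQuasiCompactSp ((yon S).obj T) ↔ CompactSpace T.left := by
  constructor
  · intro h
    have := compactSpace_of_isQuasiCompactSp h
    exact (Points.schemeHomeo T).symm.compactSpace
  · intro h
    exact ⟨T, 𝟙 _, repWith_id _ T, repWith_id _ T, h⟩

/-- Base change of a chart of a quasi-compact sheaf along a representable quasi-compact
morphism. -/
theorem isQuasiCompactSp_of_repWith_quasiCompact {Z Z' : Sp S} (snd : Z' ⟶ Z)
    (hsnd : RepWith @QuasiCompact snd) (hZ : IsQuasiCompactSp Z) : IsQuasiCompactSp Z' := by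
  obtain ⟨W, p, hpe, hps, hW⟩ := hZ
  have sq := hsnd.rep.isPullback p
  have hq : QuasiCompact (hsnd.rep.snd p).left := hsnd.property_snd p
  refine ⟨hsnd.rep.pullback p, hsnd.rep.fst p, repWith_fst_of_isPullback sq hpe,
    repWith_fst_of_isPullback sq hps, ?_⟩
  have : CompactSpace W.left := hW
  exact QuasiCompact.compactSpace_of_compactSpace (hsnd.rep.snd p).left

theorem isQuasiCompactMor_of_repWith {F G : Sp S} (f : F ⟶ G) (hf : RepWith @QuasiCompact f) :
    IsQuasiCompactMor f := by
  intro Z Z' _ hZqc g fst snd sq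
  exact isQuasiCompactSp_of_repWith_quasiCompact snd (repWith_snd_of_isPullback sq hf) hZqc

/-- The restriction square of a morphism over `S` to an open of the target, on representable
sheaves. -/
theorem isPullback_restrict {U V : Over S} (snd : V ⟶ U) (U' : U.left.Opens) :
    ∃ r : openOver V (snd.left ⁻¹ᵁ U') ⟶ openOver U U',
      IsPullback ((yon S).map (openIncl V (snd.left ⁻¹ᵁ U'))) ((yon S).map r) ((yon S).map snd)
        ((yon S).map (openIncl U U')) := by
  have hw : (snd.left ∣_ U') ≫ U'.ι ≫ U.hom = (snd.left ⁻¹ᵁ U').ι ≫ V.hom := by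
    have e : snd.left ≫ U.hom = V.hom := Over.w snd
    rw [← e, morphismRestrict_ι_assoc]
  let r : openOver V (snd.left ⁻¹ᵁ U') ⟶ openOver U U' := Over.homMk (snd.left ∣_ U') hw
  refine ⟨r, IsPullback.map (yon S) ?_⟩
  apply IsPullback.of_map (Over.forget S)
  · exact Over.OverMorphism.ext (morphismRestrict_ι snd.left U').symm
  · exact (isPullback_morphismRestrict snd.left U').flip

theorem repWith_quasiCompact_of_isQuasiCompactMor {F G : Sp S} (f : F ⟶ G)
    (hr : Representable f) (hf : IsQuasiCompactMor f) : RepWith @QuasiCompact f := by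
  refine ⟨hr, fun U V g fst snd sq => ?_⟩
  show QuasiCompact snd.left
  rw [quasiCompact_iff_forall_isAffineOpen]
  intro U' hU'
  obtain ⟨r, hsq⟩ := isPullback_restrict snd U'
  have big := hsq.paste_horiz sq
  have hqc : IsQuasiCompactSp ((yon S).obj (openOver U U')) := by
    rw [isQuasiCompactSp_yon_iff]
    exact isCompact_iff_compactSpace.mp hU'.isCompact
  have := hf (IsAlgSpace.yon_obj _) hqc _ _ _ big
  rw [isQuasiCompactSp_yon_iff] at this
  exact isCompact_iff_compactSpace.mpr this

theorem repWith_quasiCompact_iff {F G : Sp S} (f : F ⟶ G) (hr : Representable f) :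
    RepWith @QuasiCompact f ↔ IsQuasiCompactMor f :=
  ⟨isQuasiCompactMor_of_repWith f, repWith_quasiCompact_of_isQuasiCompactMor f hr⟩

end Groth.Agent.H25.AS
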