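import Groth.Agent.H25.AlgSp79

/-!
# Algebraic spaces toolkit, part 80: finite type points of Jacobson algebraic spaces
-/

universe u

open CategoryTheory CategoryTheory.Limits AlgebraicGeometry Opposite AlgSp MorphismProperty
open Topology

namespace Groth.Agent.H25.AS

variable {S : Scheme.{u}}

/-- Representable sheaves are decent. -/
theorem isDecent_yon (W : Over S) : IsDecent ((yon S).obj W) := by
  intro x
  obtain ⟨w, rfl⟩ := exists_ofScheme x
  exact exists_decent_point (𝟙 _) inferInstance (repWith_id _ _) w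

/-- A nonempty scheme locally of finite type over a field has a closed point. -/
theorem exists_closed_point_of_lft_field {F : Scheme.{u}} {K : Type u} [Field K]
    (c : F ⟶ Spec (CommRingCat.of K)) [LocallyOfFiniteType c] [Nonempty F] :
    ∃ z : F, IsClosed ({z} : Set F) := by
  have hJ : JacobsonSpace F := LocallyOfFiniteType.jacobsonSpace c
  have h : closure (closedPoints F) = Set.univ := closure_closedPoints
  obtain ⟨z₀⟩ := (inferInstance : Nonempty F)
  have hne : (closedPoints F).Nonempty := by
    by_contra hc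
    rw [Set.not_nonempty_iff_eq_empty] at hc
    rw [hc, closure_empty] at h
    exact (h ▸ Set.mem_univ z₀ : z₀ ∈ (∅ : Set F))
  obtain ⟨z, hz⟩ := hne
  exact ⟨z, hz⟩

/-- On a Jacobson algebraic space, a finite type point in the image of a morphism locally of
finite type from a scheme is the image of a closed point. -/
theorem exists_closed_point_over_finite_type_point {X : Sp S}
    (hJ : EtaleLocally (fun U => JacobsonSpace ↥U) X) (x : Points X)
    (hx : HasAt (fun U u => IsClosed ({u} : Set ↥U)) X x) {W : Over S} (g : (yon S).obj W ⟶ X)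
    (hg : LocP @LocallyOfFiniteType g) (hxW : x ∈ Set.range (Points.ofPt g)) :
    ∃ w : ↥W.left, IsClosed ({w} : Set ↥W.left) ∧ Points.ofPt g w = x := by
  obtain ⟨U, a, u, hae, hu, hucl⟩ := hx
  obtain ⟨U₀, a₀, ha₀e, ha₀s, hJ₀⟩ := hJ
  obtain ⟨w₁, hw₁⟩ := hxW
  have sq := hae.rep.isPullback' g
  have hprW : Etale (hae.rep.snd g).left := hae.property_snd g
  have hprU : LocallyOfFiniteType (hae.rep.fst' g).left :=
    hg ((yon S).map (hae.rep.snd g)) a (hae.rep.fst' g) ((repWith_yon_map_iff _ _).2 hprW) hae
      sq.w.symm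
  obtain ⟨w'₀, hw'₀1, hw'₀2⟩ := exists_point_of_isPullback' sq w₁ u (hw₁.trans hu.symm)
  have hne : Nonempty ↥((hae.rep.fst' g).left.fiber u) := by
    have hm : w'₀ ∈ Set.range ((hae.rep.fst' g).left.fiberι u) := by
      rw [Scheme.Hom.range_fiberι]
      exact hw'₀2
    obtain ⟨z, -⟩ := hm
    exact ⟨z⟩
  have hlftF : LocallyOfFiniteType ((hae.rep.fst' g).left.fiberToSpecResidueField u) :=
    inferInstanceAs (LocallyOfFiniteType
      (pullback.snd (hae.rep.fst' g).left (U.left.fromSpecResidueField u)))
  obtain ⟨z, hz⟩ := exists_closed_point_of_lft_field (K := U.left.residueField u)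
    ((hae.rep.fst' g).left.fiberToSpecResidueField u)
  have hci : IsClosedImmersion ((hae.rep.fst' g).left.fiberι u) :=
    .of_isPreimmersion _ (by
      rw [Scheme.Hom.range_fiberι]
      exact hucl.preimage (hae.rep.fst' g).left.continuous)
  have hw'cl : IsClosed ({(hae.rep.fst' g).left.fiberι u z} :
      Set ↥(hae.rep.pullback g).left) := by
    have := ((hae.rep.fst' g).left.fiberι u).isClosedEmbedding.isClosedMap _ hz
    rwa [Set.image_singleton] at this
  have hw'u : (hae.rep.fst' g).left ((hae.rep.fst' g).left.fiberι u z) = u := by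
    have hm : (hae.rep.fst' g).left.fiberι u z ∈
        Set.range ((hae.rep.fst' g).left.fiberι u) := ⟨z, rfl⟩
    rw [Scheme.Hom.range_fiberι] at hm
    exact hm
  refine ⟨(hae.rep.snd g).left ((hae.rep.fst' g).left.fiberι u z), ?_, ?_⟩
  · have sq₀ := ha₀e.rep.isPullback' g
    have h1 : Etale (ha₀e.rep.snd g).left := ha₀e.property_snd g
    have h2 : Surjective (ha₀e.rep.snd g).left := ha₀s.property _ _ _ sq₀
    have h3 : LocallyOfFiniteType (ha₀e.rep.fst' g).left :=
      hg _ a₀ _ ((repWith_yon_map_iff _ _).2 h1) ha₀e sq₀.w.symm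
    have h0 : JacobsonSpace ↥U₀.left := hJ₀
    have h4 : JacobsonSpace ↥(ha₀e.rep.pullback g).left :=
      LocallyOfFiniteType.jacobsonSpace (ha₀e.rep.fst' g).left
    have hJW : EtaleLocally (fun U => JacobsonSpace ↥U) ((yon S).obj W) :=
      ⟨_, (yon S).map (ha₀e.rep.snd g), (repWith_yon_map_iff _ _).2 h1,
        (repWith_yon_map_iff _ _).2 h2, h4⟩
    have hcl := isClosed_point_of_closed_chart_point (isDecent_yon W) hJW
      ((yon S).map (hae.rep.snd g)) ((repWith_yon_map_iff _ _).2 hprW) _ hw'cl
    rw [ofPt_yon_map] at hcl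
    have hpre := hcl.preimage (Points.continuous_ofPt (𝟙 ((yon S).obj W)))
    convert hpre using 1
    ext y
    simp only [Set.mem_singleton_iff, Set.mem_preimage]
    exact (ofScheme_injective W).eq_iff.symm
  · rw [← ofPt_map_comp, ← sq.w, ofPt_map_comp, hw'u, hu]

end Groth.Agent.H25.AS
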