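import Groth.Agent.H25.AlgSp80

/-!
# Algebraic spaces toolkit, part 81: Jacobson decent spaces
-/

universe u

open CategoryTheory CategoryTheory.Limits AlgebraicGeometry Opposite AlgSp MorphismProperty
open Topology

namespace Groth.Agent.H25.AS

variable {S : Scheme.{u}}

theorem jacobsonSpace_points_of_jacobson {X : Sp S} (hX : IsDecent X)
    (hJ : EtaleLocally (fun U => JacobsonSpace ↥U) X) : JacobsonSpace (Points X) := by
  rw [jacobsonSpace_iff_locallyClosed]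
  intro Z hZne hZ
  obtain ⟨U₀, a₀, ha₀e, ha₀s, hJ₀⟩ := id hJ
  obtain ⟨x, hx⟩ := hZne
  obtain ⟨u, rfl⟩ := ofPt_surjective a₀ ha₀s x
  have h1 : IsLocallyClosed (Points.ofPt a₀ ⁻¹' Z) := hZ.preimage (Points.continuous_ofPt a₀)
  have h0 : JacobsonSpace ↥U₀.left := hJ₀
  obtain ⟨u₁, hu₁Z, hu₁cl⟩ := nonempty_inter_closedPoints ⟨u, hx⟩ h1
  exact ⟨Points.ofPt a₀ u₁, hu₁Z, isClosed_point_of_closed_chart_point hX hJ a₀ ha₀e u₁ hu₁cl⟩

theorem jacobsonSpace_chart_of_points {X : Sp S} (hX : IsDecent X)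
    (hJ : JacobsonSpace (Points X)) {U : Over S} (a : (yon S).obj U ⟶ X)
    (ha : RepWith @Etale a) : JacobsonSpace ↥U.left := by
  rw [jacobsonSpace_iff_locallyClosed]
  intro T hTne hT
  obtain ⟨u, huT⟩ := hTne
  obtain ⟨N₀, Z, hN₀, hZ, rfl⟩ := hT
  obtain ⟨p, hp, -, hq⟩ := hX (Points.ofPt a u)
  obtain ⟨N₁, huN₁, hN₁⟩ := exists_open_isolating_fibre_point p hq a ha u hp.symm
  have hNopen : IsOpen (N₀ ∩ (N₁ : Set ↥U.left)) := hN₀.inter N₁.2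
  have hW : IsOpen (Points.ofPt a '' (N₀ ∩ (N₁ : Set ↥U.left))) :=
    isOpenMap_ofPt a ha _ hNopen
  have hlc : IsLocallyClosed (closure {Points.ofPt a u} ∩
      Points.ofPt a '' (N₀ ∩ (N₁ : Set ↥U.left))) :=
    isClosed_closure.isLocallyClosed.inter hW.isLocallyClosed
  have hne : (closure {Points.ofPt a u} ∩
      Points.ofPt a '' (N₀ ∩ (N₁ : Set ↥U.left))).Nonempty :=
    ⟨Points.ofPt a u, subset_closure rfl, u, ⟨huT.1, huN₁⟩, rfl⟩
  obtain ⟨x₁, ⟨hx₁cl, n₁, ⟨hn₁N₀, hn₁N₁⟩, rfl⟩, hx₁closed⟩ :=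
    nonempty_inter_closedPoints hne hlc
  have hsp : Points.ofPt a u ⤳ Points.ofPt a n₁ := specializes_iff_mem_closure.2 hx₁cl
  obtain ⟨u', hu'sp, hu'x⟩ := exists_generization_of_qc_point hsp p hp hq a ha n₁ rfl
  have hu'N₁ : u' ∈ N₁ := hu'sp.mem_open N₁.2 hn₁N₁
  have hu'u : u' = u := hN₁ u' hu'N₁ (hu'x.trans hp.symm)
  rw [hu'u] at hu'sp
  have hn₁Z : n₁ ∈ Z :=
    (hZ.closure_subset_iff.2 (Set.singleton_subset_iff.2 huT.2))
      (specializes_iff_mem_closure.1 hu'sp)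
  exact ⟨n₁, ⟨hn₁N₀, hn₁Z⟩, isClosed_chart_point_of_closed hX a ha n₁ hx₁closed⟩

end Groth.Agent.H25.AS
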