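import Groth.Agent.H25.AlgSp81

/-!
# Algebraic spaces toolkit, part 82: finite type field points of schemes are locally closed
-/

set_option linter.style.haveILetI false

universe u

open CategoryTheory CategoryTheory.Limits AlgebraicGeometry Opposite AlgSp MorphismProperty
open Topology

namespace Groth.Agent.H25.AS

theorem exists_mul_eq_pow_of_finiteType_field {D K : Type*} [CommRing D] [IsDomain D] [Field K]
    [Algebra D K] [Algebra.FiniteType D K] (hinj : Function.Injective (algebraMap D K)) :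
    ∃ f : D, f ≠ 0 ∧ ∀ a : D, a ≠ 0 → ∃ (b : D) (n : ℕ), a * b = f ^ n := by
  classical
  let L := FractionRing D
  letI : Algebra L K := (IsFractionRing.lift hinj).toAlgebra
  haveI : IsScalarTower D L K :=
    IsScalarTower.of_algebraMap_eq (fun x => (IsFractionRing.lift_algebraMap hinj x).symm)
  haveI : Algebra.FiniteType L K := Algebra.FiniteType.of_restrictScalars_finiteType D L K
  haveI : Module.Finite L K := finite_of_finite_type_of_isJacobsonRing L K
  haveI : Algebra.IsAlgebraic L K := Algebra.IsAlgebraic.of_finite L K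
  haveI : Algebra.IsAlgebraic D K :=
    (IsFractionRing.comap_isAlgebraic_iff (A := D) (K := L) (C := K)).2 inferInstance
  obtain ⟨s, hs⟩ := (Algebra.FiniteType.out : (⊤ : Subalgebra D K).FG)
  obtain ⟨f, hf, hint⟩ := Algebra.IsAlgebraic.exists_integral_multiples D s
  refine ⟨f, hf, ?_⟩
  have hfK : algebraMap D K f ≠ 0 := fun h => hf (hinj (h.trans (map_zero _).symm))
  have hunit : IsUnit (algebraMap D K f) := hfK.isUnit
  let Df := Localization.Away f
  let ψ : Df →+* K := IsLocalization.Away.lift f hunit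
  letI : Algebra Df K := ψ.toAlgebra
  haveI : IsScalarTower D Df K :=
    IsScalarTower.of_algebraMap_eq (fun x => (IsLocalization.Away.lift_eq f hunit x).symm)
  have hDinj : Function.Injective (algebraMap D Df) :=
    IsLocalization.injective Df (powers_le_nonZeroDivisors_of_noZeroDivisors hf)
  have hψinj : Function.Injective (algebraMap Df K) := by
    change Function.Injective ψ
    refine (IsLocalization.lift_injective_iff (M := Submonoid.powers f) (S := Df) ..).2 ?_
    intro x y
    exact ⟨fun h => by rw [hDinj h], fun h => by rw [hinj h]⟩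
  have hintK : Algebra.IsIntegral Df K := by
    have hle : Algebra.adjoin D (s : Set K) ≤ (integralClosure Df K).restrictScalars D := by
      refine Algebra.adjoin_le ?_
      intro z hz
      have h1 : IsIntegral Df (f • z) := (hint z hz).tower_top
      have h3 : algebraMap Df K (IsLocalization.Away.invSelf f) * algebraMap D K f = 1 := by
        rw [IsScalarTower.algebraMap_apply D Df K, ← map_mul, mul_comm,
          IsLocalization.Away.mul_invSelf, map_one]
      have h2 : z = algebraMap Df K (IsLocalization.Away.invSelf f) * (f • z) := by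
        rw [Algebra.smul_def, ← mul_assoc, h3, one_mul]
      change IsIntegral Df z
      rw [h2]
      exact isIntegral_algebraMap.mul h1
    refine ⟨fun z => ?_⟩
    have : z ∈ Algebra.adjoin D (s : Set K) := by rw [hs]; trivial
    exact hle this
  have hfield : IsField Df := isField_of_isIntegral_of_isField hψinj (Field.toIsField K)
  intro a ha
  have ha' : algebraMap D Df a ≠ 0 := fun h => ha (hDinj (h.trans (map_zero _).symm))
  obtain ⟨y, hy⟩ := hfield.mul_inv_cancel ha'
  obtain ⟨⟨b, m⟩, rfl⟩ := IsLocalization.mk'_surjective (Submonoid.powers f) y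
  obtain ⟨n, hn⟩ := m.2
  refine ⟨b, n, hDinj ?_⟩
  have h4 := IsLocalization.mk'_spec Df b m
  rw [map_mul, ← h4, ← mul_assoc, hy, one_mul]
  congr 1
  exact hn.symm

theorem exists_notMem_forall_prime_eq_ker {A K : Type*} [CommRing A] [Field K] (φ : A →+* K)
    (hφ : φ.FiniteType) :
    ∃ f : A, φ f ≠ 0 ∧ ∀ q : Ideal A, q.IsPrime → RingHom.ker φ ≤ q → f ∉ q →
      q = RingHom.ker φ := by
  let p := RingHom.ker φ
  haveI : p.IsPrime := RingHom.ker_isPrime φ
  let D := A ⧸ p
  let ψ : D →+* K := RingHom.kerLift φ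
  have hψ : Function.Injective ψ := RingHom.kerLift_injective φ
  letI : Algebra D K := ψ.toAlgebra
  letI : Algebra A K := φ.toAlgebra
  haveI : IsScalarTower A D K := IsScalarTower.of_algebraMap_eq (fun x => rfl)
  haveI : Algebra.FiniteType A K := hφ
  haveI : Algebra.FiniteType D K := Algebra.FiniteType.of_restrictScalars_finiteType A D K
  obtain ⟨fb, hfb, H⟩ := exists_mul_eq_pow_of_finiteType_field (D := D) (K := K) hψ
  obtain ⟨f, rfl⟩ := Ideal.Quotient.mk_surjective fb
  refine ⟨f, fun h => hfb ?_, fun q hq hpq hfq => le_antisymm ?_ hpq⟩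
  · exact Ideal.Quotient.eq_zero_iff_mem.2 h
  · intro a haq
    by_contra hap
    have ha0 : Ideal.Quotient.mk p a ≠ 0 := fun h => hap (Ideal.Quotient.eq_zero_iff_mem.1 h)
    obtain ⟨bb, n, hb⟩ := H _ ha0
    obtain ⟨b, rfl⟩ := Ideal.Quotient.mk_surjective bb
    rw [← map_mul, ← map_pow, Ideal.Quotient.eq] at hb
    have h1 : a * b - f ^ n ∈ q := hpq hb
    have h2 : f ^ n ∈ q := by
      have := q.sub_mem (q.mul_mem_right b haq) h1
      simpa using this
    exact hfq (hq.mem_of_pow_mem n h2)

/-- A locally finite type morphism from the spectrum of a field has locally closed image point. -/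
theorem exists_open_closed_point_of_lft_field {U : Scheme.{u}} {K : Type u} [Field K]
    (g : Spec (CommRingCat.of K) ⟶ U) [LocallyOfFiniteType g] :
    ∃ (W : U.Opens) (hu : g (IsLocalRing.closedPoint K) ∈ W),
      IsClosed ({⟨g (IsLocalRing.closedPoint K), hu⟩} : Set W) := by
  obtain ⟨U₁, hU₁, huU₁, -⟩ := exists_isAffineOpen_mem_and_subset (X := U)
    (x := g (IsLocalRing.closedPoint K)) (U := ⊤) trivial
  have hrange : Set.range g ⊆ Set.range hU₁.fromSpec := by
    rw [hU₁.range_fromSpec]
    rintro _ ⟨y, rfl⟩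
    have : y = IsLocalRing.closedPoint K := Subsingleton.elim _ _
    rw [this]
    exact huU₁
  let g₁ := IsOpenImmersion.lift hU₁.fromSpec g hrange
  have hg₁ : g₁ ≫ hU₁.fromSpec = g := IsOpenImmersion.lift_fac _ _ _
  obtain ⟨φ, hφ⟩ := Spec.map_surjective g₁
  have hlft : LocallyOfFiniteType g₁ := by
    have : LocallyOfFiniteType (g₁ ≫ hU₁.fromSpec) := hg₁ ▸ inferInstance
    exact locallyOfFiniteType_of_comp g₁ hU₁.fromSpec
  have hft : φ.hom.FiniteType :=
    (HasRingHomProperty.Spec_iff (P := @LocallyOfFiniteType)).1 (hφ ▸ hlft)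
  obtain ⟨f, hf, H⟩ := exists_notMem_forall_prime_eq_ker φ.hom hft
  let p₀ : Spec Γ(U, U₁) := g₁ (IsLocalRing.closedPoint K)
  have hp₀ : p₀.asIdeal = RingHom.ker φ.hom := by
    change (g₁ (IsLocalRing.closedPoint K)).asIdeal = _
    rw [← hφ]
    change Ideal.comap φ.hom (IsLocalRing.maximalIdeal K) = _
    rw [IsLocalRing.maximalIdeal_eq_bot, RingHom.ker_eq_comap_bot]
  have hup₀ : hU₁.fromSpec p₀ = g (IsLocalRing.closedPoint K) := by
    change hU₁.fromSpec (g₁ (IsLocalRing.closedPoint K)) = _
    rw [← Scheme.Hom.comp_apply, hg₁]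
  have hmem : ∀ q : Spec Γ(U, U₁), hU₁.fromSpec q ∈ U.basicOpen f ↔ f ∉ q.asIdeal := by
    intro q
    have := hU₁.fromSpec_preimage_basicOpen f
    have h2 : q ∈ hU₁.fromSpec ⁻¹ᵁ U.basicOpen f ↔ q ∈ PrimeSpectrum.basicOpen f :=
      this ▸ Iff.rfl
    exact h2
  have hu : g (IsLocalRing.closedPoint K) ∈ U.basicOpen f := by
    rw [← hup₀, hmem, hp₀]
    exact hf
  refine ⟨U.basicOpen f, hu, ?_⟩
  rw [← closure_subset_iff_isClosed]
  rintro ⟨w, hw⟩ hwcl
  have hsp : (⟨g (IsLocalRing.closedPoint K), hu⟩ : U.basicOpen f) ⤳ ⟨w, hw⟩ :=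
    specializes_iff_mem_closure.2 hwcl
  have hsp' : g (IsLocalRing.closedPoint K) ⤳ w := hsp.map continuous_subtype_val
  have hwU₁ : w ∈ Set.range hU₁.fromSpec := by
    rw [hU₁.range_fromSpec]
    exact U.basicOpen_le f hw
  obtain ⟨q, rfl⟩ := hwU₁
  rw [← hup₀] at hsp'
  have hsp'' : p₀ ⤳ q :=
    (hU₁.fromSpec.isOpenEmbedding.isInducing.specializes_iff).1 hsp'
  have hle : p₀.asIdeal ≤ q.asIdeal :=
    (PrimeSpectrum.asIdeal_le_asIdeal _ _).2 ((PrimeSpectrum.le_iff_specializes p₀ q).2 hsp'')
  have hq := H q.asIdeal q.isPrime (hp₀ ▸ hle) ((hmem q).1 hw)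
  have : q = p₀ := PrimeSpectrum.ext (hq.trans hp₀.symm)
  subst this
  exact Subtype.ext hup₀

end Groth.Agent.H25.AS
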