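import Groth.Agent.H25.AlgSp82
import Groth.Prelude.Def_Dual3
import Mathlib.RingTheory.AlgebraicIndependent.Transcendental

/-!
# Algebraic spaces toolkit, part 83: residue transcendence degree at closed points
-/

set_option linter.style.haveILetI false

universe u

open CategoryTheory CategoryTheory.Limits AlgebraicGeometry Opposite AlgSp MorphismProperty
open Topology

namespace Groth.Agent.H25.AS

/-- A point of a scheme etale over `U` lying over a closed point is closed. -/
theorem isClosed_singleton_of_etale_over_closed {P U : Scheme.{u}} (s : P ⟶ U) [Etale s] (p : P)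
    (hu : IsClosed ({s p} : Set U)) : IsClosed ({p} : Set P) := by
  have : LocallyQuasiFinite s := lqf_of_unram s
  have hd : _root_.IsDiscrete (s ⁻¹' {s p}) := s.isDiscrete_preimage_singleton (s p)
  have hcl : IsClosed (s ⁻¹' {s p}) := hu.preimage s.continuous
  rw [← closure_subset_iff_isClosed]
  intro w hw
  have hwf : w ∈ s ⁻¹' {s p} := (hcl.closure_subset_iff.2 (Set.singleton_subset_iff.2 rfl)) hw
  have hsp : p ⤳ w := specializes_iff_mem_closure.2 hw
  have hsp' : (⟨p, rfl⟩ : s ⁻¹' {s p}) ⤳ ⟨w, hwf⟩ :=
    (Topology.IsInducing.subtypeVal.specializes_iff).1 hsp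
  have := hd.to_subtype
  have h := hsp'.eq
  exact (congrArg Subtype.val h).symm

/-- At a closed point of a scheme locally of finite type over `V` the residue field extension is
algebraic. -/
theorem resTrdeg_eq_zero_of_isClosed {P V : Scheme.{u}} (h : P ⟶ V) [LocallyOfFiniteType h] (p : P)
    (hcl : IsClosed ({p} : Set P)) : Dual3.resTrdeg h p = 0 := by
  have hci : IsClosedImmersion (P.fromSpecResidueField p) :=
    isClosed_singleton_iff_isClosedImmersion.1 hcl
  have h1 : LocallyOfFiniteType (P.fromSpecResidueField p ≫ h) := inferInstance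
  rw [← Scheme.Hom.SpecMap_residueFieldMap_fromSpecResidueField] at h1
  have h2 : LocallyOfFiniteType (Spec.map (h.residueFieldMap p)) :=
    locallyOfFiniteType_of_comp _ (V.fromSpecResidueField (h p))
  have h3 : (h.residueFieldMap p).hom.FiniteType :=
    (HasRingHomProperty.Spec_iff (P := @LocallyOfFiniteType)).1 h2
  unfold Dual3.resTrdeg
  letI := (h.residueFieldMap p).hom.toAlgebra
  haveI : Algebra.FiniteType (V.residueField (h p)) (P.residueField p) := h3
  haveI : Module.Finite (V.residueField (h p)) (P.residueField p) :=
    finite_of_finite_type_of_isJacobsonRing _ _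
  haveI : Algebra.IsAlgebraic (V.residueField (h p)) (P.residueField p) :=
    Algebra.IsAlgebraic.of_finite _ _
  exact _root_.trdeg_eq_zero

end Groth.Agent.H25.AS
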