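import Groth.Agent.H25.AlgSp83
import Mathlib.RingTheory.AlgebraicIndependent.TranscendenceBasis

/-!
# Algebraic spaces toolkit, part 84: calculus of residue transcendence degrees
-/

set_option linter.style.haveILetI false

universe u

open CategoryTheory CategoryTheory.Limits AlgebraicGeometry Opposite AlgSp MorphismProperty
open Topology

namespace Groth.Agent.H25.AS

theorem resTrdeg_comp {X Y Z : Scheme.{u}} (f : X ⟶ Y) (g : Y ⟶ Z) (x : X) :
    Dual3.resTrdeg (f ≫ g) x = Dual3.resTrdeg g (f x) + Dual3.resTrdeg f x := by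
  unfold Dual3.resTrdeg
  letI i1 : Algebra (Z.residueField (g (f x))) (Y.residueField (f x)) :=
    (g.residueFieldMap (f x)).hom.toAlgebra
  letI i2 : Algebra (Y.residueField (f x)) (X.residueField x) := (f.residueFieldMap x).hom.toAlgebra
  letI i3 : Algebra (Z.residueField (g (f x))) (X.residueField x) :=
    ((f ≫ g).residueFieldMap x).hom.toAlgebra
  haveI : IsScalarTower (Z.residueField (g (f x))) (Y.residueField (f x)) (X.residueField x) :=
    IsScalarTower.of_algebraMap_eq' (by
      change ((f ≫ g).residueFieldMap x).hom = (f.residueFieldMap x).hom.comp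
        (g.residueFieldMap (f x)).hom
      rw [Scheme.residueFieldMap_comp]
      rfl)
  haveI : FaithfulSMul (Z.residueField (g (f x))) (Y.residueField (f x)) :=
    (faithfulSMul_iff_algebraMap_injective _ _).2 (RingHom.injective _)
  haveI : FaithfulSMul (Y.residueField (f x)) (X.residueField x) :=
    (faithfulSMul_iff_algebraMap_injective _ _).2 (RingHom.injective _)
  exact (_root_.trdeg_add_eq (R := Z.residueField (g (f x))) (S := Y.residueField (f x))
    (A := X.residueField x)).symm

theorem resTrdeg_congr {X Y : Scheme.{u}} {f g : X ⟶ Y} (e : f = g) (x : X) :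
    Dual3.resTrdeg f x = Dual3.resTrdeg g x := by
  subst e; rfl

theorem resTrdeg_eq_zero_of_surjectiveOnStalks {X Y : Scheme.{u}} (f : X ⟶ Y)
    [SurjectiveOnStalks f] (x : X) : Dual3.resTrdeg f x = 0 := by
  unfold Dual3.resTrdeg
  letI := (f.residueFieldMap x).hom.toAlgebra
  have hsurj : Function.Surjective (algebraMap (Y.residueField (f x)) (X.residueField x)) := by
    intro y
    obtain ⟨z, rfl⟩ := IsLocalRing.residue_surjective y
    obtain ⟨w, rfl⟩ := f.stalkMap_surjective x z
    refine ⟨IsLocalRing.residue _ w, ?_⟩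
    exact IsLocalRing.ResidueField.map_residue (f.stalkMap x).hom w
  haveI : Algebra.IsAlgebraic (Y.residueField (f x)) (X.residueField x) :=
    ⟨fun y => by obtain ⟨z, rfl⟩ := hsurj y; exact isAlgebraic_algebraMap z⟩
  exact _root_.trdeg_eq_zero

theorem resTrdeg_eq_zero_of_lqf {X Y : Scheme.{u}} (f : X ⟶ Y) [LocallyQuasiFinite f]
    [LocallyOfFiniteType f] (x : X) : Dual3.resTrdeg f x = 0 := by
  have h1 := resTrdeg_comp (f.fiberι (f x)) f (f.asFiber x)
  have h2 := resTrdeg_congr (f.fiber_fac (f x)) (f.asFiber x)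
  have h3 := resTrdeg_comp (f.fiberToSpecResidueField (f x)) (Y.fromSpecResidueField (f x))
    (f.asFiber x)
  have h4 : Dual3.resTrdeg (Y.fromSpecResidueField (f x))
      (f.fiberToSpecResidueField (f x) (f.asFiber x)) = 0 :=
    resTrdeg_eq_zero_of_surjectiveOnStalks _ _
  have hlft : LocallyOfFiniteType (f.fiberToSpecResidueField (f x)) :=
    MorphismProperty.pullback_snd _ _ inferInstance
  have h5 : Dual3.resTrdeg (f.fiberToSpecResidueField (f x)) (f.asFiber x) = 0 :=
    resTrdeg_eq_zero_of_isClosed _ _ (isClosed_discrete _)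
  rw [h2, h3, h4, h5, add_zero, f.fiberι_asFiber] at h1
  have := h1.symm
  rw [add_eq_zero] at this
  exact this.1

theorem resTrdeg_eq_zero_of_etale {X Y : Scheme.{u}} (f : X ⟶ Y) [Etale f] (x : X) :
    Dual3.resTrdeg f x = 0 := by
  have : LocallyQuasiFinite f := lqf_of_unram f
  exact resTrdeg_eq_zero_of_lqf f x

end Groth.Agent.H25.AS
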