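import Groth.Agent.H25.AlgSp84

/-!
# Algebraic spaces toolkit, part 85: residue transcendence degree is independent of the chart
-/

set_option linter.style.haveILetI false

universe u

open CategoryTheory CategoryTheory.Limits AlgebraicGeometry Opposite AlgSp MorphismProperty
open Topology

namespace Groth.Agent.H25.AS

variable {S : Scheme.{u}}

/-- A chart of `X` through `x` mapping to a prescribed chart point of `Y`. -/
theorem exists_chart_through {X Y : Sp S} (hX : IsAlgSpace X) (f : X ⟶ Y) (x : Points X)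
    {V : Over S} (b : (yon S).obj V ⟶ Y) (hb : RepWith @Etale b) (v : ↥V.left)
    (hv : Points.ofPt b v = Points.map f x) :
    ∃ (U : Over S) (a : (yon S).obj U ⟶ X) (k : U ⟶ V) (u : ↥U.left), RepWith @Etale a ∧
      a ≫ f = (yon S).map k ≫ b ∧ Points.ofPt a u = x ∧ k.left u = v := by
  obtain ⟨U₀, a₀, ha₀e, ha₀s⟩ := hX.atlas
  obtain ⟨u₀, hu₀⟩ := ofPt_surjective a₀ ha₀s x
  have sq := hb.rep.isPullback' (a₀ ≫ f)
  have hsnd : Etale (hb.rep.snd (a₀ ≫ f)).left := hb.property_snd (a₀ ≫ f)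
  have e : Points.ofPt (a₀ ≫ f) u₀ = Points.ofPt b v := by
    rw [hv, ← hu₀, Points.map_ofPt]
  obtain ⟨p, hp1, hp2⟩ := exists_point_of_isPullback' sq u₀ v e
  refine ⟨_, (yon S).map (hb.rep.snd (a₀ ≫ f)) ≫ a₀, hb.rep.fst' (a₀ ≫ f), p,
    repWith_etale_comp ((repWith_yon_map_iff @Etale _).2 hsnd) ha₀e, ?_, ?_, hp2⟩
  · rw [Category.assoc]; exact sq.w.symm
  · rw [ofPt_map_comp, hp1, hu₀]

/-- The residue transcendence degree of a chart diagram through a point does not depend on the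
chart diagram. -/
theorem resTrdeg_chart_indep {X Y : Sp S} (f : X ⟶ Y)
    {U₁ V₁ U₂ V₂ : Over S} (a₁ : (yon S).obj U₁ ⟶ X) (b₁ : (yon S).obj V₁ ⟶ Y) (h₁ : U₁ ⟶ V₁)
    (a₂ : (yon S).obj U₂ ⟶ X) (b₂ : (yon S).obj V₂ ⟶ Y) (h₂ : U₂ ⟶ V₂)
    (ha₁ : RepWith @Etale a₁) (hb₁ : RepWith @Etale b₁) (ha₂ : RepWith @Etale a₂)
    (hb₂ : RepWith @Etale b₂) (c₁ : a₁ ≫ f = (yon S).map h₁ ≫ b₁)
    (c₂ : a₂ ≫ f = (yon S).map h₂ ≫ b₂) (u₁ : ↥U₁.left) (u₂ : ↥U₂.left)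
    (e : Points.ofPt a₁ u₁ = Points.ofPt a₂ u₂) :
    Dual3.resTrdeg h₁.left u₁ = Dual3.resTrdeg h₂.left u₂ := by
  have sqU := ha₁.rep.isPullback' a₂
  have sqV := hb₁.rep.isPullback' b₂
  have hq₂ : Etale (ha₁.rep.snd a₂).left := ha₁.property_snd a₂
  have hq₁ : Etale (ha₁.rep.fst' a₂).left :=
    (repWith_yon_map_iff @Etale _).1 (repWith_fst_of_isPullback sqU ha₂)
  have hpr₂ : Etale (hb₁.rep.snd b₂).left := hb₁.property_snd b₂
  have hpr₁ : Etale (hb₁.rep.fst' b₂).left :=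
    (repWith_yon_map_iff @Etale _).1 (repWith_fst_of_isPullback sqV hb₂)
  obtain ⟨u₃, hu₃2, hu₃1⟩ := exists_point_of_isPullback' sqU u₂ u₁ e.symm
  have comm : (yon S).map (ha₁.rep.fst' a₂ ≫ h₁) ≫ b₁ =
      (yon S).map (ha₁.rep.snd a₂ ≫ h₂) ≫ b₂ := by
    rw [Functor.map_comp, Functor.map_comp, Category.assoc, Category.assoc, ← c₁, ← c₂,
      ← Category.assoc, ← Category.assoc, sqU.w]
  obtain ⟨h₃, hh₃⟩ := (yon S).map_surjective (sqV.lift _ _ comm)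
  have e1 : h₃ ≫ hb₁.rep.fst' b₂ = ha₁.rep.fst' a₂ ≫ h₁ := by
    apply (yon S).map_injective
    rw [Functor.map_comp, hh₃, sqV.lift_fst]
  have e2 : h₃ ≫ hb₁.rep.snd b₂ = ha₁.rep.snd a₂ ≫ h₂ := by
    apply (yon S).map_injective
    rw [Functor.map_comp, hh₃, sqV.lift_snd]
  have e1' : h₃.left ≫ (hb₁.rep.fst' b₂).left = (ha₁.rep.fst' a₂).left ≫ h₁.left := by
    rw [← Over.comp_left, e1, Over.comp_left]
  have e2' : h₃.left ≫ (hb₁.rep.snd b₂).left = (ha₁.rep.snd a₂).left ≫ h₂.left := by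
    rw [← Over.comp_left, e2, Over.comp_left]
  have t1 := resTrdeg_comp (ha₁.rep.fst' a₂).left h₁.left u₃
  have t1' := resTrdeg_comp h₃.left (hb₁.rep.fst' b₂).left u₃
  have t2 := resTrdeg_comp (ha₁.rep.snd a₂).left h₂.left u₃
  have t2' := resTrdeg_comp h₃.left (hb₁.rep.snd b₂).left u₃
  rw [resTrdeg_eq_zero_of_etale (ha₁.rep.fst' a₂).left u₃, add_zero, hu₃1] at t1
  rw [resTrdeg_eq_zero_of_etale (ha₁.rep.snd a₂).left u₃, add_zero, hu₃2] at t2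
  rw [resTrdeg_eq_zero_of_etale (hb₁.rep.fst' b₂).left, zero_add, resTrdeg_congr e1', t1] at t1'
  rw [resTrdeg_eq_zero_of_etale (hb₁.rep.snd b₂).left, zero_add, resTrdeg_congr e2', t2] at t2'
  exact t1'.trans t2'.symm

end Groth.Agent.H25.AS
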