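import Groth.Agent.H25.AlgSp85
import Groth.Prelude.Def_Flat
import Mathlib.Topology.KrullDimension

/-!
# Algebraic spaces toolkit, part 86: isolated points of fibres and fibre dimension zero
-/

set_option linter.style.haveILetI false

universe u

open CategoryTheory CategoryTheory.Limits AlgebraicGeometry Opposite AlgSp MorphismProperty
open Topology

namespace Groth.Agent.H25.AS

theorem withBot_enat_one_le_of_not_le_zero {a : WithBot ℕ∞} (h : ¬ a ≤ 0) : 1 ≤ a := by
  induction a using WithBot.recBotCoe with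
  | bot => exact absurd bot_le h
  | coe n =>
    have hn : n ≠ 0 := by
      rintro rfl
      exact h le_rfl
    have : (1 : ℕ∞) ≤ n := Order.one_le_iff_ne_zero.2 hn
    exact_mod_cast this

/-- If the local dimension at `p` vanishes then some open neighbourhood has Krull dimension `≤ 0`. -/
theorem exists_open_dim_le_zero_of_localDim_eq_zero {F : Type*} [TopologicalSpace F] (p : F)
    (h : FlatMor.localDim F p = 0) :
    ∃ U : TopologicalSpace.Opens F, p ∈ U ∧ topologicalKrullDim (U : Set F) ≤ 0 := by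
  by_contra hcon
  push Not at hcon
  have h1 : (1 : WithBot ℕ∞) ≤ FlatMor.localDim F p := by
    unfold FlatMor.localDim
    refine le_iInf fun U => ?_
    exact withBot_enat_one_le_of_not_le_zero (not_le.2 (hcon U.1 U.2))
  rw [h] at h1
  exact absurd h1 (by decide)

theorem localDim_eq_zero_of_isOpen_singleton {F : Type*} [TopologicalSpace F] (p : F)
    (h : IsOpen ({p} : Set F)) : FlatMor.localDim F p = 0 := by
  unfold FlatMor.localDim
  apply le_antisymm
  · refine (iInf_le _ (⟨⟨{p}, h⟩, rfl⟩ : {U : TopologicalSpace.Opens F // p ∈ U})).trans ?_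
    have : DiscreteTopology (({p} : Set F)) := inferInstance
    exact topologicalKrullDim_zero_of_discreteTopology _
  · refine le_iInf fun U => ?_
    have : Nonempty (TopologicalSpace.IrreducibleCloseds (U.1 : Set F)) :=
      ⟨⟨closure {⟨p, U.2⟩}, isIrreducible_singleton.closure, isClosed_closure⟩⟩
    exact Order.krullDim_nonneg

/-- In a locally Noetherian scheme a point of local dimension zero is isolated. -/
theorem isOpen_singleton_of_localDim_eq_zero {F : Scheme.{u}} [IsLocallyNoetherian F] (p : F)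
    (h : FlatMor.localDim F p = 0) : IsOpen ({p} : Set F) := by
  obtain ⟨U₀, hpU, hdim⟩ := exists_open_dim_le_zero_of_localDim_eq_zero p h
  let U : F.Opens := U₀
  have hmax := Order.krullDim_nonpos_iff_forall_isMax.1 hdim
  have hsp : ∀ w w' : (U : Scheme.{u}), w' ⤳ w → w = w' := by
    intro w w' hww
    let Zw : TopologicalSpace.IrreducibleCloseds ↥U :=
      ⟨closure {w}, isIrreducible_singleton.closure, isClosed_closure⟩
    let Zw' : TopologicalSpace.IrreducibleCloseds ↥U :=
      ⟨closure {w'}, isIrreducible_singleton.closure, isClosed_closure⟩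
    have hle : Zw ≤ Zw' := by
      change closure {w} ⊆ closure {w'}
      exact closure_minimal (Set.singleton_subset_iff.2 (specializes_iff_mem_closure.1 hww))
        isClosed_closure
    have hge : Zw' ≤ Zw := hmax Zw hle
    have h2 : w ⤳ w' := specializes_iff_mem_closure.2 (hge (subset_closure rfl))
    exact (h2.antisymm hww).eq
  have hN : IsLocallyNoetherian (U : Scheme.{u}) := isLocallyNoetherian_of_isOpenImmersion U.ι
  have hd : DiscreteTopology (U : Scheme.{u}) := discreteTopology_of_no_specializations hsp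
  have h1 : IsOpen ({⟨p, hpU⟩} : Set ↥U₀) := isOpen_discrete (α := (U : Scheme.{u})) _
  have h2 : IsOpen (Subtype.val '' ({⟨p, hpU⟩} : Set ↥U₀)) := U₀.2.isOpenMap_subtype_val _ h1
  rwa [Set.image_singleton] at h2

/-- `x` is isolated in its fibre under `f` (a purely topological condition). -/
def IsolatedInFibre {X Y : Scheme.{u}} (f : X ⟶ Y) (x : X) : Prop :=
  ∃ O : X.Opens, x ∈ O ∧ ∀ x' ∈ O, f x' = f x → x' = x

theorem isolatedInFibre_iff_isOpen_asFiber {X Y : Scheme.{u}} (f : X ⟶ Y) (x : X) :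
    IsolatedInFibre f x ↔ IsOpen ({f.asFiber x} : Set (f.fiber (f x))) := by
  rw [← (f.fiberHomeo (f x)).isOpen_image]
  simp only [Set.image_singleton, Scheme.Hom.asFiber, Homeomorph.apply_symm_apply]
  rw [isOpen_induced_iff]
  constructor
  · rintro ⟨O, hxO, hO⟩
    refine ⟨O, O.2, ?_⟩
    ext ⟨x', hx'⟩
    simp only [Set.mem_preimage, Set.mem_singleton_iff, Subtype.mk.injEq]
    exact ⟨fun h => hO x' h hx', fun h => h ▸ hxO⟩
  · rintro ⟨t, ht, hts⟩
    refine ⟨⟨t, ht⟩, ?_, ?_⟩
    · have : (⟨x, rfl⟩ : f ⁻¹' {f x}) ∈ Subtype.val ⁻¹' t := by rw [hts]; rfl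
      exact this
    · intro x' hx't hx'
      have : (⟨x', hx'⟩ : f ⁻¹' {f x}) ∈ Subtype.val ⁻¹' t := hx't
      rw [hts] at this
      exact congrArg Subtype.val this

theorem quasiFiniteAt_iff_isolatedInFibre {X Y : Scheme.{u}} (f : X ⟶ Y) [LocallyOfFiniteType f]
    (x : X) : f.QuasiFiniteAt x ↔ IsolatedInFibre f x := by
  rw [isolatedInFibre_iff_isOpen_asFiber, Scheme.Hom.quasiFiniteAt_iff_isOpen_singleton_asFiber]

theorem fibreDimAt_eq_zero_iff {X Y : Scheme.{u}} (f : X ⟶ Y) [LocallyOfFiniteType f] (x : X) :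
    FlatMor.fibreDimAt f x = 0 ↔ IsolatedInFibre f x := by
  rw [isolatedInFibre_iff_isOpen_asFiber]
  unfold FlatMor.fibreDimAt
  have hlft : LocallyOfFiniteType (f.fiberToSpecResidueField (f x)) :=
    MorphismProperty.pullback_snd _ _ inferInstance
  have hN : IsLocallyNoetherian (f.fiber (f x)) :=
    LocallyOfFiniteType.isLocallyNoetherian (f.fiberToSpecResidueField (f x))
  exact ⟨fun h => isOpen_singleton_of_localDim_eq_zero _ h,
    fun h => localDim_eq_zero_of_isOpen_singleton _ h⟩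

theorem IsolatedInFibre.comp {X Y Z : Scheme.{u}} {f : X ⟶ Y} {g : Y ⟶ Z} {x : X}
    (hf : IsolatedInFibre f x) (hg : IsolatedInFibre g (f x)) : IsolatedInFibre (f ≫ g) x := by
  obtain ⟨O₁, hx₁, h₁⟩ := hf
  obtain ⟨O₂, hx₂, h₂⟩ := hg
  refine ⟨O₁ ⊓ f ⁻¹ᵁ O₂, ⟨hx₁, hx₂⟩, fun x' hx' e => ?_⟩
  exact h₁ x' hx'.1 (h₂ (f x') hx'.2 e)

theorem IsolatedInFibre.of_comp {X Y Z : Scheme.{u}} {f : X ⟶ Y} {g : Y ⟶ Z} {x : X}
    (h : IsolatedInFibre (f ≫ g) x) : IsolatedInFibre f x := by
  obtain ⟨O, hx, hO⟩ := h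
  exact ⟨O, hx, fun x' hx' e => hO x' hx' (by
    change g (f x') = g (f x)
    rw [e])⟩

theorem IsolatedInFibre.of_comp_of_isOpenMap {X Y Z : Scheme.{u}} {f : X ⟶ Y} {g : Y ⟶ Z} {x : X}
    (hf : IsOpenMap f) (h : IsolatedInFibre (f ≫ g) x) : IsolatedInFibre g (f x) := by
  obtain ⟨O, hx, hO⟩ := h
  refine ⟨⟨f '' O, hf _ O.2⟩, ⟨x, hx, rfl⟩, ?_⟩
  rintro _ ⟨x', hx', rfl⟩ e
  rw [hO x' hx' e]

theorem isolatedInFibre_of_lqf {X Y : Scheme.{u}} (f : X ⟶ Y) [LocallyQuasiFinite f] (x : X) :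
    IsolatedInFibre f x := by
  have hd := f.isDiscrete_preimage_singleton (f x)
  have := hd.to_subtype
  have h1 : IsOpen ({⟨x, rfl⟩} : Set (f ⁻¹' {f x})) := isOpen_discrete _
  rw [isOpen_induced_iff] at h1
  obtain ⟨t, ht, hts⟩ := h1
  refine ⟨⟨t, ht⟩, ?_, ?_⟩
  · have : (⟨x, rfl⟩ : f ⁻¹' {f x}) ∈ Subtype.val ⁻¹' t := by rw [hts]; rfl
    exact this
  · intro x' hx't hx'
    have : (⟨x', hx'⟩ : f ⁻¹' {f x}) ∈ Subtype.val ⁻¹' t := hx't
    rw [hts] at this
    exact congrArg Subtype.val this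

theorem isolatedInFibre_of_etale {X Y : Scheme.{u}} (f : X ⟶ Y) [Etale f] (x : X) :
    IsolatedInFibre f x := by
  have : LocallyQuasiFinite f := lqf_of_unram f
  exact isolatedInFibre_of_lqf f x

end Groth.Agent.H25.AS
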