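import Groth.Agent.H25.AlgSp86

/-!
# Algebraic spaces toolkit, part 87: pointwise properties that are etale local
-/

set_option linter.style.haveILetI false

universe u

open CategoryTheory CategoryTheory.Limits AlgebraicGeometry Opposite AlgSp MorphismProperty
open Topology

namespace Groth.Agent.H25.AS

variable {S : Scheme.{u}}

/-- A property of a morphism of schemes at a point which is etale local on source and target. -/
structure EtLocAt (Q : ∀ (U V : Scheme.{u}), (U ⟶ V) → ↥U → Prop) : Prop where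
  src : ∀ {U' U V : Scheme.{u}} (q : U' ⟶ U) [Etale q] (h : U ⟶ V) (u' : ↥U'),
    Q U' V (q ≫ h) u' ↔ Q U V h (q u')
  tgt : ∀ {U V' V : Scheme.{u}} (h : U ⟶ V') (p : V' ⟶ V) [Etale p] (u : ↥U),
    Q U V (h ≫ p) u ↔ Q U V' h u

theorem EtLocAt.congr {Q : ∀ (U V : Scheme.{u}), (U ⟶ V) → ↥U → Prop} {U V : Scheme.{u}}
    {f g : U ⟶ V} (e : f = g) (u : ↥U) : Q U V f u ↔ Q U V g u := by
  subst e; rfl

/-- An etale local pointwise property does not depend on the chart diagram. -/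
theorem EtLocAt.chart_indep {Q : ∀ (U V : Scheme.{u}), (U ⟶ V) → ↥U → Prop} (hQ : EtLocAt Q)
    {X Y : Sp S} (f : X ⟶ Y)
    {U₁ V₁ U₂ V₂ : Over S} (a₁ : (yon S).obj U₁ ⟶ X) (b₁ : (yon S).obj V₁ ⟶ Y) (h₁ : U₁ ⟶ V₁)
    (a₂ : (yon S).obj U₂ ⟶ X) (b₂ : (yon S).obj V₂ ⟶ Y) (h₂ : U₂ ⟶ V₂)
    (ha₁ : RepWith @Etale a₁) (hb₁ : RepWith @Etale b₁) (ha₂ : RepWith @Etale a₂)
    (hb₂ : RepWith @Etale b₂) (c₁ : a₁ ≫ f = (yon S).map h₁ ≫ b₁)
    (c₂ : a₂ ≫ f = (yon S).map h₂ ≫ b₂) (u₁ : ↥U₁.left) (u₂ : ↥U₂.left)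
    (e : Points.ofPt a₁ u₁ = Points.ofPt a₂ u₂) :
    Q U₁.left V₁.left h₁.left u₁ ↔ Q U₂.left V₂.left h₂.left u₂ := by
  have sqU := ha₁.rep.isPullback' a₂
  have sqV := hb₁.rep.isPullback' b₂
  have hq₂ : Etale (ha₁.rep.snd a₂).left := ha₁.property_snd a₂
  have hq₁ : Etale (ha₁.rep.fst' a₂).left :=
    (repWith_yon_map_iff @Etale _).1 (repWith_fst_of_isPullback sqU ha₂)
  have hpr₂ : Etale (hb₁.rep.snd b₂).left := hb₁.property_snd b₂
  have hpr₁ : Etale (hb₁.rep.fst' b₂).left :=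
    (repWith_yon_map_iff @Etale _).1 (repWith_fst_of_isPullback sqV hb₂)
  obtain ⟨u₃, hu₃2, hu₃1⟩ := exists_point_of_isPullback' sqU u₂ u₁ e.symm
  have comm : (yon S).map (ha₁.rep.fst' a₂ ≫ h₁) ≫ b₁ =
      (yon S).map (ha₁.rep.snd a₂ ≫ h₂) ≫ b₂ := by
    rw [Functor.map_comp, Functor.map_comp, Category.assoc, Category.assoc, ← c₁, ← c₂,
      ← Category.assoc, ← Category.assoc, sqU.w]
  obtain ⟨h₃, hh₃⟩ := (yon S).map_surjective (sqV.lift _ _ comm)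
  have e1 : h₃ ≫ hb₁.rep.fst' b₂ = ha₁.rep.fst' a₂ ≫ h₁ := by
    apply (yon S).map_injective
    rw [Functor.map_comp, hh₃, sqV.lift_fst]
  have e2 : h₃ ≫ hb₁.rep.snd b₂ = ha₁.rep.snd a₂ ≫ h₂ := by
    apply (yon S).map_injective
    rw [Functor.map_comp, hh₃, sqV.lift_snd]
  have e1' : h₃.left ≫ (hb₁.rep.fst' b₂).left = (ha₁.rep.fst' a₂).left ≫ h₁.left := by
    rw [← Over.comp_left, e1, Over.comp_left]
  have e2' : h₃.left ≫ (hb₁.rep.snd b₂).left = (ha₁.rep.snd a₂).left ≫ h₂.left := by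
    rw [← Over.comp_left, e2, Over.comp_left]
  have t1 := hQ.src (ha₁.rep.fst' a₂).left h₁.left u₃
  have t1' := hQ.tgt h₃.left (hb₁.rep.fst' b₂).left u₃
  have t2 := hQ.src (ha₁.rep.snd a₂).left h₂.left u₃
  have t2' := hQ.tgt h₃.left (hb₁.rep.snd b₂).left u₃
  rw [hu₃1] at t1
  rw [hu₃2] at t2
  have s1 : Q _ _ ((ha₁.rep.fst' a₂).left ≫ h₁.left) u₃ ↔ Q _ _ (h₃.left ≫ (hb₁.rep.fst' b₂).left) u₃ :=
    (EtLocAt.congr (Q := Q) e1' u₃).symm
  have s2 : Q _ _ (h₃.left ≫ (hb₁.rep.snd b₂).left) u₃ ↔ Q _ _ ((ha₁.rep.snd a₂).left ≫ h₂.left) u₃ :=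
    EtLocAt.congr (Q := Q) e2' u₃
  exact t1.symm.trans (s1.trans (t1'.trans (t2'.symm.trans (s2.trans t2))))

/-- For an etale local pointwise property, existence of a chart diagram with the property implies
the property for every chart diagram. -/
theorem EtLocAt.of_hasAtMor {Q : ∀ (U V : Scheme.{u}), (U ⟶ V) → ↥U → Prop} (hQ : EtLocAt Q)
    {X Y : Sp S} (f : X ⟶ Y) (x : Points X) (h : HasAtMor Q f x)
    {U V : Over S} (a : (yon S).obj U ⟶ X) (b : (yon S).obj V ⟶ Y) (k : U ⟶ V)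
    (ha : RepWith @Etale a) (hb : RepWith @Etale b) (c : a ≫ f = (yon S).map k ≫ b) (u : ↥U.left)
    (hu : Points.ofPt a u = x) : Q U.left V.left k.left u := by
  obtain ⟨U₁, V₁, a₁, b₁, k₁, u₁, ha₁, hb₁, c₁, hu₁, hQ₁⟩ := h
  exact (hQ.chart_indep f a₁ b₁ k₁ a b k ha₁ hb₁ ha hb c₁ c u₁ u (hu₁.trans hu.symm)).1 hQ₁

theorem etLocAt_isolatedInFibre :
    EtLocAt (fun U V (h : U ⟶ V) u => IsolatedInFibre h u) where
  src q _ h u' := ⟨fun H => H.of_comp_of_isOpenMap q.isOpenMap,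
    fun H => (isolatedInFibre_of_etale q u').comp H⟩
  tgt h p _ u := ⟨fun H => H.of_comp, fun H => H.comp (isolatedInFibre_of_etale p (h u))⟩

theorem etLocAt_resTrdeg (r : Cardinal.{u}) :
    EtLocAt (fun U V (h : U ⟶ V) u => Dual3.resTrdeg h u = r) where
  src q _ h u' := by
    rw [resTrdeg_comp, resTrdeg_eq_zero_of_etale q u', add_zero]
  tgt h p _ u := by
    rw [resTrdeg_comp, resTrdeg_eq_zero_of_etale p (h u), zero_add]

end Groth.Agent.H25.AS
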