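import Groth.Agent.H25.AlgSp87
import Mathlib.AlgebraicGeometry.Noetherian

/-!
# Algebraic spaces toolkit, part 88: finiteness of isolated points in fibres
-/

set_option linter.style.haveILetI false

universe u

open CategoryTheory CategoryTheory.Limits AlgebraicGeometry Opposite AlgSp MorphismProperty
open Topology

namespace Groth.Agent.H25.AS

variable {S : Scheme.{u}}

/-- In a Noetherian space the set of isolated points is finite. -/
theorem finite_isOpen_singleton {F : Type*} [TopologicalSpace F] [TopologicalSpace.NoetherianSpace F] :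
    {p : F | IsOpen ({p} : Set F)}.Finite := by
  have hc : IsCompact {p : F | IsOpen ({p} : Set F)} :=
    TopologicalSpace.NoetherianSpace.isCompact _
  obtain ⟨t, ht⟩ := hc.elim_finite_subcover (fun p : {p : F | IsOpen ({p} : Set F)} => ({p.1} : Set F))
    (fun p => p.2) (fun p hp => Set.mem_iUnion.2 ⟨⟨p, hp⟩, rfl⟩)
  refine (t.finite_toSet.image Subtype.val).subset ?_
  intro p hp
  obtain ⟨q, hq, hpq⟩ := Set.mem_iUnion₂.1 (ht hp)
  exact ⟨q, hq, hpq.symm⟩

theorem finite_isolatedInFibre {U V : Scheme.{u}} (h : U ⟶ V) [LocallyOfFiniteType h]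
    [QuasiCompact h] (v : V) : {u : U | h u = v ∧ IsolatedInFibre h u}.Finite := by
  have hlft : LocallyOfFiniteType (h.fiberToSpecResidueField v) :=
    MorphismProperty.pullback_snd _ _ inferInstance
  have hN : IsLocallyNoetherian (h.fiber v) :=
    LocallyOfFiniteType.isLocallyNoetherian (h.fiberToSpecResidueField v)
  have hN' : IsNoetherian (h.fiber v) := { }
  have hfin := finite_isOpen_singleton (F := h.fiber v)
  refine (hfin.image (h.fiberι v)).subset ?_
  rintro u ⟨huv, O, huO, hO⟩
  have hur : u ∈ Set.range (h.fiberι v) := by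
    rw [h.range_fiberι]; exact huv
  obtain ⟨p, rfl⟩ := hur
  refine ⟨p, ?_, rfl⟩
  have : ({p} : Set (h.fiber v)) = (h.fiberι v) ⁻¹' (O : Set U) := by
    ext p'
    simp only [Set.mem_singleton_iff, Set.mem_preimage, SetLike.mem_coe]
    constructor
    · rintro rfl; exact huO
    · intro hp'
      have h1 : h.fiberι v p' ∈ h ⁻¹' {v} := by
        rw [← h.range_fiberι]; exact ⟨p', rfl⟩
      have h2 := hO _ hp' (h1.trans huv.symm)
      exact (h.fiberι v).isEmbedding.injective h2
  change IsOpen ({p} : Set (h.fiber v))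
  rw [this]
  exact O.2.preimage (h.fiberι v).continuous

theorem isolatedInFibre_of_qfNear {U V : Scheme.{u}} (h : U ⟶ V) (u : U)
    (H : ∃ W : U.Opens, u ∈ W ∧ LocallyQuasiFinite (W.ι ≫ h) ∧ LocallyOfFiniteType (W.ι ≫ h)) :
    IsolatedInFibre h u := by
  obtain ⟨W, huW, hq, -⟩ := H
  have h1 : IsolatedInFibre (W.ι ≫ h) ⟨u, huW⟩ := isolatedInFibre_of_lqf _ _
  exact h1.of_comp_of_isOpenMap W.ι.isOpenEmbedding.isOpenMap

theorem qfNear_of_isolatedInFibre {U V : Scheme.{u}} (h : U ⟶ V) [LocallyOfFiniteType h] (u : U)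
    (H : IsolatedInFibre h u) :
    ∃ W : U.Opens, u ∈ W ∧ LocallyQuasiFinite (W.ι ≫ h) ∧ LocallyOfFiniteType (W.ι ≫ h) :=
  ⟨h.quasiFiniteLocus, (quasiFiniteAt_iff_isolatedInFibre h u).2 H, inferInstance, inferInstance⟩

end Groth.Agent.H25.AS
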