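import Groth.Agent.H25.AlgSp88
import Mathlib.AlgebraicGeometry.Morphisms.UniversallyOpen

/-!
# Algebraic spaces toolkit, part 89: isolated points of fibres and base change
-/

set_option linter.style.haveILetI false

universe u

open CategoryTheory CategoryTheory.Limits AlgebraicGeometry Opposite AlgSp MorphismProperty
open Topology

namespace Groth.Agent.H25.AS

variable {S : Scheme.{u}}

/-- If a point of a base change is isolated in its fibre then so is its image. -/
theorem IsolatedInFibre.of_isPullback {P X Y Z : Scheme.{u}} {fst : P ⟶ X} {snd : P ⟶ Y}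
    {f : X ⟶ Z} {g : Y ⟶ Z} (sq : IsPullback fst snd f g) (p : P)
    (h : IsolatedInFibre snd p) : IsolatedInFibre f (fst p) := by
  have sq' := isPullback_fiberToSpecResidueField_of_isPullback sq (snd p)
  set m := pullback.map snd (Y.fromSpecResidueField (snd p)) f
    (Z.fromSpecResidueField (g (snd p))) fst (Spec.map (g.residueFieldMap (snd p))) g sq.w.symm
    (by simp) with hm
  have hUO : UniversallyOpen (Spec.map (g.residueFieldMap (snd p))) := inferInstance
  have hmUO : UniversallyOpen m := MorphismProperty.of_isPullback (P := @UniversallyOpen) sq'.flip hUO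
  have hmι : m ≫ f.fiberι (g (snd p)) = snd.fiberι (snd p) ≫ fst := by
    rw [hm]
    exact pullback.lift_fst _ _ _
  have hopen : IsOpen ({snd.asFiber p} : Set (snd.fiber (snd p))) :=
    (isolatedInFibre_iff_isOpen_asFiber snd p).1 h
  have hopen'' : IsOpen (m '' {snd.asFiber p}) := m.isOpenMap _ hopen
  have hopen' : IsOpen ({m (snd.asFiber p)} :
      Set ↥(pullback f (Z.fromSpecResidueField (g (snd p))))) := by
    convert hopen'' using 1
    exact (Set.image_singleton (f := m) (a := snd.asFiber p)).symm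
  obtain ⟨O, hO, hOe⟩ := (f.fiberι (g (snd p))).isEmbedding.isInducing.isOpen_iff.1 hopen'
  have hmp : f.fiberι (g (snd p)) (m (snd.asFiber p)) = fst p := by
    have h1 : (m ≫ f.fiberι (g (snd p))) (snd.asFiber p) =
        (snd.fiberι (snd p) ≫ fst) (snd.asFiber p) :=
      congrArg (fun φ : snd.fiber (snd p) ⟶ X => φ (snd.asFiber p)) hmι
    rw [Scheme.Hom.comp_apply, Scheme.Hom.comp_apply, snd.fiberι_asFiber] at h1
    exact h1
  have hfg : f (fst p) = g (snd p) := by
    rw [← Scheme.Hom.comp_apply, sq.w, Scheme.Hom.comp_apply]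
  refine ⟨⟨O, hO⟩, ?_, ?_⟩
  · have : m (snd.asFiber p) ∈ f.fiberι (g (snd p)) ⁻¹' O := by rw [hOe]; rfl
    rw [← hmp]; exact this
  · intro x' hx'O hx'
    have hx'r : x' ∈ Set.range (f.fiberι (g (snd p))) := by
      rw [f.range_fiberι]; exact hx'.trans hfg
    obtain ⟨q, rfl⟩ := hx'r
    have hq : q ∈ f.fiberι (g (snd p)) ⁻¹' O := hx'O
    rw [hOe] at hq
    rw [← hmp, hq]

theorem qfNear_baseChange_iff {U V V₁ U₁ : Scheme.{u}} {g' : U₁ ⟶ U} {h₁ : U₁ ⟶ V₁} {h : U ⟶ V}
    {g : V₁ ⟶ V} (sq : IsPullback g' h₁ h g) (hh : LocallyOfFiniteType h) (u₁ : ↥U₁) :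
    NearP (@LocallyQuasiFinite ⊓ @LocallyOfFiniteType) U₁ V₁ h₁ u₁ ↔
      NearP (@LocallyQuasiFinite ⊓ @LocallyOfFiniteType) U V h (g' u₁) := by
  constructor
  · rintro ⟨W₁, hu, hq, hl⟩
    have h1 : IsolatedInFibre h₁ u₁ := isolatedInFibre_of_qfNear h₁ u₁ ⟨W₁, hu, hq, hl⟩
    have h2 : IsolatedInFibre h (g' u₁) := h1.of_isPullback sq u₁
    obtain ⟨W, hW, h3, h4⟩ := qfNear_of_isolatedInFibre h (g' u₁) h2
    exact ⟨W, hW, h3, h4⟩
  · exact near_baseChange sq u₁

theorem localDim_nonneg {F : Type*} [TopologicalSpace F] (p : F) : 0 ≤ FlatMor.localDim F p := by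
  unfold FlatMor.localDim
  refine le_iInf fun U => ?_
  have : Nonempty (TopologicalSpace.IrreducibleCloseds (U.1 : Set F)) :=
    ⟨⟨closure {⟨p, U.2⟩}, isIrreducible_singleton.closure, isClosed_closure⟩⟩
  exact Order.krullDim_nonneg

theorem fibreDimAt_nonneg {X Y : Scheme.{u}} (f : X ⟶ Y) (x : X) : 0 ≤ FlatMor.fibreDimAt f x :=
  localDim_nonneg _

end Groth.Agent.H25.AS
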