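import Groth.Agent.H25.AlgSp8
import Mathlib.AlgebraicGeometry.Morphisms.FlatDescent
import Mathlib.AlgebraicGeometry.Morphisms.LocalFlatDescent

/-!
# Algebraic spaces toolkit, part 9: coverings, epimorphisms, descent of `RepWith`
-/

universe u

open CategoryTheory CategoryTheory.Limits AlgebraicGeometry Opposite AlgSp

namespace Groth.Agent.H25.AS

variable {S : Scheme.{u}}

instance fppfPrecoverage_hasIsos : Precoverage.HasIsos Scheme.fppfPrecoverage.{u} :=
  ⟨fun f _ => f.singleton_mem_fppfPrecoverage⟩

/-- A sieve on `T` containing a single fppf covering morphism is covering. -/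
theorem mem_J_of_fppf {T V : Over S} (r : V ⟶ T) [Flat r.left]
    [LocallyOfFinitePresentation r.left] [Surjective r.left] (R : Sieve T) (hr : R r) :
    R ∈ J S T := by
  rw [GrothendieckTopology.mem_over_iff]
  refine GrothendieckTopology.superset_covering _ ?_
    (Precoverage.generate_mem_toGrothendieck r.left.singleton_mem_fppfPrecoverage)
  rw [Sieve.generate_le_iff]
  rintro W φ ⟨⟩
  rw [Sieve.overEquiv_iff]
  have e : r.left ≫ T.hom = V.hom := Over.w r
  have : (Over.homMk r.left : Over.mk (r.left ≫ T.hom) ⟶ T) =
      (Over.homMk (𝟙 _) (by simp [e]) : Over.mk (r.left ≫ T.hom) ⟶ V) ≫ r := by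
    ext
    simp
  rw [this]
  exact R.downward_closed hr _

/-- A representable fppf covering is locally surjective as a map of sheaves. -/
theorem isLocallySurjective_of_repWith {F G : Sp S} (a : F ⟶ G) (h₁ : RepWith @Flat a)
    (h₂ : RepWith @LocallyOfFinitePresentation a) (h₃ : RepWith @Surjective a) :
    Sheaf.IsLocallySurjective a := by
  refine ⟨fun {T} s => ?_⟩
  let g : (yon S).obj T ⟶ G := yE.symm s
  have sq := h₁.rep.isPullback g
  have i1 : Flat (h₁.rep.snd g).left := h₁.property_snd g
  have i2 : LocallyOfFinitePresentation (h₁.rep.snd g).left := h₂.property g _ _ sq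
  have i3 : Surjective (h₁.rep.snd g).left := h₃.property g _ _ sq
  apply mem_J_of_fppf (h₁.rep.snd g)
  refine ⟨yE (h₁.rep.fst g), ?_⟩
  have h1 := (J S).uliftYonedaEquiv_comp.{u+1} (h₁.rep.fst g) a
  have h2 := (J S).uliftYonedaEquiv_naturality.{u+1} g (h₁.rep.snd g)
  rw [sq.w] at h1
  have h3 : yE g = s := Equiv.apply_symm_apply _ _
  rw [h3] at h2
  exact h1.symm.trans h2.symm

theorem isLocallySurjective_of_etale {F G : Sp S} (a : F ⟶ G) (h₁ : RepWith @Etale a)
    (h₃ : RepWith @Surjective a) : Sheaf.IsLocallySurjective a :=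
  isLocallySurjective_of_repWith a
    (repWith_mono (fun _ _ g (_ : Etale g) => (inferInstance : Flat g)) h₁)
    (repWith_mono (fun _ _ g (_ : Etale g) =>
      (inferInstance : LocallyOfFinitePresentation g)) h₁) h₃

theorem epi_of_etale {F G : Sp S} (a : F ⟶ G) (h₁ : RepWith @Etale a)
    (h₃ : RepWith @Surjective a) : Epi a := by
  have := isLocallySurjective_of_etale a h₁ h₃
  infer_instance

/-- Descent of `RepWith P` along a locally surjective base change, for `P` fppf local on the
target. -/
theorem repWith_of_isLocallySurjective_base {F G H Q : Sp S} (a : F ⟶ G) (ha : Representable a)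
    (b : H ⟶ G) [Sheaf.IsLocallySurjective b] (b' : Q ⟶ F) (a' : Q ⟶ H)
    (sq : IsPullback b' a' a b) (P : MorphismProperty Scheme.{u}) [P.IsStableUnderBaseChange]
    [P.IsLocalAtTarget Scheme.fppfPrecoverage] (h : RepWith P a') : RepWith P a := by
  have : P.RespectsIso := MorphismProperty.IsStableUnderBaseChange.respectsIso
  refine ⟨ha, fun U V g fst snd sqg => ?_⟩
  have hcov := Presheaf.imageSieve_mem (J S) b.hom (U := op U) (yE g)
  rw [GrothendieckTopology.mem_over_iff,
    Precoverage.mem_toGrothendieck_iff_of_isStableUnderComposition] at hcov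
  obtain ⟨R, hR, hle⟩ := hcov
  show P snd.left
  apply MorphismProperty.IsLocalAtTarget.of_forall_pullbackSnd hR
  intro W φ _ hφ
  have hφ' := hle _ _ hφ
  rw [Sieve.overEquiv_iff] at hφ'
  obtain ⟨t, ht⟩ := hφ'
  let U' : Over S := Over.mk (φ ≫ U.hom)
  let φ' : U' ⟶ U := Over.homMk φ rfl
  let τ : (yon S).obj U' ⟶ H := yE.symm t
  have hτ : τ ≫ b = (yon S).map φ' ≫ g := by
    apply yE.injective
    have h1 := (J S).uliftYonedaEquiv_comp.{u+1} τ b
    have h2 := (J S).uliftYonedaEquiv_naturality.{u+1} g φ'
    have h3 : yE τ = t := Equiv.apply_symm_apply _ _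
    rw [h3] at h1
    exact h1.trans (ht.trans h2)
  have sqV := (IsPullback.of_hasPullback snd φ').map (yon S)
  have big := sqV.paste_horiz sqg
  rw [← hτ] at big
  have key := IsPullback.of_right' big sq
  have hP : P (pullback.snd snd φ').left := h.property τ _ _ key
  have sqS := (IsPullback.of_hasPullback snd φ').map (Over.forget S)
  have e : (pullback.snd snd φ').left = sqS.isoPullback.hom ≫ pullback.snd snd.left φ :=
    (sqS.isoPullback_hom_snd).symm
  rw [e] at hP
  exact (P.cancel_left_of_respectsIso _ _).1 hP

/-- Chart criterion: for a representable morphism, `RepWith P` can be checked on one étale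
surjective chart of the target (for `P` fppf local on the target). -/
theorem repWith_iff_of_chart {F G : Sp S} (f : F ⟶ G) (hf : Representable f) {U V : Over S}
    (q : (yon S).obj U ⟶ G) (hqe : RepWith @Etale q) (hqs : RepWith @Surjective q)
    (fst : (yon S).obj V ⟶ F) (g : V ⟶ U) (sq : IsPullback fst ((yon S).map g) f q)
    (P : MorphismProperty Scheme.{u}) [P.IsStableUnderBaseChange]
    [P.IsLocalAtTarget Scheme.fppfPrecoverage] : RepWith P f ↔ P g.left := by
  constructor
  · intro h
    exact h.property q fst g sq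
  · intro h
    have := isLocallySurjective_of_etale q hqe hqs
    exact repWith_of_isLocallySurjective_base f hf q fst _ sq P ((repWith_yon_map_iff P g).2 h)

end Groth.Agent.H25.AS
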