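import Groth.Agent.H25.AlgSp89
import Mathlib.RingTheory.Ideal.GoingDown
import Mathlib.RingTheory.KrullDimension.Basic
import Mathlib.AlgebraicGeometry.Morphisms.Flat

/-!
# Algebraic spaces toolkit, part 90: dimensions of local rings along quasi-finite and flat maps
-/

set_option linter.style.haveILetI false

universe u

open CategoryTheory CategoryTheory.Limits AlgebraicGeometry Opposite AlgSp MorphismProperty
open Topology

namespace Groth.Agent.H25.AS

theorem ringKrullDim_le_of_quasiFinite (R S : Type*) [CommRing R] [CommRing S] [Algebra R S]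
    [Algebra.QuasiFinite R S] : ringKrullDim S ≤ ringKrullDim R := by
  refine Order.krullDim_le_of_strictMono (fun I : PrimeSpectrum S => PrimeSpectrum.comap (algebraMap R S) I) ?_
  intro P Q hPQ
  have hle : P ≤ Q := hPQ.le
  refine lt_of_le_of_ne ?_ ?_
  · exact (PrimeSpectrum.asIdeal_le_asIdeal _ _).1
      (Ideal.comap_mono ((PrimeSpectrum.asIdeal_le_asIdeal _ _).2 hle))
  · intro heq
    have : P.asIdeal = Q.asIdeal :=
      Algebra.QuasiFinite.eq_of_le_of_under_eq (R := R) P.asIdeal Q.asIdeal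
        ((PrimeSpectrum.asIdeal_le_asIdeal _ _).2 hle) (congrArg PrimeSpectrum.asIdeal heq)
    exact hPQ.ne (PrimeSpectrum.ext this)

theorem ringKrullDim_le_of_hasGoingDown_of_isLocalHom (A B : Type*) [CommRing A] [CommRing B]
    [IsLocalRing A] [IsLocalRing B] [Algebra A B] [IsLocalHom (algebraMap A B)]
    [Algebra.HasGoingDown A B] : ringKrullDim A ≤ ringKrullDim B := by
  unfold ringKrullDim Order.krullDim
  refine iSup_le fun l => ?_
  have hover : (IsLocalRing.maximalIdeal B).LiesOver (IsLocalRing.maximalIdeal A) :=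
    ⟨(IsLocalRing.maximalIdeal_comap (algebraMap A B)).symm⟩
  obtain ⟨l', hlen, hlast⟩ : ∃ l' : LTSeries (PrimeSpectrum A), l.length ≤ l'.length ∧
      l'.last = IsLocalRing.closedPoint A := by
    by_cases h : l.last = IsLocalRing.closedPoint A
    · exact ⟨l, le_rfl, h⟩
    · have hlt : l.last < IsLocalRing.closedPoint A :=
        lt_of_le_of_ne (IsLocalRing.le_maximalIdeal l.last.isPrime.ne_top) h
      exact ⟨l.snoc _ hlt, by simp, by simp⟩
  have hover' : (IsLocalRing.maximalIdeal B).LiesOver l'.last.asIdeal := by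
    rw [hlast]; exact hover
  obtain ⟨L, hL, -, -⟩ := Ideal.exists_ltSeries_of_hasGoingDown l' (IsLocalRing.maximalIdeal B)
  refine le_trans ?_ (le_iSup (fun p : LTSeries (PrimeSpectrum B) => (p.length : WithBot ℕ∞)) L)
  rw [hL]
  exact_mod_cast hlen

theorem stalk_dim_le_of_quasiFiniteAt {U V : Scheme.{u}} (h : U ⟶ V) (x : U)
    (hq : h.QuasiFiniteAt x) :
    ringKrullDim (U.presheaf.stalk x) ≤ ringKrullDim (V.presheaf.stalk (h x)) := by
  letI := (h.stalkMap x).hom.toAlgebra
  haveI : Algebra.QuasiFinite (V.presheaf.stalk (h x)) (U.presheaf.stalk x) := hq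
  exact ringKrullDim_le_of_quasiFinite _ _

theorem stalk_dim_le_of_flat {U V : Scheme.{u}} (h : U ⟶ V) [Flat h] (x : U) :
    ringKrullDim (V.presheaf.stalk (h x)) ≤ ringKrullDim (U.presheaf.stalk x) := by
  letI := (h.stalkMap x).hom.toAlgebra
  haveI : Module.Flat (V.presheaf.stalk (h x)) (U.presheaf.stalk x) := Flat.stalkMap h x
  haveI : IsLocalHom (algebraMap (V.presheaf.stalk (h x)) (U.presheaf.stalk x)) :=
    inferInstanceAs (IsLocalHom (h.stalkMap x).hom)
  exact ringKrullDim_le_of_hasGoingDown_of_isLocalHom _ _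

theorem stalk_dim_eq_of_etale {U V : Scheme.{u}} (h : U ⟶ V) [Etale h] (x : U) :
    ringKrullDim (U.presheaf.stalk x) = ringKrullDim (V.presheaf.stalk (h x)) := by
  have : LocallyQuasiFinite h := lqf_of_unram h
  exact le_antisymm (stalk_dim_le_of_quasiFiniteAt h x (h.quasiFiniteAt x)) (stalk_dim_le_of_flat h x)

variable {S : Scheme.{u}}

/-- The dimension of the local ring at a point of an algebraic space does not depend on the chart. -/
theorem stalk_dim_chart_indep {X : Sp S} {U₁ U₂ : Over S} (a₁ : (yon S).obj U₁ ⟶ X)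
    (a₂ : (yon S).obj U₂ ⟶ X) (ha₁ : RepWith @Etale a₁) (ha₂ : RepWith @Etale a₂)
    (u₁ : ↥U₁.left) (u₂ : ↥U₂.left) (e : Points.ofPt a₁ u₁ = Points.ofPt a₂ u₂) :
    ringKrullDim (U₁.left.presheaf.stalk u₁) = ringKrullDim (U₂.left.presheaf.stalk u₂) := by
  have sqU := ha₁.rep.isPullback' a₂
  have hq₂ : Etale (ha₁.rep.snd a₂).left := ha₁.property_snd a₂
  have hq₁ : Etale (ha₁.rep.fst' a₂).left :=
    (repWith_yon_map_iff @Etale _).1 (repWith_fst_of_isPullback sqU ha₂)
  obtain ⟨u₃, hu₃2, hu₃1⟩ := exists_point_of_isPullback' sqU u₂ u₁ e.symm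
  have t1 := stalk_dim_eq_of_etale (ha₁.rep.fst' a₂).left u₃
  have t2 := stalk_dim_eq_of_etale (ha₁.rep.snd a₂).left u₃
  rw [hu₃1] at t1
  rw [hu₃2] at t2
  exact t1.symm.trans t2

end Groth.Agent.H25.AS
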