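import Groth.Agent.H25.AlgSp90
import Mathlib.AlgebraicGeometry.Properties

/-!
# Algebraic spaces toolkit, part 91: Krull dimension of schemes through local rings
-/

set_option linter.style.haveILetI false

universe u

open CategoryTheory CategoryTheory.Limits AlgebraicGeometry Opposite AlgSp MorphismProperty
open Topology

namespace Groth.Agent.H25.AS

theorem topologicalKrullDim_eq_iSup_stalk (X : Scheme.{u}) :
    topologicalKrullDim X = ⨆ x : X, ringKrullDim (X.presheaf.stalk x) := by
  unfold topologicalKrullDim
  have e : TopologicalSpace.IrreducibleCloseds X ≃o X := irreducibleSetEquivPoints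
  rw [Order.krullDim_eq_of_orderIso e, Order.krullDim_eq_iSup_coheight]
  simp_rw [ringKrullDim_stalk_eq_coheight]

theorem topologicalKrullDim_le_of_lqf {U V : Scheme.{u}} (h : U ⟶ V) [LocallyQuasiFinite h] :
    topologicalKrullDim U ≤ topologicalKrullDim V := by
  rw [topologicalKrullDim_eq_iSup_stalk, topologicalKrullDim_eq_iSup_stalk]
  refine iSup_le fun x => ?_
  exact (stalk_dim_le_of_quasiFiniteAt h x (h.quasiFiniteAt x)).trans
    (le_iSup (fun v : V => ringKrullDim (V.presheaf.stalk v)) (h x))

theorem topologicalKrullDim_le_of_etale_surjective {U' U : Scheme.{u}} (e : U' ⟶ U) [Etale e]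
    [Surjective e] : topologicalKrullDim U ≤ topologicalKrullDim U' := by
  rw [topologicalKrullDim_eq_iSup_stalk, topologicalKrullDim_eq_iSup_stalk]
  refine iSup_le fun x => ?_
  obtain ⟨x', rfl⟩ := e.surjective x
  rw [← stalk_dim_eq_of_etale e x']
  exact le_iSup (fun v : U' => ringKrullDim (U'.presheaf.stalk v)) x'

end Groth.Agent.H25.AS
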