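import Groth.Agent.H25.AlgSp91
import Mathlib.AlgebraicGeometry.Stalk

/-!
# Algebraic spaces toolkit, part 92: codimension zero points of schemes
-/

set_option linter.style.haveILetI false

universe u

open CategoryTheory CategoryTheory.Limits AlgebraicGeometry Opposite AlgSp MorphismProperty
open Topology

namespace Groth.Agent.H25.AS

theorem stalk_dim_eq_zero_iff {U : Scheme.{u}} (x : U) :
    ringKrullDim (U.presheaf.stalk x) = 0 ↔ ∀ x' : U, x' ⤳ x → x' = x := by
  rw [ringKrullDim_stalk_eq_coheight]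
  have h0 : ((Order.coheight x : ℕ∞) : WithBot ℕ∞) = 0 ↔ Order.coheight x = 0 := by
    exact_mod_cast Iff.rfl
  rw [h0, Order.coheight_eq_zero]
  constructor
  · intro hmax x' hx'
    have h1 : x ≤ x' := hx'
    have h2 : x' ≤ x := hmax h1
    exact (Specializes.antisymm h2 hx').eq.symm
  · intro H b hb
    have : b = x := H b hb
    rw [this]

theorem exists_generization_stalk_dim_zero {U : Scheme.{u}} (x : U) :
    ∃ x' : U, x' ⤳ x ∧ ringKrullDim (U.presheaf.stalk x') = 0 := by
  obtain ⟨p, hp, -⟩ := Ideal.exists_minimalPrimes_le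
    (I := (⊥ : Ideal (U.presheaf.stalk x))) (J := IsLocalRing.maximalIdeal _) bot_le
  have hpp : p.IsPrime := hp.1.1
  let P : Spec (U.presheaf.stalk x) := ⟨p, hpp⟩
  have hsp : U.fromSpecStalk x P ⤳ x := by
    have : U.fromSpecStalk x P ∈ Set.range (U.fromSpecStalk x) := ⟨P, rfl⟩
    rw [Scheme.range_fromSpecStalk] at this
    exact this
  refine ⟨U.fromSpecStalk x P, hsp, (stalk_dim_eq_zero_iff _).2 ?_⟩
  intro x'' hx''
  have hx''x : x'' ∈ Set.range (U.fromSpecStalk x) := by
    rw [Scheme.range_fromSpecStalk]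
    exact hx''.trans hsp
  obtain ⟨Q, rfl⟩ := hx''x
  have hQP : Q ⤳ P := (U.fromSpecStalk x).isEmbedding.isInducing.specializes_iff.1 hx''
  have hle : Q.asIdeal ≤ p :=
    (PrimeSpectrum.asIdeal_le_asIdeal Q P).2 ((PrimeSpectrum.le_iff_specializes Q P).2 hQP)
  have hge : p ≤ Q.asIdeal := hp.2 ⟨Q.isPrime, bot_le⟩ hle
  have : Q = P := PrimeSpectrum.ext (le_antisymm hle hge)
  rw [this]

theorem isolatedInFibre_of_fibre_codim_zero {U V : Scheme.{u}} (h : U ⟶ V)
    [LocallyOfFiniteType h] (x : U)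
    (H : ∀ x' : U, h x' = h x → ringKrullDim (U.presheaf.stalk x') = 0) :
    IsolatedInFibre h x := by
  rw [isolatedInFibre_iff_isOpen_asFiber]
  have hlft : LocallyOfFiniteType (h.fiberToSpecResidueField (h x)) :=
    MorphismProperty.pullback_snd _ _ inferInstance
  have hN : IsLocallyNoetherian (h.fiber (h x)) :=
    LocallyOfFiniteType.isLocallyNoetherian (h.fiberToSpecResidueField (h x))
  have hsp : ∀ p p' : h.fiber (h x), p' ⤳ p → p = p' := by
    intro p p' hpp
    have h1 : h.fiberι (h x) p' ⤳ h.fiberι (h x) p := hpp.map (h.fiberι (h x)).continuous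
    have h2 : h.fiberι (h x) p ∈ h ⁻¹' {h x} := by
      rw [← h.range_fiberι]; exact ⟨p, rfl⟩
    have h3 := (stalk_dim_eq_zero_iff _).1 (H _ h2) _ h1
    exact ((h.fiberι (h x)).isEmbedding.injective h3).symm
  have hd : DiscreteTopology (h.fiber (h x)) := discreteTopology_of_no_specializations hsp
  exact isOpen_discrete _

theorem stalk_dim_eq_zero_of_qf_at_generizations {U V : Scheme.{u}} (h : U ⟶ V)
    [LocallyOfFiniteType h] (x : U) (hv : ringKrullDim (V.presheaf.stalk (h x)) = 0)
    (H : ∀ x' : U, x' ⤳ x → ringKrullDim (U.presheaf.stalk x') = 0 → h x' = h x →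
      IsolatedInFibre h x') :
    ringKrullDim (U.presheaf.stalk x) = 0 := by
  obtain ⟨x', hx'x, hx'0⟩ := exists_generization_stalk_dim_zero x
  have hhx' : h x' = h x := (stalk_dim_eq_zero_iff _).1 hv _ (hx'x.map h.continuous)
  have hiso := H x' hx'x hx'0 hhx'
  have hq : h.QuasiFiniteAt x' := (quasiFiniteAt_iff_isolatedInFibre h x').2 hiso
  have hcl : IsClosed ({h.asFiber x'} : Set (h.fiber (h x'))) := hq.isClopen_singleton_asFiber.1
  have hxr : x ∈ Set.range (h.fiberι (h x')) := by
    rw [h.range_fiberι]; exact hhx'.symm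
  obtain ⟨p, rfl⟩ := hxr
  have h1 : h.fiberι (h x') (h.asFiber x') ⤳ h.fiberι (h x') p := by
    rw [h.fiberι_asFiber]; exact hx'x
  have h2 : h.asFiber x' ⤳ p := (h.fiberι (h x')).isEmbedding.isInducing.specializes_iff.1 h1
  have h3 : p ∈ closure ({h.asFiber x'} : Set (h.fiber (h x'))) := specializes_iff_mem_closure.1 h2
  rw [hcl.closure_eq] at h3
  have h4 : p = h.asFiber x' := h3
  rw [h4, h.fiberι_asFiber]
  exact hx'0

end Groth.Agent.H25.AS
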