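import Groth.Agent.H25.AlgSp92

/-!
# Algebraic spaces toolkit, part 93: locally finitely many irreducible components
-/

set_option linter.style.haveILetI false

universe u

open CategoryTheory CategoryTheory.Limits AlgebraicGeometry Opposite AlgSp MorphismProperty
open Topology

namespace Groth.Agent.H25.AS

theorem mem_genericPoints_iff {T : Type*} [TopologicalSpace T] [QuasiSober T] [T0Space T] (x : T) :
    x ∈ genericPoints T ↔ ∀ x' : T, x' ⤳ x → x' = x := by
  constructor
  · intro hx x' hx'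
    have hx1 : Maximal IsIrreducible (closure ({x} : Set T)) := hx
    have h1 : closure ({x} : Set T) ⊆ closure {x'} := specializes_iff_closure_subset.1 hx'
    have h2 : closure ({x'} : Set T) ⊆ closure {x} := hx1.2 isIrreducible_singleton.closure h1
    exact (inseparable_iff_closure_eq.2 (le_antisymm h2 h1)).eq
  · intro H
    refine ⟨isIrreducible_singleton.closure, fun s hs hle => ?_⟩
    have hz := hs.closure.isGenericPoint_genericPoint isClosed_closure
    have hxs : x ∈ closure s := subset_closure (hle (subset_closure rfl))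
    have hzx : hs.closure.genericPoint ⤳ x := hz.specializes hxs
    have := H _ hzx
    rw [this] at hz
    have : closure ({x} : Set T) = closure s := hz
    rw [this]
    exact subset_closure

theorem finite_irreducibleComponents_iff {T : Type*} [TopologicalSpace T] [QuasiSober T]
    [T0Space T] :
    (irreducibleComponents T).Finite ↔ {x : T | ∀ x' : T, x' ⤳ x → x' = x}.Finite := by
  have : {x : T | ∀ x' : T, x' ⤳ x → x' = x} = genericPoints T := by
    ext x; exact (mem_genericPoints_iff x).symm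
  rw [this]
  exact (Equiv.finite_iff genericPoints.equiv).symm

/-- A scheme has locally finitely many irreducible components. -/
def LFIC (U : Scheme.{u}) : Prop :=
  ∀ W : U.Opens, IsCompact (W : Set ↥U) → (irreducibleComponents ↥W).Finite

theorem finite_irreducibleComponents_opens_iff {U : Scheme.{u}} (W : U.Opens) :
    (irreducibleComponents ↥W).Finite ↔
      {x : U | x ∈ W ∧ ringKrullDim (U.presheaf.stalk x) = 0}.Finite := by
  haveI : QuasiSober ↥W := inferInstanceAs (QuasiSober W.toScheme)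
  haveI : T0Space ↥W := inferInstanceAs (T0Space W.toScheme)
  rw [finite_irreducibleComponents_iff]
  have : {x : U | x ∈ W ∧ ringKrullDim (U.presheaf.stalk x) = 0} =
      Subtype.val '' {x : ↥W | ∀ x' : ↥W, x' ⤳ x → x' = x} := by
    ext y
    constructor
    · rintro ⟨hyW, hy0⟩
      exact ⟨⟨y, hyW⟩, fun x' hx' => Subtype.ext ((stalk_dim_eq_zero_iff y).1 hy0 x'.1
        ((subtype_specializes_iff _ _).1 hx')), rfl⟩
    · rintro ⟨x, hx, rfl⟩
      refine ⟨x.2, (stalk_dim_eq_zero_iff _).2 fun y' hy' => ?_⟩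
      have hy'W : y' ∈ W := hy'.mem_open W.2 x.2
      exact congrArg Subtype.val (hx ⟨y', hy'W⟩ ((subtype_specializes_iff _ _).2 hy'))
  rw [this, Set.finite_image_iff Subtype.val_injective.injOn]

theorem lfic_iff (U : Scheme.{u}) : LFIC U ↔ ∀ W : U.Opens, IsCompact (W : Set ↥U) →
    {x : U | x ∈ W ∧ ringKrullDim (U.presheaf.stalk x) = 0}.Finite := by
  constructor
  · intro H W hW
    exact (finite_irreducibleComponents_opens_iff W).1 (H W hW)
  · intro H W hW
    exact (finite_irreducibleComponents_opens_iff W).2 (H W hW)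

theorem finite_genPts_of_flat_lft_qc {U V : Scheme.{u}} (h : U ⟶ V) [Flat h]
    [LocallyOfFiniteType h] [QuasiCompact h]
    (hV : {v : V | ringKrullDim (V.presheaf.stalk v) = 0}.Finite) :
    {x : U | ringKrullDim (U.presheaf.stalk x) = 0}.Finite := by
  have key : ∀ v : V, {x : U | h x = v ∧ ringKrullDim (U.presheaf.stalk x) = 0}.Finite := by
    intro v
    have hlft : LocallyOfFiniteType (h.fiberToSpecResidueField v) :=
      MorphismProperty.pullback_snd _ _ inferInstance
    have hN : IsLocallyNoetherian (h.fiber v) :=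
      LocallyOfFiniteType.isLocallyNoetherian (h.fiberToSpecResidueField v)
    have hN' : IsNoetherian (h.fiber v) := { }
    have hfin : {p : h.fiber v | ∀ p' : h.fiber v, p' ⤳ p → p' = p}.Finite :=
      finite_irreducibleComponents_iff.1
        TopologicalSpace.NoetherianSpace.finite_irreducibleComponents
    refine (hfin.image (h.fiberι v)).subset ?_
    rintro x ⟨hxv, hx0⟩
    have hur : x ∈ Set.range (h.fiberι v) := by rw [h.range_fiberι]; exact hxv
    obtain ⟨p, rfl⟩ := hur
    refine ⟨p, ?_, rfl⟩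
    intro p' hp'
    have h1 := hp'.map (h.fiberι v).continuous
    have := (stalk_dim_eq_zero_iff _).1 hx0 _ h1
    exact (h.fiberι v).isEmbedding.injective this
  refine (hV.biUnion (fun v _ => key v)).subset ?_
  intro x hx
  have hx0 : ringKrullDim (U.presheaf.stalk x) = 0 := hx
  have hv0 : ringKrullDim (V.presheaf.stalk (h x)) = 0 := by
    have hle := stalk_dim_le_of_flat h x
    rw [hx0] at hle
    exact le_antisymm hle ringKrullDim_nonneg_of_nontrivial
  exact Set.mem_biUnion (show h x ∈ {v : V | ringKrullDim (V.presheaf.stalk v) = 0} from hv0)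
    ⟨rfl, hx0⟩

theorem finite_genPts_opens {U : Scheme.{u}} (W : U.Opens)
    (H : {x : U | x ∈ W ∧ ringKrullDim (U.presheaf.stalk x) = 0}.Finite) :
    {w : W.toScheme | ringKrullDim (W.toScheme.presheaf.stalk w) = 0}.Finite := by
  refine (H.preimage (W.ι.isEmbedding.injective.injOn)).subset ?_
  intro w hw
  have hw0 : ringKrullDim (W.toScheme.presheaf.stalk w) = 0 := hw
  refine ⟨w.2, ?_⟩
  rw [← stalk_dim_eq_of_etale W.ι w]
  exact hw0

theorem finite_genPts_of_opens {U : Scheme.{u}} (W : U.Opens)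
    (H : {w : W.toScheme | ringKrullDim (W.toScheme.presheaf.stalk w) = 0}.Finite) :
    {x : U | x ∈ W ∧ ringKrullDim (U.presheaf.stalk x) = 0}.Finite := by
  refine (H.image W.ι).subset ?_
  rintro y ⟨hyW, hy0⟩
  refine ⟨⟨y, hyW⟩, ?_, rfl⟩
  have := stalk_dim_eq_of_etale W.ι ⟨y, hyW⟩
  change ringKrullDim (W.toScheme.presheaf.stalk ⟨y, hyW⟩) = 0
  rw [this]
  exact hy0

theorem lfic_of_flat_lft {U V : Scheme.{u}} (h : U ⟶ V) [Flat h] [LocallyOfFiniteType h]
    (hV : LFIC V) : LFIC U := by
  rw [lfic_iff] at hV ⊢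
  intro W hW
  have hx : ∀ x : W, ∃ (Vx : V.Opens) (Wx : U.Opens), IsAffineOpen Vx ∧ IsAffineOpen Wx ∧
      x.1 ∈ Wx ∧ Wx ≤ W ∧ Wx ≤ h ⁻¹ᵁ Vx := by
    intro x
    obtain ⟨Vx, hVx, hxVx, -⟩ := exists_isAffineOpen_mem_and_subset
      (x := h x.1) (U := ⊤) trivial
    have hxm : x.1 ∈ W ⊓ h ⁻¹ᵁ Vx := ⟨x.2, hxVx⟩
    obtain ⟨Wx, hWx, hxWx, hsub⟩ := exists_isAffineOpen_mem_and_subset hxm
    exact ⟨Vx, Wx, hVx, hWx, hxWx, fun y hy => (hsub hy).1, fun y hy => (hsub hy).2⟩
  choose Vx Wx hVx hWx hxWx hWxW hWxV using hx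
  obtain ⟨t, ht⟩ := hW.elim_finite_subcover (fun x : W => (Wx x : Set U)) (fun x => (Wx x).2)
    (fun y hy => Set.mem_iUnion.2 ⟨⟨y, hy⟩, hxWx _⟩)
  have key : ∀ x : W, {y : U | y ∈ Wx x ∧ ringKrullDim (U.presheaf.stalk y) = 0}.Finite := by
    intro x
    have hrange : Set.range ((Wx x).ι ≫ h) ⊆ Set.range (Vx x).ι := by
      rintro _ ⟨w, rfl⟩
      rw [Scheme.Opens.range_ι]
      exact hWxV x w.2
    let l : (Wx x).toScheme ⟶ (Vx x).toScheme := IsOpenImmersion.lift (Vx x).ι ((Wx x).ι ≫ h) hrange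
    have hl : l ≫ (Vx x).ι = (Wx x).ι ≫ h := IsOpenImmersion.lift_fac _ _ _
    haveI : Flat l := by
      refine MorphismProperty.of_postcomp (W := @Flat)
        (W' := MorphismProperty.monomorphisms Scheme.{u}) l (Vx x).ι
        (MorphismProperty.monomorphisms.infer_property _) ?_
      rw [hl]; infer_instance
    haveI : LocallyOfFiniteType l := by
      haveI : LocallyOfFiniteType (l ≫ (Vx x).ι) := by rw [hl]; infer_instance
      exact locallyOfFiniteType_of_comp l (Vx x).ι
    haveI : IsAffine (Vx x).toScheme := hVx x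
    haveI : IsAffine (Wx x).toScheme := hWx x
    haveI : QuasiCompact l := HasAffineProperty.iff_of_isAffine.mpr
      (inferInstance : CompactSpace (Wx x).toScheme)
    exact finite_genPts_of_opens (Wx x) (finite_genPts_of_flat_lft_qc l
      (finite_genPts_opens (Vx x) (hV (Vx x) (hVx x).isCompact)))
  refine ((t.finite_toSet.biUnion (fun x _ => key x))).subset ?_
  rintro y ⟨hyW, hy0⟩
  obtain ⟨x, hxt, hyx⟩ := Set.mem_iUnion₂.1 (ht hyW)
  exact Set.mem_biUnion hxt ⟨hyx, hy0⟩

theorem lfic_of_etale_surjective {W U : Scheme.{u}} (h : W ⟶ U) [Etale h] [Surjective h]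
    (hW : LFIC W) : LFIC U := by
  rw [lfic_iff] at hW ⊢
  intro U₀ hU₀
  obtain ⟨W₀, hW₀c, hsub, -⟩ := exists_compact_open_of_isOpenMap (U := W) h h.isOpenMap
    h.continuous (U₀ : Set U) Set.univ hU₀ isOpen_univ (Set.subset_univ _)
    (fun y _ => h.surjective y)
  refine ((hW W₀ hW₀c).image h).subset ?_
  rintro y ⟨hyU, hy0⟩
  obtain ⟨w, hwW, rfl⟩ := hsub hyU
  refine ⟨w, ⟨hwW, ?_⟩, rfl⟩
  rw [stalk_dim_eq_of_etale h w]
  exact hy0

end Groth.Agent.H25.AS
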