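import Groth.Agent.H25.AlgSp93

/-!
# Algebraic spaces toolkit, part 94: locally finitely many irreducible components, spaces
-/

set_option linter.style.haveILetI false

universe u

open CategoryTheory CategoryTheory.Limits AlgebraicGeometry Opposite AlgSp MorphismProperty
open Topology

namespace Groth.Agent.H25.AS

theorem finite_irreducibleComponents_of_surjective {A B : Type*} [TopologicalSpace A]
    [TopologicalSpace B] (φ : A → B) (hc : Continuous φ) (hs : Function.Surjective φ)
    (hA : (irreducibleComponents A).Finite) : (irreducibleComponents B).Finite := by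
  have hfin : ((fun C : Set A => closure (φ '' C)) '' irreducibleComponents A).Finite := hA.image _
  refine hfin.subset ?_
  intro Z hZ
  have hcover : Z ⊆ ⋃₀ ((fun C : Set A => closure (φ '' C)) '' irreducibleComponents A) := by
    intro z _
    obtain ⟨a, rfl⟩ := hs z
    exact ⟨closure (φ '' irreducibleComponent a),
      ⟨_, irreducibleComponent_mem_irreducibleComponents a, rfl⟩,
      subset_closure ⟨a, mem_irreducibleComponent, rfl⟩⟩
  obtain ⟨z, hz, hZz⟩ := (isIrreducible_iff_sUnion_isClosed.1 hZ.1) hfin.toFinset
    (fun W hW => by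
      rw [hfin.mem_toFinset] at hW
      obtain ⟨C, -, rfl⟩ := hW
      exact isClosed_closure)
    (hfin.coe_toFinset.symm ▸ hcover)
  rw [hfin.mem_toFinset] at hz
  obtain ⟨C, hC, rfl⟩ := hz
  refine ⟨C, hC, ?_⟩
  have hirr : IsIrreducible (closure (φ '' C)) := (hC.1.image φ hc.continuousOn).closure
  exact Set.Subset.antisymm (hZ.2 hirr hZz) hZz

theorem finite_irreducibleComponents_scheme_iff (U : Scheme.{u}) :
    (irreducibleComponents ↥U).Finite ↔
      {x : U | ringKrullDim (U.presheaf.stalk x) = 0}.Finite := by
  rw [finite_irreducibleComponents_iff]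
  have : {x : U | ringKrullDim (U.presheaf.stalk x) = 0} =
      {x : U | ∀ x' : U, x' ⤳ x → x' = x} := by
    ext x; exact stalk_dim_eq_zero_iff x
  rw [this]

variable {S : Scheme.{u}}

theorem lfic_chart_of_etaleLocally {X : Sp S} (hE : EtaleLocally LFIC X) {U : Over S}
    (a : (yon S).obj U ⟶ X) (ha : RepWith @Etale a) : LFIC U.left := by
  obtain ⟨V, b, hbe, hbs, hPV⟩ := hE
  have sq := ha.rep.isPullback' b
  haveI h2 : Etale (ha.rep.snd b).left := ha.property_snd b
  haveI h1e : Etale (ha.rep.fst' b).left :=
    (repWith_yon_map_iff _ _).1 (repWith_fst_of_isPullback sq hbe)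
  haveI h1s : Surjective (ha.rep.fst' b).left :=
    (repWith_yon_map_iff _ _).1 (repWith_fst_of_isPullback sq hbs)
  exact lfic_of_etale_surjective (ha.rep.fst' b).left (lfic_of_flat_lft (ha.rep.snd b).left hPV)

theorem finite_genPts_of_lfic_compact {U : Scheme.{u}} [CompactSpace U] (hU : LFIC U) :
    {x : U | ringKrullDim (U.presheaf.stalk x) = 0}.Finite := by
  have h1 := (lfic_iff U).1 hU ⊤ (by
    rw [TopologicalSpace.Opens.coe_top]; exact isCompact_univ)
  refine h1.subset ?_
  intro x hx
  exact ⟨trivial, hx⟩

theorem finite_codimZero_of_chart {Y : Sp S} {U : Over S} (p : (yon S).obj U ⟶ Y)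
    (hpe : RepWith @Etale p) (hps : RepWith @Surjective p) [CompactSpace U.left]
    (hU : LFIC U.left) :
    {y : Points Y | HasAt (fun U u => ringKrullDim ↥(U.presheaf.stalk u) = 0) Y y}.Finite := by
  refine ((finite_genPts_of_lfic_compact hU).image (Points.ofPt p)).subset ?_
  rintro y ⟨U', a', u', ha', rfl, hu'⟩
  obtain ⟨u, hu⟩ := ofPt_surjective p hps (Points.ofPt a' u')
  refine ⟨u, ?_, hu⟩
  change ringKrullDim (U.left.presheaf.stalk u) = 0
  rw [stalk_dim_chart_indep p a' hpe ha' u u' hu]
  exact hu'

theorem finite_irreducibleComponents_of_chart {Y : Sp S} {U : Over S} (p : (yon S).obj U ⟶ Y)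
    (hps : RepWith @Surjective p) [CompactSpace U.left]
    (hU : LFIC U.left) : (irreducibleComponents (Points Y)).Finite := by
  refine finite_irreducibleComponents_of_surjective (Points.ofPt p) (Points.continuous_ofPt p)
    (ofPt_surjective p hps) ?_
  exact (finite_irreducibleComponents_scheme_iff _).2 (finite_genPts_of_lfic_compact hU)

theorem isEtaleMor_openIncl_comp {X : Sp S} {U : Over S} (a : (yon S).obj U ⟶ X)
    (hae : RepWith @Etale a) (W : U.left.Opens) :
    IsEtaleMor ((yon S).map (openIncl U W) ≫ a) := by
  intro T φ hφ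
  rw [← Category.assoc]
  refine repWith_etale_comp ?_ hae
  exact (isEtaleMor_yon_map_iff (openIncl U W)).2 (show Etale W.ι from inferInstance) φ hφ

theorem isQuasiCompactSp_openOver (U : Over S) (W : U.left.Opens)
    (hW : IsCompact (W : Set U.left)) : IsQuasiCompactSp ((yon S).obj (openOver U W)) :=
  (isQuasiCompactSp_yon_iff _).2 (isCompact_iff_compactSpace.mp hW)

theorem finite_genPts_of_codimZero_openOver (U : Over S) (W : U.left.Opens)
    (H : {y : Points ((yon S).obj (openOver U W)) |
      HasAt (fun U u => ringKrullDim ↥(U.presheaf.stalk u) = 0) _ y}.Finite) :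
    {x : U.left | x ∈ W ∧ ringKrullDim (U.left.presheaf.stalk x) = 0}.Finite := by
  refine finite_genPts_of_opens W ?_
  refine (H.preimage (ofScheme_injective (openOver U W)).injOn).subset ?_
  intro w hw
  exact ⟨openOver U W, 𝟙 _, w, repWith_id _ _, rfl, hw⟩

theorem finite_irreducibleComponents_openOver (U : Over S) (W : U.left.Opens)
    (H : (irreducibleComponents (Points ((yon S).obj (openOver U W)))).Finite) :
    (irreducibleComponents ↥W).Finite :=
  finite_irreducibleComponents_of_surjective (Points.schemeHomeo (openOver U W)).symm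
    (Points.schemeHomeo (openOver U W)).symm.continuous
    (Points.schemeHomeo (openOver U W)).symm.surjective H

end Groth.Agent.H25.AS
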