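import Groth.Agent.H25.AlgSp94

/-!
# Algebraic spaces toolkit, part 95: isolated points of spaces locally of finite type over a field
-/

set_option linter.style.haveILetI false

universe u

open CategoryTheory CategoryTheory.Limits AlgebraicGeometry Opposite AlgSp MorphismProperty
open Topology

namespace Groth.Agent.H25.AS

theorem no_specializations_of_dim_le_zero {N : Type*} [TopologicalSpace N] [T0Space N]
    (h : topologicalKrullDim N ≤ 0) : ∀ w w' : N, w' ⤳ w → w = w' := by
  have hmax := Order.krullDim_nonpos_iff_forall_isMax.1 h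
  intro w w' hww
  let Zw : TopologicalSpace.IrreducibleCloseds N :=
    ⟨closure {w}, isIrreducible_singleton.closure, isClosed_closure⟩
  let Zw' : TopologicalSpace.IrreducibleCloseds N :=
    ⟨closure {w'}, isIrreducible_singleton.closure, isClosed_closure⟩
  have hle : Zw ≤ Zw' := by
    change closure {w} ⊆ closure {w'}
    exact closure_minimal (Set.singleton_subset_iff.2 (specializes_iff_mem_closure.1 hww))
      isClosed_closure
  have hge : Zw' ≤ Zw := hmax Zw hle
  have h2 : w ⤳ w' := specializes_iff_mem_closure.2 (hge (subset_closure rfl))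
  exact (h2.antisymm hww).eq

/-- In a locally Noetherian scheme a locally closed set stable under generization is open. -/
theorem isOpen_of_isLocallyClosed_of_stableUnderGeneralization {U : Scheme.{u}}
    [IsLocallyNoetherian U] (F : Set U) (hF : IsLocallyClosed F)
    (hg : ∀ x y : U, y ⤳ x → x ∈ F → y ∈ F) : IsOpen F := by
  rw [isOpen_iff_forall_mem_open]
  intro w hw
  obtain ⟨N', C, hN', hC, rfl⟩ := hF
  obtain ⟨N, hN, hwN, hNN'⟩ := exists_isAffineOpen_mem_and_subset
    (X := U) (x := w) (U := ⟨N', hN'⟩) hw.1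
  haveI hNR : IsNoetherianRing Γ(U, N) := IsLocallyNoetherian.component_noetherian ⟨N, hN⟩
  haveI hNS : TopologicalSpace.NoetherianSpace ↥N := noetherianSpace_of_isAffineOpen N hN
  have hG : {η : U | η ∈ N ∧ ringKrullDim (U.presheaf.stalk η) = 0}.Finite :=
    (finite_irreducibleComponents_opens_iff N).1
      TopologicalSpace.NoetherianSpace.finite_irreducibleComponents
  have hG' : {η : U | (η ∈ N ∧ ringKrullDim (U.presheaf.stalk η) = 0) ∧ η ∉ N' ∩ C}.Finite :=
    hG.subset fun η hη => hη.1
  let B : Set U := ⋃ η ∈ {η : U | (η ∈ N ∧ ringKrullDim (U.presheaf.stalk η) = 0) ∧ η ∉ N' ∩ C},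
    closure {η}
  have hB : IsClosed B := hG'.isClosed_biUnion fun _ _ => isClosed_closure
  refine ⟨(N : Set U) ∩ Bᶜ, ?_, N.2.inter hB.isOpen_compl, ⟨hwN, ?_⟩⟩
  · rintro z ⟨hzN, hzB⟩
    obtain ⟨η, hηz, hη0⟩ := exists_generization_stalk_dim_zero z
    have hηN : η ∈ N := hηz.mem_open N.2 hzN
    have hηF : η ∈ N' ∩ C := by
      by_contra hcon
      exact hzB (Set.mem_biUnion (show η ∈ {η : U | (η ∈ N ∧
        ringKrullDim (U.presheaf.stalk η) = 0) ∧ η ∉ N' ∩ C} from ⟨⟨hηN, hη0⟩, hcon⟩)
        (specializes_iff_mem_closure.1 hηz))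
    refine ⟨hNN' hzN, ?_⟩
    exact (hC.closure_subset_iff.2 (Set.singleton_subset_iff.2 hηF.2))
      (specializes_iff_mem_closure.1 hηz)
  · intro hwB
    obtain ⟨η, hη, hwη⟩ := Set.mem_iUnion₂.1 hwB
    exact hη.2 (hg w η (specializes_iff_mem_closure.2 hwη) hw)

/-- In a locally Noetherian scheme an open set of closed points is closed and discrete. -/
theorem isClosed_of_isOpen_of_closedPoints {U : Scheme.{u}} [IsLocallyNoetherian U] (F : Set U)
    (hF : IsOpen F) (hcl : ∀ w ∈ F, IsClosed ({w} : Set U)) :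
    IsClosed F ∧ ∀ w ∈ F, IsOpen ({w} : Set U) := by
  have hop : ∀ w ∈ F, IsOpen ({w} : Set U) := by
    intro w hw
    refine isOpen_of_isLocallyClosed_of_stableUnderGeneralization {w} (hcl w hw).isLocallyClosed ?_
    rintro x y hyx rfl
    have hyF : y ∈ F := hyx.mem_open hF hw
    have : x ∈ closure ({y} : Set U) := specializes_iff_mem_closure.1 hyx
    rw [(hcl y hyF).closure_eq] at this
    exact this.symm
  refine ⟨?_, hop⟩
  rw [← closure_subset_iff_isClosed]
  intro v hv
  obtain ⟨N, hN, hvN, -⟩ := exists_isAffineOpen_mem_and_subset (X := U) (x := v) (U := ⊤) trivial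
  haveI hNR : IsNoetherianRing Γ(U, N) := IsLocallyNoetherian.component_noetherian ⟨N, hN⟩
  haveI hNS : TopologicalSpace.NoetherianSpace ↥N := noetherianSpace_of_isAffineOpen N hN
  have hc : IsCompact ((N : Set U) ∩ F) :=
    (TopologicalSpace.noetherianSpace_set_iff (N : Set U)).1 hNS _ Set.inter_subset_left
  obtain ⟨t, ht⟩ := hc.elim_finite_subcover
    (fun p : ↥((N : Set U) ∩ F) => ({p.1} : Set U)) (fun p => hop p.1 p.2.2)
    (fun p hp => Set.mem_iUnion.2 ⟨⟨p, hp⟩, rfl⟩)
  have hfin : ((N : Set U) ∩ F).Finite := by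
    refine (t.finite_toSet.image Subtype.val).subset ?_
    intro p hp
    obtain ⟨q, hq, hpq⟩ := Set.mem_iUnion₂.1 (ht hp)
    exact ⟨q, hq, hpq.symm⟩
  have hclNF : IsClosed ((N : Set U) ∩ F) := by
    have : (N : Set U) ∩ F = ⋃ p ∈ (N : Set U) ∩ F, ({p} : Set U) := by
      rw [Set.biUnion_of_singleton]
    rw [this]
    exact hfin.isClosed_biUnion fun p hp => hcl p hp.2
  have h1 : v ∈ closure ((N : Set U) ∩ F) := N.2.inter_closure ⟨hvN, hv⟩
  rw [hclNF.closure_eq] at h1
  exact h1.2

variable {S : Scheme.{u}}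

/-- If `{x}` is open in `|X|` and the chart is Jacobson, all chart points over `x` are closed. -/
theorem isClosed_chart_point_of_isOpen_point {X : Sp S} {U : Over S}
    (a : (yon S).obj U ⟶ X) (hae : RepWith @Etale a) [JacobsonSpace ↥U.left]
    (x : Points X) (hx : IsOpen ({x} : Set (Points X))) (u : ↥U.left) (hu : Points.ofPt a u = x) :
    IsClosed ({u} : Set ↥U.left) := by
  have hFo : IsOpen (Points.ofPt a ⁻¹' {x}) := hx.preimage (Points.continuous_ofPt a)
  obtain ⟨u₀, hu₀F, hu₀c⟩ := nonempty_inter_closedPoints (Z := Points.ofPt a ⁻¹' {x})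
    ⟨u, hu⟩ hFo.isLocallyClosed
  have hu₀c' : IsClosed ({u₀} : Set ↥U.left) := hu₀c
  have sq := hae.rep.isPullback' a
  haveI h2 : Etale (hae.rep.snd a).left := hae.property_snd a
  haveI h1 : Etale (hae.rep.fst' a).left :=
    (repWith_yon_map_iff _ _).1 (repWith_fst_of_isPullback sq hae)
  obtain ⟨v, hv1, hv2⟩ := exists_point_of_isPullback' sq u u₀
    (hu.trans (show Points.ofPt a u₀ = x from hu₀F).symm)
  have hvc : IsClosed ({v} : Set ↥(hae.rep.pullback a).left) :=
    isClosed_singleton_of_etale_over_closed (hae.rep.fst' a).left v (by rw [hv2]; exact hu₀c')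
  have := (hae.rep.snd a).left.closePoints_subset_preimage_closedPoints hvc
  rw [Set.mem_preimage, hv1] at this
  exact this

theorem isOpen_point_of_isLocallyClosed {X : Sp S} {U : Over S}
    (a : (yon S).obj U ⟶ X) (hae : RepWith @Etale a) [IsLocallyNoetherian U.left]
    (x : Points X) (u : ↥U.left) (hu : Points.ofPt a u = x)
    (hlc : IsLocallyClosed ({x} : Set (Points X)))
    (hgen : ∀ x' : Points X, x' ⤳ x → x' = x) : IsOpen ({x} : Set (Points X)) := by
  have hF : IsOpen (Points.ofPt a ⁻¹' {x}) := by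
    refine isOpen_of_isLocallyClosed_of_stableUnderGeneralization _
      (hlc.preimage (Points.continuous_ofPt a)) ?_
    intro w y hyw hw
    have h1 : Points.ofPt a y ⤳ Points.ofPt a w := hyw.map (Points.continuous_ofPt a)
    rw [show Points.ofPt a w = x from hw] at h1
    exact hgen _ h1
  have h2 := isOpenMap_ofPt a hae _ hF
  have : Points.ofPt a '' (Points.ofPt a ⁻¹' {x}) = {x} := by
    apply Set.Subset.antisymm
    · rintro _ ⟨w, hw, rfl⟩; exact hw
    · rintro _ rfl; exact ⟨u, hu, hu⟩
  rwa [this] at h2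

theorem isClosed_iff_of_chart {X : Sp S} {U : Over S}
    (a : (yon S).obj U ⟶ X) (hae : RepWith @Etale a) (has : RepWith @Surjective a)
    (A : Set (Points X)) : IsClosed A ↔ IsClosed (Points.ofPt a ⁻¹' A) :=
  ((isOpenMap_ofPt a hae).isQuotientMap (Points.continuous_ofPt a)
    (ofPt_surjective a has)).isClosed_preimage.symm

end Groth.Agent.H25.AS
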