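import Groth.Agent.H25.AlgSp95

/-!
# Algebraic spaces toolkit, part 96: discrete spaces of points
-/

set_option linter.style.haveILetI false

universe u

open CategoryTheory CategoryTheory.Limits AlgebraicGeometry Opposite AlgSp MorphismProperty
open Topology

namespace Groth.Agent.H25.AS

theorem discreteTopology_of_dim_le_zero {U : Scheme.{u}} [IsLocallyNoetherian U]
    (h : topologicalKrullDim U ≤ 0) : DiscreteTopology U :=
  discreteTopology_of_no_specializations (no_specializations_of_dim_le_zero h)

theorem topologicalKrullDim_nonneg_of_nonempty {T : Type*} [TopologicalSpace T] (x : T) :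
    0 ≤ topologicalKrullDim T := by
  haveI : Nonempty (TopologicalSpace.IrreducibleCloseds T) :=
    ⟨⟨closure {x}, isIrreducible_singleton.closure, isClosed_closure⟩⟩
  exact Order.krullDim_nonneg

theorem discreteTopology_of_finite_jacobson {T : Type*} [TopologicalSpace T] [Finite T]
    [JacobsonSpace T] : DiscreteTopology T := by
  haveI : T1Space T := by
    refine ⟨fun x => ?_⟩
    have h1 := JacobsonSpace.closure_inter_closedPoints_eq_closure
      (S := closure ({x} : Set T)) isClosed_closure.isLocallyClosed
    have hfin : (closure ({x} : Set T) ∩ closedPoints T).Finite := Set.toFinite _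
    have hcl : IsClosed (closure ({x} : Set T) ∩ closedPoints T) := by
      have : closure ({x} : Set T) ∩ closedPoints T =
          ⋃ p ∈ closure ({x} : Set T) ∩ closedPoints T, ({p} : Set T) := by
        rw [Set.biUnion_of_singleton]
      rw [this]
      exact hfin.isClosed_biUnion fun p hp => hp.2
    rw [hcl.closure_eq, closure_closure] at h1
    have hx : x ∈ closure ({x} : Set T) ∩ closedPoints T := by
      rw [h1]; exact subset_closure rfl
    exact hx.2
  infer_instance

variable {S : Scheme.{u}}

theorem discreteTopology_chart_of_discrete_points {X : Sp S} {U : Over S}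
    (a : (yon S).obj U ⟶ X) (hae : RepWith @Etale a) [JacobsonSpace ↥U.left]
    [IsLocallyNoetherian U.left] [DiscreteTopology (Points X)] : DiscreteTopology ↥U.left := by
  rw [discreteTopology_iff_isOpen_singleton]
  intro u
  exact (isClosed_of_isOpen_of_closedPoints (Points.ofPt a ⁻¹' {Points.ofPt a u})
    ((isOpen_discrete _).preimage (Points.continuous_ofPt a))
    (fun w hw => isClosed_chart_point_of_isOpen_point a hae _ (isOpen_discrete _) w hw)).2 u rfl

end Groth.Agent.H25.AS
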