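import Groth.Agent.H25.AlgSp96

/-!
# Algebraic spaces toolkit, part 97: spaces whose charts are Jacobson and locally Noetherian
-/

set_option linter.style.haveILetI false

universe u

open CategoryTheory CategoryTheory.Limits AlgebraicGeometry Opposite AlgSp MorphismProperty
open Topology

namespace Groth.Agent.H25.AS

/-- In a finite `T0` space every point is locally closed. -/
theorem isLocallyClosed_singleton_of_finite {T : Type*} [TopologicalSpace T] [T0Space T] [Finite T]
    (z : T) : IsLocallyClosed ({z} : Set T) := by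
  let C : Set T := ⋃ z' ∈ {z' : T | z' ∈ closure ({z} : Set T) ∧ z' ≠ z}, closure {z'}
  have hC : IsClosed C := (Set.toFinite _).isClosed_biUnion fun _ _ => isClosed_closure
  refine ⟨Cᶜ, closure {z}, hC.isOpen_compl, isClosed_closure, ?_⟩
  apply Set.Subset.antisymm
  · intro w hw
    have hw' : w = z := hw
    rw [hw']
    refine ⟨?_, subset_closure rfl⟩
    intro hz
    obtain ⟨z', ⟨hz'1, hz'2⟩, hz'3⟩ := Set.mem_iUnion₂.1 hz
    have h1 : z ⤳ z' := specializes_iff_mem_closure.2 hz'1
    have h2 : z' ⤳ z := specializes_iff_mem_closure.2 hz'3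
    exact hz'2 (h2.antisymm h1).eq
  · rintro w ⟨hwC, hw⟩
    by_contra hne
    exact hwC (Set.mem_biUnion (show w ∈ {z' : T | z' ∈ closure ({z} : Set T) ∧ z' ≠ z} from
      ⟨hw, hne⟩) (subset_closure rfl))

/-- In a `T0` space, a point of local dimension zero is locally closed with no proper
generization. -/
theorem isLocallyClosed_and_nogen_of_localDim_eq_zero {T : Type*} [TopologicalSpace T] [T0Space T]
    (x : T) (hdim : FlatMor.localDim T x = 0) :
    IsLocallyClosed ({x} : Set T) ∧ ∀ x' : T, x' ⤳ x → x' = x := by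
  obtain ⟨N, hxN, hNd⟩ := exists_open_dim_le_zero_of_localDim_eq_zero x hdim
  have hsp := no_specializations_of_dim_le_zero (N := ↥(N : Set T)) hNd
  refine ⟨⟨N, closure {x}, N.2, isClosed_closure, ?_⟩, ?_⟩
  · apply Set.Subset.antisymm
    · rintro _ rfl; exact ⟨hxN, subset_closure rfl⟩
    · rintro y ⟨hyN, hy⟩
      have h1 : x ⤳ y := specializes_iff_mem_closure.2 hy
      have := hsp ⟨y, hyN⟩ ⟨x, hxN⟩ ((subtype_specializes_iff _ _).2 h1)
      exact congrArg Subtype.val this
  · intro x' hx'
    have hx'N : x' ∈ N := hx'.mem_open N.2 hxN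
    have := hsp ⟨x, hxN⟩ ⟨x', hx'N⟩ ((subtype_specializes_iff _ _).2 hx')
    exact (congrArg Subtype.val this).symm

variable {S : Scheme.{u}}

/-- If `{x}` is locally closed in `|X|` and the chart is Jacobson, all chart points over `x` are
closed. -/
theorem isClosed_chart_point_of_isLocallyClosed_point {X : Sp S} {U : Over S}
    (a : (yon S).obj U ⟶ X) (hae : RepWith @Etale a) [JacobsonSpace ↥U.left]
    (x : Points X) (hx : IsLocallyClosed ({x} : Set (Points X))) (u : ↥U.left)
    (hu : Points.ofPt a u = x) : IsClosed ({u} : Set ↥U.left) := by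
  have hFo : IsLocallyClosed (Points.ofPt a ⁻¹' {x}) := hx.preimage (Points.continuous_ofPt a)
  obtain ⟨u₀, hu₀F, hu₀c⟩ := nonempty_inter_closedPoints (Z := Points.ofPt a ⁻¹' {x})
    ⟨u, hu⟩ hFo
  have hu₀c' : IsClosed ({u₀} : Set ↥U.left) := hu₀c
  have sq := hae.rep.isPullback' a
  haveI h2 : Etale (hae.rep.snd a).left := hae.property_snd a
  haveI h1 : Etale (hae.rep.fst' a).left :=
    (repWith_yon_map_iff _ _).1 (repWith_fst_of_isPullback sq hae)
  obtain ⟨v, hv1, hv2⟩ := exists_point_of_isPullback' sq u u₀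
    (hu.trans (show Points.ofPt a u₀ = x from hu₀F).symm)
  have hvc : IsClosed ({v} : Set ↥(hae.rep.pullback a).left) :=
    isClosed_singleton_of_etale_over_closed (hae.rep.fst' a).left v (by rw [hv2]; exact hu₀c')
  have := (hae.rep.snd a).left.closePoints_subset_preimage_closedPoints hvc
  rw [Set.mem_preimage, hv1] at this
  exact this

/-- All étale charts are Jacobson and locally Noetherian (for instance spaces locally of finite
type over a field). -/
structure JN (X : Sp S) : Prop where
  jac : ∀ (U : Over S) (a : (yon S).obj U ⟶ X), RepWith @Etale a → JacobsonSpace ↥U.left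
  noeth : ∀ (U : Over S) (a : (yon S).obj U ⟶ X), RepWith @Etale a → IsLocallyNoetherian U.left

namespace JN

variable {X : Sp S}

theorem isOpen_of_locallyClosed_nogen (hXa : IsAlgSpace X) (h : JN X) (x : Points X)
    (hlc : IsLocallyClosed ({x} : Set (Points X)))
    (hgen : ∀ x' : Points X, x' ⤳ x → x' = x) : IsOpen ({x} : Set (Points X)) := by
  obtain ⟨U₀, a₀, hae, has⟩ := hXa.atlas
  haveI := h.noeth U₀ a₀ hae
  obtain ⟨u₀, hu₀⟩ := ofPt_surjective a₀ has x
  exact isOpen_point_of_isLocallyClosed a₀ hae x u₀ hu₀ hlc hgen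

theorem chart_fibre_of_isOpen (h : JN X) {U : Over S} (a : (yon S).obj U ⟶ X)
    (hae : RepWith @Etale a) (x : Points X) (hopen : IsOpen ({x} : Set (Points X))) :
    IsClosed (Points.ofPt a ⁻¹' {x}) ∧
      ∀ w ∈ Points.ofPt a ⁻¹' {x}, IsOpen ({w} : Set ↥U.left) := by
  haveI := h.jac U a hae
  haveI := h.noeth U a hae
  exact isClosed_of_isOpen_of_closedPoints _ (hopen.preimage (Points.continuous_ofPt a))
    (fun w hw => isClosed_chart_point_of_isOpen_point a hae x hopen w hw)

theorem isOpen_iff_closed_nogen (hXa : IsAlgSpace X) (h : JN X) (x : Points X) :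
    IsOpen ({x} : Set (Points X)) ↔
      (IsClosed ({x} : Set (Points X)) ∧ ∀ x' : Points X, x' ⤳ x → x' = x) := by
  constructor
  · intro hopen
    refine ⟨?_, fun x' hx' => hx'.mem_open hopen rfl⟩
    obtain ⟨U₀, a₀, hae, has⟩ := hXa.atlas
    rw [isClosed_iff_of_chart a₀ hae has]
    exact (h.chart_fibre_of_isOpen a₀ hae x hopen).1
  · intro hh
    exact h.isOpen_of_locallyClosed_nogen hXa x hh.1.isLocallyClosed hh.2

theorem isOpen_iff_hasAt_localDim (hXa : IsAlgSpace X) (h : JN X) (x : Points X) :
    IsOpen ({x} : Set (Points X)) ↔ HasAt (fun U u => FlatMor.localDim ↥U u = 0) X x := by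
  constructor
  · intro hopen
    obtain ⟨U₀, a₀, hae, has⟩ := hXa.atlas
    obtain ⟨u₀, hu₀⟩ := ofPt_surjective a₀ has x
    exact ⟨U₀, a₀, u₀, hae, hu₀, localDim_eq_zero_of_isOpen_singleton u₀
      ((h.chart_fibre_of_isOpen a₀ hae x hopen).2 u₀ hu₀)⟩
  · rintro ⟨U, a, u, hae', hu, hdim⟩
    haveI := h.noeth U a hae'
    have h1 : IsOpen ({u} : Set ↥U.left) := isOpen_singleton_of_localDim_eq_zero u hdim
    have h2 := isOpenMap_ofPt a hae' _ h1
    rwa [Set.image_singleton, hu] at h2

theorem localDim_eq_zero_iff (hXa : IsAlgSpace X) (h : JN X) [T0Space (Points X)] (x : Points X) :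
    FlatMor.localDim (Points X) x = 0 ↔ IsOpen ({x} : Set (Points X)) := by
  constructor
  · intro hdim
    obtain ⟨hlc, hgen⟩ := isLocallyClosed_and_nogen_of_localDim_eq_zero x hdim
    exact h.isOpen_of_locallyClosed_nogen hXa x hlc hgen
  · intro hopen
    exact localDim_eq_zero_of_isOpen_singleton x hopen

theorem discrete_iff_dim_eq_zero (hXa : IsAlgSpace X) (h : JN X) [Nonempty (Points X)] :
    DiscreteTopology (Points X) ↔ AlgSp.dim X = 0 := by
  obtain ⟨U₀, a₀, hae, has⟩ := hXa.atlas
  haveI := h.jac U₀ a₀ hae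
  haveI := h.noeth U₀ a₀ hae
  obtain ⟨x₀⟩ := (inferInstance : Nonempty (Points X))
  obtain ⟨u₀, hu₀⟩ := ofPt_surjective a₀ has x₀
  have hchart : topologicalKrullDim ↥U₀.left ≤ AlgSp.dim X := by
    unfold AlgSp.dim
    exact le_iSup_of_le U₀ (le_iSup_of_le a₀ (le_iSup_of_le hae le_rfl))
  constructor
  · intro hd
    apply le_antisymm
    · unfold AlgSp.dim
      refine iSup_le fun U => iSup_le fun a => iSup_le fun ha => ?_
      haveI := h.jac U a ha
      haveI := h.noeth U a ha
      haveI := discreteTopology_chart_of_discrete_points a ha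
      exact topologicalKrullDim_zero_of_discreteTopology _
    · exact (topologicalKrullDim_nonneg_of_nonempty u₀).trans hchart
  · intro hdim
    rw [discreteTopology_iff_isOpen_singleton]
    intro x
    obtain ⟨u, hu⟩ := ofPt_surjective a₀ has x
    have hle : topologicalKrullDim ↥U₀.left ≤ 0 := by
      rw [← hdim]; exact hchart
    haveI := discreteTopology_of_dim_le_zero hle
    have h2 := isOpenMap_ofPt a₀ hae _ (isOpen_discrete ({u} : Set ↥U₀.left))
    rwa [Set.image_singleton, hu] at h2

theorem discrete_of_topdim_le_zero (hXa : IsAlgSpace X) (h : JN X) [T0Space (Points X)]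
    (hdim : topologicalKrullDim (Points X) ≤ 0) : DiscreteTopology (Points X) := by
  have hsp := no_specializations_of_dim_le_zero (N := Points X) hdim
  rw [discreteTopology_iff_isOpen_singleton]
  intro x
  have hcl : IsClosed ({x} : Set (Points X)) := by
    rw [← closure_subset_iff_isClosed]
    intro y hy
    exact hsp y x (specializes_iff_mem_closure.2 hy)
  exact h.isOpen_of_locallyClosed_nogen hXa x hcl.isLocallyClosed
    (fun x' hx' => (hsp x x' hx').symm)

theorem discrete_of_finite (hXa : IsAlgSpace X) (h : JN X) [T0Space (Points X)]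
    [Finite (Points X)] : DiscreteTopology (Points X) := by
  obtain ⟨U₀, a₀, hae, has⟩ := hXa.atlas
  haveI := h.jac U₀ a₀ hae
  haveI := h.noeth U₀ a₀ hae
  have hcl : ∀ w : ↥U₀.left, IsClosed ({w} : Set ↥U₀.left) := fun w =>
    isClosed_chart_point_of_isLocallyClosed_point a₀ hae _
      (isLocallyClosed_singleton_of_finite _) w rfl
  haveI : DiscreteTopology ↥U₀.left := by
    refine discreteTopology_of_no_specializations fun w w' hww => ?_
    have : w ∈ closure ({w'} : Set ↥U₀.left) := specializes_iff_mem_closure.1 hww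
    rw [(hcl w').closure_eq] at this
    exact this
  rw [discreteTopology_iff_isOpen_singleton]
  intro x
  obtain ⟨u, hu⟩ := ofPt_surjective a₀ has x
  have h2 := isOpenMap_ofPt a₀ hae _ (isOpen_discrete ({u} : Set ↥U₀.left))
  rwa [Set.image_singleton, hu] at h2

end JN

end Groth.Agent.H25.AS
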