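import Groth.Agent.H25.AlgSp97

/-!
# Algebraic spaces toolkit, part 98: fibres of morphisms locally of finite type over field points
-/

set_option linter.style.haveILetI false

universe u

open CategoryTheory CategoryTheory.Limits AlgebraicGeometry Opposite AlgSp MorphismProperty
open Topology

namespace Groth.Agent.H25.AS

/-- Transfer of pointwise topological properties along an embedding onto a subset. -/
theorem exists_homeo_of_embedding {A B : Type*} [TopologicalSpace A] [TopologicalSpace B]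
    (e : A → B) (he : IsEmbedding e) (F : Set B) (hr : Set.range e = F) :
    ∃ ψ : A ≃ₜ ↥F, ∀ a, (ψ a : B) = e a := by
  have hs : ∀ a, e a ∈ F := fun a => hr ▸ Set.mem_range_self a
  have hsurj : Function.Surjective (Set.codRestrict e F hs) := by
    rintro ⟨b, hb⟩
    rw [← hr] at hb
    obtain ⟨a, rfl⟩ := hb
    exact ⟨a, rfl⟩
  exact ⟨(he.codRestrict F hs).toHomeomorphOfSurjective hsurj, fun a => rfl⟩

theorem homeo_isOpen_singleton {A B : Type*} [TopologicalSpace A] [TopologicalSpace B]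
    (ψ : A ≃ₜ B) (a : A) : IsOpen ({ψ a} : Set B) ↔ IsOpen ({a} : Set A) := by
  rw [← ψ.isOpen_image, Set.image_singleton]

theorem homeo_isClosed_singleton {A B : Type*} [TopologicalSpace A] [TopologicalSpace B]
    (ψ : A ≃ₜ B) (a : A) : IsClosed ({ψ a} : Set B) ↔ IsClosed ({a} : Set A) := by
  rw [← ψ.isClosed_image, Set.image_singleton]

theorem homeo_nogen {A B : Type*} [TopologicalSpace A] [TopologicalSpace B]
    (ψ : A ≃ₜ B) (a : A) :
    (∀ b' : B, b' ⤳ ψ a → b' = ψ a) ↔ (∀ a' : A, a' ⤳ a → a' = a) := by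
  constructor
  · intro H a' ha'
    exact ψ.injective (H (ψ a') (ha'.map ψ.continuous))
  · intro H b' hb'
    obtain ⟨a', rfl⟩ := ψ.surjective b'
    rw [H a' (ψ.isInducing.specializes_iff.1 hb')]

theorem homeo_isLocallyClosed_singleton {A B : Type*} [TopologicalSpace A] [TopologicalSpace B]
    (ψ : A ≃ₜ B) (a : A) (h : IsLocallyClosed ({ψ a} : Set B)) :
    IsLocallyClosed ({a} : Set A) := by
  have := h.preimage ψ.continuous
  have e : ψ ⁻¹' {ψ a} = {a} := by
    ext a'
    simp only [Set.mem_preimage, Set.mem_singleton_iff]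
    exact ψ.injective.eq_iff
  rwa [e] at this

variable {S : Scheme.{u}}

theorem lft_chart_of_fibre {X Y Xk : Sp S} (hX : IsAlgSpace X) (hY : IsAlgSpace Y) {f : X ⟶ Y}
    (hf : LocP @LocallyOfFiniteType f) (r : FieldPt Y) {fst : Xk ⟶ X}
    {snd : Xk ⟶ (yon S).obj r.pt} (hsq : IsPullback fst snd f r.toHom) {U : Over S}
    (a : (yon S).obj U ⟶ Xk) (hae : RepWith @Etale a) (g : U ⟶ r.pt)
    (hg : (yon S).map g = a ≫ snd) : LocallyOfFiniteType g.left := by
  have hsnd : LocP @LocallyOfFiniteType snd :=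
    locP_of_isPullback etLoc_locallyOfFiniteType hX hY (IsAlgSpace.yon_obj _) hsq hf
  exact hsnd a (𝟙 _) g hae (repWith_id _ _) (by rw [hg, Category.comp_id])

theorem jn_fibre {X Y Xk : Sp S} (hX : IsAlgSpace X) (hY : IsAlgSpace Y) {f : X ⟶ Y}
    (hf : LocP @LocallyOfFiniteType f) (r : FieldPt Y) {fst : Xk ⟶ X}
    {snd : Xk ⟶ (yon S).obj r.pt} (hsq : IsPullback fst snd f r.toHom) : JN Xk := by
  constructor
  · intro U a hae
    obtain ⟨g, hg⟩ := (yon S).map_surjective (a ≫ snd)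
    haveI := lft_chart_of_fibre hX hY hf r hsq a hae g hg
    haveI : JacobsonSpace ↥r.pt.left :=
      (inferInstance : JacobsonSpace ↥(Spec (CommRingCat.of r.K)))
    exact LocallyOfFiniteType.jacobsonSpace g.left
  · intro U a hae
    obtain ⟨g, hg⟩ := (yon S).map_surjective (a ≫ snd)
    haveI := lft_chart_of_fibre hX hY hf r hsq a hae g hg
    haveI : IsLocallyNoetherian r.pt.left :=
      (inferInstance : IsLocallyNoetherian (Spec (CommRingCat.of r.K)))
    exact LocallyOfFiniteType.isLocallyNoetherian g.left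

theorem range_map_fst_fibre {X Y Xk : Sp S} (f : X ⟶ Y) (r : FieldPt Y) {fst : Xk ⟶ X}
    {snd : Xk ⟶ (yon S).obj r.pt} (hsq : IsPullback fst snd f r.toHom) :
    Set.range (Points.map fst) = Points.map f ⁻¹' {Points.mk r} := by
  have hfib : ∀ z : Points Xk, Points.map f (Points.map fst z) = Points.mk r := by
    intro z
    rw [← Points.map_comp, hsq.w, Points.map_comp]
    obtain ⟨s, hs⟩ := exists_ofScheme (Points.map snd z)
    rw [← hs, ← Points.ofPt_eq_map_ofScheme, Points.ofPt_toHom]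
  ext x
  constructor
  · rintro ⟨z, rfl⟩
    exact hfib z
  · intro hx
    have e : Points.map f x = Points.map r.toHom
        (Points.ofScheme r.pt (show ↥r.pt.left from IsLocalRing.closedPoint r.K)) := by
      rw [← Points.ofPt_eq_map_ofScheme, Points.ofPt_toHom]
      exact hx
    obtain ⟨z, hz, -⟩ := exists_of_isPullback hsq x _ e
    exact ⟨z, hz⟩

theorem hasAt_localDim_iff_qfNear_fibre {X Y Xk : Sp S} (hX : IsAlgSpace X) (hY : IsAlgSpace Y)
    (hXk : IsAlgSpace Xk) {f : X ⟶ Y}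
    (hf : LocP @LocallyOfFiniteType f) (r : FieldPt Y) {fst : Xk ⟶ X}
    {snd : Xk ⟶ (yon S).obj r.pt} (hsq : IsPullback fst snd f r.toHom) (xt : Points Xk) :
    HasAt (fun U u => FlatMor.localDim ↥U u = 0) Xk xt ↔
      HasAtMor (NearP (@LocallyQuasiFinite ⊓ @LocallyOfFiniteType)) f (Points.map fst xt) := by
  have hE : EtLoc (@LocallyQuasiFinite ⊓ @LocallyOfFiniteType) :=
    etLoc_locallyQuasiFinite.inf etLoc_locallyOfFiniteType
  have hQ : PtEtLoc (NearP (@LocallyQuasiFinite ⊓ @LocallyOfFiniteType)) := ptEtLoc_near hE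
  have hjn := jn_fibre hX hY hf r hsq
  rw [← hasAtMor_baseChange_iff hQ (P₀ := @LocallyOfFiniteType)
    (fun sq hh u₁ => qfNear_baseChange_iff sq hh u₁) hX hY (IsAlgSpace.yon_obj _) hsq hf xt]
  haveI : Subsingleton ↥r.pt.left := inferInstanceAs (Subsingleton (PrimeSpectrum r.K))
  constructor
  · rintro ⟨U, a, u, hae, hu, hdim⟩
    obtain ⟨g, hg⟩ := (yon S).map_surjective (a ≫ snd)
    haveI := lft_chart_of_fibre hX hY hf r hsq a hae g hg
    haveI := hjn.noeth U a hae
    have h1 : IsOpen ({u} : Set ↥U.left) := isOpen_singleton_of_localDim_eq_zero u hdim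
    have hiso : IsolatedInFibre g.left u := ⟨⟨{u}, h1⟩, rfl, fun u' hu' _ => hu'⟩
    obtain ⟨W', hW', h3, h4⟩ := qfNear_of_isolatedInFibre g.left u hiso
    exact ⟨U, r.pt, a, 𝟙 _, g, u, hae, repWith_id _ _, by rw [hg, Category.comp_id], hu,
      W', hW', h3, h4⟩
  · intro H
    obtain ⟨U, a, hae, has⟩ := hXk.atlas
    obtain ⟨u, hu⟩ := ofPt_surjective a has xt
    obtain ⟨g, hg⟩ := (yon S).map_surjective (a ≫ snd)
    have hq := hasAtMor_all_of_some hQ snd xt H a (𝟙 _) g u hae (repWith_id _ _)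
      (by rw [hg, Category.comp_id]) hu
    obtain ⟨O, huO, hO⟩ := isolatedInFibre_of_qfNear g.left u hq
    have hOe : ({u} : Set ↥U.left) = O := by
      ext u'
      constructor
      · rintro rfl; exact huO
      · intro hu'; exact hO u' hu' (Subsingleton.elim _ _)
    have h1 : IsOpen ({u} : Set ↥U.left) := by rw [hOe]; exact O.2
    exact ⟨U, a, u, hae, hu, localDim_eq_zero_of_isOpen_singleton u h1⟩

/-- Over a point `y` of a decent space `Y`, the set-theoretic fibre of `f : X ⟶ Y` (locally of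
finite type) is homeomorphic to the space of points of a fibre which has Jacobson, locally
Noetherian charts. -/
theorem exists_fibre_model {X Y : Sp S} (hX : IsAlgSpace X) (hY : IsAlgSpace Y) (hYd : IsDecent Y)
    {f : X ⟶ Y} (hf : LocP @LocallyOfFiniteType f) (y : Points Y) :
    ∃ (Xκ : Sp S) (_ : IsAlgSpace Xκ) (_ : JN Xκ) (fst₀ : Xκ ⟶ X)
      (ψ : Points Xκ ≃ₜ ↥(Points.map f ⁻¹' {y})), (∀ z, (ψ z : Points X) = Points.map fst₀ z) ∧
      ∀ z : Points Xκ, (HasAt (fun U u => FlatMor.localDim ↥U u = 0) Xκ z ↔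
        HasAtMor (NearP (@LocallyQuasiFinite ⊓ @LocallyOfFiniteType)) f (Points.map fst₀ z)) := by
  obtain ⟨r₀, rfl, hm, hq⟩ := hYd y
  have hsq₀ := IsPullback.of_hasPullback f r₀.toHom
  have hXκ : IsAlgSpace (pullback f r₀.toHom) :=
    isAlgSpace_of_isPullback hY.diag hX (IsAlgSpace.yon_obj _) hsq₀
  obtain ⟨hemb, hrange⟩ := fibre_embedding hX hY f r₀ hm hq _ _ hsq₀
  obtain ⟨ψ, hψ⟩ := exists_homeo_of_embedding _ hemb _ hrange
  exact ⟨pullback f r₀.toHom, hXκ, jn_fibre hX hY hf r₀ hsq₀, pullback.fst f r₀.toHom, ψ, hψ,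
    fun z => hasAt_localDim_iff_qfNear_fibre hX hY hXκ hf r₀ hsq₀ z⟩

theorem fibre_point_props {X Y : Sp S} (hX : IsAlgSpace X) (hY : IsAlgSpace Y) (hYd : IsDecent Y)
    {f : X ⟶ Y} (hf : LocP @LocallyOfFiniteType f) (y : Points Y) :
    (∀ (x : Points X) (hx : x ∈ Points.map f ⁻¹' {y}),
      (IsOpen ({⟨x, hx⟩} : Set ↥(Points.map f ⁻¹' {y})) ↔
        HasAtMor (NearP (@LocallyQuasiFinite ⊓ @LocallyOfFiniteType)) f x) ∧
      ((IsClosed ({⟨x, hx⟩} : Set ↥(Points.map f ⁻¹' {y})) ∧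
          ∀ x' : ↥(Points.map f ⁻¹' {y}), x' ⤳ (⟨x, hx⟩ : ↥(Points.map f ⁻¹' {y})) →
            x' = ⟨x, hx⟩) ↔
        IsOpen ({⟨x, hx⟩} : Set ↥(Points.map f ⁻¹' {y}))) ∧
      (T0Space (Points X) →
        (FlatMor.localDim ↥(Points.map f ⁻¹' {y}) ⟨x, hx⟩ = 0 ↔
          IsOpen ({⟨x, hx⟩} : Set ↥(Points.map f ⁻¹' {y}))))) ∧
    (T0Space (Points X) → (Points.map f ⁻¹' {y}).Finite →
      DiscreteTopology ↥(Points.map f ⁻¹' {y})) := by
  obtain ⟨Xκ, hXκ, hjn, fst₀, ψ, hψ, hqf⟩ := exists_fibre_model hX hY hYd hf y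
  refine ⟨fun x hx => ?_, fun hT0 hfin => ?_⟩
  · obtain ⟨z, hz⟩ := ψ.surjective ⟨x, hx⟩
    have hzx : Points.map fst₀ z = x := by rw [← hψ z, hz]
    have hopen : IsOpen ({⟨x, hx⟩} : Set ↥(Points.map f ⁻¹' {y})) ↔
        IsOpen ({z} : Set (Points Xκ)) := by
      rw [← hz]; exact homeo_isOpen_singleton ψ z
    refine ⟨?_, ?_, fun hT0 => ?_⟩
    · rw [hopen, hjn.isOpen_iff_hasAt_localDim hXκ z, hqf z, hzx]
    · rw [hopen, hjn.isOpen_iff_closed_nogen hXκ z, ← hz, homeo_isClosed_singleton ψ z,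
        homeo_nogen ψ z]
    · constructor
      · intro hdim
        haveI : T0Space ↥(Points.map f ⁻¹' {y}) := inferInstance
        obtain ⟨hlc, hgen⟩ := isLocallyClosed_and_nogen_of_localDim_eq_zero _ hdim
        rw [hopen]
        rw [← hz] at hlc hgen
        exact hjn.isOpen_of_locallyClosed_nogen hXκ z
          (homeo_isLocallyClosed_singleton ψ z hlc) ((homeo_nogen ψ z).1 hgen)
      · intro ho
        exact localDim_eq_zero_of_isOpen_singleton _ ho
  · haveI : Finite ↥(Points.map f ⁻¹' {y}) := hfin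
    haveI : Finite (Points Xκ) := Finite.of_equiv _ ψ.symm.toEquiv
    haveI : T0Space (Points Xκ) := ψ.isEmbedding.t0Space
    haveI := hjn.discrete_of_finite hXκ
    exact ψ.symm.isEmbedding.discreteTopology

end Groth.Agent.H25.AS
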