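import Groth.Agent.H25.AlgSp98

/-!
# Algebraic spaces toolkit, part 99: local dimension is étale local
-/

set_option linter.style.haveILetI false

universe u

open CategoryTheory CategoryTheory.Limits AlgebraicGeometry Opposite AlgSp MorphismProperty
open Topology

namespace Groth.Agent.H25.AS

theorem topologicalKrullDim_opens_eq_iSup {W : Scheme.{u}} (N : W.Opens) :
    topologicalKrullDim ↥N = ⨆ n : ↥N, ringKrullDim (W.presheaf.stalk n.1) := by
  have := topologicalKrullDim_eq_iSup_stalk N.toScheme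
  rw [show topologicalKrullDim ↥N = topologicalKrullDim N.toScheme from rfl, this]
  exact iSup_congr fun n => stalk_dim_eq_of_etale N.ι n

theorem localDim_eq_of_etale {W V : Scheme.{u}} (h : W ⟶ V) [Etale h] (w : W) :
    FlatMor.localDim W w = FlatMor.localDim V (h w) := by
  unfold FlatMor.localDim
  apply le_antisymm
  · refine le_iInf fun M => ?_
    refine (iInf_le _ (⟨h ⁻¹ᵁ M.1, M.2⟩ : {U : TopologicalSpace.Opens W // w ∈ U})).trans ?_
    change topologicalKrullDim ↥(h ⁻¹ᵁ M.1) ≤ topologicalKrullDim ↥M.1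
    rw [topologicalKrullDim_opens_eq_iSup, topologicalKrullDim_opens_eq_iSup]
    refine iSup_le fun n => ?_
    rw [stalk_dim_eq_of_etale h n.1]
    exact le_iSup (fun m : ↥M.1 => ringKrullDim (V.presheaf.stalk m.1)) ⟨h n.1, n.2⟩
  · refine le_iInf fun N => ?_
    let M : V.Opens := ⟨h '' (N.1 : Set W), h.isOpenMap _ N.1.2⟩
    refine (iInf_le _ (⟨M, ⟨w, N.2, rfl⟩⟩ : {U : TopologicalSpace.Opens V // h w ∈ U})).trans ?_
    change topologicalKrullDim ↥M ≤ topologicalKrullDim ↥N.1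
    rw [topologicalKrullDim_opens_eq_iSup, topologicalKrullDim_opens_eq_iSup]
    refine iSup_le fun m => ?_
    obtain ⟨m, n, hn, rfl⟩ := m
    change ringKrullDim (V.presheaf.stalk (h n)) ≤ _
    rw [← stalk_dim_eq_of_etale h n]
    exact le_iSup (fun n : ↥N.1 => ringKrullDim (W.presheaf.stalk n.1)) ⟨n, hn⟩

variable {S : Scheme.{u}}

theorem localDim_chart_indep {X : Sp S} {U₁ U₂ : Over S} (a₁ : (yon S).obj U₁ ⟶ X)
    (a₂ : (yon S).obj U₂ ⟶ X) (ha₁ : RepWith @Etale a₁) (ha₂ : RepWith @Etale a₂)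
    (u₁ : ↥U₁.left) (u₂ : ↥U₂.left) (e : Points.ofPt a₁ u₁ = Points.ofPt a₂ u₂) :
    FlatMor.localDim ↥U₁.left u₁ = FlatMor.localDim ↥U₂.left u₂ := by
  have sqU := ha₁.rep.isPullback' a₂
  haveI hq₂ : Etale (ha₁.rep.snd a₂).left := ha₁.property_snd a₂
  haveI hq₁ : Etale (ha₁.rep.fst' a₂).left :=
    (repWith_yon_map_iff @Etale _).1 (repWith_fst_of_isPullback sqU ha₂)
  obtain ⟨u₃, hu₃2, hu₃1⟩ := exists_point_of_isPullback' sqU u₂ u₁ e.symm
  have t1 := localDim_eq_of_etale (ha₁.rep.fst' a₂).left u₃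
  have t2 := localDim_eq_of_etale (ha₁.rep.snd a₂).left u₃
  rw [hu₃1] at t1
  rw [hu₃2] at t2
  exact t1.symm.trans t2

end Groth.Agent.H25.AS
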