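import Groth.Agent.H25.EtNbhd1
import Groth.Statements.S10512

/-!
# The functor from the small etale site of `Y` to the big etale site of spaces over `X` is cocontinuous
-/

universe u

open CategoryTheory CategoryTheory.Limits AlgebraicGeometry Opposite AlgSp

namespace Groth.Agent.H25.AS

variable {S : Scheme.{u}}

/-- Every point of `W` lies in the image of a scheme etale over `W` belonging to the sieve. -/
def SievePt {W : Space S} (T : Sieve W) : Prop :=
  ∀ x : Points W.obj, ∃ (V : Over S) (g : (yon S).obj V ⟶ W.obj) (_ : RepWith @Etale g) (v : ↥V.left),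
    T (ObjectProperty.homMk g : (ofScheme S).obj V ⟶ W) ∧ Points.ofPt g v = x

theorem sievePt_of_saturate {W : Space S} {T : Sieve W}
    (h : (spacesPre S IsEtaleMor).Saturate W T) : SievePt T := by
  induction h with
  | of W R hR =>
    intro x
    obtain ⟨hP, hx⟩ := hR
    obtain ⟨Y, g, hg, x', rfl⟩ := hx x
    obtain ⟨A, a, hae, has⟩ := Y.property.atlas
    obtain ⟨a₀, rfl⟩ := ofPt_surjective a has x'
    refine ⟨A, a ≫ g.hom, hP g hg a hae, a₀, ?_, (Points.map_ofPt a g.hom a₀).symm⟩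
    exact ⟨Y, ObjectProperty.homMk a, g, hg, rfl⟩
  | top W =>
    intro x
    obtain ⟨A, a, hae, has⟩ := W.property.atlas
    obtain ⟨a₀, rfl⟩ := ofPt_surjective a has x
    exact ⟨A, a, hae, a₀, trivial, rfl⟩
  | pullback W T hT W₂ f ih =>
    intro x₂
    obtain ⟨V, g, hg, v, hTg, hv⟩ := ih (Points.map f.hom x₂)
    obtain ⟨A, a, hae, has⟩ := W₂.property.atlas
    obtain ⟨a₀, rfl⟩ := ofPt_surjective a has x₂
    obtain ⟨V₂, snd, fst, sq⟩ := hg.1 (a ≫ f.hom)
    have hsnd : Etale snd.left := hg.2 (a ≫ f.hom) fst snd sq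
    obtain ⟨z, hz1, hz2⟩ := exists_of_isPullback sq (Points.ofScheme V v) (Points.ofScheme A a₀) (by
      rw [← Points.ofPt_eq_map_ofScheme, hv, Points.map_ofPt, ← Points.ofPt_eq_map_ofScheme])
    obtain ⟨v₂, rfl⟩ := exists_ofScheme z
    rw [map_yon_map_ofScheme] at hz2
    have hz2' : snd.left v₂ = a₀ := ofScheme_injective _ hz2
    refine ⟨V₂, (yon S).map snd ≫ a,
      (repWith_isMultiplicative (S := S) @Etale).comp_mem _ _ ((repWith_yon_map_iff _ _).2 hsnd) hae,
      v₂, ?_, ?_⟩
    · have e1 : (ObjectProperty.homMk ((yon S).map snd ≫ a) : (ofScheme S).obj V₂ ⟶ W₂) ≫ f =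
          (ObjectProperty.homMk fst : (ofScheme S).obj V₂ ⟶ (ofScheme S).obj V) ≫
            (ObjectProperty.homMk g : (ofScheme S).obj V ⟶ W) := by
        apply ObjectProperty.hom_ext
        exact (Category.assoc _ _ _).trans sq.w.symm
      have h2 := T.downward_closed hTg
        (ObjectProperty.homMk fst : (ofScheme S).obj V₂ ⟶ (ofScheme S).obj V)
      show T.arrows (_ ≫ f)
      exact e1 ▸ h2
    · rw [ofPt_map_comp, hz2']
  | transitive W T R hT hR ihT ihR =>
    intro x
    obtain ⟨V, g, hg, v, hTg, rfl⟩ := ihT x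
    obtain ⟨V', g', hg', v', hR', hv'⟩ := ihR hTg (Points.ofScheme V v)
    refine ⟨V', g' ≫ g, (repWith_isMultiplicative (S := S) @Etale).comp_mem _ _ hg' hg, v', hR', ?_⟩
    exact ((Points.map_ofPt g' g v').symm.trans (congrArg (Points.map g) hv')).trans
      (Points.ofPt_eq_map_ofScheme g v).symm

theorem cover_lift_bigSmall {X Y : Space S} (f : Y ⟶ X) (U₀ : EtOver Y.obj)
    (R : Sieve ((EtOver.toEtSpOver Y ⋙ ObjectProperty.ι (fun E : Over Y => IsEtaleMor E.hom.hom) ⋙
        Over.map f).obj U₀))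
    (hR : R ∈ spacesTopOver IsEtaleMor X _) :
    R.functorPullback (EtOver.toEtSpOver Y ⋙
      ObjectProperty.ι (fun E : Over Y => IsEtaleMor E.hom.hom) ⋙ Over.map f) ∈ etTop Y.obj U₀ := by
  rw [GrothendieckTopology.mem_over_iff] at hR
  have hQ := sievePt_of_saturate hR
  choose V g hg v hT hv using fun u : ↥U₀.obj.left.left => hQ (Points.ofScheme U₀.obj.left u)
  let γ : ∀ u, V u ⟶ U₀.obj.left := fun u => (yon S).preimage (g u)
  have hγ : ∀ u, (yon S).map (γ u) = g u := fun u => (yon S).map_preimage (g u)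
  let E : ↥U₀.obj.left.left → EtOver Y.obj := fun u => EtOver.mk (g u ≫ U₀.obj.hom)
    ((repWith_isMultiplicative (S := S) @Etale).comp_mem _ _ (hg u) U₀.property)
  let m : ∀ u, E u ⟶ U₀ := fun u => EtOver.homMk (γ u) (by rw [hγ]; rfl)
  have hm : ∀ u, R.arrows ((EtOver.toEtSpOver Y ⋙
      ObjectProperty.ι (fun E : Over Y => IsEtaleMor E.hom.hom) ⋙ Over.map f).map (m u)) := by
    intro u
    have h1 := (Sieve.overEquiv_symm_iff (Sieve.overEquiv _ R)
      ((EtOver.toEtSpOver Y ⋙ ObjectProperty.ι (fun E : Over Y => IsEtaleMor E.hom.hom) ⋙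
        Over.map f).map (m u))).2 (by
        have e : ((EtOver.toEtSpOver Y ⋙ ObjectProperty.ι (fun E : Over Y => IsEtaleMor E.hom.hom) ⋙
            Over.map f).map (m u)).left =
            (ObjectProperty.homMk (g u) : (ofScheme S).obj (V u) ⟶ _) := by
          apply ObjectProperty.hom_ext
          exact hγ u
        exact e ▸ hT u)
    have hR2 : (Sieve.overEquiv ((EtOver.toEtSpOver Y ⋙
        ObjectProperty.ι (fun E : Over Y => IsEtaleMor E.hom.hom) ⋙ Over.map f).obj U₀)).symm
          (Sieve.overEquiv _ R) = R := (Sieve.overEquiv ((EtOver.toEtSpOver Y ⋙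
        ObjectProperty.ι (fun E : Over Y => IsEtaleMor E.hom.hom) ⋙ Over.map f).obj U₀)).symm_apply_apply R
    exact hR2 ▸ h1
  refine (etTop Y.obj).superset_covering ?_ (ofArrows_mem_etTop E m fun u => ?_)
  · rw [Sieve.ofArrows, Sieve.generate_le_iff]
    rintro _ _ ⟨u⟩
    exact hm u
  · refine ⟨u, v u, ?_⟩
    have h2 := hv u
    rw [← hγ u] at h2
    exact ofScheme_injective _ ((ofPt_yon_map (γ u) (v u)).symm.trans h2)

end Groth.Agent.H25.AS
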