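import Groth.Agent.H25.BigSmall
import Groth.Statements.S10513

/-!
# The functor from the small etale site of `Y` to the big etale site of spaces over `X` is continuous
-/

universe w u

open CategoryTheory CategoryTheory.Limits AlgebraicGeometry Opposite AlgSp

namespace Groth.Agent.H25.AS

variable {S : Scheme.{u}}

/-- The comparison functor. -/
noncomputable abbrev bsF {X Y : Space S} (f : Y ⟶ X) : EtOver Y.obj ⥤ Over X :=
  EtOver.toEtSpOver Y ⋙ ObjectProperty.ι (fun E : Over Y => IsEtaleMor E.hom.hom) ⋙ Over.map f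

theorem exists_lift_yon {X : Sp S} {E E₁ E₂ : EtOver X} (g₁ : E₁ ⟶ E) (g₂ : E₂ ⟶ E)
    {W : Sp S} (a : W ⟶ (yon S).obj E₁.obj.left) (b : W ⟶ (yon S).obj E₂.obj.left)
    (h : a ≫ (yon S).map g₁.hom.left = b ≫ (yon S).map g₂.hom.left) :
    ∃ l : W ⟶ (yon S).obj (EtOver.pullbackObj g₁ g₂).obj.left,
      l ≫ (yon S).map (EtOver.pullbackFst g₁ g₂).hom.left = a ∧
      l ≫ (yon S).map (EtOver.pullbackSnd g₁ g₂).hom.left = b := by
  have sq := (IsPullback.of_hasPullback g₁.hom.left g₂.hom.left).map (yon S)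
  exact ⟨sq.lift a b h, sq.lift_fst _ _ _, sq.lift_snd _ _ _⟩

theorem exists_lift_bsF {X Y : Space S} (f : Y ⟶ X) {E E₁ E₂ : EtOver Y.obj} (g₁ : E₁ ⟶ E)
    (g₂ : E₂ ⟶ E) {Z : Over X} (k₁ : Z ⟶ (bsF f).obj E₁) (k₂ : Z ⟶ (bsF f).obj E₂)
    (h : k₁ ≫ (bsF f).map g₁ = k₂ ≫ (bsF f).map g₂) :
    ∃ l : Z ⟶ (bsF f).obj (EtOver.pullbackObj g₁ g₂),
      l ≫ (bsF f).map (EtOver.pullbackFst g₁ g₂) = k₁ ∧
      l ≫ (bsF f).map (EtOver.pullbackSnd g₁ g₂) = k₂ := by
  have h' : k₁.left.hom ≫ (yon S).map g₁.hom.left = k₂.left.hom ≫ (yon S).map g₂.hom.left :=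
    congrArg (fun k => k.left.hom) h
  obtain ⟨l₀, hl1, hl2⟩ := exists_lift_yon g₁ g₂ k₁.left.hom k₂.left.hom h'
  have w1 := Over.w k₁
  refine ⟨Over.homMk (ObjectProperty.homMk l₀) ?_, ?_, ?_⟩
  · apply ObjectProperty.hom_ext
    have w1' : k₁.left.hom ≫ E₁.obj.hom ≫ f.hom = Z.hom.hom := congrArg (fun k => k.hom) w1
    have h3 : l₀ ≫ ((yon S).map (EtOver.pullbackFst g₁ g₂).hom.left ≫ E₁.obj.hom) ≫ f.hom =
        Z.hom.hom := by
      rw [← w1', ← hl1]
      simp only [Category.assoc]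
      exact (Category.assoc _ _ _).symm
    exact h3
  · apply Over.OverMorphism.ext
    apply ObjectProperty.hom_ext
    exact hl1
  · apply Over.OverMorphism.ext
    apply ObjectProperty.hom_ext
    exact hl2

theorem compatiblePreserving_bsF {X Y : Space S} (f : Y ⟶ X) :
    CompatiblePreserving.{w} (spacesTopOver IsEtaleMor X) (bsF f) := by
  constructor
  intro ℱ Z T x hx Y₁ Y₂ W f₁ f₂ g₁ g₂ hg₁ hg₂ e
  obtain ⟨l, hl1, hl2⟩ := exists_lift_bsF f g₁ g₂ f₁ f₂ e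
  have key := hx (EtOver.pullbackFst g₁ g₂) (EtOver.pullbackSnd g₁ g₂) hg₁ hg₂
    (EtOver.pullback_condition g₁ g₂)
  rw [← hl1, ← hl2, op_comp, op_comp, Functor.map_comp, Functor.map_comp]
  exact congrArg (ℱ.obj.map l.op) key

theorem coverPreserving_bsF {X Y : Space S} (f : Y ⟶ X) :
    CoverPreserving (etTop Y.obj) (spacesTopOver IsEtaleMor X) (bsF f) := by
  constructor
  intro U R hR
  rw [etTop, Precoverage.mem_toGrothendieck_iff_of_isStableUnderComposition] at hR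
  obtain ⟨R₀, hR₀, hle⟩ := hR
  rw [GrothendieckTopology.mem_over_iff]
  let ι := Σ E' : EtOver Y.obj, {g : E' ⟶ U // R₀ g}
  let R' : Presieve ((bsF f).obj U).left :=
    Presieve.ofArrows (fun i : ι => (ofScheme S).obj i.1.obj.left)
      (fun i => ((bsF f).map i.2.1).left)
  have hR' : R' ∈ spacesPre S IsEtaleMor ((bsF f).obj U).left := by
    refine ⟨?_, ?_⟩
    · rintro _ _ ⟨i⟩
      exact (isEtaleMor_yon_map_iff _).2 (EtOver.etale_left i.2.1)
    · intro x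
      obtain ⟨u, rfl⟩ := exists_ofScheme x
      have hR₀' : R₀.map (EtOver.toScheme Y.obj) ∈ Scheme.precoverage @Etale _ := hR₀
      obtain ⟨_, _, ⟨hg⟩, v, hv⟩ := Scheme.JointlySurjective.exists_eq _ hR₀' u
      refine ⟨_, _, Presieve.ofArrows.mk (⟨_, ⟨_, hg⟩⟩ : ι), Points.ofScheme _ v, ?_⟩
      rw [← hv]
      exact map_yon_map_ofScheme _ v
  refine (spacesTop S IsEtaleMor).superset_covering ?_ (Precoverage.generate_mem_toGrothendieck hR')
  rw [Sieve.generate_le_iff]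
  rintro _ _ ⟨i⟩
  exact ⟨(bsF f).obj i.1, (bsF f).map i.2.1, 𝟙 _,
    Sieve.image_mem_functorPushforward _ _ (hle _ _ i.2.2), (Category.id_comp _).symm⟩

end Groth.Agent.H25.AS
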