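import Groth.Agent.H25.PreEqv2

/-!
# The coprojections of a coproduct of fppf sheaves are jointly fpqc-refinable
-/

universe u

open CategoryTheory CategoryTheory.Limits AlgebraicGeometry Opposite AlgSp

namespace Groth.Agent.H25.AS

variable {S : Scheme.{u}}

/-- presheaf coproduct -/
def sigmaPsh {ι : Type u} (F : ι → Sp S) : (Over S)ᵒᵖ ⥤ Type (u + 1) where
  obj T := Σ i, (F i).obj.obj T
  map {T T'} f := TypeCat.ofHom (fun q => ⟨q.1, (F q.1).obj.map f q.2⟩)
  map_id T := by
    refine ConcreteCategory.hom_ext _ _ (fun q => ?_)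
    obtain ⟨i, x⟩ := q
    refine congrArg (Sigma.mk i) ?_
    rw [CategoryTheory.Functor.map_id]
    rfl
  map_comp f g := by
    refine ConcreteCategory.hom_ext _ _ (fun q => ?_)
    obtain ⟨i, x⟩ := q
    refine congrArg (Sigma.mk i) ?_
    rw [CategoryTheory.Functor.map_comp]
    rfl

def sigmaPshι {ι : Type u} (F : ι → Sp S) (i : ι) : (F i).obj ⟶ sigmaPsh F where
  app T := TypeCat.ofHom (fun x => ⟨i, x⟩)
  naturality T T' f := by
    ext x
    rfl

def sigmaPshDesc {ι : Type u} (F : ι → Sp S) (c : Cofan F) : sigmaPsh F ⟶ c.pt.obj where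
  app T := TypeCat.ofHom (fun q => (c.inj q.1).hom.app T q.2)
  naturality T T' f := by
    ext ⟨i, x⟩
    exact NatTrans.naturality_apply (c.inj i).hom f x

theorem isLocallySurjective_sigmaPshDesc {ι : Type u} (F : ι → Sp S) (c : Cofan F)
    (hc : IsColimit c) : Presheaf.IsLocallySurjective (J S) (sigmaPshDesc F c) := by
  let Q := sigmaPsh F
  let η : Q ⟶ sheafify (J S) Q := toSheafify (J S) Q
  let Q' : Sp S := (presheafToSheaf (J S) _).obj Q
  let e : Q' ⟶ c.pt := ObjectProperty.homMk (sheafifyLift (J S) (sigmaPshDesc F c) c.pt.property)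
  let d : c.pt ⟶ Q' := Cofan.IsColimit.desc hc (fun i => ObjectProperty.homMk (sigmaPshι F i ≫ η))
  have hde : d ≫ e = 𝟙 _ := by
    refine Cofan.IsColimit.hom_ext hc _ _ fun i => ?_
    rw [← Category.assoc, Cofan.IsColimit.fac hc, Category.comp_id]
    apply ObjectProperty.hom_ext
    change (sigmaPshι F i ≫ η) ≫ sheafifyLift (J S) (sigmaPshDesc F c) c.pt.property = _
    rw [Category.assoc, toSheafify_sheafifyLift]
    ext T x
    rfl
  haveI : IsSplitEpi e := IsSplitEpi.mk' ⟨d, hde⟩
  have hepi : Epi e := inferInstance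
  have hls : Sheaf.IsLocallySurjective e := (Sheaf.isLocallySurjective_iff_epi _).2 hepi
  have hls' : Presheaf.IsLocallySurjective (J S) e.hom := hls
  have hη : Presheaf.IsLocallySurjective (J S) η := inferInstance
  have hcomp : Presheaf.IsLocallySurjective (J S) (η ≫ e.hom) := inferInstance
  have heq : η ≫ e.hom = sigmaPshDesc F c := toSheafify_sheafifyLift _ _ _
  rw [← heq]
  exact hcomp

/-- The coprojections of a coproduct of sheaves are jointly fpqc-refinable. -/
theorem fpqcRefine_cofan {ι : Type u} (F : ι → Sp S) (c : Cofan F) (hc : IsColimit c) :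
    FpqcRefine F (fun i => c.inj i) := by
  intro Z hZ h
  have := isLocallySurjective_sigmaPshDesc F c hc
  have hcov := Presheaf.imageSieve_mem (J S) (sigmaPshDesc F c) (U := op Z) (yE h)
  have : CompactSpace Z.left := by have := hZ; infer_instance
  obtain ⟨m, W, cW, hW, hfl, hs, hR⟩ := exists_fppf_family_of_covering _ hcov
  refine ⟨m, W, cW, hW, hfl, hs, fun k => ?_⟩
  obtain ⟨q, hq⟩ := hR k
  obtain ⟨i, x⟩ := q
  refine ⟨i, yE.symm x, ?_⟩
  apply yE.injective
  have h1 := (J S).uliftYonedaEquiv_comp.{u+1} (yE.symm x) (c.inj i)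
  have h2 := (J S).uliftYonedaEquiv_naturality.{u+1} h (cW k)
  rw [h1, ← h2, Equiv.apply_symm_apply]
  exact hq

end Groth.Agent.H25.AS
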