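import Mathlib.RingTheory.DiscreteValuationRing.TFAE
import Mathlib.RingTheory.Localization.AtPrime.Basic
import Mathlib.RingTheory.Polynomial.Basic
import Mathlib.Tactic

/-! helper25: localizations at primes whose extension is principal are discrete valuation rings -/

set_option autoImplicit false
universe u

namespace Groth.Agent.H25

open Polynomial

theorem isDVR_atPrime_of_principal {R : Type u} [CommRing R] [IsDomain R] [IsNoetherianRing R]
    (P : Ideal R) [P.IsPrime] (hP0 : P ≠ ⊥) (g : R) (hg : g ∈ P)
    (h : ∀ x ∈ P, ∃ u ∉ P, ∃ q, u * x = q * g) :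
    IsDiscreteValuationRing (Localization.AtPrime P) := by
  have : IsDomain (Localization.AtPrime P) :=
    IsLocalization.isDomain_localization P.primeCompl_le_nonZeroDivisors
  have hinj : Function.Injective (algebraMap R (Localization.AtPrime P)) :=
    IsLocalization.injective _ P.primeCompl_le_nonZeroDivisors
  have hmax : IsLocalRing.maximalIdeal (Localization.AtPrime P) =
      Ideal.span {algebraMap R (Localization.AtPrime P) g} := by
    rw [← Localization.AtPrime.map_eq_maximalIdeal]
    apply le_antisymm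
    · rw [Ideal.map_le_iff_le_comap]
      intro x hx
      obtain ⟨u, hu, q, huq⟩ := h x hx
      rw [Ideal.mem_comap, Ideal.mem_span_singleton']
      refine ⟨IsLocalization.mk' _ q (⟨u, hu⟩ : P.primeCompl), ?_⟩
      rw [mul_comm, IsLocalization.mul_mk'_eq_mk'_of_mul, eq_comm, IsLocalization.eq_mk'_iff_mul_eq,
        ← map_mul]
      congr 1
      rw [mul_comm x u, huq, mul_comm]
    · rw [Ideal.span_le, Set.singleton_subset_iff]
      exact Ideal.mem_map_of_mem _ hg
  have hnf : ¬ IsField (Localization.AtPrime P) := by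
    rw [IsLocalRing.isField_iff_maximalIdeal_eq, ← Localization.AtPrime.map_eq_maximalIdeal,
      Ideal.map_eq_bot_iff_of_injective hinj]
    exact hP0
  have hpr : (IsLocalRing.maximalIdeal (Localization.AtPrime P)).IsPrincipal := ⟨⟨_, hmax⟩⟩
  exact ((IsDiscreteValuationRing.TFAE _ hnf).out 0 4).mpr hpr

/-- pseudo-division by an element of minimal degree of a prime (or any) ideal of `A[X]` -/
theorem exists_C_mul_eq_mul_of_minimal {A : Type u} [CommRing A] [IsDomain A] (P : Ideal A[X])
    (f : A[X]) (hf : f ∈ P) (hf0 : f ≠ 0)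
    (hmin : ∀ g ∈ P, g ≠ 0 → f.natDegree ≤ g.natDegree) :
    ∀ h ∈ P, ∃ s : A, s ≠ 0 ∧ ∃ q, C s * h = q * f := by
  have key : ∀ n : ℕ, ∀ h : A[X], h.natDegree = n → h ∈ P → ∃ s : A, s ≠ 0 ∧ ∃ q, C s * h = q * f := by
    intro n
    induction n using Nat.strong_induction_on with
    | _ n ih =>
      intro h hn hh
      by_cases h0 : h = 0
      · exact ⟨1, one_ne_zero, 0, by simp [h0]⟩
      have hdeg : f.natDegree ≤ h.natDegree := hmin h hh h0
      have ha : f.leadingCoeff ≠ 0 := leadingCoeff_ne_zero.mpr hf0
      have hb : h.leadingCoeff ≠ 0 := leadingCoeff_ne_zero.mpr h0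
      have hh' : C f.leadingCoeff * h - C h.leadingCoeff * X ^ (h.natDegree - f.natDegree) * f ∈ P :=
        P.sub_mem (P.mul_mem_left _ hh) (P.mul_mem_left _ hf)
      by_cases h'0 : C f.leadingCoeff * h - C h.leadingCoeff * X ^ (h.natDegree - f.natDegree) * f = 0
      · exact ⟨f.leadingCoeff, ha, C h.leadingCoeff * X ^ (h.natDegree - f.natDegree),
          sub_eq_zero.mp h'0⟩
      have hp0 : C f.leadingCoeff * h ≠ 0 := mul_ne_zero (C_ne_zero.mpr ha) h0
      have hq0 : C h.leadingCoeff * X ^ (h.natDegree - f.natDegree) * f ≠ 0 :=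
        mul_ne_zero (mul_ne_zero (C_ne_zero.mpr hb) (pow_ne_zero _ X_ne_zero)) hf0
      have hnd1 : (C f.leadingCoeff * h).natDegree = h.natDegree := natDegree_C_mul ha
      have hnd2 : (C h.leadingCoeff * X ^ (h.natDegree - f.natDegree) * f).natDegree = h.natDegree := by
        rw [natDegree_mul (mul_ne_zero (C_ne_zero.mpr hb) (pow_ne_zero _ X_ne_zero)) hf0,
          natDegree_C_mul_X_pow _ _ hb]
        omega
      have hd : (C f.leadingCoeff * h).degree =
          (C h.leadingCoeff * X ^ (h.natDegree - f.natDegree) * f).degree := by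
        rw [degree_eq_natDegree hp0, degree_eq_natDegree hq0, hnd1, hnd2]
      have hlc : (C f.leadingCoeff * h).leadingCoeff =
          (C h.leadingCoeff * X ^ (h.natDegree - f.natDegree) * f).leadingCoeff := by
        rw [leadingCoeff_mul, leadingCoeff_mul, leadingCoeff_mul, leadingCoeff_C, leadingCoeff_C,
          leadingCoeff_X_pow, mul_one, mul_comm]
      have hlt := degree_sub_lt_left hd hp0 hlc
      have hlt' : (C f.leadingCoeff * h - C h.leadingCoeff * X ^ (h.natDegree - f.natDegree) * f).natDegree
          < n := by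
        have h3 := natDegree_lt_natDegree h'0 hlt
        calc _ < (C f.leadingCoeff * h).natDegree := h3
          _ = n := by rw [hnd1, hn]
      obtain ⟨s', hs', q', hq'⟩ := ih _ hlt' _ rfl hh'
      refine ⟨s' * f.leadingCoeff, mul_ne_zero hs' ha,
        q' + C s' * C h.leadingCoeff * X ^ (h.natDegree - f.natDegree), ?_⟩
      rw [C_mul]
      linear_combination hq'
  intro h hh
  exact key _ h rfl hh

/-- a uniformizer of the local ring at `p` coming from `p` itself -/
theorem exists_generator_of_dvr {A : Type u} [CommRing A] [IsDomain A] (p : Ideal A) [p.IsPrime]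
    [IsDiscreteValuationRing (Localization.AtPrime p)] :
    ∃ π ∈ p, ∀ a ∈ p, ∃ t ∉ p, ∃ b, t * a = b * π := by
  have hinj : Function.Injective (algebraMap A (Localization.AtPrime p)) :=
    IsLocalization.injective _ p.primeCompl_le_nonZeroDivisors
  obtain ⟨g, hg⟩ := (IsPrincipalIdealRing.principal
    (IsLocalRing.maximalIdeal (Localization.AtPrime p))).principal
  obtain ⟨⟨π, s⟩, rfl⟩ := IsLocalization.mk'_surjective p.primeCompl g
  have hπ : π ∈ p := by
    have h1 : IsLocalization.mk' (Localization.AtPrime p) π s ∈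
        IsLocalRing.maximalIdeal (Localization.AtPrime p) := by
      rw [hg]; exact Submodule.mem_span_singleton_self _
    exact (IsLocalization.AtPrime.mk'_mem_maximal_iff (Localization.AtPrime p) p π s).mp h1
  refine ⟨π, hπ, ?_⟩
  intro a ha
  have h2 : algebraMap A (Localization.AtPrime p) a ∈
      IsLocalRing.maximalIdeal (Localization.AtPrime p) :=
    (IsLocalization.AtPrime.to_map_mem_maximal_iff (Localization.AtPrime p) p a).mpr ha
  rw [hg] at h2
  obtain ⟨c, hc⟩ := Submodule.mem_span_singleton.mp h2
  obtain ⟨⟨b, t⟩, rfl⟩ := IsLocalization.mk'_surjective p.primeCompl c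
  rw [smul_eq_mul, ← IsLocalization.mk'_mul, IsLocalization.mk'_eq_iff_eq_mul, ← map_mul] at hc
  have h3 := hinj hc
  refine ⟨(t * s : p.primeCompl), (t * s).2, b, ?_⟩
  rw [mul_comm, ← h3]

end Groth.Agent.H25
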