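import Mathlib.CategoryTheory.Sites.LocallyInjective
import Mathlib.CategoryTheory.Sites.LocallySurjective
import Mathlib.CategoryTheory.Sites.Sheafification
import Mathlib.CategoryTheory.Limits.Shapes.Pullback.IsPullback.Basic
import Mathlib.CategoryTheory.Limits.Shapes.Equalizers

/-!
# Equivalence relations in a sheaf topos of sets are effective
-/

set_option autoImplicit false

open CategoryTheory Limits Opposite

namespace Groth.Agent.H25.Eff

universe v u

variable {C : Type u} [Category.{v} C] {J : GrothendieckTopology C}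
variable {F G : Sheaf J (Type (max u v))} (a b : F ⟶ G)

/-- the relation on sections -/
def Rel (T : Cᵒᵖ) (x y : G.obj.obj T) : Prop :=
  ∃ r : F.obj.obj T, a.hom.app T r = x ∧ b.hom.app T r = y

theorem rel_map {T T' : Cᵒᵖ} (f : T ⟶ T') {x y : G.obj.obj T} (h : Rel a b T x y) :
    Rel a b T' (G.obj.map f x) (G.obj.map f y) := by
  obtain ⟨r, rfl, rfl⟩ := h
  exact ⟨F.obj.map f r, NatTrans.naturality_apply a.hom f r, NatTrans.naturality_apply b.hom f r⟩

/-- presheaf quotient -/
def Qp : Cᵒᵖ ⥤ Type (max u v) where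
  obj T := Quot (Rel a b T)
  map {T T'} f := TypeCat.ofHom (Quot.map (G.obj.map f) (fun x y h => rel_map a b f h))
  map_id T := by
    ext x
    induction x using Quot.ind
    simp [Quot.map]
  map_comp f g := by
    ext x
    induction x using Quot.ind
    simp [Quot.map]

def πp : G.obj ⟶ Qp a b where
  app T := TypeCat.ofHom (Quot.mk _)
  naturality T T' f := by
    ext x
    rfl


theorem rel_of_coeq_eq [HasSheafify J (Type (max u v))]
    (hinj : ∀ (T : Cᵒᵖ) (r r' : F.obj.obj T), a.hom.app T r = a.hom.app T r' →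
      b.hom.app T r = b.hom.app T r' → r = r')
    (heqv : ∀ T : Cᵒᵖ, Equivalence (Rel a b T))
    {Q : Sheaf J (Type (max u v))} (π : G ⟶ Q) (w : a ≫ π = b ≫ π)
    (hQ : IsColimit (Cofork.ofπ π w))
    (T : Cᵒᵖ) (x y : G.obj.obj T) (hxy : π.hom.app T x = π.hom.app T y) : Rel a b T x y := by
  let Q' : Sheaf J (Type (max u v)) := (presheafToSheaf J _).obj (Qp a b)
  let η : Qp a b ⟶ Q'.obj := toSheafify J (Qp a b)
  let π' : G ⟶ Q' := ObjectProperty.homMk (πp a b ≫ η)
  have w0 : a.hom ≫ πp a b = b.hom ≫ πp a b := by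
    ext T r
    exact Quot.sound ⟨r, rfl, rfl⟩
  have w' : a ≫ π' = b ≫ π' := by
    apply ObjectProperty.hom_ext
    change a.hom ≫ πp a b ≫ η = b.hom ≫ πp a b ≫ η
    rw [← Category.assoc, w0, Category.assoc]
  let d := Cofork.IsColimit.desc hQ π' w'
  have hd : π ≫ d = π' := Cofork.IsColimit.π_desc hQ
  have h1 : π'.hom.app T x = π'.hom.app T y := by
    rw [← hd]
    change d.hom.app T (π.hom.app T x) = d.hom.app T (π.hom.app T y)
    rw [hxy]
  have h2 : η.app T ((πp a b).app T x) = η.app T ((πp a b).app T y) := h1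
  let SS : Sieve T.unop := Presheaf.equalizerSieve (F := Qp a b) (X := T)
    ((πp a b).app T x) ((πp a b).app T y)
  have hS : SS ∈ J T.unop := Presheaf.equalizerSieve_mem J η _ _ h2
  have hloc : ∀ ⦃Y : C⦄ (f : Y ⟶ T.unop), SS.arrows f →
      Rel a b (op Y) (G.obj.map f.op x) (G.obj.map f.op y) := by
    intro Y f hf
    have hf' : (Quot.mk (Rel a b (op Y)) (G.obj.map f.op x) : Quot (Rel a b (op Y))) =
        Quot.mk _ (G.obj.map f.op y) := hf
    exact (heqv (op Y)).eqvGen_iff.mp (Quot.eq.mp hf')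
  choose rr hrr using hloc
  have hF : Presieve.IsSheaf J F.obj := (isSheaf_iff_isSheaf_of_type J F.obj).mp F.property
  have hG : Presieve.IsSheaf J G.obj := (isSheaf_iff_isSheaf_of_type J G.obj).mp G.property
  let fam : Presieve.FamilyOfElements F.obj SS.arrows := fun Y f hf => rr f hf
  have hcomp : fam.Compatible := by
    intro Y₁ Y₂ Z g₁ g₂ f₁ f₂ h₁ h₂ e
    apply hinj
    · rw [NatTrans.naturality_apply, NatTrans.naturality_apply, (hrr f₁ h₁).1, (hrr f₂ h₂).1,
        ← Functor.map_comp_apply, ← Functor.map_comp_apply, ← op_comp, ← op_comp, e]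
    · rw [NatTrans.naturality_apply, NatTrans.naturality_apply, (hrr f₁ h₁).2, (hrr f₂ h₂).2,
        ← Functor.map_comp_apply, ← Functor.map_comp_apply, ← op_comp, ← op_comp, e]
  have hsf := hF _ hS
  refine ⟨hsf.amalgamate fam hcomp, ?_, ?_⟩
  · apply (hG _ hS).isSeparatedFor.ext
    intro Y f hf
    rw [← NatTrans.naturality_apply, hsf.valid_glue hcomp f hf]
    exact (hrr f hf).1
  · apply (hG _ hS).isSeparatedFor.ext
    intro Y f hf
    rw [← NatTrans.naturality_apply, hsf.valid_glue hcomp f hf]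
    exact (hrr f hf).2


theorem isPullback_of_eqv [HasSheafify J (Type (max u v))]
    (hinj : ∀ (T : Cᵒᵖ) (r r' : F.obj.obj T), a.hom.app T r = a.hom.app T r' →
      b.hom.app T r = b.hom.app T r' → r = r')
    (heqv : ∀ T : Cᵒᵖ, Equivalence (Rel a b T))
    {Q : Sheaf J (Type (max u v))} (π : G ⟶ Q) (w : a ≫ π = b ≫ π)
    (hQ : IsColimit (Cofork.ofπ π w)) : IsPullback a b π π := by
  have key := rel_of_coeq_eq a b hinj heqv π w hQ
  have hc : ∀ (s : PullbackCone π π) (T : Cᵒᵖ) (z : s.pt.obj.obj T),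
      Rel a b T (s.fst.hom.app T z) (s.snd.hom.app T z) := by
    intro s T z
    apply key
    have h := congrArg (fun k => k.hom.app T z) s.condition
    exact h
  choose L hL using hc
  have hnat : ∀ (s : PullbackCone π π) ⦃T T' : Cᵒᵖ⦄ (f : T ⟶ T') (z : s.pt.obj.obj T),
      L s T' (s.pt.obj.map f z) = F.obj.map f (L s T z) := by
    intro s T T' f z
    apply hinj
    · rw [(hL s T' _).1, NatTrans.naturality_apply, NatTrans.naturality_apply, (hL s T z).1]
    · rw [(hL s T' _).2, NatTrans.naturality_apply, NatTrans.naturality_apply, (hL s T z).2]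
  refine ⟨⟨w⟩, ⟨PullbackCone.IsLimit.mk w
    (fun s => ObjectProperty.homMk
      { app := fun T => TypeCat.ofHom (L s T)
        naturality := fun T T' f => by
          ext z
          exact hnat s f z }) ?_ ?_ ?_⟩⟩
  · intro s
    apply ObjectProperty.hom_ext
    ext T z
    exact (hL s T z).1
  · intro s
    apply ObjectProperty.hom_ext
    ext T z
    exact (hL s T z).2
  · intro s m h1 h2
    apply ObjectProperty.hom_ext
    ext T z
    apply hinj
    · change a.hom.app T (m.hom.app T z) = a.hom.app T (L s T z)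
      rw [(hL s T z).1]
      exact congrArg (fun k => k.hom.app T z) h1
    · change b.hom.app T (m.hom.app T z) = b.hom.app T (L s T z)
      rw [(hL s T z).2]
      exact congrArg (fun k => k.hom.app T z) h2

end Groth.Agent.H25.Eff
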