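import Groth.Agent.H25.AlgSp119
import Groth.Agent.S10216
import Groth.Prelude.Def_AlgSpOX3

/-!
# Etale neighbourhoods of a geometric point form a cofiltered category
-/

universe u

open CategoryTheory CategoryTheory.Limits AlgebraicGeometry Opposite AlgSp

namespace Groth.Agent.H25.AS

variable {S : Scheme.{u}}

theorem exists_prodEt {X : Sp S} (E₁ E₂ : EtOver X) :
    ∃ (P : EtOver X) (q₁ : P ⟶ E₁) (q₂ : P ⟶ E₂),
      (∀ (T : Over S) (a : T ⟶ E₁.obj.left) (b : T ⟶ E₂.obj.left),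
        (yon S).map a ≫ E₁.obj.hom = (yon S).map b ≫ E₂.obj.hom →
        ∃ l : T ⟶ P.obj.left, l ≫ q₁.hom.left = a ∧ l ≫ q₂.hom.left = b) ∧
      (∀ (T : Over S) (l l' : T ⟶ P.obj.left), l ≫ q₁.hom.left = l' ≫ q₁.hom.left →
        l ≫ q₂.hom.left = l' ≫ q₂.hom.left → l = l') := by
  obtain ⟨W, snd, fst, sq⟩ := E₁.property.1 E₂.obj.hom
  have hsnd : Etale snd.left := E₁.property.2 E₂.obj.hom fst snd sq
  obtain ⟨fst', hfst'⟩ := (yon S).map_surjective fst
  subst hfst'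
  let P : EtOver X := EtOver.mk ((yon S).map snd ≫ E₂.obj.hom)
    ((repWith_isMultiplicative (S := S) @Etale).comp_mem _ _
      ((repWith_yon_map_iff _ _).2 hsnd) E₂.property)
  let q₂ : P ⟶ E₂ := EtOver.homMk snd rfl
  let q₁ : P ⟶ E₁ := EtOver.homMk fst' sq.w
  refine ⟨P, q₁, q₂, fun T a b h => ?_, fun T l l' h1 h2 => ?_⟩
  · obtain ⟨l, hl⟩ := (yon S).map_surjective (sq.lift ((yon S).map a) ((yon S).map b) h)
    refine ⟨l, (yon S).map_injective ?_, (yon S).map_injective ?_⟩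
    · rw [Functor.map_comp, hl]
      exact sq.lift_fst _ _ _
    · rw [Functor.map_comp, hl]
      exact sq.lift_snd _ _ _
  · apply (yon S).map_injective
    apply sq.hom_ext
    · rw [← Functor.map_comp, ← Functor.map_comp]
      exact congrArg _ h1
    · rw [← Functor.map_comp, ← Functor.map_comp]
      exact congrArg _ h2

theorem isCofiltered_etNbhd (X : Space S) (p : FieldPt X.obj) (hp : p.IsGeometric) :
    IsCofiltered (EtNbhd p) := by
  have hne : Nonempty (EtNbhd p) := by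
    obtain ⟨A, a, hae, has⟩ := X.property.atlas
    obtain ⟨a₀, ha₀⟩ := ofPt_surjective a has (Points.mk p)
    let U : Space S := ⟨(yon S).obj A, IsAlgSpace.yon_obj A⟩
    let φ : U ⟶ X := ObjectProperty.homMk a
    obtain ⟨ubar, h1, -⟩ := Groth.Agent.S10216.result φ (isEtaleMor_of_repWith a hae) p hp
      (Points.ofScheme A a₀) (by
        rw [← ha₀]
        exact (Points.ofPt_eq_map_ofScheme a a₀).symm)
    refine ⟨⟨EtOver.mk a hae, ⟨(yon S).preimage ubar, ?_⟩⟩⟩
    rw [Functor.map_preimage]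
    exact h1
  have hco : IsCofilteredOrEmpty (EtNbhd p) := by
    constructor
    · rintro ⟨E₁, ⟨u₁, h₁⟩⟩ ⟨E₂, ⟨u₂, h₂⟩⟩
      obtain ⟨P, q₁, q₂, hlift, -⟩ := exists_prodEt E₁ E₂
      obtain ⟨l, hl1, hl2⟩ := hlift p.pt u₁ u₂ (h₁.trans h₂.symm)
      have hl : (yon S).map l ≫ P.obj.hom = p.toHom := by
        rw [← EtOver.w q₁, ← Category.assoc, ← Functor.map_comp, hl1]
        exact h₁
      exact ⟨⟨P, ⟨l, hl⟩⟩, ⟨q₁, Subtype.ext hl1⟩, ⟨q₂, Subtype.ext hl2⟩, trivial⟩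
    · rintro ⟨E₁, ⟨u₁, h₁⟩⟩ ⟨E₂, ⟨u₂, h₂⟩⟩ ⟨f, hf⟩ ⟨g, hg⟩
      have hf' : u₁ ≫ f.hom.left = u₂ := congrArg Subtype.val hf
      have hg' : u₁ ≫ g.hom.left = u₂ := congrArg Subtype.val hg
      obtain ⟨P, q₁, q₂, hlift, huniq⟩ := exists_prodEt E₁ E₂
      obtain ⟨lf, lf1, lf2⟩ := hlift E₁.obj.left (𝟙 _) f.hom.left (by
        rw [CategoryTheory.Functor.map_id, Category.id_comp]
        exact (EtOver.w f).symm)
      obtain ⟨lg, lg1, lg2⟩ := hlift E₁.obj.left (𝟙 _) g.hom.left (by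
        rw [CategoryTheory.Functor.map_id, Category.id_comp]
        exact (EtOver.w g).symm)
      have wP : ∀ l : E₁.obj.left ⟶ P.obj.left, l ≫ q₁.hom.left = 𝟙 _ →
          (yon S).map l ≫ P.obj.hom = E₁.obj.hom := by
        intro l hl
        rw [← EtOver.w q₁, ← Category.assoc, ← Functor.map_comp, hl,
          CategoryTheory.Functor.map_id, Category.id_comp]
      let σf : E₁ ⟶ P := EtOver.homMk lf (wP lf lf1)
      let σg : E₁ ⟶ P := EtOver.homMk lg (wP lg lg1)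
      let W₀ := EtOver.pullbackObj σf σg
      let π₁ : W₀ ⟶ E₁ := EtOver.pullbackFst σf σg
      let π₂ : W₀ ⟶ E₁ := EtOver.pullbackSnd σf σg
      have cond : π₁ ≫ σf = π₂ ≫ σg := EtOver.pullback_condition σf σg
      have e1 : σf ≫ q₁ = 𝟙 _ := EtOver.hom_ext _ _ lf1
      have e2 : σg ≫ q₁ = 𝟙 _ := EtOver.hom_ext _ _ lg1
      have e3 : σf ≫ q₂ = f := EtOver.hom_ext _ _ lf2
      have e4 : σg ≫ q₂ = g := EtOver.hom_ext _ _ lg2
      have hπ : π₁ = π₂ := by
        have h := congrArg (fun k => k ≫ q₁) cond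
        simp only [Category.assoc] at h
        rw [e1, e2, Category.comp_id, Category.comp_id] at h
        exact h
      have hfg : π₁ ≫ f = π₁ ≫ g := by
        rw [← e3, ← Category.assoc, cond, Category.assoc, e4, hπ]
      have hu : u₁ ≫ lf = u₁ ≫ lg := by
        apply huniq
        · rw [Category.assoc, Category.assoc, lf1, lg1]
        · rw [Category.assoc, Category.assoc, lf2, lg2, hf', hg']
      let uW : p.pt ⟶ W₀.obj.left := pullback.lift u₁ u₁ hu
      have huW1 : uW ≫ π₁.hom.left = u₁ := pullback.lift_fst _ _ _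
      have huW : (yon S).map uW ≫ W₀.obj.hom = p.toHom := by
        rw [← EtOver.w π₁, ← Category.assoc, ← Functor.map_comp, huW1]
        exact h₁
      refine ⟨⟨W₀, ⟨uW, huW⟩⟩, ⟨π₁, Subtype.ext huW1⟩, ?_⟩
      apply Subtype.ext
      exact hfg
  exact @IsCofiltered.mk _ _ hco hne

end Groth.Agent.H25.AS
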