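import Mathlib
import Groth.Prelude.Def_Flat
import Groth.Agent.H25.ColimUH
import Groth.Agent.H25.AWN1
import Groth.Agent.S7404

/-!
# Finitely presented approximation of universal homeomorphisms (ring level)
-/

open CategoryTheory CategoryTheory.Limits AlgebraicGeometry Polynomial TensorProduct

namespace Groth.Agent.H25.FPApprox

open Groth.Agent.H25.ColimUH

universe u

theorem exists_finset_of_mem_map {R S : Type*} [CommRing R] [CommRing S] (f : R →+* S)
    (K : Ideal R) (x : S) (hx : x ∈ K.map f) :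
    ∃ T : Finset R, (↑T : Set R) ⊆ K ∧ x ∈ (Ideal.span (T : Set R)).map f := by
  classical
  rw [Ideal.map] at hx
  obtain ⟨T', hT', hxT'⟩ := Submodule.mem_span_finite_of_mem_span hx
  obtain ⟨T, hT, rfl⟩ := Finset.subset_set_image_iff.1 hT'
  refine ⟨T, hT, ?_⟩
  rw [Ideal.map_span]
  convert hxT'
  simp

section key

variable {A Q B : Type u} [CommRing A] [CommRing Q] [CommRing B] [Algebra A Q] [Algebra A B]

/-- the difference element is nilpotent in the tensor square -/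
theorem diff_nilpotent (hui : PUI (algebraMap A B)) (b : B) :
    IsNilpotent ((b ⊗ₜ[A] (1 : B)) - ((1 : B) ⊗ₜ[A] b) : B ⊗[A] B) := by
  rw [← mem_nilradical, nilradical_eq_sInf, Ideal.mem_sInf]
  intro 𝔯 h𝔯
  haveI : 𝔯.IsPrime := h𝔯
  let ψ₁ : B →+* 𝔯.ResidueField :=
    (algebraMap (B ⊗[A] B) 𝔯.ResidueField).comp
      (Algebra.TensorProduct.includeLeft : B →ₐ[A] B ⊗[A] B).toRingHom
  let ψ₂ : B →+* 𝔯.ResidueField :=
    (algebraMap (B ⊗[A] B) 𝔯.ResidueField).comp
      (Algebra.TensorProduct.includeRight : B →ₐ[A] B ⊗[A] B).toRingHom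
  have h12 : ψ₁.comp (algebraMap A B) = ψ₂.comp (algebraMap A B) := by
    ext a
    simp only [ψ₁, ψ₂, RingHom.comp_apply]
    congr 1
    change (Algebra.TensorProduct.includeLeft : B →ₐ[A] B ⊗[A] B) (algebraMap A B a) =
      (Algebra.TensorProduct.includeRight : B →ₐ[A] B ⊗[A] B) (algebraMap A B a)
    rw [AlgHom.commutes, AlgHom.commutes]
  have h := hui _ ψ₁ ψ₂ h12
  rw [← Ideal.algebraMap_residueField_eq_zero, map_sub, sub_eq_zero]
  exact congr($h b)

/-- finite extraction of relations making a generator "radicial". -/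
theorem exists_ui_relations (π : Q →ₐ[A] B) (hπ : Function.Surjective π)
    (hui : PUI (algebraMap A B)) (q : Q) :
    ∃ (N : ℕ) (T : Finset Q), (∀ t ∈ T, π t = 0) ∧
      ((q ⊗ₜ[A] (1 : Q)) - ((1 : Q) ⊗ₜ[A] q) : Q ⊗[A] Q) ^ N ∈
        (Ideal.span (T : Set Q)).map (Algebra.TensorProduct.includeLeft : Q →ₐ[A] Q ⊗[A] Q) ⊔
        (Ideal.span (T : Set Q)).map (Algebra.TensorProduct.includeRight : Q →ₐ[A] Q ⊗[A] Q) := by
  classical
  obtain ⟨N, hN⟩ := diff_nilpotent hui (π q)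
  have hmem : ((q ⊗ₜ[A] (1 : Q)) - ((1 : Q) ⊗ₜ[A] q) : Q ⊗[A] Q) ^ N ∈
      RingHom.ker (Algebra.TensorProduct.map π π) := by
    rw [RingHom.mem_ker, map_pow, map_sub, Algebra.TensorProduct.map_tmul,
      Algebra.TensorProduct.map_tmul, map_one]
    exact hN
  rw [Algebra.TensorProduct.map_ker π π hπ hπ, Submodule.mem_sup] at hmem
  obtain ⟨y, hy, z, hz, hyz⟩ := hmem
  obtain ⟨T₁, hT₁, hy'⟩ := exists_finset_of_mem_map _ _ y hy
  obtain ⟨T₂, hT₂, hz'⟩ := exists_finset_of_mem_map _ _ z hz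
  refine ⟨N, T₁ ∪ T₂, ?_, ?_⟩
  · intro t ht
    rcases Finset.mem_union.1 ht with h | h
    · exact hT₁ h
    · exact hT₂ h
  · rw [← hyz]
    refine Submodule.add_mem_sup (Ideal.map_mono (Ideal.span_mono ?_) hy')
      (Ideal.map_mono (Ideal.span_mono ?_) hz')
    · exact Finset.coe_subset.2 Finset.subset_union_left
    · exact Finset.coe_subset.2 Finset.subset_union_right

theorem key_surj (π : Q →ₐ[A] B) (hπ : Function.Surjective π) [Algebra.FiniteType A Q]
    (hint : (algebraMap A B).IsIntegral) (hui : PUI (algebraMap A B))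
    (hker : PKer (algebraMap A B)) :
    ∃ T : Finset Q, (∀ t ∈ T, π t = 0) ∧ ∀ I : Ideal Q, (↑T : Set Q) ⊆ I → I ≤ RingHom.ker π →
      (algebraMap A (Q ⧸ I)).IsIntegral ∧ PUI (algebraMap A (Q ⧸ I)) ∧
        PKer (algebraMap A (Q ⧸ I)) := by
  classical
  obtain ⟨G, hG⟩ := (Algebra.FiniteType.out : (⊤ : Subalgebra A Q).FG)
  -- integrality relations
  have hm : ∀ q : Q, ∃ m : A[X], m.Monic ∧ π (aeval q m) = 0 := by
    intro q
    obtain ⟨m, hm, h0⟩ := hint (π q)
    refine ⟨m, hm, ?_⟩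
    rw [← Polynomial.aeval_algHom_apply]
    exact h0
  choose m hmon hm0 using hm
  -- radicial relations
  choose N Tq hTq hNq using exists_ui_relations π hπ hui
  refine ⟨G.image (fun q => aeval q (m q)) ∪ G.biUnion Tq, ?_, ?_⟩
  · intro t ht
    rcases Finset.mem_union.1 ht with h | h
    · obtain ⟨q, -, rfl⟩ := Finset.mem_image.1 h
      exact hm0 q
    · obtain ⟨q, -, hq⟩ := Finset.mem_biUnion.1 h
      exact hTq q t hq
  intro I hTI hIK
  have hT1 : ∀ q ∈ G, aeval q (m q) ∈ I := fun q hq =>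
    hTI (Finset.mem_coe.2 (Finset.mem_union_left _ (Finset.mem_image_of_mem _ hq)))
  have hT2 : ∀ q ∈ G, ∀ t ∈ Tq q, t ∈ I := fun q hq t ht =>
    hTI (Finset.mem_coe.2 (Finset.mem_union_right _ (Finset.mem_biUnion.2 ⟨q, hq, ht⟩)))
  refine ⟨?_, ?_, ?_⟩
  · -- integral
    have hle : (⊤ : Subalgebra A Q) ≤ (integralClosure A (Q ⧸ I)).comap (Ideal.Quotient.mkₐ A I) := by
      rw [← hG, Algebra.adjoin_le_iff]
      intro g hg
      refine ⟨m g, hmon g, ?_⟩
      have : eval₂ (algebraMap A (Q ⧸ I)) (Ideal.Quotient.mkₐ A I g) (m g) =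
          Ideal.Quotient.mkₐ A I (aeval g (m g)) := by
        rw [← Polynomial.aeval_def, Polynomial.aeval_algHom_apply]
      refine this.trans ?_
      exact Ideal.Quotient.eq_zero_iff_mem.2 (hT1 g hg)
    intro x
    obtain ⟨q, rfl⟩ := Ideal.Quotient.mk_surjective x
    exact hle (Algebra.mem_top : q ∈ (⊤ : Subalgebra A Q))
  · -- PUI
    intro F _ ψ₁ ψ₂ h12
    letI : Algebra A F := (ψ₁.comp (algebraMap A (Q ⧸ I))).toAlgebra
    let h₁ : Q →ₐ[A] F :=
      { ψ₁.comp (Ideal.Quotient.mk I) with commutes' := fun a => rfl }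
    let h₂ : Q →ₐ[A] F :=
      { ψ₂.comp (Ideal.Quotient.mk I) with commutes' := fun a => (congr($h12 a)).symm }
    have h₁I : ∀ t ∈ I, h₁ t = 0 := fun t ht => by
      change ψ₁ (Ideal.Quotient.mk I t) = 0
      rw [Ideal.Quotient.eq_zero_iff_mem.2 ht, map_zero]
    have h₂I : ∀ t ∈ I, h₂ t = 0 := fun t ht => by
      change ψ₂ (Ideal.Quotient.mk I t) = 0
      rw [Ideal.Quotient.eq_zero_iff_mem.2 ht, map_zero]
    let p := Algebra.TensorProduct.productMap h₁ h₂
    have heq : h₁ = h₂ := by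
      apply AlgHom.ext_of_adjoin_eq_top hG
      intro g hg
      have hg' : g ∈ G := hg
      have hle : (Ideal.span (Tq g : Set Q)).map
            (Algebra.TensorProduct.includeLeft : Q →ₐ[A] Q ⊗[A] Q) ⊔
          (Ideal.span (Tq g : Set Q)).map
            (Algebra.TensorProduct.includeRight : Q →ₐ[A] Q ⊗[A] Q) ≤ RingHom.ker p := by
        refine sup_le ?_ ?_
        · rw [Ideal.map_le_iff_le_comap, Ideal.span_le]
          intro t ht
          change p (t ⊗ₜ[A] (1 : Q)) = 0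
          rw [Algebra.TensorProduct.productMap_apply_tmul, h₁I t (hT2 g hg' t ht), zero_mul]
        · rw [Ideal.map_le_iff_le_comap, Ideal.span_le]
          intro t ht
          change p ((1 : Q) ⊗ₜ[A] t) = 0
          rw [Algebra.TensorProduct.productMap_apply_tmul, h₂I t (hT2 g hg' t ht), mul_zero]
      have h0 : p (((g ⊗ₜ[A] (1 : Q)) - ((1 : Q) ⊗ₜ[A] g) : Q ⊗[A] Q) ^ N g) = 0 := hle (hNq g)
      rw [map_pow, map_sub, Algebra.TensorProduct.productMap_apply_tmul,
        Algebra.TensorProduct.productMap_apply_tmul, map_one, map_one, mul_one, one_mul] at h0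
      exact sub_eq_zero.1 (eq_zero_of_pow_eq_zero h0)
    apply Ideal.Quotient.ringHom_ext
    ext q
    exact congr($heq q)
  · -- PKer
    intro a ha
    apply hker
    have h1 : algebraMap A Q a ∈ I := Ideal.Quotient.eq_zero_iff_mem.1 ha
    have h2 : π (algebraMap A Q a) = 0 := hIK h1
    rwa [AlgHom.commutes] at h2

theorem key (π : Q →ₐ[A] B) [Algebra.FiniteType A Q]
    (hU : FlatMor.IsUnivHomeo (Spec.map (CommRingCat.ofHom (algebraMap A B)))) :
    ∃ T : Finset Q, (∀ t ∈ T, π t = 0) ∧ ∀ I : Ideal Q, (↑T : Set Q) ⊆ I → I ≤ RingHom.ker π →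
      FlatMor.IsUnivHomeo (Spec.map (CommRingCat.ofHom (algebraMap A (Q ⧸ I)))) := by
  have hC := (Groth.Agent.S7404.result π.range).1 hU
  rw [univHomeo_iff] at hC
  obtain ⟨T, hT, h⟩ := key_surj π.rangeRestrict π.rangeRestrict_surjective hC.1 hC.2.1 hC.2.2
  refine ⟨T, fun t ht => ?_, fun I hTI hIK => ?_⟩
  · have := hT t ht
    exact congr(($this : B))
  · rw [univHomeo_iff]
    apply h I hTI
    intro x hx
    rw [RingHom.mem_ker]
    apply Subtype.ext
    exact hIK hx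

theorem pres_quot (π : Q →ₐ[A] B) (I : Ideal Q) (hIK : I ≤ RingHom.ker π)
    (hUQ : FlatMor.IsUnivHomeo (Spec.map (CommRingCat.ofHom (algebraMap A (Q ⧸ I)))))
    (hUB : FlatMor.IsUnivHomeo (Spec.map (CommRingCat.ofHom (algebraMap A B))))
    (hres : PRes (algebraMap A B)) :
    PRes (algebraMap A (Q ⧸ I)) := by
  let θ : Q ⧸ I →+* B := Ideal.Quotient.lift I π.toRingHom hIK
  have hθ : θ.comp (algebraMap A (Q ⧸ I)) = algebraMap A B := by
    ext a
    change θ (Ideal.Quotient.mk I (algebraMap A Q a)) = _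
    rw [Ideal.Quotient.lift_mk]
    exact π.commutes a
  have hUθ := AWN.cancel_uh (algebraMap A (Q ⧸ I)) θ (hθ ▸ hUB) hUQ
  rw [univHomeo_iff] at hUθ
  have hsurj := surjective_of_integral_of_ker θ hUθ.1 hUθ.2.2
  intro 𝔮 h𝔮 b
  obtain ⟨𝔓, h𝔓⟩ := hsurj.surj ⟨𝔮, h𝔮⟩
  have h1 : 𝔓.asIdeal.comap θ = 𝔮 := congr(($h𝔓).asIdeal)
  obtain ⟨a₁, a₂, ha₂, h12⟩ := hres 𝔓.asIdeal 𝔓.isPrime (θ b)
  have e : ∀ a, θ (algebraMap A (Q ⧸ I) a) = algebraMap A B a := fun a => congr($hθ a)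
  refine ⟨a₁, a₂, ?_, ?_⟩
  · rw [← h1, Ideal.mem_comap, e]
    exact ha₂
  · rw [← h1, Ideal.mem_comap, map_sub, map_mul, e, e]
    exact h12

end key

end Groth.Agent.H25.FPApprox
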