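import Mathlib
import Groth.Prelude.Def_Flat
import Groth.Agent.H25.FPApprox

/-!
# Finitely presented approximation: the index system
-/

open CategoryTheory CategoryTheory.Limits AlgebraicGeometry Polynomial TensorProduct

namespace Groth.Agent.H25.FPApprox

open Groth.Agent.H25.ColimUH

universe u

/-- A cocone over a filtered diagram of `R`-algebras which is jointly surjective and "eventually
injective" is a colimit cocone. (copied from helper24's library) -/
theorem nonempty_isColimit_under {R : CommRingCat.{u}} {I : Type u} [SmallCategory I] [IsFiltered I]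
    (D : I ⥤ Under R) (c : Cocone D)
    (h1 : ∀ a : c.pt.right, ∃ (i : I) (b : (D.obj i).right), (c.ι.app i).right.hom b = a)
    (h2 : ∀ (i : I) (b : (D.obj i).right), (c.ι.app i).right.hom b = 0 →
      ∃ (j : I) (h : i ⟶ j), (D.map h).right.hom b = 0) :
    Nonempty (IsColimit c) := by
  haveI : IsConnected I := IsFiltered.isConnected I
  suffices h : IsColimit ((Under.forget R).mapCocone c) from
    ⟨isColimitOfReflects (Under.forget R) h⟩
  haveI : ReflectsColimitsOfShape I (forget CommRingCat.{u}) :=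
    reflectsColimitsOfShape_of_reflectsIsomorphisms
  suffices h : IsColimit ((forget CommRingCat.{u}).mapCocone ((Under.forget R).mapCocone c)) from
    isColimitOfReflects (forget CommRingCat.{u}) h
  refine Types.FilteredColimit.isColimitOf' _ _ ?_ ?_
  · intro x
    obtain ⟨i, b, hb⟩ := h1 x
    exact ⟨i, b, hb.symm⟩
  · intro i x' y' hxy
    obtain ⟨x, rfl⟩ : ∃ x : (D.obj i).right, x = x' := ⟨x', rfl⟩
    obtain ⟨y, rfl⟩ : ∃ y : (D.obj i).right, y = y' := ⟨y', rfl⟩
    have hxy' : (c.ι.app i).right.hom x = (c.ι.app i).right.hom y := hxy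
    have : (c.ι.app i).right.hom (x - y) = 0 := by rw [map_sub, sub_eq_zero]; exact hxy'
    obtain ⟨j, h, hj⟩ := h2 i _ this
    refine ⟨j, h, ?_⟩
    rw [map_sub, sub_eq_zero] at hj
    exact hj

section construction

variable (A B : Type u) [CommRing A] [CommRing B] [Algebra A B]

/-- the big polynomial ring -/
abbrev PP := MvPolynomial B A

/-- evaluation -/
noncomputable def ev : PP A B →ₐ[A] B := MvPolynomial.aeval id

variable {A B}

/-- polynomials in the variables of `S` -/
noncomputable def PS (S : Finset B) : Subalgebra A (PP A B) := MvPolynomial.supported A (S : Set B)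

theorem PS_mono {S S' : Finset B} (h : S ≤ S') : PS (A := A) S ≤ PS (A := A) S' :=
  MvPolynomial.supported_mono (Finset.coe_subset.2 h)

theorem X_mem_PS {S : Finset B} {b : B} (hb : b ∈ S) : (MvPolynomial.X b : PP A B) ∈ PS (A := A) S :=
  Algebra.subset_adjoin (Set.mem_image_of_mem _ (Finset.mem_coe.2 hb))

instance instFP (S : Finset B) : Algebra.FinitePresentation A (PS (A := A) S) := by
  haveI : Finite ((S : Set B)) := S.finite_toSet.to_subtype
  exact Algebra.FinitePresentation.equiv (MvPolynomial.supportedEquivMvPolynomial (S : Set B)).symm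

attribute [irreducible] PS

noncomputable def evS (S : Finset B) : PS (A := A) S →ₐ[A] B := (ev A B).comp (PS S).val

abbrev Idx (A B : Type u) [CommRing A] := Finset B × Finset (PP A B)

/-- the ideal of relations -/
noncomputable def II (x : Idx A B) : Ideal (PS (A := A) x.1) :=
  Ideal.span {y : PS (A := A) x.1 | (y : PP A B) ∈ x.2}

theorem II_fg (x : Idx A B) : (II x).FG := by
  have hfin : {y : PS (A := A) x.1 | (y : PP A B) ∈ x.2}.Finite :=
    Set.Finite.preimage (Subtype.val_injective.injOn) x.2.finite_toSet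
  exact ⟨hfin.toFinset, by rw [Set.Finite.coe_toFinset]; rfl⟩

abbrev QQ (x : Idx A B) := PS (A := A) x.1 ⧸ II x

instance instFPQ (x : Idx A B) : Algebra.FinitePresentation A (QQ x) :=
  Algebra.FinitePresentation.quotient (II_fg x)

noncomputable def incl {S S' : Finset B} (h : S ≤ S') : PS (A := A) S →ₐ[A] PS (A := A) S' :=
  Subalgebra.inclusion (PS_mono h)

theorem coe_incl {S S' : Finset B} (h : S ≤ S') (z : PS (A := A) S) :
    ((incl h z : PS (A := A) S') : PP A B) = (z : PP A B) :=
  Subalgebra.coe_inclusion _ z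

theorem incl_refl {S : Finset B} (z : PS (A := A) S) : incl (le_refl S) z = z :=
  Subtype.ext (coe_incl _ z)

theorem incl_incl {S S' S'' : Finset B} (h₁ : S ≤ S') (h₂ : S' ≤ S'') (z : PS (A := A) S) :
    incl h₂ (incl h₁ z) = incl (h₁.trans h₂) z :=
  Subtype.ext (by rw [coe_incl, coe_incl, coe_incl])

theorem evS_apply (S : Finset B) (z : PS (A := A) S) : evS S z = ev A B (z : PP A B) := by
  unfold evS
  rw [AlgHom.comp_apply, Subalgebra.val_apply]

theorem evS_incl {S S' : Finset B} (h : S ≤ S') (z : PS (A := A) S) :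
    evS S' (incl h z) = evS S z := by
  rw [evS_apply, evS_apply, coe_incl]

theorem II_le {x y : Idx A B} (h : x ≤ y) : II x ≤ (II y).comap (incl h.1) := by
  refine Ideal.span_le.2 ?_
  intro z hz
  have hz' : (z : PP A B) ∈ x.2 := hz
  have h1 : (z : PP A B) ∈ y.2 := h.2 hz'
  rw [← coe_incl h.1 z] at h1
  have h3 : incl h.1 z ∈ II y := Ideal.subset_span h1
  exact SetLike.mem_coe.2 (Ideal.mem_comap.2 h3)

noncomputable def tr {x y : Idx A B} (h : x ≤ y) : QQ x →ₐ[A] QQ y :=
  Ideal.quotientMapₐ (II y) (incl h.1) (II_le h)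

theorem tr_mk {x y : Idx A B} (h : x ≤ y) (z : PS (A := A) x.1) :
    tr h (Ideal.Quotient.mk (II x) z) = Ideal.Quotient.mk (II y) (incl h.1 z) := by
  unfold tr
  rw [Ideal.quotient_map_mkₐ]
  rfl

theorem tr_id (x : Idx A B) : tr (le_refl x) = AlgHom.id A (QQ x) := by
  refine AlgHom.ext fun q => ?_
  obtain ⟨z, rfl⟩ := Ideal.Quotient.mk_surjective q
  rw [tr_mk, incl_refl]
  rfl

theorem tr_comp {x y z : Idx A B} (h₁ : x ≤ y) (h₂ : y ≤ z) :
    (tr h₂).comp (tr h₁) = tr (h₁.trans h₂) := by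
  refine AlgHom.ext fun q => ?_
  obtain ⟨w, rfl⟩ := Ideal.Quotient.mk_surjective q
  rw [AlgHom.comp_apply, tr_mk, tr_mk, tr_mk, incl_incl]

theorem II_le_ker (x : Idx A B) (hx : ∀ r ∈ x.2, ev A B r = 0) :
    II x ≤ RingHom.ker (evS (A := A) x.1) := by
  refine Ideal.span_le.2 ?_
  intro z hz
  have hz' : (z : PP A B) ∈ x.2 := hz
  rw [SetLike.mem_coe, RingHom.mem_ker, evS_apply]
  exact hx _ hz'

noncomputable def toB (x : Idx A B) (hx : ∀ r ∈ x.2, ev A B r = 0) : QQ x →ₐ[A] B :=
  Ideal.Quotient.liftₐ (II x) (evS x.1) (fun a ha => II_le_ker x hx ha)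

theorem toB_mk (x : Idx A B) (hx : ∀ r ∈ x.2, ev A B r = 0) (z : PS (A := A) x.1) :
    toB x hx (Ideal.Quotient.mk (II x) z) = evS x.1 z := by
  unfold toB
  rw [Ideal.Quotient.liftₐ_apply, Ideal.Quotient.lift_mk]
  rfl

theorem toB_tr {x y : Idx A B} (h : x ≤ y) (hx : ∀ r ∈ x.2, ev A B r = 0)
    (hy : ∀ r ∈ y.2, ev A B r = 0) : (toB y hy).comp (tr h) = toB x hx := by
  refine AlgHom.ext fun q => ?_
  obtain ⟨w, rfl⟩ := Ideal.Quotient.mk_surjective q
  rw [AlgHom.comp_apply, tr_mk, toB_mk, toB_mk, evS_incl]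

/-- good indices -/
def Good (x : Idx A B) : Prop :=
  (∀ r ∈ x.2, ev A B r = 0) ∧
    FlatMor.IsUnivHomeo (Spec.map (CommRingCat.ofHom (R := A) (S := QQ x) (algebraMap A (QQ x))))

theorem enlarge (hU : FlatMor.IsUnivHomeo (Spec.map (CommRingCat.ofHom (algebraMap A B))))
    (S : Finset B) (R₀ : Finset (PP A B)) (hR₀ : ∀ r ∈ R₀, ev A B r = 0) :
    ∃ R : Finset (PP A B), R₀ ⊆ R ∧ Good ((S, R) : Idx A B) := by
  classical
  obtain ⟨T, hT, hkey⟩ := key (evS (A := A) S) hU
  let T' : Finset (PP A B) := T.image (fun t : PS (A := A) S => (t : PP A B))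
  have hR : ∀ r ∈ R₀ ∪ T', ev A B r = 0 := by
    intro r hr
    rcases Finset.mem_union.1 hr with h' | h'
    · exact hR₀ r h'
    · obtain ⟨t', ht', hrt⟩ := Finset.mem_image.1 h'
      rw [← hrt, ← evS_apply]
      exact hT t' ht'
  refine ⟨R₀ ∪ T', Finset.subset_union_left, hR, ?_⟩
  apply hkey (II ((S, R₀ ∪ T') : Idx A B))
  · intro t ht
    refine Ideal.subset_span ?_
    change (t : PP A B) ∈ R₀ ∪ T'
    exact Finset.mem_union_right _ (Finset.mem_image_of_mem _ ht)
  · exact II_le_ker _ hR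

end construction

end Groth.Agent.H25.FPApprox
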