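import Mathlib
import Groth.Prelude.Def_Flat
import Groth.Agent.H25.FPApprox2

/-!
# Finitely presented approximation: main theorem
-/

open CategoryTheory CategoryTheory.Limits AlgebraicGeometry Polynomial TensorProduct

namespace Groth.Agent.H25.FPApprox

open Groth.Agent.H25.ColimUH

universe u

theorem main {A B : Type u} [CommRing A] [CommRing B] (φ : A →+* B)
    (hφ : FlatMor.IsUnivHomeo (Spec.map (CommRingCat.ofHom φ))) :
    ∃ (J : Type u) (_ : SmallCategory J) (_ : IsFiltered J) (F : J ⥤ Under (CommRingCat.of A))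
      (c : Limits.Cocone F) (_ : Limits.IsColimit c),
      (∀ j, (F.obj j).hom.hom.FinitePresentation ∧ FlatMor.IsUnivHomeo (Spec.map (F.obj j).hom) ∧
        (PRes φ → PRes (F.obj j).hom.hom)) ∧
      Nonempty (c.pt ≅ Under.mk (CommRingCat.ofHom φ)) := by
  classical
  letI : Algebra A B := φ.toAlgebra
  have hU : FlatMor.IsUnivHomeo (Spec.map (CommRingCat.ofHom (algebraMap A B))) := hφ
  let J := {x : Idx A B // Good x}
  haveI : Nonempty J := by
    obtain ⟨R, -, hR⟩ := enlarge hU (∅ : Finset B) (∅ : Finset (PP A B)) (by simp)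
    exact ⟨⟨(∅, R), hR⟩⟩
  haveI : IsDirected J (· ≤ ·) := ⟨fun j k => by
    obtain ⟨R, hR, hgood⟩ := enlarge hU (j.1.1 ∪ k.1.1) (j.1.2 ∪ k.1.2) (by
      intro r hr
      rcases Finset.mem_union.1 hr with h | h
      · exact j.2.1 r h
      · exact k.2.1 r h)
    exact ⟨⟨(_, R), hgood⟩,
      ⟨Finset.subset_union_left, Finset.subset_union_left.trans hR⟩,
      ⟨Finset.subset_union_right, Finset.subset_union_right.trans hR⟩⟩⟩
  haveI : IsFiltered J := isFiltered_of_directed_le_nonempty J
  let F : J ⥤ Under (CommRingCat.of A) :=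
    { obj := fun j => Under.mk (CommRingCat.ofHom (R := A) (S := QQ j.1) (algebraMap A (QQ j.1)))
      map := fun {j k} f => Under.homMk (CommRingCat.ofHom (tr (leOfHom f)).toRingHom) (by
        refine CommRingCat.hom_ext (RingHom.ext fun a => ?_)
        exact (tr (leOfHom f)).commutes a)
      map_id := fun j => by
        apply Under.UnderMorphism.ext
        apply CommRingCat.hom_ext
        simp only [Under.homMk_right, Under.id_right, CommRingCat.hom_ofHom, CommRingCat.hom_id]
        exact congrArg AlgHom.toRingHom (tr_id j.1)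
      map_comp := fun {j k l} f g => by
        apply Under.UnderMorphism.ext
        apply CommRingCat.hom_ext
        simp only [Under.homMk_right, Under.comp_right, CommRingCat.hom_ofHom, CommRingCat.hom_comp]
        exact congrArg AlgHom.toRingHom (tr_comp (leOfHom f) (leOfHom g)).symm }
  let c : Cocone F :=
    { pt := Under.mk (CommRingCat.ofHom φ)
      ι :=
        { app := fun j => Under.homMk (CommRingCat.ofHom (toB j.1 j.2.1).toRingHom) (by
            refine CommRingCat.hom_ext (RingHom.ext fun a => ?_)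
            exact (toB j.1 j.2.1).commutes a)
          naturality := fun j k f => by
            apply Under.UnderMorphism.ext
            apply CommRingCat.hom_ext
            simp only [Functor.const_obj_obj, Functor.const_obj_map, Category.comp_id,
              Under.homMk_right, Under.comp_right, CommRingCat.hom_ofHom, CommRingCat.hom_comp]
            exact congrArg AlgHom.toRingHom (toB_tr (leOfHom f) j.2.1 k.2.1) } }
  have h1 : ∀ a : c.pt.right, ∃ (i : J) (b : (F.obj i).right), (c.ι.app i).right.hom b = a := by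
    intro b₀
    obtain ⟨R, -, hR⟩ := enlarge hU ({(b₀ : B)} : Finset B) (∅ : Finset (PP A B)) (by simp)
    refine ⟨⟨(_, R), hR⟩, Ideal.Quotient.mk _
      ⟨MvPolynomial.X b₀, X_mem_PS (Finset.mem_singleton_self b₀)⟩, ?_⟩
    change toB _ hR.1 (Ideal.Quotient.mk _ _) = b₀
    rw [toB_mk, evS_apply]
    simp [ev]
  have h2 : ∀ (i : J) (b : (F.obj i).right), (c.ι.app i).right.hom b = 0 →
      ∃ (j : J) (h : i ⟶ j), (F.map h).right.hom b = 0 := by
    intro i b hb
    obtain ⟨z, rfl⟩ := Ideal.Quotient.mk_surjective (I := II i.1) b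
    have hz : ev A B (z : PP A B) = 0 := by
      have : toB i.1 i.2.1 (Ideal.Quotient.mk _ z) = 0 := hb
      rwa [toB_mk, evS_apply] at this
    obtain ⟨R, hR, hgood⟩ := enlarge hU i.1.1 (i.1.2 ∪ {(z : PP A B)}) (by
      intro r hr
      rcases Finset.mem_union.1 hr with h | h
      · exact i.2.1 r h
      · rw [Finset.mem_singleton.1 h]; exact hz)
    have hle : i ≤ (⟨(i.1.1, R), hgood⟩ : J) :=
      ⟨le_refl _, Finset.subset_union_left.trans hR⟩
    refine ⟨⟨(i.1.1, R), hgood⟩, homOfLE hle, ?_⟩
    change tr hle (Ideal.Quotient.mk _ z) = 0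
    rw [tr_mk, Ideal.Quotient.eq_zero_iff_mem]
    refine Ideal.subset_span ?_
    change ((incl hle.1 z : PS (A := A) i.1.1) : PP A B) ∈ R
    rw [coe_incl]
    exact hR (Finset.mem_union_right _ (Finset.mem_singleton_self _))
  obtain ⟨hc⟩ := nonempty_isColimit_under F c h1 h2
  refine ⟨J, inferInstance, inferInstance, F, c, hc, ?_, ⟨Iso.refl _⟩⟩
  intro j
  refine ⟨?_, j.2.2, fun hres => ?_⟩
  · exact (RingHom.finitePresentation_algebraMap (A := A) (B := QQ j.1)).2 (instFPQ j.1)
  · exact pres_quot (evS j.1.1) (II j.1) (II_le_ker _ j.2.1) j.2.2 hU hres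

end Groth.Agent.H25.FPApprox
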