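import Mathlib
import Groth.Prelude.Def_HTop2
import Groth.Agent.H25.AWNSch5
import Groth.Agent.H25.UHStruct2
import Groth.Agent.S7421
import Groth.Agent.S7420

/-!
# Sections of universal homeomorphisms with trivial residue field extensions over seminormal bases
-/

open CategoryTheory CategoryTheory.Limits AlgebraicGeometry

namespace Groth.Agent.H25.SecSN

open Groth.Agent.H25.ColimUH Groth.Agent.H25.AWNSch

universe u

section ring

variable {A B : Type u} [CommRing A] [CommRing B]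

/-- `PRes` passes to the reduction -/
theorem pres_quot_nil (θ : A →+* B) (h : PRes θ) :
    PRes ((Ideal.Quotient.mk (nilradical B)).comp θ) := by
  intro q' hq' b'
  obtain ⟨b, rfl⟩ := Ideal.Quotient.mk_surjective b'
  haveI := hq'
  obtain ⟨a₁, a₂, h2, h1⟩ := h (q'.comap (Ideal.Quotient.mk (nilradical B))) inferInstance b
  refine ⟨a₁, a₂, ?_, ?_⟩
  · exact h2
  · have : Ideal.Quotient.mk (nilradical B) (θ a₂ * b - θ a₁) ∈ q' := h1
    simpa using this

/-- ring-level retraction -/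
theorem exists_retraction (hA : HTop.IsSeminormalRing A) (θ : A →+* B)
    (hθ : FlatMor.IsUnivHomeo (Spec.map (CommRingCat.ofHom θ))) (hres : PRes θ) :
    ∃ ρ : B →+* A, ρ.comp θ = RingHom.id A := by
  haveI : IsReduced A := Groth.Agent.S7421.result.1 A hA
  let B' := B ⧸ nilradical B
  let mk : B →+* B' := Ideal.Quotient.mk (nilradical B)
  let θ' : A →+* B' := mk.comp θ
  haveI : IsReduced B' := by
    have : (nilradical B).IsRadical := Ideal.radical_isRadical (⊥ : Ideal B)
    exact (Ideal.isRadical_iff_quotient_reduced _).1 this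
  have hmk : FlatMor.IsUnivHomeo (Spec.map (CommRingCat.ofHom mk)) := by
    apply AWN.surj_nil_uh _ Ideal.Quotient.mk_surjective
    intro b hb
    exact Ideal.Quotient.eq_zero_iff_mem.1 hb
  have hθ' : FlatMor.IsUnivHomeo (Spec.map (CommRingCat.ofHom θ')) := AWN.comp_uh θ mk hθ hmk
  have hres' : PRes θ' := pres_quot_nil θ hres
  have hinj : Function.Injective θ' := by
    rw [injective_iff_map_eq_zero]
    intro a ha
    exact IsReduced.eq_zero _ (((univHomeo_iff θ').1 hθ').2.2 a ha)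
  have hsurj : Function.Surjective θ' := by
    by_contra hns
    rcases UHStruct.dichotomy θ' hinj hθ' hns with ⟨b, hb, ⟨x, hx⟩, ⟨y, hy⟩⟩ | ⟨hnot, -⟩
    · have hxy : x ^ 3 = y ^ 2 := by
        apply hinj
        rw [map_pow, map_pow, hx, hy]; ring
      obtain ⟨a, ⟨h2, h3⟩, -⟩ := hA x y hxy
      apply hb
      refine ⟨a, ?_⟩
      apply AWN.reduced_eq_of_sq_cube
      · rw [← map_pow, ← h2, hx]
      · rw [← map_pow, ← h3, hy]
    · exact hnot (fun q => res_of_pres θ' hres' q)
  let e : A ≃+* B' := RingEquiv.ofBijective θ' ⟨hinj, hsurj⟩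
  refine ⟨e.symm.toRingHom.comp mk, ?_⟩
  ext a
  change e.symm (θ' a) = a
  exact e.symm_apply_apply a

end ring

section RS

/-- all residue field maps are surjective -/
def RS {X Y : Scheme.{u}} (f : X ⟶ Y) : Prop :=
  ∀ x : X, Function.Surjective (f.residueFieldMap x)

theorem rs_comp {X Y Z : Scheme.{u}} (f : X ⟶ Y) (g : Y ⟶ Z) (hf : RS f) (hg : RS g) :
    RS (f ≫ g) := by
  intro x
  rw [Scheme.residueFieldMap_comp]
  intro c
  obtain ⟨b, rfl⟩ := hf x c
  obtain ⟨a, rfl⟩ := hg (f x) b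
  exact ⟨a, rfl⟩

theorem rs_cancel {X Y Z : Scheme.{u}} (f : X ⟶ Y) (g : Y ⟶ Z) (h : RS (f ≫ g)) : RS f := by
  intro x c
  obtain ⟨a, ha⟩ := h x c
  rw [Scheme.residueFieldMap_comp] at ha
  exact ⟨g.residueFieldMap (f x) a, ha⟩

theorem rs_of_isIso {X Y : Scheme.{u}} (f : X ⟶ Y) (h : ∀ x, IsIso (f.residueFieldMap x)) :
    RS f := by
  intro x
  haveI := h x
  exact (ConcreteCategory.bijective_of_isIso (f.residueFieldMap x)).2

theorem rs_of_isOpenImmersion {X Y : Scheme.{u}} (f : X ⟶ Y) [IsOpenImmersion f] : RS f :=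
  rs_of_isIso f (fun _ => inferInstance)

theorem desc_bij {Z : Scheme.{u}} (z : Z) (f : Spec (.of (Z.residueField z)) ⟶ Z)
    (hf : f = Z.fromSpecResidueField z) :
    Function.Bijective (Z.descResidueField (Scheme.stalkClosedPointTo f)) := by
  subst hf
  have h2 : (Scheme.SpecToEquivOfField (Z.residueField z) Z) (Z.fromSpecResidueField z) =
      ⟨z, 𝟙 _⟩ := by
    apply (Scheme.SpecToEquivOfField (Z.residueField z) Z).symm.injective
    rw [Equiv.symm_apply_apply]
    change _ = Spec.map (𝟙 _) ≫ _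
    rw [Spec.map_id, Category.id_comp]
  obtain ⟨e, he⟩ := Scheme.SpecToEquivOfField_eq_iff.1 h2
  change Function.Bijective
    ((Scheme.SpecToEquivOfField (Z.residueField z) Z) (Z.fromSpecResidueField z)).2
  rw [he]
  exact ConcreteCategory.bijective_of_isIso _

/-- if every residue-field point of `Z` lifts along an injective `p`, then `p` has trivial residue
field extensions -/
theorem rs_of_pointLifts {P Z : Scheme.{u}} (p : P ⟶ Z) (hinj : Function.Injective p)
    (hσ : ∀ z : Z, ∃ σ : Spec (Z.residueField z) ⟶ P, σ ≫ p = Z.fromSpecResidueField z) :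
    RS p := by
  intro w
  obtain ⟨σ₀, hσ₀⟩ := hσ (p w)
  let σ : Spec (.of (Z.residueField (p w))) ⟶ P := σ₀
  have hσ : σ ≫ p = Z.fromSpecResidueField (p w) := hσ₀
  have hw : σ (IsLocalRing.closedPoint (Z.residueField (p w))) = w := hinj (by
    rw [← Scheme.Hom.comp_apply, hσ, Scheme.fromSpecResidueField_apply])
  have key := Scheme.descResidueField_stalkClosedPointTo_comp (f := p) σ
  have hb := desc_bij (p w) (σ ≫ p) hσ
  have hsurj : Function.Surjective
      (p.residueFieldMap (σ (IsLocalRing.closedPoint (Z.residueField (p w))))) := by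
    intro c
    obtain ⟨a, ha⟩ := hb.2 (Scheme.descResidueField (Scheme.stalkClosedPointTo σ) c)
    refine ⟨a, ?_⟩
    have h3 := congr($key a)
    have h4 : (Scheme.descResidueField (Scheme.stalkClosedPointTo σ))
        (p.residueFieldMap (σ (IsLocalRing.closedPoint (Z.residueField (p w)))) a) =
        (Scheme.descResidueField (Scheme.stalkClosedPointTo σ)) c := h3.symm.trans ha
    exact RingHom.injective (Scheme.descResidueField (Scheme.stalkClosedPointTo σ)).hom h4
  exact hw ▸ hsurj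

end RS

section sections

open Groth.Agent.H25.AWNFun

theorem rs_baseChange {Y U Z : Scheme.{u}} (π : Y ⟶ U) (hπ : FlatMor.IsUnivHomeo π) (hrs : RS π)
    (g : Z ⟶ U) : RS (pullback.snd π g) := by
  have hp : FlatMor.IsUnivHomeo (pullback.snd π g) := MorphismProperty.pullback_snd _ _ hπ
  haveI := uh_ui hp
  have hsurj := uh_surj hπ
  apply rs_of_pointLifts _ (pullback.snd π g).injective
  intro z
  obtain ⟨y, hy⟩ := hsurj.surj (g z)
  haveI : IsIso (π.residueFieldMap y) := by
    rw [ConcreteCategory.isIso_iff_bijective]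
    exact ⟨RingHom.injective (π.residueFieldMap y).hom, hrs y⟩
  let a : Spec (Z.residueField z) ⟶ Y :=
    Spec.map (g.residueFieldMap z) ≫ Spec.map (U.residueFieldCongr hy).hom ≫
      Spec.map (inv (π.residueFieldMap y)) ≫ Y.fromSpecResidueField y
  have ha : a ≫ π = Z.fromSpecResidueField z ≫ g := by
    simp only [a, Category.assoc]
    rw [← Scheme.Hom.SpecMap_residueFieldMap_fromSpecResidueField π y,
      ← Category.assoc (Spec.map (inv _)), ← Spec.map_comp, IsIso.hom_inv_id, Spec.map_id,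
      Category.id_comp, Scheme.residueFieldCongr_fromSpecResidueField,
      Scheme.Hom.SpecMap_residueFieldMap_fromSpecResidueField]
  exact ⟨pullback.lift a (Z.fromSpecResidueField z) ha, pullback.lift_snd _ _ _⟩

/-- sections from ring retractions, for morphisms of affine schemes -/
theorem section_of_retraction {P Z : Scheme.{u}} [IsAffine P] [IsAffine Z] (p : P ⟶ Z)
    (ρ : Γ(P, ⊤) →+* Γ(Z, ⊤)) (hρ : ρ.comp p.appTop.hom = RingHom.id _) :
    ∃ s : Z ⟶ P, s ≫ p = 𝟙 Z := by
  refine ⟨Z.isoSpec.hom ≫ Spec.map (CommRingCat.ofHom ρ) ≫ P.isoSpec.inv, ?_⟩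
  rw [Category.assoc, Category.assoc, ← Scheme.isoSpec_inv_naturality, ← Category.assoc (Spec.map _),
    ← Spec.map_comp]
  have : p.appTop ≫ CommRingCat.ofHom ρ = 𝟙 _ := by
    apply CommRingCat.hom_ext
    exact hρ
  rw [this, Spec.map_id, Category.id_comp, Iso.hom_inv_id]

theorem rs_restrict {P T : Scheme.{u}} (p : P ⟶ T) (hrs : RS p) (U : T.Opens) : RS (p ∣_ U) := by
  apply rs_cancel (p ∣_ U) U.ι
  rw [morphismRestrict_ι]
  exact rs_comp _ _ (rs_of_isOpenImmersion _) hrs

theorem rs_appTop {P Z : Scheme.{u}} [IsAffine P] [IsAffine Z] (p : P ⟶ Z) (hrs : RS p) :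
    RS (Spec.map p.appTop) := by
  have : Spec.map p.appTop = P.isoSpec.inv ≫ p ≫ Z.isoSpec.hom := by
    rw [← Scheme.isoSpec_hom_naturality, Iso.inv_hom_id_assoc]
  rw [this]
  exact rs_comp _ _ (rs_of_isOpenImmersion _) (rs_comp _ _ hrs (rs_of_isOpenImmersion _))

/-- local sections over affine opens with seminormal coordinate ring -/
theorem exists_local_section {P T : Scheme.{u}} (p : P ⟶ T) (hp : FlatMor.IsUnivHomeo p)
    (hrs : RS p) (U : T.Opens) (hU : IsAffineOpen U)
    (hsn : HTop.IsSeminormalRing Γ(T, U.ι ''ᵁ ⊤)) :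
    ∃ s : (U : Scheme.{u}) ⟶ P, s ≫ p = U.ι := by
  haveI : IsIntegralHom p := uh_integral hp
  haveI : IsAffine (U : Scheme.{u}) := hU
  haveI : IsAffine ((p ⁻¹ᵁ U : P.Opens) : Scheme.{u}) := hU.preimage p
  have hg : FlatMor.IsUnivHomeo (p ∣_ U) := uh_restrict hp U
  have hg' : FlatMor.IsUnivHomeo (Spec.map (p ∣_ U).appTop) :=
    (MorphismProperty.arrow_mk_iso_iff _ (arrowIsoSpecΓOfIsAffine (p ∣_ U))).1 hg
  have hrs' : RS (Spec.map (p ∣_ U).appTop) := rs_appTop _ (rs_restrict p hrs U)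
  have hpres : PRes (p ∣_ U).appTop.hom := pres_of_res (p ∣_ U).appTop.hom hrs'
  obtain ⟨ρ, hρ⟩ := exists_retraction hsn (p ∣_ U).appTop.hom hg' hpres
  obtain ⟨σ, hσ⟩ := section_of_retraction (p ∣_ U) ρ hρ
  refine ⟨σ ≫ (p ⁻¹ᵁ U).ι, ?_⟩
  rw [Category.assoc, ← morphismRestrict_ι, ← Category.assoc, hσ, Category.id_comp]

end sections

section glue

theorem exists_section_sn {P T : Scheme.{u}} (hT : HTop.IsSeminormal T) (p : P ⟶ T)
    (hp : FlatMor.IsUnivHomeo p) (hrs : RS p) : ∃ s : T ⟶ P, s ≫ p = 𝟙 T := by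
  haveI : IsReduced T := Groth.Agent.S7421.result.2 T hT
  haveI : IsIntegralHom p := uh_integral hp
  haveI : UniversallyInjective p := uh_ui hp
  have hall := (Groth.Agent.S7420.result T).1.1 hT
  have hloc : ∀ U : T.affineOpens, ∃ s : ((U : T.Opens) : Scheme.{u}) ⟶ P,
      s ≫ p = (U : T.Opens).ι := fun U =>
    exists_local_section p hp hrs U.1 U.2
      (hall ⟨U.1.ι ''ᵁ ⊤, by rw [Scheme.Opens.ι_image_top]; exact U.2⟩)
  choose sU hsU using hloc
  let 𝒰 : T.OpenCover := T.openCoverOfIsOpenCover (fun U : T.affineOpens => (U : T.Opens))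
    (TopologicalSpace.IsOpenCover.mk (iSup_affineOpens_eq_top T))
  have hcompat : ∀ i j, pullback.fst (𝒰.f i) (𝒰.f j) ≫ sU i =
      pullback.snd (𝒰.f i) (𝒰.f j) ≫ sU j := by
    intro i j
    haveI : IsReduced (pullback (𝒰.f i) (𝒰.f j)) :=
      isReduced_of_isOpenImmersion (pullback.fst (𝒰.f i) (𝒰.f j) ≫ 𝒰.f i)
    apply hom_ext_of_reduced p
    have e1 : (pullback.fst (𝒰.f i) (𝒰.f j) ≫ sU i) ≫ p =
        pullback.fst (𝒰.f i) (𝒰.f j) ≫ 𝒰.f i := by
      rw [Category.assoc]; exact congrArg (pullback.fst (𝒰.f i) (𝒰.f j) ≫ ·) (hsU i)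
    have e2 : (pullback.snd (𝒰.f i) (𝒰.f j) ≫ sU j) ≫ p =
        pullback.snd (𝒰.f i) (𝒰.f j) ≫ 𝒰.f j := by
      rw [Category.assoc]; exact congrArg (pullback.snd (𝒰.f i) (𝒰.f j) ≫ ·) (hsU j)
    exact e1.trans (pullback.condition.trans e2.symm)
  refine ⟨𝒰.glueMorphisms sU hcompat, ?_⟩
  apply 𝒰.hom_ext
  intro i
  rw [← Category.assoc, 𝒰.ι_glueMorphisms, Category.comp_id]
  exact hsU i

end glue

end Groth.Agent.H25.SecSN
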