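import Mathlib
import Groth.Prelude.Def_HTop2
import Groth.Agent.H25.SecSN

/-!
# Seminormal schemes: open subschemes, and lifting
-/

open CategoryTheory CategoryTheory.Limits AlgebraicGeometry

namespace Groth.Agent.H25.SecSN

open Groth.Agent.H25.ColimUH Groth.Agent.H25.AWNSch

universe u

theorem isSeminormalRing_of_equiv {A B : Type u} [CommRing A] [CommRing B] (e : A ≃+* B)
    (hA : HTop.IsSeminormalRing A) : HTop.IsSeminormalRing B := by
  intro x y hxy
  obtain ⟨a, ⟨h1, h2⟩, huniq⟩ := hA (e.symm x) (e.symm y) (by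
    rw [← map_pow, ← map_pow, hxy])
  refine ⟨e a, ⟨?_, ?_⟩, ?_⟩
  · rw [← map_pow, ← h1, e.apply_symm_apply]
  · rw [← map_pow, ← h2, e.apply_symm_apply]
  · rintro b ⟨hb1, hb2⟩
    have := huniq (e.symm b) ⟨by rw [← map_pow, ← hb1], by rw [← map_pow, ← hb2]⟩
    rw [← this, e.apply_symm_apply]

theorem isSeminormal_of_isOpenImmersion {Z X : Scheme.{u}} (j : Z ⟶ X) [IsOpenImmersion j]
    (hX : HTop.IsSeminormal X) : HTop.IsSeminormal Z := by
  have hall := (Groth.Agent.S7420.result X).1.1 hX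
  intro z
  have hz : j z ∈ j.opensRange := ⟨z, rfl⟩
  obtain ⟨_, ⟨W, hW, rfl⟩, hxW, hWU⟩ :=
    X.isBasis_affineOpens.exists_subset_of_mem_open hz j.opensRange.2
  have hWle : W ≤ j.opensRange := hWU
  have hV : IsAffineOpen (j ⁻¹ᵁ W) := IsAffineOpen.preimage_of_isOpenImmersion hW j hWle
  refine ⟨⟨j ⁻¹ᵁ W, hV⟩, hxW, ?_⟩
  have himg : j ''ᵁ (j ⁻¹ᵁ W) = W := by
    rw [j.image_preimage_eq_opensRange_inf, inf_eq_right.mpr hWle]
  have h1 : HTop.IsSeminormalRing Γ(X, j ''ᵁ (j ⁻¹ᵁ W)) := by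
    rw [himg]; exact hall ⟨W, hW⟩
  exact isSeminormalRing_of_equiv (j.appIso (j ⁻¹ᵁ W)).commRingCatIsoToRingEquiv h1

/-- lifting along universal homeomorphisms with trivial residue field extensions from seminormal
schemes, uniquely -/
theorem existsUnique_lift_sn {Y U Z : Scheme.{u}} (hZ : HTop.IsSeminormal Z) (π : Y ⟶ U)
    (hπ : FlatMor.IsUnivHomeo π) (hrs : RS π) (g : Z ⟶ U) : ∃! h : Z ⟶ Y, h ≫ π = g := by
  haveI : IsReduced Z := Groth.Agent.S7421.result.2 Z hZ
  haveI : IsIntegralHom π := uh_integral hπ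
  haveI : UniversallyInjective π := uh_ui hπ
  have hp : FlatMor.IsUnivHomeo (pullback.snd π g) := MorphismProperty.pullback_snd _ _ hπ
  obtain ⟨s, hs⟩ := exists_section_sn hZ _ hp (rs_baseChange π hπ hrs g)
  refine ⟨s ≫ pullback.fst π g, ?_, fun h' hh' => ?_⟩
  · show (s ≫ pullback.fst π g) ≫ π = g
    rw [Category.assoc, pullback.condition, ← Category.assoc, hs, Category.id_comp]
  · apply hom_ext_of_reduced π
    rw [hh', Category.assoc, pullback.condition, ← Category.assoc, hs, Category.id_comp]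

end Groth.Agent.H25.SecSN
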