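import Mathlib
import Groth.Prelude.Def_HTop2
import Groth.Agent.H25.SecSN2

/-!
# Factoring morphisms out of a universal homeomorphism through finite universal homeomorphisms
-/

open CategoryTheory CategoryTheory.Limits AlgebraicGeometry

namespace Groth.Agent.H25.FactUH

open Groth.Agent.H25.AWNSch Groth.Agent.H25.SecSN

universe u

theorem uh_comp {X Y Z : Scheme.{u}} (f : X ⟶ Y) (g : Y ⟶ Z) (hf : FlatMor.IsUnivHomeo f)
    (hg : FlatMor.IsUnivHomeo g) : FlatMor.IsUnivHomeo (f ≫ g) := by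
  rw [Groth.Agent.S0415.result] at hf hg ⊢
  obtain ⟨_, _, _⟩ := hf
  obtain ⟨_, _, _⟩ := hg
  exact ⟨inferInstance, MorphismProperty.comp_mem _ _ _ ‹UniversallyInjective f› ‹_›, inferInstance⟩

theorem uh_of_comp_surjective {T' T₁ T : Scheme.{u}} (h : T' ⟶ T₁) (u : T₁ ⟶ T) [Surjective h]
    (hν : FlatMor.IsUnivHomeo (h ≫ u)) : FlatMor.IsUnivHomeo u := by
  intro X' Y' i₁ i₂ f' sq
  have big := (IsPullback.of_hasPullback i₁ h).paste_horiz sq
  have hhomeo : IsHomeomorph (pullback.fst i₁ h ≫ f') := hν _ _ _ big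
  have hs : Surjective (pullback.fst i₁ h) :=
    MorphismProperty.pullback_fst (P := @Surjective) _ _ ‹_›
  have hcomp : ⇑(pullback.fst i₁ h ≫ f') = ⇑f' ∘ ⇑(pullback.fst i₁ h) := by
    ext x; simp
  change IsHomeomorph f'
  rw [isHomeomorph_iff_continuous_isClosedMap_bijective]
  refine ⟨f'.continuous, ?_, ⟨?_, ?_⟩⟩
  · apply IsClosedMap.of_comp_surjective hs.1 (pullback.fst i₁ h).continuous
    rw [← hcomp]
    exact hhomeo.isClosedMap
  · intro a b hab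
    obtain ⟨a', rfl⟩ := hs.1 a
    obtain ⟨b', rfl⟩ := hs.1 b
    have : (pullback.fst i₁ h ≫ f') a' = (pullback.fst i₁ h ≫ f') b' := by
      simpa using hab
    rw [hhomeo.injective this]
  · intro y
    obtain ⟨x, hx⟩ := hhomeo.surjective y
    exact ⟨pullback.fst i₁ h x, by simpa using hx⟩

/-- factorization through a finite universal homeomorphism via the scheme-theoretic image -/
theorem factor {S X T T' : Scheme.{u}} (fX : X ⟶ S) [IsSeparated fX] [LocallyOfFiniteType fX]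
    (fT : T ⟶ S) (ν : T' ⟶ T) (hν : FlatMor.IsUnivHomeo ν) (g : T' ⟶ X)
    (hg : g ≫ fX = ν ≫ fT) :
    ∃ (T₁ : Scheme.{u}) (π : T₁ ⟶ T) (_ : IsFinite π) (_ : FlatMor.IsUnivHomeo π) (g₁ : T₁ ⟶ X)
        (h : T' ⟶ T₁), Surjective h ∧ h ≫ π = ν ∧ g₁ ≫ fX = π ≫ fT ∧ h ≫ g₁ = g := by
  let k : T' ⟶ pullback fT fX := pullback.lift ν g hg.symm
  haveI : IsIntegralHom ν := uh_integral hν
  have hk1 : k ≫ pullback.fst fT fX = ν := pullback.lift_fst _ _ _
  haveI : QuasiCompact (k ≫ pullback.fst fT fX) := by rw [hk1]; infer_instance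
  haveI : QuasiCompact k := QuasiCompact.of_comp k (pullback.fst fT fX)
  let u : k.image ⟶ T := k.imageι ≫ pullback.fst fT fX
  have hu : k.toImage ≫ u = ν := by
    simp only [u]; rw [← Category.assoc, Scheme.Hom.toImage_imageι, hk1]
  haveI : UniversallyClosed (k.toImage ≫ u) := by rw [hu]; infer_instance
  haveI : UniversallyClosed k.toImage := UniversallyClosed.of_comp_of_isSeparated k.toImage u
  haveI : Surjective k.toImage :=
    surjective_of_isDominant_of_isClosed_range k.toImage k.toImage.isClosedMap.isClosed_range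
  have huh : FlatMor.IsUnivHomeo u := uh_of_comp_surjective k.toImage u (hu ▸ hν)
  haveI := uh_integral huh
  refine ⟨k.image, u, ?_, huh, k.imageι ≫ pullback.snd fT fX, k.toImage, inferInstance, hu, ?_, ?_⟩
  · rw [IsFinite.iff_isIntegralHom_and_locallyOfFiniteType]; exact ⟨inferInstance, inferInstance⟩
  · simp only [u, Category.assoc]; rw [pullback.condition]
  · rw [← Category.assoc, Scheme.Hom.toImage_imageι]; exact pullback.lift_snd _ _ _

theorem rs_of_isPreimmersion {X Y : Scheme.{u}} (f : X ⟶ Y) [IsPreimmersion f] : RS f := by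
  intro x c
  obtain ⟨b, rfl⟩ := IsLocalRing.residue_surjective c
  obtain ⟨a, rfl⟩ := f.stalkMap_surjective x b
  refine ⟨Y.residue (f x) a, ?_⟩
  exact congr($(Scheme.residue_residueFieldMap f x) a)

theorem residueFieldsIso_of_rs {X Y : Scheme.{u}} (f : X ⟶ Y) (h : RS f) :
    HTop.ResidueFieldsIso f := by
  intro x
  rw [ConcreteCategory.isIso_iff_bijective]
  exact ⟨RingHom.injective (f.residueFieldMap x).hom, h x⟩

theorem rs_of_residueFieldsIso {X Y : Scheme.{u}} (f : X ⟶ Y) (h : HTop.ResidueFieldsIso f) :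
    RS f := rs_of_isIso f h

/-- `RS (h ≫ u)` with `h` surjective implies `RS u` -/
theorem rs_of_comp_surjective {X Y Z : Scheme.{u}} (h : X ⟶ Y) (u : Y ⟶ Z) [Surjective h]
    (hrs : RS (h ≫ u)) : RS u := by
  intro y c
  obtain ⟨x, rfl⟩ := h.surjective y
  obtain ⟨a, ha⟩ := hrs x (h.residueFieldMap x c)
  rw [Scheme.residueFieldMap_comp] at ha
  exact ⟨a, RingHom.injective (h.residueFieldMap x).hom ha⟩

/-- two factorizations are dominated by a third -/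
theorem dominate {X T T' : Scheme.{u}} [X.IsSeparated] (ν : T' ⟶ T) (hν : FlatMor.IsUnivHomeo ν)
    (T₁ T₂ : Scheme.{u}) (π₁ : T₁ ⟶ T) (π₂ : T₂ ⟶ T) [IsFinite π₁] [IsFinite π₂]
    (h1 : FlatMor.IsUnivHomeo π₁) (h2 : FlatMor.IsUnivHomeo π₂)
    (g₁ : T₁ ⟶ X) (g₂ : T₂ ⟶ X) (h₁ : T' ⟶ T₁) (h₂ : T' ⟶ T₂)
    (e1 : h₁ ≫ π₁ = ν) (e2 : h₂ ≫ π₂ = ν) (e : h₁ ≫ g₁ = h₂ ≫ g₂) :
    ∃ (T₃ : Scheme.{u}) (a₁ : T₃ ⟶ T₁) (a₂ : T₃ ⟶ T₂), IsFinite (a₁ ≫ π₁) ∧
      FlatMor.IsUnivHomeo (a₁ ≫ π₁) ∧ a₂ ≫ π₂ = a₁ ≫ π₁ ∧ a₁ ≫ g₁ = a₂ ≫ g₂ ∧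
      (RS π₁ → RS π₂ → RS (a₁ ≫ π₁)) := by
  let pr₁ := pullback.fst π₁ π₂
  let pr₂ := pullback.snd π₁ π₂
  let ι := equalizer.ι (pr₁ ≫ g₁) (pr₂ ≫ g₂)
  let l : T' ⟶ pullback π₁ π₂ := pullback.lift h₁ h₂ (e1.trans e2.symm)
  have hl1 : l ≫ pr₁ = h₁ := pullback.lift_fst _ _ _
  have hl2 : l ≫ pr₂ = h₂ := pullback.lift_snd _ _ _
  have hpr₁ : FlatMor.IsUnivHomeo pr₁ := MorphismProperty.pullback_fst _ _ h2
  have hpp : FlatMor.IsUnivHomeo (pr₁ ≫ π₁) := uh_comp _ _ hpr₁ h1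
  have hl : FlatMor.IsUnivHomeo l := by
    apply cancel_uh_scheme l (pr₁ ≫ π₁) hpp
    rw [← Category.assoc, hl1, e1]; exact hν
  have hleq : l ≫ (pr₁ ≫ g₁) = l ≫ (pr₂ ≫ g₂) := by
    rw [← Category.assoc, ← Category.assoc, hl1, hl2, e]
  let l' : T' ⟶ equalizer (pr₁ ≫ g₁) (pr₂ ≫ g₂) := equalizer.lift l hleq
  have hl' : l' ≫ ι = l := equalizer.lift_ι _ _
  haveI : Surjective l := uh_surj hl
  haveI : Surjective ι := by
    constructor
    intro p
    obtain ⟨t, rfl⟩ := l.surjective p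
    exact ⟨l' t, by rw [← Scheme.Hom.comp_apply, hl']⟩
  have hι : FlatMor.IsUnivHomeo ι := by
    rw [Groth.Agent.S0415.result]
    exact ⟨inferInstance, inferInstance, inferInstance⟩
  refine ⟨_, ι ≫ pr₁, ι ≫ pr₂, ?_, ?_, ?_, ?_, ?_⟩
  · rw [Category.assoc]; infer_instance
  · rw [Category.assoc]; exact uh_comp _ _ hι hpp
  · rw [Category.assoc, Category.assoc, pullback.condition]
  · rw [Category.assoc, Category.assoc]; exact equalizer.condition _ _
  · intro r1 r2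
    rw [Category.assoc]
    refine rs_comp _ _ (rs_of_isPreimmersion ι) (rs_comp _ _ ?_ r1)
    have h3 := rs_baseChange π₂ h2 r2 π₁
    have h4 : pr₁ = (pullbackSymmetry π₁ π₂).hom ≫ pullback.snd π₂ π₁ :=
      (pullbackSymmetry_hom_comp_snd π₁ π₂).symm
    rw [h4]
    exact rs_comp _ _ (rs_of_isOpenImmersion _) h3

end Groth.Agent.H25.FactUH
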