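import Mathlib.AlgebraicGeometry.Morphisms.LocalFlatDescent
import Mathlib.AlgebraicGeometry.Morphisms.FlatDescent
import Mathlib.AlgebraicGeometry.Sites.Fpqc
import Mathlib.AlgebraicGeometry.Limits
import Mathlib.AlgebraicGeometry.Morphisms.Etale

/-!
# Etale and surjective are fppf local on the target (precoverage form)
-/

set_option autoImplicit false
open AlgebraicGeometry CategoryTheory Limits MorphismProperty

namespace Groth.Agent.H25.FppfLocal

universe u

theorem P_snd_congr (P : MorphismProperty Scheme.{u}) {X Y U : Scheme.{u}} (f : X ⟶ Y)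
    {h h' : U ⟶ Y} (e : h = h') [HasPullback f h] [HasPullback f h']
    (H : P (pullback.snd f h')) : P (pullback.snd f h) := by
  subst e
  exact H

set_option backward.isDefEq.respectTransparency.types false in
theorem isLocalAtTarget_fppf (P : MorphismProperty Scheme.{u}) [P.IsStableUnderBaseChange]
    [IsZariskiLocalAtTarget P]
    [P.DescendsAlong (@Surjective ⊓ @Flat ⊓ @LocallyOfFinitePresentation)] :
    P.IsLocalAtTarget Scheme.fppfPrecoverage := by
  have : P.RespectsIso := MorphismProperty.IsStableUnderBaseChange.respectsIso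
  have : Precoverage.Small.{u} Scheme.fppfPrecoverage.{u} := by
    unfold Scheme.fppfPrecoverage; infer_instance
  refine IsLocalAtTarget.mk_of_small.{u} (fun 𝒰 hf i => P.pullback_snd _ _ hf) ?_
  intro X Y f 𝒰 H
  let g : ∐ 𝒰.X ⟶ Y := Sigma.desc 𝒰.f
  have hι : ∀ i, Sigma.ι 𝒰.X i ≫ g = 𝒰.f i := fun i => Sigma.ι_desc _ _
  have hmem := 𝒰.mem₀
  unfold Scheme.fppfPrecoverage at hmem
  rw [Scheme.presieve₀_mem_precoverage_iff] at hmem
  have hflat : Flat g := by
    rw [IsZariskiLocalAtSource.iff_of_openCover (P := @Flat) (sigmaOpenCover 𝒰.X)]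
    intro i
    change Flat (Sigma.ι 𝒰.X i ≫ g)
    rw [hι]
    exact (hmem.2 i).1
  have hlfp : LocallyOfFinitePresentation g := by
    rw [IsZariskiLocalAtSource.iff_of_openCover (P := @LocallyOfFinitePresentation)
      (sigmaOpenCover 𝒰.X)]
    intro i
    change LocallyOfFinitePresentation (Sigma.ι 𝒰.X i ≫ g)
    rw [hι]
    exact (hmem.2 i).2
  have hsurj : Surjective g := by
    refine ⟨fun y => ?_⟩
    obtain ⟨i, x, hx⟩ := hmem.1 y
    refine ⟨(Sigma.ι 𝒰.X i) x, ?_⟩
    rw [← Scheme.Hom.comp_apply, hι]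
    exact hx
  refine of_pullback_snd_of_descendsAlong
    (Q := @Surjective ⊓ @Flat ⊓ @LocallyOfFinitePresentation) (f := f) (g := g)
    ⟨⟨hsurj, hflat⟩, hlfp⟩ ?_
  rw [IsZariskiLocalAtTarget.iff_of_openCover (P := P) (sigmaOpenCover 𝒰.X)]
  intro i
  have h1 : P (pullback.snd f (Sigma.ι 𝒰.X i ≫ g)) := P_snd_congr P f (hι i) (H i)
  have e := pullbackLeftPullbackSndIso f g (Sigma.ι 𝒰.X i)
  have e2 : (pullbackLeftPullbackSndIso f g (Sigma.ι 𝒰.X i)).hom ≫
      pullback.snd f (Sigma.ι 𝒰.X i ≫ g) = pullback.snd (pullback.snd f g) (Sigma.ι 𝒰.X i) :=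
    pullbackLeftPullbackSndIso_hom_snd _ _ _
  change P (pullback.snd (pullback.snd f g) (Sigma.ι 𝒰.X i))
  rw [← e2]
  exact (P.cancel_left_of_respectsIso _ _).2 h1

set_option backward.isDefEq.respectTransparency.types false in
instance : MorphismProperty.IsLocalAtTarget (@Etale) Scheme.fppfPrecoverage.{u} :=
  isLocalAtTarget_fppf _

set_option backward.isDefEq.respectTransparency.types false in
instance : MorphismProperty.IsLocalAtTarget (@Surjective) Scheme.fppfPrecoverage.{u} :=
  isLocalAtTarget_fppf _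

end Groth.Agent.H25.FppfLocal
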