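import Mathlib.Topology.Sheaves.Sheaf
import Mathlib.Topology.Sheaves.SheafCondition.UniqueGluing
import Mathlib.Algebra.Category.Grp.Basic
import Mathlib.Algebra.Category.Grp.Limits
import Mathlib.Tactic

/-! helper25: elementwise restriction maps, gluing and locality for sheaves of groups on a space -/

set_option autoImplicit false
universe u

namespace Groth.Agent.H25

open CategoryTheory TopologicalSpace Opposite

variable {X : TopCat.{u}}

/-- restriction map of a presheaf of groups, as a monoid homomorphism -/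
def gres (P : TopCat.Presheaf GrpCat.{u} X) {U V : Opens X} (h : V ≤ U) :
    P.obj (op U) →* P.obj (op V) := (P.map (homOfLE h).op).hom

theorem gres_gres (P : TopCat.Presheaf GrpCat.{u} X) {U V W : Opens X} (h1 : W ≤ V) (h2 : V ≤ U)
    (x : P.obj (op U)) : gres P h1 (gres P h2 x) = gres P (h1.trans h2) x := by
  unfold gres
  rw [← GrpCat.comp_apply, ← P.map_comp]
  rfl

theorem gres_self (P : TopCat.Presheaf GrpCat.{u} X) {U : Opens X} (x : P.obj (op U)) :
    gres P (le_refl U) x = x := by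
  unfold gres
  have : (homOfLE (le_refl U)).op = 𝟙 (op U) := rfl
  rw [this, P.map_id]
  rfl

theorem gres_nat {P Q : TopCat.Presheaf GrpCat.{u} X} (φ : P ⟶ Q) {U V : Opens X} (h : V ≤ U)
    (x : P.obj (op U)) :
    (φ.app (op V)).hom (gres P h x) = gres Q h ((φ.app (op U)).hom x) := by
  unfold gres
  have := φ.naturality (homOfLE h).op
  rw [← GrpCat.comp_apply, ← GrpCat.comp_apply, this]

theorem gres_glue (P : TopCat.Presheaf GrpCat.{u} X) (hP : P.IsSheaf) {ι : Type u}
    (U : ι → Opens X) (V : Opens X) (hle : ∀ i, U i ≤ V) (hcover : V ≤ iSup U)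
    (sf : ∀ i, P.obj (op (U i)))
    (hcompat : ∀ i j, gres P (inf_le_left : U i ⊓ U j ≤ U i) (sf i) =
      gres P (inf_le_right : U i ⊓ U j ≤ U j) (sf j)) :
    ∃ s : P.obj (op V), ∀ i, gres P (hle i) s = sf i := by
  obtain ⟨s, hs, -⟩ := TopCat.Sheaf.existsUnique_gluing' (⟨P, hP⟩ : TopCat.Sheaf GrpCat.{u} X) U V
    (fun i => homOfLE (hle i)) hcover sf (fun i j => hcompat i j)
  exact ⟨s, hs⟩

theorem gres_loc (P : TopCat.Presheaf GrpCat.{u} X) (hP : P.IsSheaf) {ι : Type u}
    (U : ι → Opens X) (V : Opens X) (hle : ∀ i, U i ≤ V) (hcover : V ≤ iSup U)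
    (s t : P.obj (op V)) (h : ∀ i, gres P (hle i) s = gres P (hle i) t) : s = t :=
  TopCat.Sheaf.eq_of_locally_eq' (⟨P, hP⟩ : TopCat.Sheaf GrpCat.{u} X) U V
    (fun i => homOfLE (hle i)) hcover s t h

end Groth.Agent.H25
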