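import Mathlib.Topology.Algebra.LinearTopology
import Mathlib.Topology.Algebra.Module.Basic
import Mathlib.LinearAlgebra.Basis.VectorSpace
import Mathlib.Tactic

/-! helper25: continuity of functionals with open kernel on linearly topologized spaces over a discrete field -/

set_option autoImplicit false
universe u v

namespace Groth.Agent.H25

open Topology

theorem continuous_of_open_le_ker {k : Type u} {M : Type v} [Field k]
    [TopologicalSpace k] [DiscreteTopology k] [AddCommGroup M] [Module k M] [TopologicalSpace M]
    [IsTopologicalAddGroup M] (f : M →ₗ[k] k) (U : Submodule k M) (hU : IsOpen (U : Set M))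
    (h : U ≤ LinearMap.ker f) : Continuous f := by
  have h0 : ContinuousAt f 0 := by
    rw [ContinuousAt, map_zero, nhds_discrete k, Filter.tendsto_pure]
    filter_upwards [hU.mem_nhds U.zero_mem] with y hy
    exact h hy
  exact continuous_of_continuousAt_zero f.toAddMonoidHom h0

/-- an open submodule inside a neighbourhood of zero of the form `{y | x + y ∈ s}` -/
theorem exists_open_submodule_add_subset {k : Type u} {M : Type v} [Field k]
    [AddCommGroup M] [Module k M] [TopologicalSpace M]
    [IsTopologicalAddGroup M] [IsLinearTopology k M] (s : Set M) (hs : IsOpen s) (x : M) (hx : x ∈ s) :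
    ∃ U : Submodule k M, IsOpen (U : Set M) ∧ ∀ u ∈ U, x + u ∈ s := by
  have h0 : {y : M | x + y ∈ s} ∈ 𝓝 (0 : M) := by
    have hc : Continuous (fun y : M => x + y) := continuous_const.add continuous_id
    apply (hs.preimage hc).mem_nhds
    simpa using hx
  obtain ⟨U, hUopen, hU⟩ := (IsLinearTopology.hasBasis_open_submodule k).mem_iff.mp h0
  exact ⟨U, hUopen, fun u hu => hU hu⟩

end Groth.Agent.H25
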