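import Mathlib
import Groth.Prelude.Def_HTop2
import Groth.Prelude.Def_Pi1
import Groth.Agent.H25.SecSN2
import Groth.Agent.S15941

/-!
# Normal schemes are seminormal
-/

open CategoryTheory CategoryTheory.Limits AlgebraicGeometry

namespace Groth.Agent.H25.NormSN

universe u

section ring

variable {A : Type u} [CommRing A] [IsReduced A]

theorem xb_eq (x y s b : A) (hxy : x ^ 3 = y ^ 2) (h2 : b ^ 2 = s ^ 2 * x) (h3 : b ^ 3 = s ^ 3 * y) :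
    x * b = s * y := by
  apply AWN.reduced_eq_of_sq_cube
  · calc (x * b) ^ 2 = x ^ 2 * b ^ 2 := by ring
      _ = x ^ 2 * (s ^ 2 * x) := by rw [h2]
      _ = s ^ 2 * x ^ 3 := by ring
      _ = s ^ 2 * y ^ 2 := by rw [hxy]
      _ = (s * y) ^ 2 := by ring
  · calc (x * b) ^ 3 = x ^ 3 * b ^ 3 := by ring
      _ = y ^ 2 * (s ^ 3 * y) := by rw [h3, hxy]
      _ = (s * y) ^ 3 := by ring

theorem bb_eq (x y s₁ b₁ s₂ b₂ : A) (hxy : x ^ 3 = y ^ 2) (h2 : b₁ ^ 2 = s₁ ^ 2 * x)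
    (h3 : b₁ ^ 3 = s₁ ^ 3 * y) (k2 : b₂ ^ 2 = s₂ ^ 2 * x) (k3 : b₂ ^ 3 = s₂ ^ 3 * y) :
    b₁ * b₂ = s₁ * s₂ * x := by
  apply AWN.reduced_eq_of_sq_cube
  · calc (b₁ * b₂) ^ 2 = b₁ ^ 2 * b₂ ^ 2 := by ring
      _ = (s₁ ^ 2 * x) * (s₂ ^ 2 * x) := by rw [h2, k2]
      _ = (s₁ * s₂ * x) ^ 2 := by ring
  · calc (b₁ * b₂) ^ 3 = b₁ ^ 3 * b₂ ^ 3 := by ring
      _ = (s₁ ^ 3 * y) * (s₂ ^ 3 * y) := by rw [h3, k3]
      _ = s₁ ^ 3 * s₂ ^ 3 * y ^ 2 := by ring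
      _ = s₁ ^ 3 * s₂ ^ 3 * x ^ 3 := by rw [hxy]
      _ = (s₁ * s₂ * x) ^ 3 := by ring

/-- the ideal of denominators -/
def denomIdeal (x y : A) (hxy : x ^ 3 = y ^ 2) : Ideal A where
  carrier := {s | ∃ b, b ^ 2 = s ^ 2 * x ∧ b ^ 3 = s ^ 3 * y}
  zero_mem' := ⟨0, by ring, by ring⟩
  add_mem' := by
    rintro s₁ s₂ ⟨b₁, h2, h3⟩ ⟨b₂, k2, k3⟩
    have e := bb_eq x y s₁ b₁ s₂ b₂ hxy h2 h3 k2 k3
    have e1 := xb_eq x y s₁ b₁ hxy h2 h3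
    have e2 := xb_eq x y s₂ b₂ hxy k2 k3
    refine ⟨b₁ + b₂, ?_, ?_⟩
    · calc (b₁ + b₂) ^ 2 = b₁ ^ 2 + 2 * (b₁ * b₂) + b₂ ^ 2 := by ring
        _ = s₁ ^ 2 * x + 2 * (s₁ * s₂ * x) + s₂ ^ 2 * x := by rw [h2, k2, e]
        _ = (s₁ + s₂) ^ 2 * x := by ring
    · calc (b₁ + b₂) ^ 3 = b₁ ^ 3 + 3 * (b₁ ^ 2 * b₂) + 3 * (b₁ * b₂ ^ 2) + b₂ ^ 3 := by ring
        _ = s₁ ^ 3 * y + 3 * (s₁ ^ 2 * (x * b₂)) + 3 * (s₂ ^ 2 * (x * b₁)) + s₂ ^ 3 * y := by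
            rw [h3, k3, h2, k2]; ring
        _ = (s₁ + s₂) ^ 3 * y := by rw [e1, e2]; ring
  smul_mem' := by
    rintro t s ⟨b, h2, h3⟩
    refine ⟨t * b, ?_, ?_⟩
    · rw [smul_eq_mul, mul_pow, h2]; ring
    · rw [smul_eq_mul, mul_pow, h3]; ring

theorem seminormal_of_local
    (h : ∀ (𝔭 : Ideal A) [𝔭.IsPrime], ∃ (L : Type u) (_ : CommRing L) (_ : Algebra A L)
      (_ : IsLocalization.AtPrime L 𝔭), HTop.IsSeminormalRing L) : HTop.IsSeminormalRing A := by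
  intro x y hxy
  have hex : ∃ a : A, x = a ^ 2 ∧ y = a ^ 3 := by
    have htop : denomIdeal x y hxy = ⊤ := by
      by_contra hne
      obtain ⟨𝔪, h𝔪, hle⟩ := Ideal.exists_le_maximal _ hne
      haveI := h𝔪.isPrime
      obtain ⟨L, _, _, _, hL⟩ := h 𝔪
      obtain ⟨α, ⟨hα2, hα3⟩, -⟩ := hL (algebraMap A L x) (algebraMap A L y) (by
        rw [← map_pow, ← map_pow, hxy])
      obtain ⟨⟨b₀, s₀⟩, hb₀⟩ := IsLocalization.surj 𝔪.primeCompl α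
      simp only at hb₀
      have e2 : algebraMap A L (b₀ ^ 2) = algebraMap A L ((s₀ : A) ^ 2 * x) := by
        rw [map_pow, ← hb₀, map_mul, map_pow, hα2]; ring
      have e3 : algebraMap A L (b₀ ^ 3) = algebraMap A L ((s₀ : A) ^ 3 * y) := by
        rw [map_pow, ← hb₀, map_mul, map_pow, hα3]; ring
      obtain ⟨t, ht⟩ := (IsLocalization.eq_iff_exists 𝔪.primeCompl L).1 e2
      obtain ⟨t', ht'⟩ := (IsLocalization.eq_iff_exists 𝔪.primeCompl L).1 e3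
      have hmem : (t : A) * t' * s₀ ∈ denomIdeal x y hxy := by
        refine ⟨t * t' * b₀, ?_, ?_⟩
        · calc ((t : A) * t' * b₀) ^ 2 = t * (t' : A) ^ 2 * (t * b₀ ^ 2) := by ring
            _ = t * (t' : A) ^ 2 * (t * ((s₀ : A) ^ 2 * x)) := by rw [ht]
            _ = ((t : A) * t' * s₀) ^ 2 * x := by ring
        · calc ((t : A) * t' * b₀) ^ 3 = (t : A) ^ 3 * (t' : A) ^ 2 * (t' * b₀ ^ 3) := by ring
            _ = (t : A) ^ 3 * (t' : A) ^ 2 * (t' * ((s₀ : A) ^ 3 * y)) := by rw [ht']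
            _ = ((t : A) * t' * s₀) ^ 3 * y := by ring
      have : (t : A) * t' * s₀ ∈ 𝔪 := hle hmem
      exact (𝔪.primeCompl.mul_mem (𝔪.primeCompl.mul_mem t.2 t'.2) s₀.2) this
    have h1 : (1 : A) ∈ denomIdeal x y hxy := by rw [htop]; trivial
    obtain ⟨b, h2, h3⟩ := h1
    exact ⟨b, by rw [h2]; ring, by rw [h3]; ring⟩
  obtain ⟨a, ha2, ha3⟩ := hex
  refine ⟨a, ⟨ha2, ha3⟩, ?_⟩
  rintro a' ⟨h2, h3⟩
  apply AWN.reduced_eq_of_sq_cube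
  · rw [← h2, ← ha2]
  · rw [← h3, ← ha3]

end ring

theorem isSeminormal_of_isNormalScheme (X : Scheme.{u}) (hn : Pi1.IsNormalScheme X) :
    HTop.IsSeminormal X := by
  haveI : ∀ x : X, _root_.IsReduced (X.presheaf.stalk x) := fun x => by
    haveI := (hn x).1
    infer_instance
  haveI : IsReduced X := isReduced_of_isReduced_stalk X
  intro x
  obtain ⟨U, hxU⟩ : ∃ U : X.affineOpens, x ∈ (U : X.Opens) := by
    have h : x ∈ (⨆ i : X.affineOpens, (i : X.Opens)) := by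
      rw [iSup_affineOpens_eq_top X]; trivial
    exact TopologicalSpace.Opens.mem_iSup.1 h
  refine ⟨U, hxU, ?_⟩
  apply seminormal_of_local
  intro 𝔭 _
  let y : PrimeSpectrum Γ(X, (U : X.Opens)) := ⟨𝔭, inferInstance⟩
  have hy : U.2.fromSpec y ∈ (U : X.Opens) := by
    have : U.2.fromSpec y ∈ U.2.fromSpec.opensRange := ⟨y, rfl⟩
    rwa [U.2.opensRange_fromSpec] at this
  haveI := (hn (U.2.fromSpec y)).1
  haveI := (hn (U.2.fromSpec y)).2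
  exact ⟨X.presheaf.stalk (U.2.fromSpec y), inferInstance,
    TopCat.Presheaf.algebra_section_stalk X.presheaf ⟨_, hy⟩, U.2.isLocalization_stalk' y hy,
    Groth.Agent.S15941.result _⟩

end Groth.Agent.H25.NormSN
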