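import Mathlib.RingTheory.Ideal.Oka
import Mathlib.RingTheory.Finiteness.Basic
import Mathlib.RingTheory.Finiteness.Ideal
import Mathlib.Order.CompactlyGenerated.Basic
import Mathlib.Order.Zorn
import Mathlib.Tactic

/-! helper25: a family of finitely generated ideals closed under products; an ideal all of whose
prime overideals contain a member of the family contains a member itself. -/

set_option autoImplicit false
universe u

namespace Groth.Agent.H25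

theorem okaFam_isOka {A : Type u} [CommRing A] (𝒮 : Set (Ideal A))
    (hmul : ∀ I ∈ 𝒮, ∀ J ∈ 𝒮, I * J ∈ 𝒮) (hne : 𝒮.Nonempty) :
    Ideal.IsOka (fun K : Ideal A => ∃ I ∈ 𝒮, I ≤ K) := by
  refine ⟨?_, ?_⟩
  · obtain ⟨I, hI⟩ := hne
    exact ⟨I, hI, le_top⟩
  · rintro K a ⟨I1, h1, h1le⟩ ⟨I2, h2, h2le⟩
    refine ⟨I1 * I2, hmul I1 h1 I2 h2, ?_⟩
    rw [Ideal.mul_le]
    intro r hr s hs
    have hr' := h1le hr
    have hs' := h2le hs
    rw [Ideal.mem_colon_span_singleton] at hs'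
    rw [Submodule.mem_sup] at hr'
    obtain ⟨k, hk, y, hy, rfl⟩ := hr'
    rw [Ideal.mem_span_singleton'] at hy
    obtain ⟨c, rfl⟩ := hy
    have e : (k + c * a) * s = k * s + c * (s * a) := by ring
    rw [e]
    exact K.add_mem (K.mul_mem_right _ hk) (K.mul_mem_left _ hs')

theorem okaFam_exists_le {A : Type u} [CommRing A] (𝒮 : Set (Ideal A))
    (hfg : ∀ I ∈ 𝒮, I.FG) (hmul : ∀ I ∈ 𝒮, ∀ J ∈ 𝒮, I * J ∈ 𝒮) (hne : 𝒮.Nonempty)
    (K : Ideal A) (hK : ∀ p : Ideal A, p.IsPrime → K ≤ p → ∃ I ∈ 𝒮, I ≤ p) :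
    ∃ I ∈ 𝒮, I ≤ K := by
  have hP := okaFam_isOka 𝒮 hmul hne
  by_contra hnP
  obtain ⟨M, hKM, hM⟩ : ∃ M, K ≤ M ∧ Maximal (fun K : Ideal A => ¬ ∃ I ∈ 𝒮, I ≤ K) M := by
    refine zorn_le_nonempty₀ {K : Ideal A | ¬ ∃ I ∈ 𝒮, I ≤ K}
      (fun C hC₁ hC₂ J hJ => ⟨sSup C, ?_, fun _ => le_sSup⟩) K hnP
    rintro ⟨I, hI, hIC⟩
    have hcompact := (Submodule.fg_iff_compact I).mp (hfg I hI)
    obtain ⟨K', hKC, hIK⟩ :=
      (CompleteLattice.isCompactElement_iff_le_of_directed_sSup_le _ _).mp hcompact C ⟨J, hJ⟩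
        hC₂.directedOn hIC
    exact hC₁ hKC ⟨I, hI, hIK⟩
  have hprime := hP.isPrime_of_maximal_not hM
  exact hM.prop (hK M hprime hKM)

end Groth.Agent.H25
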