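import Mathlib

/-!
# The set of elements with `p^n b ∈ R` and `b^(p^n) ∈ R` is closed under addition
-/

namespace Groth.Agent.H25.PPow

theorem dvd_choose_of_not_dvd (p : ℕ) (hp : p.Prime) (a n i : ℕ) (hi : i ≤ p ^ a)
    (hn : ¬ p ^ n ∣ i) : p ^ (a + 1 - n) ∣ (p ^ a).choose i := by
  have hi0 : i ≠ 0 := by
    rintro rfl
    exact hn (dvd_zero _)
  have hsum := Nat.factorization_choose_prime_pow_add_factorization hp hi hi0
  have hv : i.factorization p < n := by
    by_contra h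
    push Not at h
    exact hn ((hp.pow_dvd_iff_le_factorization hi0).2 h)
  rw [hp.pow_dvd_iff_le_factorization (Nat.choose_pos hi).ne']
  omega

theorem add_pow_mem {B : Type*} [CommRing B] (R : Subring B) (p : ℕ) (hp : p.Prime) (x y : B)
    (n : ℕ) (hx1 : (p : B) ^ n * x ∈ R) (hx2 : x ^ (p ^ n) ∈ R) (hy1 : (p : B) ^ n * y ∈ R)
    (hy2 : y ^ (p ^ n) ∈ R) :
    ∃ a, (p : B) ^ a * (x + y) ∈ R ∧ (x + y) ^ (p ^ a) ∈ R := by
  have hpR : ∀ k, ((p : B) ^ k) ∈ R := fun k => pow_mem (natCast_mem R p) k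
  refine ⟨n + 2 * n * p ^ n, ?_, ?_⟩
  · have : (p : B) ^ (n + 2 * n * p ^ n) * (x + y) =
        (p : B) ^ (2 * n * p ^ n) * ((p : B) ^ n * x + (p : B) ^ n * y) := by ring
    rw [this]
    exact mul_mem (hpR _) (add_mem hx1 hy1)
  · rw [add_pow]
    apply Subring.sum_mem
    intro i hi
    rw [Finset.mem_range] at hi
    have hi' : i ≤ p ^ (n + 2 * n * p ^ n) := by omega
    set a := n + 2 * n * p ^ n with ha
    set j := p ^ a - i with hj
    have hppos : 0 < p ^ n := pow_pos hp.pos n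
    have hr : i % p ^ n < p ^ n := Nat.mod_lt _ hppos
    have hr' : j % p ^ n < p ^ n := Nat.mod_lt _ hppos
    have ha' : a = n + 2 * (n * p ^ n) := by rw [ha]; ring
    have hdvd : p ^ (n * (i % p ^ n) + n * (j % p ^ n)) ∣ (p ^ a).choose i := by
      by_cases h0 : i % p ^ n = 0
      · by_cases h0' : j % p ^ n = 0
        · rw [h0, h0']; simp
        · have hnd : ¬ p ^ n ∣ j := fun h => h0' (Nat.mod_eq_zero_of_dvd h)
          have hjle : j ≤ p ^ a := Nat.sub_le _ _
          have := dvd_choose_of_not_dvd p hp a n j hjle hnd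
          rw [hj, Nat.choose_symm hi'] at this
          refine dvd_trans (pow_dvd_pow p ?_) this
          rw [h0]
          have : n * (j % p ^ n) ≤ n * p ^ n := Nat.mul_le_mul_left _ hr'.le
          omega
      · have hnd : ¬ p ^ n ∣ i := fun h => h0 (Nat.mod_eq_zero_of_dvd h)
        have := dvd_choose_of_not_dvd p hp a n i hi' hnd
        refine dvd_trans (pow_dvd_pow p ?_) this
        have h1 : n * (i % p ^ n) ≤ n * p ^ n := Nat.mul_le_mul_left _ hr.le
        have h2 : n * (j % p ^ n) ≤ n * p ^ n := Nat.mul_le_mul_left _ hr'.le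
        omega
    obtain ⟨d, hd⟩ := hdvd
    have hxi : x ^ i = (x ^ (p ^ n)) ^ (i / p ^ n) * x ^ (i % p ^ n) := by
      rw [← pow_mul, ← pow_add, Nat.div_add_mod]
    have hyj : y ^ j = (y ^ (p ^ n)) ^ (j / p ^ n) * y ^ (j % p ^ n) := by
      rw [← pow_mul, ← pow_add, Nat.div_add_mod]
    have hC : (((p ^ a).choose i : ℕ) : B) =
        (p : B) ^ (n * (i % p ^ n) + n * (j % p ^ n)) * (d : B) := by
      rw [hd]; push_cast; ring
    have hterm : x ^ i * y ^ j * (((p ^ a).choose i : ℕ) : B) =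
        (x ^ (p ^ n)) ^ (i / p ^ n) * (y ^ (p ^ n)) ^ (j / p ^ n) *
          ((p : B) ^ n * x) ^ (i % p ^ n) * ((p : B) ^ n * y) ^ (j % p ^ n) * (d : B) := by
      rw [hxi, hyj, hC, mul_pow, mul_pow, pow_add, ← pow_mul, ← pow_mul]
      ring
    rw [hterm]
    exact mul_mem (mul_mem (mul_mem (mul_mem (pow_mem hx2 _) (pow_mem hy2 _)) (pow_mem hx1 _))
      (pow_mem hy1 _)) (natCast_mem R d)

end Groth.Agent.H25.PPow
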