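import Mathlib
import Groth.Agent.S0418

/-!
# Universal homeomorphisms between perfect rings are isomorphisms
-/

open AlgebraicGeometry CategoryTheory

namespace Groth.Agent.H25.PerfUH

universe u

theorem pow_p_pow_injective {R : Type*} [CommRing R] (p : ℕ)
    (h : Function.Injective fun x : R => x ^ p) (k : ℕ) :
    Function.Injective fun x : R => x ^ p ^ k := by
  induction k with
  | zero => intro x y hxy; simpa using hxy
  | succ k ih =>
    intro x y hxy
    apply ih
    apply h
    simp only at hxy ⊢
    rw [← pow_mul, ← pow_mul, ← pow_succ]; exact hxy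

theorem pow_p_pow_surjective {R : Type*} [CommRing R] (p : ℕ)
    (h : Function.Surjective fun x : R => x ^ p) (k : ℕ) :
    Function.Surjective fun x : R => x ^ p ^ k := by
  induction k with
  | zero => intro y; exact ⟨y, by simp⟩
  | succ k ih =>
    intro y
    obtain ⟨z, hz⟩ := h y
    obtain ⟨w, hw⟩ := ih z
    refine ⟨w, ?_⟩
    simp only at hz hw ⊢
    rw [pow_succ, pow_mul, hw, hz]

theorem bijective_of_univHomeo {R S : Type u} [CommRing R] [CommRing S] (φ : R →+* S) (p : ℕ)
    (hp : p.Prime) (hR0 : (p : R) = 0) (hS0 : (p : S) = 0)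
    (hR : Function.Bijective fun x : R => x ^ p) (hS : Function.Bijective fun x : S => x ^ p)
    (hU : FlatMor.IsUnivHomeo (Spec.map (CommRingCat.ofHom φ))) : Function.Bijective φ := by
  have hloc : Function.Bijective (Localization.awayMap φ (p : R)) := by
    have h0A : (0 : R) ∈ Submonoid.powers (p : R) := ⟨1, by show (p : R) ^ 1 = 0; rw [pow_one, hR0]⟩
    have h0B : (0 : S) ∈ Submonoid.powers (φ (p : R)) :=
      ⟨1, by show φ (p : R) ^ 1 = 0; rw [pow_one, map_natCast, hS0]⟩
    haveI : Subsingleton (Localization.Away (p : R)) := IsLocalization.subsingleton h0A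
    haveI : Subsingleton (Localization.Away (φ (p : R))) := IsLocalization.subsingleton h0B
    exact ⟨fun x y _ => Subsingleton.elim x y, fun y => ⟨0, Subsingleton.elim _ _⟩⟩
  obtain ⟨hker, hb⟩ := (Groth.Agent.S0418.result φ p hp hloc).1 hU
  constructor
  · rw [injective_iff_map_eq_zero]
    intro a ha
    obtain ⟨k, hk⟩ := hker a ha
    apply pow_p_pow_injective p hR.1 k
    simp only
    have : k ≤ p ^ k := (Nat.lt_pow_self hp.one_lt).le
    have e : a ^ p ^ k = 0 := by
      rw [← Nat.sub_add_cancel this, pow_add, hk, mul_zero]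
    rw [e, zero_pow (pow_pos hp.pos k).ne']
  · intro b
    obtain ⟨n, -, a, ha⟩ := hb b
    obtain ⟨a₀, ha₀⟩ := pow_p_pow_surjective p hR.2 n a
    refine ⟨a₀, ?_⟩
    apply pow_p_pow_injective p hS.1 n
    simp only at ha₀ ⊢
    rw [← map_pow, ha₀, ha]

end Groth.Agent.H25.PerfUH
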