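import Mathlib.RingTheory.Ideal.Operations
import Mathlib.RingTheory.Finiteness.Ideal
import Mathlib.Tactic

/-! helper25: elementary facts on elements killed by powers of an ideal -/

set_option autoImplicit false
universe u v

namespace Groth.Agent.H25

variable {R : Type u} [CommRing R] {M : Type v} [AddCommGroup M] [Module R M]

/-- If `J` is finitely generated and each `a • m` (`a ∈ J`) is killed by a power of `I`, then one power
of `I` kills all `y • m`, `y ∈ J`. -/
theorem exists_pow_smul_smul_eq_zero (I J : Ideal R) (hJ : J.FG) (m : M)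
    (h : ∀ a ∈ J, ∃ n : ℕ, ∀ x ∈ I ^ n, x • (a • m) = 0) :
    ∃ k : ℕ, ∀ y ∈ J, ∀ x ∈ I ^ k, x • (y • m) = 0 := by
  obtain ⟨s, rfl⟩ := hJ
  have h' : ∀ a ∈ s, ∃ n : ℕ, ∀ x ∈ I ^ n, x • (a • m) = 0 :=
    fun a ha => h a (Ideal.subset_span ha)
  choose! n hn using h'
  refine ⟨s.sup n, ?_⟩
  intro y hy
  induction hy using Submodule.span_induction with
  | mem a ha =>
    intro x hx
    exact hn a ha x (Ideal.pow_le_pow_right (Finset.le_sup ha) hx)
  | zero => intro x _; rw [zero_smul, smul_zero]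
  | add y z _ _ ihy ihz =>
    intro x hx; rw [add_smul, smul_add, ihy x hx, ihz x hx, add_zero]
  | smul c y _ ihy =>
    intro x hx; rw [smul_eq_mul, mul_smul, smul_comm, ihy x hx, smul_zero]

/-- If `I ^ k` kills `J • m` then `I ^ k * J` kills `m`. -/
theorem mul_smul_eq_zero_of (K J : Ideal R) (m : M)
    (h : ∀ y ∈ J, ∀ x ∈ K, x • (y • m) = 0) : ∀ b ∈ K * J, b • m = 0 := by
  intro b hb
  refine Submodule.mul_induction_on hb ?_ ?_
  · intro x hx y hy
    rw [mul_smul]; exact h y hy x hx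
  · intro x y hx hy
    rw [add_smul, hx, hy, add_zero]

/-- For `I` finitely generated: if every `a • m`, `a ∈ I`, is `I`-power torsion, so is `m`. -/
theorem powTors_of_smul (I : Ideal R) (hI : I.FG) (m : M)
    (h : ∀ a ∈ I, ∃ n : ℕ, ∀ x ∈ I ^ n, x • (a • m) = 0) :
    ∃ n : ℕ, ∀ x ∈ I ^ n, x • m = 0 := by
  obtain ⟨k, hk⟩ := exists_pow_smul_smul_eq_zero I I hI m h
  refine ⟨k + 1, ?_⟩
  rw [pow_succ]
  exact mul_smul_eq_zero_of (I ^ k) I m hk

/-- extension step: if `I ^ n • m` consists of `I`-power torsion elements, `m` is `I`-power torsion. -/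
theorem powTors_of_pow_smul (I : Ideal R) (hI : I.FG) (m : M) (n : ℕ)
    (h : ∀ a ∈ I ^ n, ∃ n' : ℕ, ∀ x ∈ I ^ n', x • (a • m) = 0) :
    ∃ N : ℕ, ∀ x ∈ I ^ N, x • m = 0 := by
  obtain ⟨k, hk⟩ := exists_pow_smul_smul_eq_zero I (I ^ n) (hI.pow) m h
  refine ⟨k + n, ?_⟩
  rw [pow_add]
  exact mul_smul_eq_zero_of (I ^ k) (I ^ n) m hk

end Groth.Agent.H25
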