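import Groth.Agent.H25.AlgSp119
import Groth.Agent.H25.Eff
import Groth.Prelude.Def_AlgSpGpd

/-!
# Pre-equivalence relations of sheaves: the quotient identifies exactly locally related points
-/

set_option autoImplicit false

open CategoryTheory Limits Opposite

namespace Groth.Agent.H25.Eff

universe v' u'

variable {C : Type u'} [Category.{v'} C] {J : GrothendieckTopology C}
variable {F G : Sheaf J (Type (max u' v'))} (a b : F ⟶ G)

theorem locRel_of_coeq_eq [HasSheafify J (Type (max u' v'))]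
    (heqv : ∀ T : Cᵒᵖ, Equivalence (Rel a b T))
    {Q : Sheaf J (Type (max u' v'))} (π : G ⟶ Q) (w : a ≫ π = b ≫ π)
    (hQ : IsColimit (Cofork.ofπ π w))
    (T : Cᵒᵖ) (x y : G.obj.obj T) (hxy : π.hom.app T x = π.hom.app T y) :
    ∃ SS : Sieve T.unop, SS ∈ J T.unop ∧ ∀ ⦃Y : C⦄ (f : Y ⟶ T.unop), SS.arrows f →
      Rel a b (op Y) (G.obj.map f.op x) (G.obj.map f.op y) := by
  let Q' : Sheaf J (Type (max u' v')) := (presheafToSheaf J _).obj (Qp a b)
  let η : Qp a b ⟶ Q'.obj := toSheafify J (Qp a b)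
  let π' : G ⟶ Q' := ObjectProperty.homMk (πp a b ≫ η)
  have w0 : a.hom ≫ πp a b = b.hom ≫ πp a b := by
    ext T r
    exact Quot.sound ⟨r, rfl, rfl⟩
  have w' : a ≫ π' = b ≫ π' := by
    apply ObjectProperty.hom_ext
    change a.hom ≫ πp a b ≫ η = b.hom ≫ πp a b ≫ η
    rw [← Category.assoc, w0, Category.assoc]
  let d := Cofork.IsColimit.desc hQ π' w'
  have hd : π ≫ d = π' := Cofork.IsColimit.π_desc hQ
  have h1 : π'.hom.app T x = π'.hom.app T y := by
    rw [← hd]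
    change d.hom.app T (π.hom.app T x) = d.hom.app T (π.hom.app T y)
    rw [hxy]
  have h2 : η.app T ((πp a b).app T x) = η.app T ((πp a b).app T y) := h1
  let SS : Sieve T.unop := Presheaf.equalizerSieve (F := Qp a b) (X := T)
    ((πp a b).app T x) ((πp a b).app T y)
  have hS : SS ∈ J T.unop := Presheaf.equalizerSieve_mem J η _ _ h2
  have hloc : ∀ ⦃Y : C⦄ (f : Y ⟶ T.unop), SS.arrows f →
      Rel a b (op Y) (G.obj.map f.op x) (G.obj.map f.op y) := by
    intro Y f hf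
    have hf' : (Quot.mk (Rel a b (op Y)) (G.obj.map f.op x) : Quot (Rel a b (op Y))) =
        Quot.mk _ (G.obj.map f.op y) := hf
    exact (heqv (op Y)).eqvGen_iff.mp (Quot.eq.mp hf')
  exact ⟨SS, hS, hloc⟩

end Groth.Agent.H25.Eff

universe u

open AlgebraicGeometry AlgSp

namespace Groth.Agent.H25.AS

variable {S : Scheme.{u}}

theorem rel_iff {R U : Sp S} (s t : R ⟶ U) (T : Over S) (x y : (yon S).obj T ⟶ U) :
    Eff.Rel s t (op T) (yE x) (yE y) ↔ ∃ r : (yon S).obj T ⟶ R, r ≫ s = x ∧ r ≫ t = y := by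
  constructor
  · rintro ⟨r, h1, h2⟩
    refine ⟨yE.symm r, yE.injective ?_, yE.injective ?_⟩
    · rw [(J S).uliftYonedaEquiv_comp.{u+1}, Equiv.apply_symm_apply]
      exact h1
    · rw [(J S).uliftYonedaEquiv_comp.{u+1}, Equiv.apply_symm_apply]
      exact h2
  · rintro ⟨r, h1, h2⟩
    refine ⟨yE r, ?_, ?_⟩
    · rw [← h1]
      rfl
    · rw [← h2]
      rfl

/-- Local lifting along a locally surjective map, on points with values in representables. -/
theorem exists_lift_cover {H G : Sp S} (p : H ⟶ G) [Sheaf.IsLocallySurjective p] {T : Over S}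
    (a : (yon S).obj T ⟶ G) :
    ∃ R : Sieve T, R ∈ J S T ∧ ∀ ⦃T' : Over S⦄ (r : T' ⟶ T), R r →
      ∃ l : (yon S).obj T' ⟶ H, l ≫ p = (yon S).map r ≫ a := by
  have hcov := Presheaf.imageSieve_mem (J S) p.hom (U := op T) (yE a)
  refine ⟨_, hcov, fun T' r hr => ?_⟩
  obtain ⟨s, hs⟩ := hr
  refine ⟨yE.symm s, ?_⟩
  apply yE.injective
  have h1 := (J S).uliftYonedaEquiv_comp.{u+1} (yE.symm s) p
  have h2 := (J S).uliftYonedaEquiv_naturality.{u+1} a r
  rw [h1, ← h2]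
  simpa using hs

/-- Points of `U` identified in the quotient by a pre-equivalence relation are locally related. -/
theorem locRel_yon {R U : Sp S} (s t : R ⟶ U) (hpre : IsPreEqvRelSp s t) {T : Over S}
    (x y : (yon S).obj T ⟶ U) (hxy : x ≫ quotSpπ s t = y ≫ quotSpπ s t) :
    ∃ SS : Sieve T, SS ∈ J S T ∧ ∀ ⦃T' : Over S⦄ (r : T' ⟶ T), SS r →
      ∃ ρ : (yon S).obj T' ⟶ R, ρ ≫ t = (yon S).map r ≫ x ∧ ρ ≫ s = (yon S).map r ≫ y := by
  have heqv : ∀ T : (Over S)ᵒᵖ, Equivalence (Eff.Rel s t T) := by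
    intro T
    obtain ⟨T⟩ := T
    have E := hpre T
    have key : ∀ x y : U.obj.obj (op T), Eff.Rel s t (op T) x y ↔
        ∃ r : (yon S).obj T ⟶ R, r ≫ s = yE.symm x ∧ r ≫ t = yE.symm y := by
      intro x y
      have := rel_iff s t T (yE.symm x) (yE.symm y)
      rw [Equiv.apply_symm_apply, Equiv.apply_symm_apply] at this
      exact this
    refine ⟨fun x => ?_, fun {x y} hxy => ?_, fun {x y z} hxy hyz => ?_⟩
    · rw [key]
      obtain ⟨r, h1, h2⟩ := E.refl (yE.symm x)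
      exact ⟨r, h2, h1⟩
    · rw [key] at hxy ⊢
      obtain ⟨r, h1, h2⟩ := hxy
      obtain ⟨r', h1', h2'⟩ := E.symm ⟨r, h2, h1⟩
      exact ⟨r', h2', h1'⟩
    · rw [key] at hxy hyz ⊢
      obtain ⟨r, h1, h2⟩ := hxy
      obtain ⟨r₂, h3, h4⟩ := hyz
      obtain ⟨r', h1', h2'⟩ := E.trans ⟨r₂, h4, h3⟩ ⟨r, h2, h1⟩
      exact ⟨r', h2', h1'⟩
  have hxy' : (quotSpπ s t).hom.app (op T) (yE x) = (quotSpπ s t).hom.app (op T) (yE y) := by
    have h1 := (J S).uliftYonedaEquiv_comp.{u+1} x (quotSpπ s t)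
    have h2 := (J S).uliftYonedaEquiv_comp.{u+1} y (quotSpπ s t)
    rw [← h1, ← h2, hxy]
  obtain ⟨SS, hSS, hloc⟩ := Eff.locRel_of_coeq_eq s t heqv (quotSpπ s t) (quotSp_condition s t)
    (quotSpIsCoequalizer s t) (op T) (yE x) (yE y) hxy'
  refine ⟨SS, hSS, fun T' r hr => ?_⟩
  have h := hloc r hr
  have e1 := (J S).uliftYonedaEquiv_naturality.{u+1} x r
  have e2 := (J S).uliftYonedaEquiv_naturality.{u+1} y r
  rw [e1, e2] at h
  obtain ⟨ρ, h1, h2⟩ := (rel_iff s t T' _ _).1 h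
  -- `ρ ≫ s = r ≫ x`, `ρ ≫ t = r ≫ y`: flip using symmetry
  obtain ⟨ρ', h1', h2'⟩ := (hpre T').symm ⟨ρ, h2, h1⟩
  exact ⟨ρ', h1', h2'⟩

/-- The map of quotients induced by restricting a pre-equivalence relation is a monomorphism. -/
theorem mono_quot_of_restrict {R U R' U' : Sp S}
    (s t : R ⟶ U) (hpre : IsPreEqvRelSp s t) (g : U' ⟶ U) (s' t' : R' ⟶ U')
    (hlift : ∀ (T : Over S) (x y : (yon S).obj T ⟶ U') (ρ : (yon S).obj T ⟶ R),
      ρ ≫ t = x ≫ g → ρ ≫ s = y ≫ g → ∃ ρ' : (yon S).obj T ⟶ R', ρ' ≫ t' = x ∧ ρ' ≫ s' = y)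
    (ψ : quotSp s' t' ⟶ quotSp s t) (hψ : quotSpπ s' t' ≫ ψ = g ≫ quotSpπ s t) :
    Mono ψ := by
  refine mono_of_yon ψ fun T a b hab => ?_
  have hepi0 := epi_of_isColimit_cofork (quotSpIsCoequalizer s' t')
  have hepi : Epi (quotSpπ s' t') := hepi0
  have hls : Sheaf.IsLocallySurjective (quotSpπ s' t') :=
    (Sheaf.isLocallySurjective_iff_epi _).2 hepi
  obtain ⟨Ra, hRa, hla⟩ := exists_lift_cover (quotSpπ s' t') a
  obtain ⟨Rb, hRb, hlb⟩ := exists_lift_cover (quotSpπ s' t') b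
  refine yon_hom_ext_of_covering a b (Ra ⊓ Rb) ((J S).intersection_covering hRa hRb)
    fun T' r hr => ?_
  obtain ⟨la, hla'⟩ := hla r hr.1
  obtain ⟨lb, hlb'⟩ := hlb r hr.2
  have hx : (la ≫ g) ≫ quotSpπ s t = (lb ≫ g) ≫ quotSpπ s t := by
    rw [Category.assoc, Category.assoc, ← hψ, ← Category.assoc, ← Category.assoc, hla', hlb',
      Category.assoc, Category.assoc, hab]
  obtain ⟨SS, hSS, hloc⟩ := locRel_yon s t hpre (la ≫ g) (lb ≫ g) hx
  refine yon_hom_ext_of_covering _ _ SS hSS fun T'' r' hr' => ?_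
  obtain ⟨ρ, h1, h2⟩ := hloc r' hr'
  obtain ⟨ρ', h1', h2'⟩ := hlift T'' ((yon S).map r' ≫ la) ((yon S).map r' ≫ lb) ρ
    (by rw [h1, Category.assoc]) (by rw [h2, Category.assoc])
  rw [← hla', ← hlb', ← Category.assoc, ← Category.assoc, ← h1', ← h2', Category.assoc,
    Category.assoc, quotSp_condition]

end Groth.Agent.H25.AS
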