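import Groth.Agent.H25.PreEqv
import Mathlib.AlgebraicGeometry.Sites.Fpqc

/-!
# Epimorphisms of fppf sheaves are fpqc-refinable; effectivity of equivalence relations of sheaves
-/

universe u
open CategoryTheory CategoryTheory.Limits AlgebraicGeometry Opposite AlgSp MorphismProperty

namespace Groth.Agent.H25.AS
variable {S : Scheme.{u}}

set_option backward.isDefEq.respectTransparency.types false in
theorem exists_fppf_family_of_covering {Z : Over S} [CompactSpace Z.left] (R : Sieve Z)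
    (hR : R ∈ J S Z) :
    ∃ (m : ℕ) (W : Fin m → Over S) (c : ∀ j, W j ⟶ Z), (∀ j, IsAffine (W j).left) ∧
      (∀ j, Flat (c j).left) ∧ (∀ z : ↥Z.left, ∃ j, z ∈ Set.range (c j).left) ∧
      ∀ j, R (c j) := by
  rw [GrothendieckTopology.mem_over_iff,
    Precoverage.mem_toGrothendieck_iff_of_isStableUnderComposition] at hR
  obtain ⟨R₀, hR₀, hle⟩ := hR
  have hR' := Scheme.fppfPrecoverage_le_fpqcPrecoverage _ hR₀
  have h1 := hR'.1
  have h2 := hR'.2
  rw [Scheme.qcPrecoverage, PreZeroHypercoverFamily.mem_precoverage_iff] at h1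
  obtain ⟨E, hE, rfl⟩ := h1
  simp only [Scheme.qcCoverFamily_property, Scheme.quasiCompactCover_iff] at hE
  obtain ⟨n, f, V, hV, hcover⟩ := QuasiCompactCover.exists_isAffineOpen_of_isCompact E
    (U := ⊤) isCompact_univ
  have hfl : ∀ i, Flat (E.f i) := fun i => h2.2 ⟨i⟩
  refine ⟨n, fun j => Over.mk (((V j).ι ≫ E.f (f j)) ≫ Z.hom),
    fun j => Over.homMk ((V j).ι ≫ E.f (f j)) rfl, fun j => hV j, fun j => ?_, fun z => ?_,
    fun j => ?_⟩
  · have := hfl (f j)
    exact (inferInstance : Flat ((V j).ι ≫ E.f (f j)))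
  · have hz : z ∈ ((⊤ : Z.left.Opens) : Set ↥Z.left) := trivial
    rw [← hcover] at hz
    obtain ⟨j, v, hv, rfl⟩ := Set.mem_iUnion.1 hz
    exact ⟨j, ⟨v, hv⟩, rfl⟩
  · have h := hle _ _ (Presieve.ofArrows.mk (f j))
    have h' := (Sieve.overEquiv Z R).downward_closed h (V j).ι
    rw [Sieve.overEquiv_iff] at h'
    exact h'

/-- A locally surjective map of sheaves satisfies the fpqc refinement property. -/
theorem fpqcRefine_of_isLocallySurjective {X Y : Sp S} (f : X ⟶ Y)
    [Sheaf.IsLocallySurjective f] :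
    FpqcRefine (fun _ : PUnit.{u + 1} => X) (fun _ => f) := by
  intro Z hZ h
  obtain ⟨R, hR, hl⟩ := exists_lift_cover f h
  have : CompactSpace Z.left := by have := hZ; infer_instance
  obtain ⟨m, W, c, hW, hc, hs, hRc⟩ := exists_fppf_family_of_covering R hR
  exact ⟨m, W, c, hW, hc, hs, fun j => ⟨⟨⟩, hl (c j) (hRc j)⟩⟩


theorem rel_equivalence {R U : Sp S} (s t : R ⟶ U) (hpre : IsPreEqvRelSp s t) :
    ∀ T : (Over S)ᵒᵖ, Equivalence (Eff.Rel s t T) := by
  intro T
  obtain ⟨T⟩ := T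
  have E := hpre T
  have key : ∀ x y : U.obj.obj (op T), Eff.Rel s t (op T) x y ↔
      ∃ r : (yon S).obj T ⟶ R, r ≫ s = yE.symm x ∧ r ≫ t = yE.symm y := by
    intro x y
    have := rel_iff s t T (yE.symm x) (yE.symm y)
    rw [Equiv.apply_symm_apply, Equiv.apply_symm_apply] at this
    exact this
  refine ⟨fun x => ?_, fun {x y} hxy => ?_, fun {x y z} hxy hyz => ?_⟩
  · rw [key]
    obtain ⟨r, h1, h2⟩ := E.refl (yE.symm x)
    exact ⟨r, h2, h1⟩
  · rw [key] at hxy ⊢
    obtain ⟨r, h1, h2⟩ := hxy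
    obtain ⟨r', h1', h2'⟩ := E.symm ⟨r, h2, h1⟩
    exact ⟨r', h2', h1'⟩
  · rw [key] at hxy hyz ⊢
    obtain ⟨r, h1, h2⟩ := hxy
    obtain ⟨r₂, h3, h4⟩ := hyz
    obtain ⟨r', h1', h2'⟩ := E.trans ⟨r₂, h4, h3⟩ ⟨r, h2, h1⟩
    exact ⟨r', h2', h1'⟩

/-- An equivalence relation of fppf sheaves is effective: `R = U ×_{U/R} U`. -/
theorem isPullback_quot_of_isEqvRelSp {R U : Sp S} (s t : R ⟶ U) (hj : IsEqvRelSp s t) :
    IsPullback s t (quotSpπ s t) (quotSpπ s t) := by
  have hinj : ∀ (T : (Over S)ᵒᵖ) (r r' : R.obj.obj T), s.hom.app T r = s.hom.app T r' →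
      t.hom.app T r = t.hom.app T r' → r = r' := by
    intro T r r' h1 h2
    obtain ⟨T⟩ := T
    have h := hj.injective T (yE.symm r) (yE.symm r') (yE.injective ?_) (yE.injective ?_)
    · have h' := congrArg yE h
      rwa [Equiv.apply_symm_apply, Equiv.apply_symm_apply] at h'
    · rw [(J S).uliftYonedaEquiv_comp.{u+1}, (J S).uliftYonedaEquiv_comp.{u+1},
        Equiv.apply_symm_apply, Equiv.apply_symm_apply]
      exact h2
    · rw [(J S).uliftYonedaEquiv_comp.{u+1}, (J S).uliftYonedaEquiv_comp.{u+1},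
        Equiv.apply_symm_apply, Equiv.apply_symm_apply]
      exact h1
  exact Eff.isPullback_of_eqv s t hinj (rel_equivalence s t hj.equivalence) (quotSpπ s t)
    (quotSp_condition s t) (quotSpIsCoequalizer s t)

theorem epi_quotSpπ {R U : Sp S} (s t : R ⟶ U) : Epi (quotSpπ s t) := by
  have hepi0 := epi_of_isColimit_cofork (quotSpIsCoequalizer s t)
  exact hepi0

/-- The quotient map of a flat lfp equivalence relation of algebraic spaces with algebraic-space
quotient is surjective and inherits `P` from `t`, for `P` fpqc local on the target. -/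
theorem quotSpπ_props {R U : Sp S} (hR : IsAlgSpace R) (hU : IsAlgSpace U) (s t : R ⟶ U)
    (hj : IsEqvRelSp s t) (hF : IsAlgSpace (quotSp s t)) :
    IsSurjectiveMor (quotSpπ s t) ∧
      ∀ (P : MorphismProperty Scheme.{u}) (_ : EtLoc P)
        [P.DescendsAlong (@Surjective ⊓ @Flat ⊓ @QuasiCompact)] [IsZariskiLocalAtTarget P],
        LocP P t → LocP P (quotSpπ s t) := by
  have sq := isPullback_quot_of_isEqvRelSp s t hj
  have hepi := epi_quotSpπ s t
  have hls : Sheaf.IsLocallySurjective (quotSpπ s t) :=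
    (Sheaf.isLocallySurjective_iff_epi _).2 hepi
  have href := fpqcRefine_of_isLocallySurjective (quotSpπ s t)
  refine ⟨fun x => ?_, fun P hP _ _ ht => ?_⟩
  · obtain ⟨i, y, hy⟩ := exists_of_fpqcRefine href x
    exact ⟨y, hy⟩
  · exact locP_of_fpqcRefine hP hU hF (quotSpπ s t) (fun _ => U) (fun _ => quotSpπ s t)
      (fun _ => hU) href (fun _ => R) (fun _ => hR) (fun _ => t) (fun _ => s) (fun _ => sq)
      (fun _ => ht)

end Groth.Agent.H25.AS
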