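import Mathlib

set_option autoImplicit false

namespace Groth.Agent.H25
open TensorProduct

universe u v w v' w'

section gen
variable {R : Type u} [CommRing R] {L : Type v'} {M : Type v} {N : Type w} {C : Type w'}
  [AddCommGroup L] [Module R L] [AddCommGroup M] [Module R M] [AddCommGroup N] [Module R N]
  [AddCommGroup C] [Module R C]

/-- A generalized inverse of `d` when the cokernel is projective. -/
theorem exists_ginv (d : M →ₗ[R] N) (π : N →ₗ[R] C) (hπ : Function.Surjective π)
    (hex : Function.Exact d π) [Module.Projective R N] [Module.Projective R C] :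
    ∃ σ : N →ₗ[R] M, ∀ m, d (σ (d m)) = d m := by
  obtain ⟨s, hs⟩ := Module.projective_lifting_property π LinearMap.id hπ
  have hs' : ∀ c, π (s c) = c := fun c => LinearMap.congr_fun hs c
  have he : ∀ n, ((LinearMap.id : N →ₗ[R] N) - s ∘ₗ π) n ∈ LinearMap.range d := by
    intro n
    apply (hex _).mp
    rw [LinearMap.sub_apply, LinearMap.id_apply, LinearMap.comp_apply, map_sub, hs', sub_self]
  obtain ⟨σ, hσ⟩ := Module.projective_lifting_property d.rangeRestrict
    (((LinearMap.id : N →ₗ[R] N) - s ∘ₗ π).codRestrict (LinearMap.range d) he) d.surjective_rangeRestrict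
  refine ⟨σ, fun m => ?_⟩
  have h1 : d (σ (d m)) = ((LinearMap.id : N →ₗ[R] N) - s ∘ₗ π) (d m) :=
    congrArg Subtype.val (LinearMap.congr_fun hσ (d m))
  have h2 : π (d m) = 0 := (hex (d m)).mpr ⟨m, rfl⟩
  rw [h1, LinearMap.sub_apply, LinearMap.id_apply, LinearMap.comp_apply, h2, map_zero, sub_zero]

theorem exists_decomp (h : L →ₗ[R] M) (d : M →ₗ[R] N) (π : N →ₗ[R] C)
    (hπ : Function.Surjective π) (hhd : Function.Exact h d) (hex : Function.Exact d π)
    [Module.Projective R M] [Module.Projective R N] [Module.Projective R C] :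
    ∃ (P : M →ₗ[R] L) (σ : N →ₗ[R] M), ∀ m, h (P m) + σ (d m) = m := by
  obtain ⟨σ, hσ⟩ := exists_ginv d π hπ hex
  have hT : ∀ m, ((LinearMap.id : M →ₗ[R] M) - σ ∘ₗ d) m ∈ LinearMap.range h := by
    intro m
    apply (hhd _).mp
    rw [LinearMap.sub_apply, LinearMap.id_apply, LinearMap.comp_apply, map_sub, hσ, sub_self]
  obtain ⟨P, hP⟩ := Module.projective_lifting_property h.rangeRestrict
    (((LinearMap.id : M →ₗ[R] M) - σ ∘ₗ d).codRestrict (LinearMap.range h) hT) h.surjective_rangeRestrict
  refine ⟨P, σ, fun m => ?_⟩
  have h1 : h (P m) = ((LinearMap.id : M →ₗ[R] M) - σ ∘ₗ d) m :=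
    congrArg Subtype.val (LinearMap.congr_fun hP m)
  rw [h1, LinearMap.sub_apply, LinearMap.id_apply, LinearMap.comp_apply, sub_add_cancel]

theorem ker_baseChange_le_range (B : Type*) [CommRing B] [Algebra R B] (h : L →ₗ[R] M)
    (d : M →ₗ[R] N) (P : M →ₗ[R] L) (σ : N →ₗ[R] M) (hdec : ∀ m, h (P m) + σ (d m) = m) :
    LinearMap.ker (d.baseChange B) ≤ LinearMap.range (h.baseChange B) := by
  intro x hx
  have hid : (h ∘ₗ P + σ ∘ₗ d) = LinearMap.id := LinearMap.ext hdec
  have h1 : ((h ∘ₗ P + σ ∘ₗ d).baseChange B) x = x := by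
    rw [hid, LinearMap.baseChange_id]; rfl
  rw [LinearMap.baseChange_add, LinearMap.add_apply, LinearMap.baseChange_comp,
    LinearMap.baseChange_comp, LinearMap.comp_apply, LinearMap.comp_apply,
    LinearMap.mem_ker.mp hx, map_zero, add_zero] at h1
  exact ⟨_, h1⟩

end gen

section nat
variable {R : Type u} [CommRing R] {A : Type*} [CommRing A] [Algebra R A]
  {B : Type*} [CommRing B] [Algebra R B] [Algebra A B] [IsScalarTower R A B]
  {M : Type v} {N : Type w} [AddCommGroup M] [Module R M] [AddCommGroup N] [Module R N]

theorem cancel_nat (f : M →ₗ[R] N) (y : B ⊗[A] (A ⊗[R] M)) :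
    AlgebraTensorModule.cancelBaseChange R A B B N ((f.baseChange A).baseChange B y) =
      f.baseChange B (AlgebraTensorModule.cancelBaseChange R A B B M y) := by
  rw [LinearMap.baseChange_baseChange]
  simp

end nat

section loc
variable {R : Type u} [CommRing R] (A : Type*) [CommRing A] [Algebra R A] [IsLocalRing A]
  {M : Type v} {N : Type w} [AddCommGroup M] [Module R M] [AddCommGroup N] [Module R N]
  [Module.Finite R M] [Module.Projective R M] [Module.Finite R N] [Module.Projective R N]
  (d : M →ₗ[R] N)

omit [Module.Projective R M] in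
theorem free_of_ker_le_range
    (H : LinearMap.ker (d.baseChange (IsLocalRing.ResidueField A)) ≤
      LinearMap.range ((LinearMap.ker d).subtype.baseChange (IsLocalRing.ResidueField A))) :
    Module.Free A (A ⊗[R] (N ⧸ LinearMap.range d)) := by
  have hfree : Module.Free A (A ⊗[R] N) := Module.free_of_flat_of_isLocalRing
  have hπA : Function.Surjective ((LinearMap.range d).mkQ.baseChange A) := by
    rw [LinearMap.baseChange_eq_ltensor]
    exact LinearMap.lTensor_surjective A (Submodule.mkQ_surjective _)
  have hex0 : Function.Exact (d.baseChange A) ((LinearMap.range d).mkQ.baseChange A) := by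
    rw [LinearMap.baseChange_eq_ltensor, LinearMap.baseChange_eq_ltensor]
    exact lTensor_exact A (LinearMap.exact_map_mkQ_range d) (Submodule.mkQ_surjective _)
  have hq : Function.Surjective (d.baseChange A).rangeRestrict :=
    (d.baseChange A).surjective_rangeRestrict
  have hex : Function.Exact (LinearMap.range (d.baseChange A)).subtype
      ((LinearMap.range d).mkQ.baseChange A) := by
    intro y
    rw [hex0 y]
    constructor
    · rintro ⟨x, rfl⟩
      exact ⟨⟨d.baseChange A x, ⟨x, rfl⟩⟩, rfl⟩
    · rintro ⟨⟨_, ⟨x, rfl⟩⟩, rfl⟩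
      exact ⟨x, rfl⟩
  have hfin : Module.Finite A (LinearMap.range (d.baseChange A)) :=
    Module.Finite.range (d.baseChange A)
  refine Module.free_of_lTensor_residueField_injective
    (M := LinearMap.range (d.baseChange A))
    (LinearMap.range (d.baseChange A)).subtype ((LinearMap.range d).mkQ.baseChange A) hπA hex ?_
  rw [← LinearMap.baseChange_eq_ltensor, injective_iff_map_eq_zero]
  intro x hx
  have hqk : Function.Surjective
      ((d.baseChange A).rangeRestrict.baseChange (IsLocalRing.ResidueField A)) := by
    rw [LinearMap.baseChange_eq_ltensor]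
    exact LinearMap.lTensor_surjective _ hq
  obtain ⟨y, rfl⟩ := hqk x
  have h1 : ((d.baseChange A).baseChange (IsLocalRing.ResidueField A)) y = 0 := by
    have hfac : d.baseChange A = (LinearMap.range (d.baseChange A)).subtype ∘ₗ
        (d.baseChange A).rangeRestrict := rfl
    rw [hfac, LinearMap.baseChange_comp, LinearMap.comp_apply]
    exact hx
  have h2 : (d.baseChange (IsLocalRing.ResidueField A))
      (AlgebraTensorModule.cancelBaseChange R A (IsLocalRing.ResidueField A)
        (IsLocalRing.ResidueField A) M y) = 0 := by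
    rw [← cancel_nat, h1, map_zero]
  obtain ⟨z, hz⟩ := H (LinearMap.mem_ker.mpr h2)
  have h3 : y = (((LinearMap.ker d).subtype.baseChange A).baseChange
      (IsLocalRing.ResidueField A))
      ((AlgebraTensorModule.cancelBaseChange R A (IsLocalRing.ResidueField A)
        (IsLocalRing.ResidueField A) (LinearMap.ker d)).symm z) := by
    apply (AlgebraTensorModule.cancelBaseChange R A (IsLocalRing.ResidueField A)
        (IsLocalRing.ResidueField A) M).injective
    rw [cancel_nat, LinearEquiv.apply_symm_apply, hz]
  have h4 : (d.baseChange A).rangeRestrict ∘ₗ ((LinearMap.ker d).subtype.baseChange A) = 0 := by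
    apply LinearMap.ext
    intro t
    apply Subtype.ext
    show (d.baseChange A) (((LinearMap.ker d).subtype.baseChange A) t) = 0
    rw [← LinearMap.comp_apply, ← LinearMap.baseChange_comp]
    have hz0 : d ∘ₗ (LinearMap.ker d).subtype = 0 := by
      ext t
      exact t.2
    rw [hz0, LinearMap.baseChange_zero]
    rfl
  rw [h3, ← LinearMap.comp_apply, ← LinearMap.baseChange_comp, h4, LinearMap.baseChange_zero]
  rfl

omit [Module.Finite R M] [Module.Finite R N] in
theorem ker_le_range_of_free [Module.Flat R A]
    (hfree : Module.Free A (A ⊗[R] (N ⧸ LinearMap.range d))) :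
    LinearMap.ker (d.baseChange (IsLocalRing.ResidueField A)) ≤
      LinearMap.range ((LinearMap.ker d).subtype.baseChange (IsLocalRing.ResidueField A)) := by
  have hproj : Module.Projective A (A ⊗[R] (N ⧸ LinearMap.range d)) := Module.Projective.of_free
  have hex1 : Function.Exact ((LinearMap.ker d).subtype.baseChange A) (d.baseChange A) := by
    rw [LinearMap.baseChange_eq_ltensor, LinearMap.baseChange_eq_ltensor]
    exact Module.Flat.lTensor_exact A (LinearMap.exact_subtype_ker_map d)
  have hπA : Function.Surjective ((LinearMap.range d).mkQ.baseChange A) := by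
    rw [LinearMap.baseChange_eq_ltensor]
    exact LinearMap.lTensor_surjective A (Submodule.mkQ_surjective _)
  have hex2 : Function.Exact (d.baseChange A) ((LinearMap.range d).mkQ.baseChange A) := by
    rw [LinearMap.baseChange_eq_ltensor, LinearMap.baseChange_eq_ltensor]
    exact lTensor_exact A (LinearMap.exact_map_mkQ_range d) (Submodule.mkQ_surjective _)
  obtain ⟨P, σ, hdec⟩ := exists_decomp ((LinearMap.ker d).subtype.baseChange A) (d.baseChange A)
    ((LinearMap.range d).mkQ.baseChange A) hπA hex1 hex2
  have key := ker_baseChange_le_range (IsLocalRing.ResidueField A)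
    ((LinearMap.ker d).subtype.baseChange A) (d.baseChange A) P σ hdec
  intro x hx
  have h1 : ((d.baseChange A).baseChange (IsLocalRing.ResidueField A))
      ((AlgebraTensorModule.cancelBaseChange R A (IsLocalRing.ResidueField A)
        (IsLocalRing.ResidueField A) M).symm x) = 0 := by
    apply (AlgebraTensorModule.cancelBaseChange R A (IsLocalRing.ResidueField A)
        (IsLocalRing.ResidueField A) N).injective
    rw [cancel_nat, LinearEquiv.apply_symm_apply, map_zero]
    exact hx
  obtain ⟨z, hz⟩ := key (LinearMap.mem_ker.mpr h1)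
  refine ⟨AlgebraTensorModule.cancelBaseChange R A (IsLocalRing.ResidueField A)
        (IsLocalRing.ResidueField A) (LinearMap.ker d) z, ?_⟩
  rw [← cancel_nat, hz, LinearEquiv.apply_symm_apply]

end loc

end Groth.Agent.H25
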