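import Mathlib.AlgebraicGeometry.SpreadingOut
import Mathlib.AlgebraicGeometry.Morphisms.FinitePresentation

/-!
# Spreading out for targets locally of finite presentation (no germ-injectivity needed)
-/

set_option autoImplicit false
open AlgebraicGeometry CategoryTheory TopologicalSpace Opposite

namespace Groth.Agent.H25.SpreadFP

universe u

variable {X : Scheme.{u}} {R A : CommRingCat.{u}}

theorem exists_lift_fp {x : X} {U : X.Opens} (hxU : x ∈ U)
    (φ : A ⟶ X.presheaf.stalk x) (φRA : R ⟶ A) (φRX : R ⟶ Γ(X, U))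
    (hφRA : RingHom.FinitePresentation φRA.hom)
    (e : φRA ≫ φ = φRX ≫ X.presheaf.germ U x hxU) :
    ∃ (V : X.Opens) (hxV : x ∈ V) (φ' : A ⟶ Γ(X, V)) (i : V ≤ U), IsAffineOpen V ∧
      φ = φ' ≫ X.presheaf.germ V x hxV ∧ φRX ≫ X.presheaf.map i.hom.op = φRA ≫ φ' := by
  classical
  let _ := φRA.hom.toAlgebra
  obtain ⟨n, π, hπ, s, hs⟩ := hφRA
  have hπC : ∀ r : R, π (MvPolynomial.C r) = φRA r := fun r => π.commutes r
  choose W hxW t ht using fun i : Fin n ↦ X.presheaf.exists_germ_eq (φ (π (MvPolynomial.X i)))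
  let V₁ : X.Opens := (Finset.univ.inf W) ⊓ U
  have hxV₁ : x ∈ V₁ := by
    refine ⟨?_, hxU⟩
    rw [TopologicalSpace.Opens.coe_finset_inf]
    simpa using fun i => hxW i
  have hV₁W : ∀ i, V₁ ≤ W i := fun i => inf_le_left.trans (Finset.inf_le (Finset.mem_univ i))
  have hV₁U : V₁ ≤ U := inf_le_right
  let g₁ : MvPolynomial (Fin n) R →+* Γ(X, V₁) :=
    MvPolynomial.eval₂Hom (φRX ≫ X.presheaf.map (homOfLE hV₁U).op).hom
      (fun i => X.presheaf.map (homOfLE (hV₁W i)).op (t i))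
  have hg₁ : ∀ p, X.presheaf.germ V₁ x hxV₁ (g₁ p) = φ (π p) := by
    have : (X.presheaf.germ V₁ x hxV₁).hom.comp g₁ = φ.hom.comp π.toRingHom := by
      apply MvPolynomial.ringHom_ext
      · intro r
        have e' := congr($(e).hom r)
        simp only [CommRingCat.hom_comp, RingHom.coe_comp, Function.comp_apply] at e'
        simp only [g₁, RingHom.coe_comp, Function.comp_apply, MvPolynomial.coe_eval₂Hom,
          MvPolynomial.eval₂_C, CommRingCat.hom_comp, AlgHom.toRingHom_eq_coe, RingHom.coe_coe]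
        rw [hπC, e']
        exact TopCat.Presheaf.germ_res_apply _ _ _ _ _
      · intro i
        simp only [g₁, RingHom.coe_comp, Function.comp_apply, MvPolynomial.coe_eval₂Hom,
          MvPolynomial.eval₂_X, AlgHom.toRingHom_eq_coe, RingHom.coe_coe]
        rw [← ht i]
        exact TopCat.Presheaf.germ_res_apply _ _ _ _ _
    intro p
    exact congr($this p)
  have hkill : ∀ r : s, ∃ (V : X.Opens) (hV : V ≤ V₁), x ∈ V ∧
      X.presheaf.map (homOfLE hV).op (g₁ r.1) = 0 := by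
    intro r
    have hr0 : π r.1 = 0 := by
      have : r.1 ∈ RingHom.ker π.toRingHom := hs ▸ Ideal.subset_span r.2
      exact this
    have h0 : X.presheaf.germ V₁ x hxV₁ (g₁ r.1) = X.presheaf.germ V₁ x hxV₁ 0 := by
      rw [hg₁, hr0, map_zero, map_zero]
    obtain ⟨V, hxV, i₁, i₂, h⟩ := TopCat.Presheaf.germ_eq X.presheaf x hxV₁ hxV₁ _ _ h0
    refine ⟨V, i₁.le, hxV, ?_⟩
    rw [map_zero] at h
    exact h
  choose V' hV' hxV' hV'0 using hkill
  let V₂ : X.Opens := (Finset.univ.inf V') ⊓ V₁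
  have hxV₂ : x ∈ V₂ := by
    refine ⟨?_, hxV₁⟩
    rw [TopologicalSpace.Opens.coe_finset_inf]
    simpa using fun r hr => hxV' ⟨r, hr⟩
  have hV₂V' : ∀ r, V₂ ≤ V' r := fun r => inf_le_left.trans (Finset.inf_le (Finset.mem_univ r))
  obtain ⟨_, ⟨V, hV, rfl⟩, hxV, hVV₂⟩ :=
    X.isBasis_affineOpens.exists_subset_of_mem_open hxV₂ V₂.2
  have hVV₂' : V ≤ V₂ := hVV₂
  have hVV₁ : V ≤ V₁ := hVV₂'.trans inf_le_right
  let g : MvPolynomial (Fin n) R →+* Γ(X, V) := (X.presheaf.map (homOfLE hVV₁).op).hom.comp g₁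
  have hgker : RingHom.ker π.toRingHom ≤ RingHom.ker g := by
    rw [← hs, Ideal.span_le]
    intro r hr
    have h1 := hV'0 ⟨r, hr⟩
    change g r = 0
    have h2 : g r = X.presheaf.map (homOfLE (hVV₂'.trans (hV₂V' ⟨r, hr⟩))).op
        (X.presheaf.map (homOfLE (hV' ⟨r, hr⟩)).op (g₁ r)) := by
      change X.presheaf.map (homOfLE hVV₁).op (g₁ r) = _
      rw [← ConcreteCategory.comp_apply, ← Functor.map_comp]
      rfl
    rw [h2, h1, map_zero]
  let φ'r : A →+* Γ(X, V) := RingHom.liftOfSurjective π.toRingHom hπ ⟨g, hgker⟩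
  have hφ'r : ∀ p, φ'r (π p) = g p := fun p =>
    RingHom.liftOfRightInverse_comp_apply _ _ _ _ p
  refine ⟨V, hxV, CommRingCat.ofHom φ'r, hVV₁.trans hV₁U, hV, ?_, ?_⟩
  · ext a
    obtain ⟨p, rfl⟩ := hπ a
    change φ (π p) = X.presheaf.germ V x hxV (φ'r (π p))
    rw [hφ'r, ← hg₁]
    exact (TopCat.Presheaf.germ_res_apply _ _ _ _ _).symm
  · ext r
    change X.presheaf.map (homOfLE (hVV₁.trans hV₁U)).op (φRX r) = φ'r (φRA r)
    rw [← hπC, hφ'r]
    change _ = X.presheaf.map (homOfLE hVV₁).op (g₁ (MvPolynomial.C r))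
    simp only [g₁, MvPolynomial.coe_eval₂Hom, MvPolynomial.eval₂_C, CommRingCat.hom_comp,
      RingHom.coe_comp, Function.comp_apply]
    have hm : X.presheaf.map (homOfLE (hVV₁.trans hV₁U)).op =
        X.presheaf.map (homOfLE hV₁U).op ≫ X.presheaf.map (homOfLE hVV₁).op := by
      rw [← Functor.map_comp]; rfl
    rw [hm]; rfl

variable {X Y S : Scheme.{u}} (sX : X ⟶ S) (sY : Y ⟶ S)

theorem spread_out_of_fp [LocallyOfFinitePresentation sY] {x : X} {y : Y}
    (e : sX x = sY y) (φ : Y.presheaf.stalk y ⟶ X.presheaf.stalk x)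
    (h : sY.stalkMap y ≫ φ =
      S.presheaf.stalkSpecializes (Inseparable.of_eq e).specializes ≫ sX.stalkMap x) :
    ∃ (U : X.Opens) (hxU : x ∈ U) (f : U.toScheme ⟶ Y),
      Spec.map φ ≫ Y.fromSpecStalk y = U.fromSpecStalkOfMem x hxU ≫ f ∧
      f ≫ sY = U.ι ≫ sX := by
  obtain ⟨_, ⟨U, hU, rfl⟩, hxU, -⟩ :=
    S.isBasis_affineOpens.exists_subset_of_mem_open (Set.mem_univ (sX x)) isOpen_univ
  have hyU : sY y ∈ U := e ▸ hxU
  obtain ⟨_, ⟨V : Y.Opens, hV, rfl⟩, hyV, iVU⟩ :=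
    Y.isBasis_affineOpens.exists_subset_of_mem_open hyU (sY ⁻¹ᵁ U).2
  have : sY.appLE U V iVU ≫ Y.presheaf.germ V y hyV ≫ φ =
      sX.app U ≫ X.presheaf.germ (sX ⁻¹ᵁ U) x hxU := by
    rw [Scheme.Hom.appLE, Category.assoc, Y.presheaf.germ_res_assoc,
      ← Scheme.Hom.germ_stalkMap_assoc, h]
    simp
  obtain ⟨W, hxW, φ', i, hW, h₁, h₂⟩ :=
    exists_lift_fp (R := Γ(S, U)) (A := Γ(Y, V)) (U := sX ⁻¹ᵁ U) (x := x) hxU
    (Y.presheaf.germ _ y hyV ≫ φ) (sY.appLE U V iVU) (sX.app U)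
    (sY.finitePresentation_appLE hU hV _) this
  refine ⟨W, hxW, W.toSpecΓ ≫ Spec.map φ' ≫ hV.fromSpec, ?_, ?_⟩
  · rw [W.fromSpecStalkOfMem_toSpecΓ_assoc x hxW, ← Spec.map_comp_assoc, ← h₁,
      Spec.map_comp, Category.assoc, ← IsAffineOpen.fromSpecStalk,
      IsAffineOpen.fromSpecStalk_eq_fromSpecStalk]
  · simp only [Category.assoc]
    rw [← IsAffineOpen.SpecMap_appLE_fromSpec sY hU hV iVU, ← Spec.map_comp_assoc, ← h₂,
      ← Scheme.Hom.appLE, ← hW.isoSpec_hom, IsAffineOpen.SpecMap_appLE_fromSpec sX hU hW i,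
      ← Iso.eq_inv_comp, IsAffineOpen.isoSpec_inv_ι_assoc]

end Groth.Agent.H25.SpreadFP
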