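import Groth.Agent.H25.SpreadFP
import Mathlib.AlgebraicGeometry.Morphisms.FiniteType

/-!
# Uniqueness of spreading out for targets locally of finite type over a base
-/

set_option autoImplicit false
open AlgebraicGeometry CategoryTheory TopologicalSpace Opposite

namespace Groth.Agent.H25.SpreadFP

universe u
variable {X Y S : Scheme.{u}} (sY : Y ⟶ S)

theorem spread_out_unique_of_ft [LocallyOfFiniteType sY] {x : X}
    (f g : X ⟶ Y) (hfg : f ≫ sY = g ≫ sY) (e : f x = g x)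
    (H : f.stalkMap x =
      Y.presheaf.stalkSpecializes (Inseparable.of_eq e.symm).specializes ≫ g.stalkMap x) :
    ∃ (U : X.Opens), x ∈ U ∧ U.ι ≫ f = U.ι ≫ g := by
  classical
  obtain ⟨_, ⟨US, hUS, rfl⟩, hxUS, -⟩ :=
    S.isBasis_affineOpens.exists_subset_of_mem_open (Set.mem_univ (sY (f x))) isOpen_univ
  obtain ⟨_, ⟨V : Y.Opens, hV, rfl⟩, hxV, iVU⟩ :=
    Y.isBasis_affineOpens.exists_subset_of_mem_open hxUS (sY ⁻¹ᵁ US).2
  have hxV' : g x ∈ V := e ▸ hxV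
  have hxU₀ : x ∈ f ⁻¹ᵁ V ⊓ g ⁻¹ᵁ V := ⟨hxV, hxV'⟩
  have hess := (sY.finiteType_appLE hUS hV iVU).essFiniteType
  have hab : f.appLE V (f ⁻¹ᵁ V ⊓ g ⁻¹ᵁ V) inf_le_left ≫ X.presheaf.germ _ x hxU₀ =
      g.appLE V (f ⁻¹ᵁ V ⊓ g ⁻¹ᵁ V) inf_le_right ≫ X.presheaf.germ _ x hxU₀ := by
    simp only [Scheme.Hom.appLE, Category.assoc, X.presheaf.germ_res', ← Scheme.Hom.germ_stalkMap, H]
    simp only [TopCat.Presheaf.germ_stalkSpecializes_assoc, Scheme.Hom.germ_stalkMap]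
  have hgen : ∀ t : Γ(Y, V), ∃ (W : X.Opens) (hW : W ≤ f ⁻¹ᵁ V ⊓ g ⁻¹ᵁ V), x ∈ W ∧
      X.presheaf.map (homOfLE hW).op (f.appLE V _ inf_le_left t) =
        X.presheaf.map (homOfLE hW).op (g.appLE V _ inf_le_right t) := by
    intro t
    have h0 := congr($hab t)
    obtain ⟨W, hxW, i₁, i₂, h⟩ := TopCat.Presheaf.germ_eq X.presheaf x hxU₀ hxU₀ _ _ h0
    exact ⟨W, i₁.le, hxW, h⟩
  choose W hW hxW hWeq using hgen
  obtain ⟨U, hxU, hUU₀, hUW⟩ : ∃ U : X.Opens, x ∈ U ∧ U ≤ f ⁻¹ᵁ V ⊓ g ⁻¹ᵁ V ∧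
      ∀ t ∈ hess.finset, U ≤ W t := by
    refine ⟨(hess.finset.inf W) ⊓ (f ⁻¹ᵁ V ⊓ g ⁻¹ᵁ V), ⟨?_, hxU₀⟩, inf_le_right,
      fun t ht => inf_le_left.trans (Finset.inf_le ht)⟩
    rw [TopologicalSpace.Opens.coe_finset_inf]
    simpa using fun t _ => hxW t
  refine ⟨U, hxU, ?_⟩
  rw [← Scheme.Hom.resLE_comp_ι _ (hUU₀.trans inf_le_left),
    ← Scheme.Hom.resLE_comp_ι _ (hUU₀.trans inf_le_right)]
  congr 1
  have : IsAffine V := hV
  have key : f.appLE V U (hUU₀.trans inf_le_left) = g.appLE V U (hUU₀.trans inf_le_right) := by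
    ext1
    apply hess.ext
    · rw [← CommRingCat.hom_comp, ← CommRingCat.hom_comp, Scheme.Hom.appLE_comp_appLE,
        Scheme.Hom.appLE_comp_appLE]
      congr 1
      simp only [hfg]
    · intro t ht
      have h1 := hWeq t
      have h2 := congrArg (X.presheaf.map (homOfLE (hUW t ht)).op) h1
      have ef : f.appLE V U (hUU₀.trans inf_le_left) =
          f.appLE V _ inf_le_left ≫ X.presheaf.map (homOfLE (hW t)).op ≫
            X.presheaf.map (homOfLE (hUW t ht)).op := by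
        rw [← Functor.map_comp, Scheme.Hom.appLE_map]
      have eg : g.appLE V U (hUU₀.trans inf_le_right) =
          g.appLE V _ inf_le_right ≫ X.presheaf.map (homOfLE (hW t)).op ≫
            X.presheaf.map (homOfLE (hUW t ht)).op := by
        rw [← Functor.map_comp, Scheme.Hom.appLE_map]
      rw [ef, eg]
      exact h2
  suffices ∀ (U₀ V₀) (eU : U = U₀) (eV : V = V₀),
      f.appLE V₀ U₀ (eU ▸ eV ▸ hUU₀.trans inf_le_left) =
        g.appLE V₀ U₀ (eU ▸ eV ▸ hUU₀.trans inf_le_right) by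
    rw [← cancel_mono V.toScheme.isoSpec.hom]
    simp only [Scheme.isoSpec, asIso_hom, Scheme.toSpecΓ_naturality,
      Scheme.Hom.app_eq_appLE, Scheme.Hom.resLE_appLE]
    congr 2
    apply this <;> simp
  rintro U V rfl rfl
  exact key

end Groth.Agent.H25.SpreadFP
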