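import Groth.Agent.H25.EtNbhd1
import Groth.Prelude.Def_AlgSpOX3
import Mathlib.Algebra.Category.Grp.FilteredColimits
import Mathlib.AlgebraicGeometry.Sites.EtalePoint

/-!
# Stalks of abelian sheaves on the small etale site at geometric points: elementwise description
-/

universe u

open CategoryTheory CategoryTheory.Limits AlgebraicGeometry Opposite AlgSp

namespace Groth.Agent.H25.AS

variable {S : Scheme.{u}}

theorem pfcAb : PreservesFilteredColimitsOfSize.{u, u+1} (forget AddCommGrpCat.{u+1}) :=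
  preservesFilteredColimitsOfSize_shrink.{u+1, u+1, u, u+1} _

theorem stalkEtι_eq_zero_iff (X : Space S) (p : FieldPt X.obj) (hp : p.IsGeometric)
    (F : AbEt X.obj) (N : EtNbhd p) (σ : ↥(F.obj.obj (op N.1))) :
    (stalkEtι p F N).hom σ = 0 ↔
      ∃ (N' : EtNbhd p) (m : N' ⟶ N), (F.obj.map m.val.op).hom σ = 0 := by
  have := isCofiltered_etNbhd X p hp
  have := pfcAb.{u}
  have key := Concrete.colimit_rep_eq_iff_exists (F := stalkEtDiagram p F) (i := op N) (j := op N)
    σ (0 : ↥(F.obj.obj (op N.1)))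
  have h0 : (colimit.ι (stalkEtDiagram p F) (op N)) (0 : ↥(F.obj.obj (op N.1))) = 0 :=
    map_zero (colimit.ι (stalkEtDiagram p F) (op N)).hom
  constructor
  · intro h
    have h' : (colimit.ι (stalkEtDiagram p F) (op N)) σ =
        (colimit.ι (stalkEtDiagram p F) (op N)) (0 : ↥(F.obj.obj (op N.1))) := by
      rw [h0]
      exact h
    obtain ⟨k, f, g, hfg⟩ := key.1 h'
    refine ⟨k.unop, f.unop, ?_⟩
    have hg : ((stalkEtDiagram p F).map g) (0 : ↥(F.obj.obj (op N.1))) = 0 :=
      map_zero ((stalkEtDiagram p F).map g).hom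
    rw [hg] at hfg
    exact hfg
  · rintro ⟨N', m, hm⟩
    have h' : (colimit.ι (stalkEtDiagram p F) (op N)) σ =
        (colimit.ι (stalkEtDiagram p F) (op N)) (0 : ↥(F.obj.obj (op N.1))) := by
      refine key.2 ⟨op N', m.op, m.op, ?_⟩
      have hg : ((stalkEtDiagram p F).map m.op) (0 : ↥(F.obj.obj (op N.1))) = 0 :=
        map_zero ((stalkEtDiagram p F).map m.op).hom
      rw [hg]
      exact hm
    rw [h0] at h'
    exact h'

theorem stalkEt_exists_rep (X : Space S) (p : FieldPt X.obj) (hp : p.IsGeometric)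
    (F : AbEt X.obj) (s : ↥(stalkEt p F)) :
    ∃ (N : EtNbhd p) (σ : ↥(F.obj.obj (op N.1))), (stalkEtι p F N).hom σ = s := by
  have := isCofiltered_etNbhd X p hp
  have := pfcAb.{u}
  obtain ⟨j, y, hy⟩ := Concrete.colimit_exists_rep (stalkEtDiagram p F) s
  exact ⟨j.unop, y, hy⟩

/-- Lifting the lift of a geometric point along a morphism of the site hitting its image. -/
theorem exists_liftsTo_of_mem_range {X : Sp S} (p : FieldPt X) (hp : p.IsGeometric)
    {U V : EtOver X} (φ : V ⟶ U) (l : (FieldPt.liftsTo p).obj U) (v : ↥V.obj.left.left)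
    (hv : φ.hom.left.left v = l.1.left (IsLocalRing.closedPoint p.K)) :
    ∃ l' : (FieldPt.liftsTo p).obj V, (FieldPt.liftsTo p).map φ l' = l := by
  obtain ⟨ub, hub⟩ := l
  haveI : IsAlgClosed p.K := hp
  have het : Etale φ.hom.left.left := EtOver.etale_left φ
  obtain ⟨l, hl1, hl2⟩ := Scheme.exists_fac_of_etale_of_isSepClosed (Ω := p.K)
    φ.hom.left.left ub.left v (by
      rw [hv]
      exact congrArg ub.left (Subsingleton.elim (α := ↥(Spec (CommRingCat.of p.K))) _ _))
  let ui : p.pt ⟶ V.obj.left := Over.homMk l (by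
    rw [← Over.w φ.hom.left, ← Category.assoc, hl1]
    exact Over.w ub)
  have hui : ui ≫ φ.hom.left = ub := by
    apply Over.OverMorphism.ext
    exact hl1
  refine ⟨⟨ui, ?_⟩, ?_⟩
  · rw [← EtOver.w φ, ← Category.assoc, ← Functor.map_comp, hui]
    exact hub
  · apply Subtype.ext
    exact hui

/-- A geometric point through a given point of an object of the small etale site. -/
theorem exists_geometric_through {X : Sp S} (U : EtOver X) (u : ↥U.obj.left.left) :
    ∃ (p : FieldPt X) (_ : p.IsGeometric) (l : (FieldPt.liftsTo p).obj U),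
      l.1.left (IsLocalRing.closedPoint p.K) = u ∧ Points.mk p = Points.ofPt U.obj.hom u := by
  let κ := U.obj.left.left.residueField u
  let K := AlgebraicClosure κ
  let c : Spec (CommRingCat.of K) ⟶ U.obj.left.left :=
    Spec.map (CommRingCat.ofHom (algebraMap κ K)) ≫ U.obj.left.left.fromSpecResidueField u
  let str : Spec (CommRingCat.of K) ⟶ S := c ≫ U.obj.left.hom
  let ub : Over.mk str ⟶ U.obj.left := Over.homMk c rfl
  let p : FieldPt X := fpOf K str ((yon S).map ub ≫ U.obj.hom)
  have hp : p.IsGeometric := (inferInstance : IsAlgClosed (AlgebraicClosure κ))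
  have htoHom : p.toHom = (yon S).map ub ≫ U.obj.hom := Equiv.symm_apply_apply _ _
  have hcp : ub.left (IsLocalRing.closedPoint K) = u := by
    change (Spec.map (CommRingCat.ofHom (algebraMap κ K)) ≫
      U.obj.left.left.fromSpecResidueField u) (IsLocalRing.closedPoint K) = u
    rw [Scheme.Hom.comp_apply]
    exact Scheme.fromSpecResidueField_apply _ _
  refine ⟨p, hp, ⟨ub, htoHom.symm⟩, hcp, ?_⟩
  rw [← Points.ofPt_toHom p (IsLocalRing.closedPoint K), htoHom]
  exact (ofPt_map_comp ub U.obj.hom _).trans (congrArg _ hcp)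

end Groth.Agent.H25.AS
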