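import Groth.Agent.H25.StalkEt1
import Mathlib.CategoryTheory.Sites.EpiMono

/-!
# Geometric points lift to members of covering sieves of the small etale site
-/

universe u

open CategoryTheory CategoryTheory.Limits AlgebraicGeometry Opposite AlgSp

namespace Groth.Agent.H25.AS

variable {S : Scheme.{u}}

theorem exists_liftsTo_of_covering {X : Sp S} (p : FieldPt X) (hp : p.IsGeometric)
    {U : EtOver X} (R : Sieve U) (hR : R ∈ etTop X U) (l : (FieldPt.liftsTo p).obj U) :
    ∃ (V : EtOver X) (φ : V ⟶ U) (_ : R φ) (l' : (FieldPt.liftsTo p).obj V),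
      (FieldPt.liftsTo p).map φ l' = l := by
  rw [etTop, Precoverage.mem_toGrothendieck_iff_of_isStableUnderComposition] at hR
  obtain ⟨R₀, hR₀, hle⟩ := hR
  rw [etPre, Precoverage.mem_comap_iff] at hR₀
  have h1 := hR₀.1
  rw [Precoverage.mem_comap_iff] at h1
  obtain ⟨Y, g, hg, hx⟩ := h1 (l.1.left (IsLocalRing.closedPoint p.K))
  obtain ⟨hg'⟩ := hg
  obtain ⟨hφ⟩ := hg'
  rename_i V φ
  obtain ⟨v, hv⟩ := hx
  obtain ⟨l', hl'⟩ := exists_liftsTo_of_mem_range p hp φ l v hv
  exact ⟨V, φ, hle _ _ hφ, l', hl'⟩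

end Groth.Agent.H25.AS
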