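import Groth.Agent.H25.StalkEt2

/-!
# Stalks of sheaves of sets on the small etale site at geometric points
-/

universe u
open CategoryTheory CategoryTheory.Limits AlgebraicGeometry Opposite AlgSp

namespace Groth.Agent.H25.AS
variable {S : Scheme.{u}}

theorem stalkEt_map_ι_apply {X : Sp S} (p : FieldPt X) {F G : EtSh X (Type (u+1))} (a : F ⟶ G)
    (N : EtNbhd p) (x : F.obj.obj (op N.1)) :
    (stalkEtFunctor (Type (u+1)) p).map a (stalkEtι p F N x) =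
      stalkEtι p G N (a.hom.app (op N.1) x) := by
  have h : stalkEtι p F N ≫ (stalkEtFunctor (Type (u+1)) p).map a =
      a.hom.app (op N.1) ≫ stalkEtι p G N := by
    exact ι_colimMap ((EtNbhd.toEtOver p).op.whiskerLeft a.hom) (op N)
  exact ConcreteCategory.congr_hom h x

theorem stalkEtT_exists_rep (X : Space S) (p : FieldPt X.obj) (hp : p.IsGeometric)
    (F : EtSh X.obj (Type (u+1))) (s : stalkEt p F) :
    ∃ (N : EtNbhd p) (σ : F.obj.obj (op N.1)), stalkEtι p F N σ = s := by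
  have := isCofiltered_etNbhd X p hp
  obtain ⟨j, y, hy⟩ := Concrete.colimit_exists_rep (stalkEtDiagram p F) s
  exact ⟨j.unop, y, hy⟩

theorem stalkEtT_eq_iff (X : Space S) (p : FieldPt X.obj) (hp : p.IsGeometric)
    (F : EtSh X.obj (Type (u+1))) (N₁ N₂ : EtNbhd p) (σ₁ : F.obj.obj (op N₁.1))
    (σ₂ : F.obj.obj (op N₂.1)) :
    stalkEtι p F N₁ σ₁ = stalkEtι p F N₂ σ₂ ↔
      ∃ (N' : EtNbhd p) (m₁ : N' ⟶ N₁) (m₂ : N' ⟶ N₂),
        F.obj.map m₁.val.op σ₁ = F.obj.map m₂.val.op σ₂ := by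
  have := isCofiltered_etNbhd X p hp
  have key := Concrete.colimit_rep_eq_iff_exists (F := stalkEtDiagram p F) (i := op N₁)
    (j := op N₂) σ₁ σ₂
  constructor
  · intro h
    obtain ⟨k, f, g, hfg⟩ := key.1 h
    exact ⟨k.unop, f.unop, g.unop, hfg⟩
  · rintro ⟨N', m₁, m₂, h⟩
    exact key.2 ⟨op N', m₁.op, m₂.op, h⟩


theorem stalkEtT_eq_iff' (X : Space S) (p : FieldPt X.obj) (hp : p.IsGeometric)
    (F : EtSh X.obj (Type (u+1))) (N : EtNbhd p) (σ₁ σ₂ : F.obj.obj (op N.1)) :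
    stalkEtι p F N σ₁ = stalkEtι p F N σ₂ ↔
      ∃ (N' : EtNbhd p) (m : N' ⟶ N), F.obj.map m.val.op σ₁ = F.obj.map m.val.op σ₂ := by
  have := isCofiltered_etNbhd X p hp
  constructor
  · intro h
    obtain ⟨N', m₁, m₂, hm⟩ := (stalkEtT_eq_iff X p hp F N N σ₁ σ₂).1 h
    refine ⟨IsCofiltered.eq m₁ m₂, IsCofiltered.eqHom m₁ m₂ ≫ m₁, ?_⟩
    have e : IsCofiltered.eqHom m₁ m₂ ≫ m₁ = IsCofiltered.eqHom m₁ m₂ ≫ m₂ :=
      IsCofiltered.eq_condition m₁ m₂
    have e1 : (IsCofiltered.eqHom m₁ m₂ ≫ m₁).val = (IsCofiltered.eqHom m₁ m₂).val ≫ m₁.val := rfl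
    have e2 : (IsCofiltered.eqHom m₁ m₂ ≫ m₁).val = (IsCofiltered.eqHom m₁ m₂).val ≫ m₂.val := by
      rw [e]
      rfl
    have key : F.obj.map ((IsCofiltered.eqHom m₁ m₂).val ≫ m₁.val).op σ₁ =
        F.obj.map ((IsCofiltered.eqHom m₁ m₂).val ≫ m₂.val).op σ₂ := by
      rw [op_comp, Functor.map_comp_apply, hm, ← Functor.map_comp_apply, ← op_comp]
    have e3 : (IsCofiltered.eqHom m₁ m₂).val ≫ m₂.val =
        (IsCofiltered.eqHom m₁ m₂).val ≫ m₁.val := e2.symm.trans e1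
    rw [e3] at key
    exact key
  · rintro ⟨N', m, hm⟩
    exact (stalkEtT_eq_iff X p hp F N N σ₁ σ₂).2 ⟨N', m, m, hm⟩

/-- the image of the lift under a morphism of neighbourhoods -/
theorem nbhd_hom_pt {X : Sp S} (p : FieldPt X) {N' N : EtNbhd p} (m : N' ⟶ N) :
    m.val.hom.left.left (N'.2.1.left (IsLocalRing.closedPoint p.K)) =
      N.2.1.left (IsLocalRing.closedPoint p.K) :=
  congrArg (fun t => t.1.left (IsLocalRing.closedPoint p.K)) m.property

end Groth.Agent.H25.AS
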