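import Groth.Agent.H25.StalkEt3
import Mathlib.Algebra.Homology.ShortComplex.Exact
import Mathlib.Algebra.Category.Grp.Zero

/-!
# Abelian sheaves on the small etale site: sections of kernels, stalk maps
-/

universe u
open CategoryTheory CategoryTheory.Limits AlgebraicGeometry Opposite AlgSp

namespace Groth.Agent.H25.AS
variable {S : Scheme.{u}}

/-- sections of the cycles sheaf -/
theorem exists_cycles_section {X : Sp S} (C : ShortComplex (AbEt X)) (U : EtOver X)
    (σ : ↥(C.X₂.obj.obj (op U))) (hσ : (C.g.hom.app (op U)).hom σ = 0) :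
    ∃ z : ↥(C.cycles.obj.obj (op U)), (C.iCycles.hom.app (op U)).hom z = σ := by
  let Γ : AbEt X ⥤ AddCommGrpCat.{u+1} :=
    sheafToPresheaf (etTop X) AddCommGrpCat.{u+1} ⋙ (evaluation _ _).obj (op U)
  have hlim := KernelFork.mapIsLimit _ C.cyclesIsKernel Γ
  let h : AddCommGrpCat.of (ULift.{u+1} ℤ) ⟶ C.X₂.obj.obj (op U) :=
    AddCommGrpCat.ofHom ((zmultiplesHom _ σ).comp AddEquiv.ulift.toAddMonoidHom)
  have hh : h ≫ Γ.map C.g = 0 := by
    ext n
    obtain ⟨n⟩ := n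
    change (C.g.hom.app (op U)).hom (n • σ) = 0
    rw [map_zsmul, hσ, smul_zero]
  let h' := KernelFork.IsLimit.lift' hlim h hh
  refine ⟨h'.1.hom ⟨1⟩, ?_⟩
  have e := ConcreteCategory.congr_hom h'.2 (⟨1⟩ : ULift.{u+1} ℤ)
  change (C.iCycles.hom.app (op U)).hom (h'.1.hom ⟨1⟩) = (1 : ℤ) • σ at e
  rw [e, one_smul]


theorem natAb {X : Sp S} {F G : AbEt X} (a : F ⟶ G) {A B : EtOver X} (ψ : A ⟶ B)
    (t : ↥(F.obj.obj (op B))) :
    (a.hom.app (op A)).hom ((F.obj.map ψ.op).hom t) =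
      (G.obj.map ψ.op).hom ((a.hom.app (op B)).hom t) :=
  ConcreteCategory.congr_hom (a.hom.naturality ψ.op) t

theorem mapcAb {X : Sp S} (G : AbEt X) {A B C : EtOver X} (f : A ⟶ B) (g : B ⟶ C)
    (x : ↥(G.obj.obj (op C))) :
    (G.obj.map (f ≫ g).op).hom x = (G.obj.map f.op).hom ((G.obj.map g.op).hom x) := by
  rw [op_comp, Functor.map_comp]
  rfl

theorem injective_of_mono {X : Sp S} {F G : AbEt X} (a : F ⟶ G) [Mono a] (U : EtOver X) :
    Function.Injective (a.hom.app (op U)).hom := by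
  have h1 : Mono a.hom := inferInstance
  have h2 : Mono (a.hom.app (op U)) := inferInstance
  exact (AddCommGrpCat.mono_iff_injective _).1 h2

theorem stalkEtAb_map_ι_apply {X : Sp S} (p : FieldPt X) {F G : AbEt X} (a : F ⟶ G)
    (N : EtNbhd p) (x : ↥(F.obj.obj (op N.1))) :
    ((stalkEtFunctor AddCommGrpCat.{u+1} p).map a).hom ((stalkEtι p F N).hom x) =
      (stalkEtι p G N).hom ((a.hom.app (op N.1)).hom x) := by
  have h : stalkEtι p F N ≫ (stalkEtFunctor AddCommGrpCat.{u+1} p).map a =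
      a.hom.app (op N.1) ≫ stalkEtι p G N :=
    ι_colimMap ((EtNbhd.toEtOver p).op.whiskerLeft a.hom) (op N)
  exact ConcreteCategory.congr_hom h x

theorem stalkEtAb_eq_iff (X : Space S) (p : FieldPt X.obj) (hp : p.IsGeometric)
    (F : AbEt X.obj) (N₁ N₂ : EtNbhd p) (σ₁ : ↥(F.obj.obj (op N₁.1)))
    (σ₂ : ↥(F.obj.obj (op N₂.1))) :
    (stalkEtι p F N₁).hom σ₁ = (stalkEtι p F N₂).hom σ₂ ↔
      ∃ (N' : EtNbhd p) (m₁ : N' ⟶ N₁) (m₂ : N' ⟶ N₂),
        (F.obj.map m₁.val.op).hom σ₁ = (F.obj.map m₂.val.op).hom σ₂ := by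
  have := isCofiltered_etNbhd X p hp
  have := pfcAb.{u}
  have key := Concrete.colimit_rep_eq_iff_exists (F := stalkEtDiagram p F) (i := op N₁)
    (j := op N₂) σ₁ σ₂
  constructor
  · intro h
    obtain ⟨k, f, g, hfg⟩ := key.1 h
    exact ⟨k.unop, f.unop, g.unop, hfg⟩
  · rintro ⟨N', m₁, m₂, h⟩
    exact key.2 ⟨op N', m₁.op, m₂.op, h⟩

/-- A sieve containing, for every point, a morphism from a neighbourhood of a geometric point
through it, is covering. -/
theorem etTop_mem_of_geometric {X : Sp S} (U : EtOver X) (R : Sieve U)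
    (h : ∀ u : ↥U.obj.left.left, ∃ (p : FieldPt X) (_ : p.IsGeometric)
      (l : (FieldPt.liftsTo p).obj U) (N' : EtNbhd p)
      (m : N' ⟶ (⟨U, l⟩ : (FieldPt.liftsTo p).Elements)),
      l.1.left (IsLocalRing.closedPoint p.K) = u ∧ R m.val) : R ∈ etTop X U := by
  choose p hp l N' m hl hm using h
  refine (etTop X).superset_covering ?_
    (ofArrows_mem_etTop (fun u => (N' u).1) (fun u => (m u).val) fun u => ?_)
  · rw [Sieve.ofArrows, Sieve.generate_le_iff]
    rintro _ _ ⟨u⟩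
    exact hm u
  · exact ⟨u, (N' u).2.1.left (IsLocalRing.closedPoint (p u).K),
      (nbhd_hom_pt (p u) (m u)).trans (hl u)⟩

end Groth.Agent.H25.AS
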