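import Groth.Agent.H25.StalkEt4
import Mathlib.CategoryTheory.Abelian.GrothendieckAxioms.Types
import Mathlib.CategoryTheory.Abelian.GrothendieckAxioms.Basic
import Mathlib.Algebra.Category.Grp.AB

/-!
# Exactness of the presheaf stalk functor at a geometric point; stalks and sheafification
-/

universe u
open CategoryTheory CategoryTheory.Limits AlgebraicGeometry Opposite AlgSp

namespace Groth.Agent.H25.AS
variable {S : Scheme.{u}}

theorem hasExact_etNbhd (X : Space S) (p : FieldPt X.obj) (hp : p.IsGeometric)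
    (A : Type (u+2)) [Category.{u+1} A] [HasFilteredColimits A] [HasFiniteLimits A] [AB5 A]
    [HasColimitsOfShape (EtNbhd p)ᵒᵖ A] :
    HasExactColimitsOfShape (EtNbhd p)ᵒᵖ A := by
  have := isCofiltered_etNbhd X p hp
  let e : (EtNbhd p)ᵒᵖ ≌ ULiftHom.{u+1} (EtNbhd p)ᵒᵖ := ULiftHom.equiv
  have : IsFiltered (ULiftHom.{u+1} (EtNbhd p)ᵒᵖ) := IsFiltered.of_equivalence e
  exact HasExactColimitsOfShape.of_domain_equivalence _ e.symm

theorem stalkPsh_preservesFiniteLimits (X : Space S) (p : FieldPt X.obj) (hp : p.IsGeometric)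
    (A : Type (u+2)) [Category.{u+1} A] [HasFilteredColimits A] [HasFiniteLimits A] [AB5 A]
    [HasColimitsOfShape (EtNbhd p)ᵒᵖ A] :
    PreservesFiniteLimits (stalkEtPshFunctor A p) := by
  have := hasExact_etNbhd X p hp A
  dsimp only [stalkEtPshFunctor]
  infer_instance

theorem stalkPsh_preservesColimits {X : Sp S} (p : FieldPt X)
    (A : Type (u+2)) [Category.{u+1} A] [HasColimitsOfShape (EtNbhd p)ᵒᵖ A]
    [HasColimitsOfSize.{u+1, u+1} A] :
    PreservesColimitsOfSize.{u+1, u+1} (stalkEtPshFunctor A p) := by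
  dsimp only [stalkEtPshFunctor]
  infer_instance


section PshType

variable (X : Space S) (p : FieldPt X.obj) (hp : p.IsGeometric)
  (P : (EtOver X.obj)ᵒᵖ ⥤ Type (u+1))

/-- canonical map to the presheaf stalk -/
noncomputable abbrev pshι (N : EtNbhd p) : P.obj (op N.1) ⟶ stalkEtPsh p P :=
  colimit.ι ((EtNbhd.toEtOver p).op ⋙ P) (op N)

include hp in
theorem pshT_exists_rep (s : stalkEtPsh p P) :
    ∃ (N : EtNbhd p) (σ : P.obj (op N.1)), pshι X p P N σ = s := by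
  have := isCofiltered_etNbhd X p hp
  obtain ⟨j, y, hy⟩ := Concrete.colimit_exists_rep ((EtNbhd.toEtOver p).op ⋙ P) s
  exact ⟨j.unop, y, hy⟩

include hp in
theorem pshT_eq_iff (N₁ N₂ : EtNbhd p) (σ₁ : P.obj (op N₁.1)) (σ₂ : P.obj (op N₂.1)) :
    pshι X p P N₁ σ₁ = pshι X p P N₂ σ₂ ↔
      ∃ (N' : EtNbhd p) (m₁ : N' ⟶ N₁) (m₂ : N' ⟶ N₂),
        P.map m₁.val.op σ₁ = P.map m₂.val.op σ₂ := by
  have := isCofiltered_etNbhd X p hp
  have key := Concrete.colimit_rep_eq_iff_exists (F := (EtNbhd.toEtOver p).op ⋙ P) (i := op N₁)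
    (j := op N₂) σ₁ σ₂
  constructor
  · intro h
    obtain ⟨k, f, g, hfg⟩ := key.1 h
    exact ⟨k.unop, f.unop, g.unop, hfg⟩
  · rintro ⟨N', m₁, m₂, h⟩
    exact key.2 ⟨op N', m₁.op, m₂.op, h⟩

theorem pshT_map_ι_apply {P Q : (EtOver X.obj)ᵒᵖ ⥤ Type (u+1)} (f : P ⟶ Q)
    (N : EtNbhd p) (x : P.obj (op N.1)) :
    (stalkEtPshFunctor (Type (u+1)) p).map f (pshι X p P N x) =
      pshι X p Q N (f.app (op N.1) x) := by
  have h : pshι X p P N ≫ (stalkEtPshFunctor (Type (u+1)) p).map f =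
      f.app (op N.1) ≫ pshι X p Q N :=
    ι_colimMap ((EtNbhd.toEtOver p).op.whiskerLeft f) (op N)
  exact ConcreteCategory.congr_hom h x

include hp in
theorem pshT_bijective_of_locallyBijective {P Q : (EtOver X.obj)ᵒᵖ ⥤ Type (u+1)} (f : P ⟶ Q)
    [Presheaf.IsLocallyInjective (etTop X.obj) f] [Presheaf.IsLocallySurjective (etTop X.obj) f] :
    Function.Bijective ((stalkEtPshFunctor (Type (u+1)) p).map f) := by
  have natT : ∀ {A B : EtOver X.obj} (ψ : A ⟶ B) (t : P.obj (op B)),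
      f.app (op A) (P.map ψ.op t) = Q.map ψ.op (f.app (op B) t) :=
    fun ψ t => NatTrans.naturality_apply f ψ.op t
  constructor
  · intro s₁ s₂ h
    obtain ⟨N₁, σ₁, rfl⟩ := pshT_exists_rep X p hp P s₁
    obtain ⟨N₂, σ₂, rfl⟩ := pshT_exists_rep X p hp P s₂
    rw [pshT_map_ι_apply, pshT_map_ι_apply] at h
    obtain ⟨N', m₁, m₂, hm⟩ := (pshT_eq_iff X p hp Q N₁ N₂ _ _).1 h
    rw [← natT, ← natT] at hm
    have hcov := Presheaf.equalizerSieve_mem (etTop X.obj) f _ _ hm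
    obtain ⟨V, φ, hφ, l', hl'⟩ := exists_liftsTo_of_covering p hp _ hcov N'.2
    let NV : EtNbhd p := ⟨V, l'⟩
    let mV : NV ⟶ N' := ⟨φ, hl'⟩
    refine (pshT_eq_iff X p hp P N₁ N₂ σ₁ σ₂).2 ⟨NV, mV ≫ m₁, mV ≫ m₂, ?_⟩
    have e1 : (mV ≫ m₁).val = φ ≫ m₁.val := rfl
    have e2 : (mV ≫ m₂).val = φ ≫ m₂.val := rfl
    rw [e1, e2, op_comp, op_comp, Functor.map_comp_apply, Functor.map_comp_apply]
    exact hφ
  · intro s
    obtain ⟨N, τ, rfl⟩ := pshT_exists_rep X p hp Q s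
    have hcov := Presheaf.imageSieve_mem (etTop X.obj) f τ
    obtain ⟨V, φ, hφ, l', hl'⟩ := exists_liftsTo_of_covering p hp _ hcov N.2
    obtain ⟨t, ht⟩ := hφ
    let NV : EtNbhd p := ⟨V, l'⟩
    let mV : NV ⟶ N := ⟨φ, hl'⟩
    refine ⟨pshι X p P NV t, ?_⟩
    rw [pshT_map_ι_apply]
    refine (pshT_eq_iff X p hp Q NV N _ τ).2 ⟨NV, 𝟙 _, mV, ?_⟩
    have e1 : (𝟙 NV : NV ⟶ NV).val = 𝟙 V := rfl
    rw [e1, op_id, Functor.map_id_apply]
    exact ht

end PshType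

end Groth.Agent.H25.AS
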