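import Groth.Agent.H25.StalkEt5
import Mathlib.CategoryTheory.Sites.PreservesSheafification

/-!
# The stalk functor on sheaves at a geometric point is exact
-/

universe u

open CategoryTheory CategoryTheory.Limits AlgebraicGeometry Opposite AlgSp

namespace Groth.Agent.H25.AS

variable {S : Scheme.{u}}

section Generic

variable (X : Space S) (p : FieldPt X.obj) (hp : p.IsGeometric)
  {A : Type (u+2)} [Category.{u+1} A] {FA : A → A → Type (u+1)} {CA : A → Type (u+1)}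
  [∀ X Y, FunLike (FA X Y) (CA X) (CA Y)] [ConcreteCategory A FA]
  [HasColimitsOfShape (EtNbhd p)ᵒᵖ A]
  [PreservesColimitsOfShape (EtNbhd p)ᵒᵖ (forget A)]

/-- canonical map to the presheaf stalk -/
noncomputable abbrev pshιA (P : (EtOver X.obj)ᵒᵖ ⥤ A) (N : EtNbhd p) :
    P.obj (op N.1) ⟶ stalkEtPsh p P :=
  colimit.ι ((EtNbhd.toEtOver p).op ⋙ P) (op N)

include hp in
theorem pshA_exists_rep (P : (EtOver X.obj)ᵒᵖ ⥤ A) (s : ToType (stalkEtPsh p P)) :
    ∃ (N : EtNbhd p) (σ : ToType (P.obj (op N.1))), pshιA X p P N σ = s := by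
  have := isCofiltered_etNbhd X p hp
  obtain ⟨j, y, hy⟩ := Concrete.colimit_exists_rep ((EtNbhd.toEtOver p).op ⋙ P) s
  exact ⟨j.unop, y, hy⟩

include hp in
theorem pshA_eq_iff (P : (EtOver X.obj)ᵒᵖ ⥤ A) (N₁ N₂ : EtNbhd p)
    (σ₁ : ToType (P.obj (op N₁.1))) (σ₂ : ToType (P.obj (op N₂.1))) :
    pshιA X p P N₁ σ₁ = pshιA X p P N₂ σ₂ ↔
      ∃ (N' : EtNbhd p) (m₁ : N' ⟶ N₁) (m₂ : N' ⟶ N₂),
        P.map m₁.val.op σ₁ = P.map m₂.val.op σ₂ := by
  have := isCofiltered_etNbhd X p hp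
  have key := Concrete.colimit_rep_eq_iff_exists (F := (EtNbhd.toEtOver p).op ⋙ P) (i := op N₁)
    (j := op N₂) σ₁ σ₂
  constructor
  · intro h
    obtain ⟨k, f, g, hfg⟩ := key.1 h
    exact ⟨k.unop, f.unop, g.unop, hfg⟩
  · rintro ⟨N', m₁, m₂, h⟩
    exact key.2 ⟨op N', m₁.op, m₂.op, h⟩

theorem pshA_map_ι_apply {P Q : (EtOver X.obj)ᵒᵖ ⥤ A} (f : P ⟶ Q)
    (N : EtNbhd p) (x : ToType (P.obj (op N.1))) :
    (stalkEtPshFunctor A p).map f (pshιA X p P N x) =
      pshιA X p Q N (f.app (op N.1) x) := by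
  have h : pshιA X p P N ≫ (stalkEtPshFunctor A p).map f =
      f.app (op N.1) ≫ pshιA X p Q N :=
    ι_colimMap ((EtNbhd.toEtOver p).op.whiskerLeft f) (op N)
  have h' := ConcreteCategory.congr_hom h x
  exact ((ConcreteCategory.comp_apply _ _ _).symm.trans h').trans
    (ConcreteCategory.comp_apply _ _ _)

include hp in
theorem pshA_bijective_of_locallyBijective {P Q : (EtOver X.obj)ᵒᵖ ⥤ A} (f : P ⟶ Q)
    [Presheaf.IsLocallyInjective (etTop X.obj) f] [Presheaf.IsLocallySurjective (etTop X.obj) f] :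
    Function.Bijective ((stalkEtPshFunctor A p).map f) := by
  have natT : ∀ {B C : EtOver X.obj} (ψ : B ⟶ C) (t : ToType (P.obj (op C))),
      f.app (op B) (P.map ψ.op t) = Q.map ψ.op (f.app (op C) t) :=
    fun ψ t => NatTrans.naturality_apply f ψ.op t
  constructor
  · intro s₁ s₂ h
    obtain ⟨N₁, σ₁, rfl⟩ := pshA_exists_rep X p hp P s₁
    obtain ⟨N₂, σ₂, rfl⟩ := pshA_exists_rep X p hp P s₂
    rw [pshA_map_ι_apply, pshA_map_ι_apply] at h
    obtain ⟨N', m₁, m₂, hm⟩ := (pshA_eq_iff X p hp Q N₁ N₂ _ _).1 h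
    rw [← natT, ← natT] at hm
    have hcov := Presheaf.equalizerSieve_mem (etTop X.obj) f _ _ hm
    obtain ⟨V, φ, hφ, l', hl'⟩ := exists_liftsTo_of_covering p hp _ hcov N'.2
    let NV : EtNbhd p := ⟨V, l'⟩
    let mV : NV ⟶ N' := ⟨φ, hl'⟩
    refine (pshA_eq_iff X p hp P N₁ N₂ σ₁ σ₂).2 ⟨NV, mV ≫ m₁, mV ≫ m₂, ?_⟩
    have e1 : (mV ≫ m₁).val = φ ≫ m₁.val := rfl
    have e2 : (mV ≫ m₂).val = φ ≫ m₂.val := rfl
    rw [e1, e2, op_comp, op_comp, Functor.map_comp_apply, Functor.map_comp_apply]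
    exact hφ
  · intro s
    obtain ⟨N, τ, rfl⟩ := pshA_exists_rep X p hp Q s
    have hcov := Presheaf.imageSieve_mem (etTop X.obj) f τ
    obtain ⟨V, φ, hφ, l', hl'⟩ := exists_liftsTo_of_covering p hp _ hcov N.2
    obtain ⟨t, ht⟩ := hφ
    let NV : EtNbhd p := ⟨V, l'⟩
    let mV : NV ⟶ N := ⟨φ, hl'⟩
    refine ⟨pshιA X p P NV t, ?_⟩
    rw [pshA_map_ι_apply]
    refine (pshA_eq_iff X p hp Q NV N _ τ).2 ⟨NV, 𝟙 _, mV, ?_⟩
    have e1 : (𝟙 NV : NV ⟶ NV).val = 𝟙 V := rfl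
    rw [e1, op_id, Functor.map_id_apply]
    exact ht

end Generic

section Colim

variable {X : Sp S} (p : FieldPt X)
  {A : Type (u+2)} [Category.{u+1} A] [HasColimitsOfShape (EtNbhd p)ᵒᵖ A]
  [HasSheafify (etTop X) A] [HasFiniteColimits A]
  [PreservesFiniteColimits (stalkEtPshFunctor A p)]

theorem stalk_preservesFiniteColimits
    (hiso : ∀ P : (EtOver X)ᵒᵖ ⥤ A, IsIso ((stalkEtPshFunctor A p).map (toSheafify (etTop X) P))) :
    PreservesFiniteColimits (stalkEtFunctor A p) := by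
  let θ : stalkEtPshFunctor A p ≅ presheafToSheaf (etTop X) A ⋙ stalkEtFunctor A p :=
    NatIso.ofComponents
      (fun P => @asIso _ _ _ _ ((stalkEtPshFunctor A p).map (toSheafify (etTop X) P)) (hiso P))
      (by
        intro P Q f
        dsimp only [asIso_hom, stalkEtFunctor, Functor.comp_map]
        rw [← Functor.map_comp, ← Functor.map_comp]
        congr 1
        exact (toSheafify_naturality (etTop X) f))
  refine ⟨fun K _ _ => ⟨fun {D} => ?_⟩⟩
  have hc' := colimit.isColimit (D ⋙ sheafToPresheaf (etTop X) A)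
  have h1 := isColimitOfPreserves (presheafToSheaf (etTop X) A) hc'
  have h2 := isColimitOfPreserves (stalkEtPshFunctor A p) hc'
  have h3 := IsColimit.mapCoconeEquiv θ h2
  have h4 : PreservesColimit ((D ⋙ sheafToPresheaf (etTop X) A) ⋙ presheafToSheaf (etTop X) A)
      (stalkEtFunctor A p) :=
    preservesColimit_of_preserves_colimit_cocone h1 h3
  have e : (D ⋙ sheafToPresheaf (etTop X) A) ⋙ presheafToSheaf (etTop X) A ≅ D :=
    Functor.associator _ _ _ ≪≫
      Functor.isoWhiskerLeft D (asIso (sheafificationAdjunction (etTop X) A).counit) ≪≫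
      D.rightUnitor
  exact preservesColimit_of_iso_diagram (stalkEtFunctor A p) e

end Colim

end Groth.Agent.H25.AS
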