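import Mathlib

/-!
# Sections of integral algebras over a field with connected spectrum
-/

namespace Groth.Agent.H25.Stein

universe u

/-- If `B` is an integral algebra over a field `K` whose spectrum is preconnected, any two
`K`-algebra maps `B → K` agree. -/
theorem algHom_eq_of_preconnected {K B : Type*} [Field K] [CommRing B] [Algebra K B]
    [Algebra.IsIntegral K B] (hB : PreconnectedSpace (PrimeSpectrum B)) (φ₁ φ₂ : B →ₐ[K] K) :
    φ₁ = φ₂ := by
  have hker : ∀ b : B, φ₁ b = 0 → φ₂ b = 0 := by
    intro b hb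
    by_contra hb2
    let B₀ := Algebra.adjoin K {b}
    haveI : Module.Finite K B₀ := by
      have := (Algebra.IsIntegral.isIntegral (R := K) b).fg_adjoin_singleton
      exact Module.Finite.iff_fg.mpr this
    haveI : IsArtinianRing B₀ := IsArtinianRing.of_finite K B₀
    let c : PrimeSpectrum B → PrimeSpectrum B₀ := PrimeSpectrum.comap (algebraMap B₀ B)
    have hc : Continuous c := PrimeSpectrum.continuous_comap _
    have himg : (Set.range c).Subsingleton :=
      (isPreconnected_range hc).subsingleton
    let p₁ : PrimeSpectrum B := ⟨RingHom.ker φ₁.toRingHom, RingHom.ker_isPrime _⟩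
    let p₂ : PrimeSpectrum B := ⟨RingHom.ker φ₂.toRingHom, RingHom.ker_isPrime _⟩
    have h12 : c p₁ = c p₂ := himg ⟨p₁, rfl⟩ ⟨p₂, rfl⟩
    have hb0 : (⟨b, Algebra.subset_adjoin (Set.mem_singleton b)⟩ : B₀) ∈ (c p₁).asIdeal := by
      change φ₁ b = 0
      exact hb
    rw [h12] at hb0
    exact hb2 hb0
  ext b
  have h1 : φ₁ (b - algebraMap K B (φ₁ b)) = 0 := by simp
  have h2 := hker _ h1
  rw [map_sub, AlgHom.commutes, sub_eq_zero] at h2
  simpa using h2.symm

end Groth.Agent.H25.Stein
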