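import Mathlib
import Groth.Agent.H25.Stein1

/-!
# Sections of an integral morphism to the spectrum of a field with connected source
-/

open CategoryTheory CategoryTheory.Limits AlgebraicGeometry

namespace Groth.Agent.H25.Stein

universe u

theorem section_unique {K : Type u} [Field K] {P : Scheme.{u}} (π : P ⟶ Spec (.of K))
    [IsIntegralHom π] [PreconnectedSpace P] (σ₁ σ₂ : Spec (.of K) ⟶ P)
    (h₁ : σ₁ ≫ π = 𝟙 _) (h₂ : σ₂ ≫ π = 𝟙 _) : σ₁ = σ₂ := by
  haveI : IsAffine P := isAffine_of_isAffineHom π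
  let B : CommRingCat.{u} := Γ(P, ⊤)
  let e : P ≅ Spec B := P.isoSpec
  let ρ : CommRingCat.of K ⟶ B := Spec.preimage (e.inv ≫ π)
  have hρ : Spec.map ρ = e.inv ≫ π := Spec.map_preimage _
  let ψ₁ : B ⟶ CommRingCat.of K := Spec.preimage (σ₁ ≫ e.hom)
  let ψ₂ : B ⟶ CommRingCat.of K := Spec.preimage (σ₂ ≫ e.hom)
  have hψ₁ : Spec.map ψ₁ = σ₁ ≫ e.hom := Spec.map_preimage _
  have hψ₂ : Spec.map ψ₂ = σ₂ ≫ e.hom := Spec.map_preimage _
  have c₁ : ρ ≫ ψ₁ = 𝟙 _ := Spec.map_injective (by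
    rw [Spec.map_comp, hψ₁, hρ, Category.assoc, e.hom_inv_id_assoc, h₁, Spec.map_id])
  have c₂ : ρ ≫ ψ₂ = 𝟙 _ := Spec.map_injective (by
    rw [Spec.map_comp, hψ₂, hρ, Category.assoc, e.hom_inv_id_assoc, h₂, Spec.map_id])
  letI : Algebra K B := ρ.hom.toAlgebra
  haveI : Algebra.IsIntegral K B := by
    have : IsIntegralHom (Spec.map ρ) := by rw [hρ]; infer_instance
    rw [IsIntegralHom.SpecMap_iff] at this
    exact ⟨this⟩
  haveI : PreconnectedSpace (PrimeSpectrum B) :=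
    (e.hom.homeomorph).surjective.denseRange.preconnectedSpace e.hom.continuous
  let φ₁ : B →ₐ[K] K := { ψ₁.hom with commutes' := fun k => congrArg (fun t => t.hom k) c₁ }
  let φ₂ : B →ₐ[K] K := { ψ₂.hom with commutes' := fun k => congrArg (fun t => t.hom k) c₂ }
  have hφ := algHom_eq_of_preconnected inferInstance φ₁ φ₂
  have hψ : ψ₁ = ψ₂ := by
    ext b
    exact congrArg (fun t => t b) hφ
  have : σ₁ ≫ e.hom = σ₂ ≫ e.hom := by rw [← hψ₁, ← hψ₂, hψ]
  exact (cancel_mono e.hom).1 this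

end Groth.Agent.H25.Stein
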