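import Groth.Prelude.Def_ToposFin2
import Mathlib.CategoryTheory.Sites.LocallySurjective
import Mathlib.CategoryTheory.Sites.Subsheaf
import Mathlib.CategoryTheory.Sites.LeftExact
import Mathlib.CategoryTheory.Limits.Types.Pullbacks
import Mathlib.CategoryTheory.MorphismProperty.Limits
import Mathlib.CategoryTheory.Extensive
import Mathlib.CategoryTheory.Limits.MonoCoprod

/-!
# Toolkit for finiteness conditions in a sheaf topos (SGA 4 VI §1)

Everything is for `Sh J = Sheaf J (Type u)` on a small site.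

* `Cov π` : the family `π i : F i ⟶ X` is jointly epimorphic (any index universe).
* `epi_sigma_iff` : `Epi (Sigma.desc π) ↔ Cov π`.
* `LSurj π`, `cov_of_lsurj`, `lsurj_of_cov` : jointly epimorphic = locally jointly surjective on sections.
* `exists_of_isPullback` : sections of a fibre product.
* `cov_of_isPullback`, `cov_pullback_snd` : covers are stable under base change.
* `cov_comp`, `cov_of_factor` : transitivity and refinement.
* `isQC_iff`, `isQC_of_finite_cov`, `isQC_of_epi`, `isQC_of_iso`, `isQC_of_isInitial`.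
* `qc0`, `qcHom = qc0.universally`, `isQCHom_iff`, `isQSHom_iff` and the `MorphismProperty` instances.
-/

set_option autoImplicit false
open CategoryTheory CategoryTheory.Limits Opposite
universe w w' u
open ToposFin

namespace Groth.Agent.H25.TF

variable {C : Type u} [SmallCategory C] {J : GrothendieckTopology C}

/-- The family `π` is jointly epimorphic. -/
def Cov {X : Sh J} {ι : Type w} {F : ι → Sh J} (π : ∀ i, F i ⟶ X) : Prop :=
  ∀ ⦃Z : Sh J⦄ (a b : X ⟶ Z), (∀ i, π i ≫ a = π i ≫ b) → a = b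

theorem epi_sigma_iff {X : Sh J} {ι : Type w} {F : ι → Sh J} [HasCoproduct F] (π : ∀ i, F i ⟶ X) :
    Epi (Sigma.desc π) ↔ Cov π := by
  constructor
  · intro h Z a b hab
    rw [← cancel_epi (Sigma.desc π)]
    apply Sigma.hom_ext
    intro i
    rw [Sigma.ι_desc_assoc, Sigma.ι_desc_assoc]
    exact hab i
  · intro h
    constructor
    intro Z a b hab
    apply h
    intro i
    have := congrArg (fun t => Sigma.ι F i ≫ t) hab
    simpa using this

/-- The family `π` is locally jointly surjective on sections. -/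
def LSurj {X : Sh J} {ι : Type w} {F : ι → Sh J} (π : ∀ i, F i ⟶ X) : Prop :=
  ∀ (U : C) (x : X.obj.obj (op U)), ∃ S : Sieve U, S ∈ J U ∧ ∀ ⦃V : C⦄ (f : V ⟶ U), S f →
    ∃ (i : ι) (y : (F i).obj.obj (op V)), (π i).hom.app (op V) y = X.obj.map f.op x

theorem cov_of_lsurj {X : Sh J} {ι : Type w} {F : ι → Sh J} (π : ∀ i, F i ⟶ X) (h : LSurj π) :
    Cov π := by
  intro Z a b hab
  ext U x
  obtain ⟨S, hS, hSf⟩ := h U.unop x
  apply (((isSheaf_iff_isSheaf_of_type _ _).1 Z.2).isSeparated _ hS).ext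
  intro V f hf
  obtain ⟨i, y, hy⟩ := hSf f hf
  have h₁ := ConcreteCategory.congr_hom (a.hom.naturality f.op) x
  have h₂ := ConcreteCategory.congr_hom (b.hom.naturality f.op) x
  dsimp at h₁ h₂ ⊢
  rw [← h₁, ← h₂, ← hy]
  exact ConcreteCategory.congr_hom (congr_app ((sheafToPresheaf J _).congr_map (hab i)) (op V)) y

theorem lsurj_of_cov {X : Sh J} {ι : Type w} {F : ι → Sh J} (π : ∀ i, F i ⟶ X) (h : Cov π) :
    LSurj π := by
  let G₀ : Subfunctor X.obj := ⨆ i, Subfunctor.range (π i).hom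
  have hX : Presieve.IsSheaf J X.obj := (isSheaf_iff_isSheaf_of_type _ _).1 X.2
  let I : Sh J := ⟨(G₀.sheafify J).toFunctor,
    (isSheaf_iff_isSheaf_of_type _ _).2 (G₀.sheafify_isSheaf hX)⟩
  let m : I ⟶ X := ⟨(G₀.sheafify J).ι⟩
  have hle : ∀ i, Subfunctor.range (π i).hom ≤ G₀.sheafify J :=
    fun i => (le_iSup (fun i => Subfunctor.range (π i).hom) i).trans (G₀.le_sheafify J)
  let l : ∀ i, F i ⟶ I := fun i => ⟨Subfunctor.lift (π i).hom (hle i)⟩
  have hl : ∀ i, l i ≫ m = π i := fun i => by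
    ext1
    rfl
  have hm : Mono m := (sheafToPresheaf J _).mono_of_mono_map (by
    dsimp [m]
    infer_instance)
  have he : Epi m := ⟨fun a b hab => h a b (fun i => by
    rw [← hl i, Category.assoc, hab, Category.assoc])⟩
  have hiso : IsIso m := isIso_of_mono_of_epi m
  have hiso' : IsIso (G₀.sheafify J).ι := (inferInstance : IsIso ((sheafToPresheaf J _).map m))
  have htop : G₀.sheafify J = ⊤ := (Subfunctor.eq_top_iff_isIso _).2 hiso'
  intro U x
  have hx : x ∈ (G₀.sheafify J).obj (op U) := by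
    rw [htop]
    trivial
  refine ⟨G₀.sieveOfSection x, hx, ?_⟩
  intro V f hf
  have hf' : X.obj.map f.op x ∈ ⋃ i, (Subfunctor.range (π i).hom).obj (op V) := by
    rw [← Subfunctor.iSup_obj]
    exact hf
  obtain ⟨i, y, hy⟩ := Set.mem_iUnion.1 hf'
  exact ⟨i, y, hy⟩

theorem cov_iff_lsurj {X : Sh J} {ι : Type w} {F : ι → Sh J} (π : ∀ i, F i ⟶ X) :
    Cov π ↔ LSurj π := ⟨lsurj_of_cov π, cov_of_lsurj π⟩

/-- Sections of a fibre product of sheaves. -/
theorem exists_of_isPullback {P A B X : Sh J} {p : P ⟶ A} {q : P ⟶ B} {f : A ⟶ X} {g : B ⟶ X}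
    (h : IsPullback p q f g) (V : Cᵒᵖ) (a : A.obj.obj V) (b : B.obj.obj V)
    (hab : f.hom.app V a = g.hom.app V b) :
    ∃ t : P.obj.obj V, p.hom.app V t = a ∧ q.hom.app V t = b := by
  have h' := h.map (sheafToPresheaf J (Type u) ⋙ (evaluation Cᵒᵖ (Type u)).obj V)
  exact Types.exists_of_isPullback h' a b hab

theorem ext_of_isPullback {P A B X : Sh J} {p : P ⟶ A} {q : P ⟶ B} {f : A ⟶ X} {g : B ⟶ X}
    (h : IsPullback p q f g) (V : Cᵒᵖ) (t t' : P.obj.obj V)
    (h₁ : p.hom.app V t = p.hom.app V t') (h₂ : q.hom.app V t = q.hom.app V t') : t = t' := by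
  have h' := h.map (sheafToPresheaf J (Type u) ⋙ (evaluation Cᵒᵖ (Type u)).obj V)
  exact Types.ext_of_isPullback h' h₁ h₂

/-- Covers are stable under base change. -/
theorem cov_of_isPullback {X Y : Sh J} {ι : Type w} {F : ι → Sh J} {π : ∀ i, F i ⟶ X}
    (h : Cov π) (g : Y ⟶ X) {P : ι → Sh J} (p : ∀ i, P i ⟶ F i) (q : ∀ i, P i ⟶ Y)
    (hpb : ∀ i, IsPullback (p i) (q i) (π i) g) : Cov q := by
  apply cov_of_lsurj
  intro U y
  obtain ⟨S, hS, hSf⟩ := lsurj_of_cov π h U (g.hom.app (op U) y)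
  refine ⟨S, hS, fun V f hf => ?_⟩
  obtain ⟨i, z, hz⟩ := hSf f hf
  have hnat := ConcreteCategory.congr_hom (g.hom.naturality f.op) y
  obtain ⟨t, -, ht⟩ := exists_of_isPullback (hpb i) (op V) z (Y.obj.map f.op y) (by
    rw [hz]
    exact hnat.symm)
  exact ⟨i, t, ht⟩

theorem cov_pullback_snd {X Y : Sh J} {ι : Type w} {F : ι → Sh J} {π : ∀ i, F i ⟶ X}
    (h : Cov π) (g : Y ⟶ X) : Cov (fun i => pullback.snd (π i) g) :=
  cov_of_isPullback h g _ _ (fun i => IsPullback.of_hasPullback (π i) g)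

theorem cov_pullback_fst {X Y : Sh J} {ι : Type w} {F : ι → Sh J} {π : ∀ i, F i ⟶ X}
    (h : Cov π) (g : Y ⟶ X) : Cov (fun i => pullback.fst g (π i)) :=
  cov_of_isPullback h g _ _ (fun i => (IsPullback.of_hasPullback g (π i)).flip)

/-- Transitivity of covers. -/
theorem cov_comp {X : Sh J} {ι : Type w} {F : ι → Sh J} {π : ∀ i, F i ⟶ X} (h : Cov π)
    {κ : ι → Type w'} {G : ∀ i, κ i → Sh J} {ρ : ∀ i (k : κ i), G i k ⟶ F i}
    (hρ : ∀ i, Cov (ρ i)) : Cov (fun x : Σ i, κ i => ρ x.1 x.2 ≫ π x.1) := by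
  intro Z a b hab
  apply h
  intro i
  apply hρ i
  intro k
  simpa using hab ⟨i, k⟩

/-- Refinement: a family through which a cover factors is a cover. -/
theorem cov_of_factor {X : Sh J} {ι : Type w} {F : ι → Sh J} {π : ∀ i, F i ⟶ X} (h : Cov π)
    {κ : Type w'} {G : κ → Sh J} (ρ : ∀ k, G k ⟶ X)
    (hfac : ∀ i, ∃ (k : κ) (t : F i ⟶ G k), t ≫ ρ k = π i) : Cov ρ := by
  intro Z a b hab
  apply h
  intro i
  obtain ⟨k, t, ht⟩ := hfac i
  rw [← ht, Category.assoc, Category.assoc, hab k]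

theorem cov_of_epi {X Y : Sh J} (e : X ⟶ Y) [Epi e] : Cov (fun _ : Unit => e) :=
  fun _ _ _ hab => (cancel_epi e).1 (hab ())

theorem cov_inj {ι : Type w} {X : ι → Sh J} (c : Cofan X) (hc : IsColimit c) : Cov c.inj :=
  fun _ _ _ hab => Cofan.IsColimit.hom_ext hc _ _ hab

theorem isQC_iff (X : Sh J) : IsQC X ↔ ∀ (ι : Type u) (F : ι → Sh J) (π : ∀ i, F i ⟶ X), Cov π →
    ∃ s : Finset ι, Cov (fun i : s => π i) := by
  constructor
  · intro h ι F π hπ
    obtain ⟨s, hs⟩ := h ι F π ((epi_sigma_iff π).2 hπ)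
    exact ⟨s, (epi_sigma_iff _).1 hs⟩
  · intro h ι F π hπ
    obtain ⟨s, hs⟩ := h ι F π ((epi_sigma_iff π).1 hπ)
    exact ⟨s, (epi_sigma_iff _).2 hs⟩

/-- An object covered by finitely many quasi-compact objects is quasi-compact. -/
theorem isQC_of_finite_cov {X : Sh J} {κ : Type w} [Finite κ] {G : κ → Sh J} (ρ : ∀ k, G k ⟶ X)
    (hρ : Cov ρ) (hG : ∀ k, IsQC (G k)) : IsQC X := by
  classical
  rw [isQC_iff]
  intro ι F π hπ
  have key : ∀ k, ∃ s : Finset ι, Cov (fun i : s => pullback.snd (π i) (ρ k)) := by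
    intro k
    have hcov : Cov (fun i => pullback.snd (π i) (ρ k)) := cov_pullback_snd hπ (ρ k)
    exact (isQC_iff _).1 (hG k) ι _ _ hcov
  choose s hs using key
  have := Fintype.ofFinite κ
  refine ⟨Finset.univ.biUnion s, ?_⟩
  intro Z a b hab
  apply hρ
  intro k
  apply hs k
  intro i
  have hi : (i : ι) ∈ Finset.univ.biUnion s := Finset.mem_biUnion.2 ⟨k, Finset.mem_univ k, i.2⟩
  have h3 : π i ≫ a = π i ≫ b := hab ⟨i, hi⟩
  change pullback.snd (π i) (ρ k) ≫ ρ k ≫ a = pullback.snd (π i) (ρ k) ≫ ρ k ≫ b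
  rw [← pullback.condition_assoc, ← pullback.condition_assoc, h3]

theorem isQC_of_epi {X Y : Sh J} (e : X ⟶ Y) [Epi e] (hX : IsQC X) : IsQC Y :=
  isQC_of_finite_cov (κ := Unit) (G := fun _ => X) (fun _ => e) (cov_of_epi e) (fun _ => hX)

theorem isQC_of_iso {X Y : Sh J} (e : X ≅ Y) (hX : IsQC X) : IsQC Y :=
  isQC_of_epi e.hom hX

theorem isQC_of_isInitial {X : Sh J} (h : IsInitial X) : IsQC X := by
  rw [isQC_iff]
  intro ι F π _
  exact ⟨∅, fun Z a b _ => h.hom_ext a b⟩

/-! ### Quasi-compact morphisms as a `MorphismProperty` -/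

variable (J) in
/-- `qc0 f`: if the target is quasi-compact then so is the source. -/
def qc0 : MorphismProperty (Sh J) := fun X Y _ => IsQC Y → IsQC X

variable (J) in
/-- Quasi-compact morphisms. -/
def qcHom : MorphismProperty (Sh J) := (qc0 J).universally

variable (J) in
/-- Quasi-separated morphisms. -/
def qsHom : MorphismProperty (Sh J) := (qcHom J).diagonal

theorem isQCHom_iff {X Y : Sh J} (f : X ⟶ Y) : IsQCHom f ↔ qcHom J f := by
  constructor
  · intro h X' Y' i₁ i₂ f' hpb hY'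
    exact isQC_of_iso (hpb.flip.isoPullback).symm (h Y' i₂ hY')
  · intro h Y' g hY'
    exact h (pullback.fst f g) g (pullback.snd f g) (IsPullback.of_hasPullback f g).flip hY'

theorem isQSHom_iff {X Y : Sh J} (f : X ⟶ Y) : IsQSHom f ↔ qsHom J f :=
  isQCHom_iff _

theorem isCohHom_iff {X Y : Sh J} (f : X ⟶ Y) : IsCohHom f ↔ qcHom J f ∧ qsHom J f :=
  and_congr (isQCHom_iff f) (isQSHom_iff f)

/-- Pullback-square form of quasi-compactness of a morphism. -/
theorem qcHom_iff_isPullback {X Y : Sh J} (f : X ⟶ Y) : qcHom J f ↔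
    ∀ ⦃P Y' : Sh J⦄ (p : P ⟶ X) (q : P ⟶ Y') (g : Y' ⟶ Y), IsPullback p q f g → IsQC Y' → IsQC P :=
  ⟨fun h _ _ p q g hpb hY' => h p g q hpb.flip hY',
    fun h _ _ i₁ i₂ f' hpb hY' => h i₁ f' i₂ hpb.flip hY'⟩

instance : (qc0 J).IsStableUnderComposition where
  comp_mem _ _ hf hg := fun hZ => hf (hg hZ)

instance : (qcHom J).RespectsIso := by
  unfold qcHom
  infer_instance

instance : (qcHom J).IsStableUnderBaseChange := by
  unfold qcHom
  infer_instance

instance : (qcHom J).IsStableUnderComposition := by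
  unfold qcHom
  infer_instance

instance : (qcHom J).ContainsIdentities where
  id_mem X := by
    intro X' Y' i₁ i₂ f' hpb hY'
    have : IsIso f' := hpb.isIso_fst_of_isIso
    exact isQC_of_iso (asIso f').symm hY'

instance : (qcHom J).IsMultiplicative where

instance : (qsHom J).RespectsIso := by
  unfold qsHom
  infer_instance

instance : (qsHom J).IsStableUnderBaseChange := by
  unfold qsHom
  infer_instance

instance : (qsHom J).IsStableUnderComposition := by
  unfold qsHom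
  infer_instance

instance : (qsHom J).ContainsIdentities := by
  unfold qsHom
  infer_instance

instance : (qsHom J).IsMultiplicative where

theorem qcHom_of_isIso {X Y : Sh J} (f : X ⟶ Y) [IsIso f] : qcHom J f :=
  (qcHom J).of_isIso f

/-- Monomorphisms are quasi-separated. -/
theorem qsHom_of_mono {X Y : Sh J} (f : X ⟶ Y) [Mono f] : qsHom J f :=
  (qcHom J).of_isIso (pullback.diagonal f)

/-- The source of a quasi-compact morphism with quasi-compact target is quasi-compact. -/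
theorem isQC_of_qcHom {X Y : Sh J} (f : X ⟶ Y) (hf : qcHom J f) (hY : IsQC Y) : IsQC X :=
  (qcHom_iff_isPullback f).1 hf (𝟙 X) f (𝟙 Y) (IsPullback.of_horiz_isIso ⟨by simp⟩) hY

end Groth.Agent.H25.TF
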