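import Groth.Agent.H25.ToposFin
import Mathlib.Logic.Small.Basic
import Mathlib.Data.Finset.Sum
import Mathlib.CategoryTheory.Limits.Shapes.StrictInitial
import Mathlib.CategoryTheory.Limits.Shapes.Diagonal

/-!
# Toolkit for finiteness conditions in a sheaf topos, part 2: coproducts, equalizer form of
quasi-separatedness.
-/

set_option autoImplicit false
open CategoryTheory CategoryTheory.Limits Opposite
universe w w' u
open ToposFin

namespace Groth.Agent.H25.TF

variable {C : Type u} [SmallCategory C] {J : GrothendieckTopology C}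

/-- Finite subcovers for covers indexed by an essentially small type. -/
theorem finite_subcov {X : Sh J} (hX : IsQC X) {ι : Type w} [Small.{u} ι] {F : ι → Sh J}
    (π : ∀ i, F i ⟶ X) (hπ : Cov π) : ∃ s : Finset ι, Cov (fun i : s => π i) := by
  classical
  let e := equivShrink.{u} ι
  have aux : ∀ (i i' : ι), i' = i → ∃ t : F i ⟶ F i', t ≫ π i' = π i := by
    rintro i _ rfl
    exact ⟨𝟙 _, Category.id_comp _⟩
  have h1 : Cov (fun j : Shrink.{u} ι => π (e.symm j)) :=
    cov_of_factor hπ _ (fun i => ⟨e i, aux i _ (e.symm_apply_apply i)⟩)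
  obtain ⟨s', hs'⟩ := (isQC_iff X).1 hX _ _ _ h1
  refine ⟨s'.map e.symm.toEmbedding, ?_⟩
  apply cov_of_factor hs'
  rintro ⟨j, hj⟩
  exact ⟨⟨e.symm j, Finset.mem_map_of_mem _ hj⟩, 𝟙 _, Category.id_comp _⟩

/-- Members with initial source can be dropped from a cover. -/
theorem cov_subtype_of_isInitial {X : Sh J} {ι : Type w} {F : ι → Sh J} {π : ∀ i, F i ⟶ X}
    (h : Cov π) (P : ι → Prop) (hP : ∀ i, ¬ P i → Nonempty (IsInitial (F i))) :
    Cov (fun i : {i // P i} => π i) := by
  classical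
  intro Z a b hab
  apply h
  intro i
  by_cases hi : P i
  · exact hab ⟨i, hi⟩
  · obtain ⟨hI⟩ := hP i hi
    exact hI.hom_ext _ _

/-- A member of a pairwise disjoint cover by subobjects of a quasi-compact object is
quasi-compact. -/
theorem isQC_of_disjoint_cov {Y : Sh J} {ι : Type w} [Small.{u} ι] {A : ι → Sh J}
    (v : ∀ i, A i ⟶ Y) (hv : Cov v) (hmono : ∀ i, Mono (v i))
    (hdisj : ∀ i j, i ≠ j → ∀ ⦃T : Sh J⦄ (a : T ⟶ A i) (b : T ⟶ A j), a ≫ v i = b ≫ v j →
      Nonempty (IsInitial T))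
    (hY : IsQC Y) (i : ι) : IsQC (A i) := by
  classical
  rw [isQC_iff]
  intro K G π hπ
  let F' : K ⊕ {j : ι // j ≠ i} → Sh J := fun m => match m with
    | Sum.inl k => G k
    | Sum.inr j => A j.1
  let φ : ∀ m, F' m ⟶ Y := fun m => match m with
    | Sum.inl k => π k ≫ v i
    | Sum.inr j => v j.1
  have hφ : Cov φ := by
    intro Z a b hab
    apply hv
    intro j
    by_cases hj : j = i
    · subst hj
      apply hπ
      intro k
      have := hab (Sum.inl k)
      simpa [φ] using this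
    · exact hab (Sum.inr ⟨j, hj⟩)
  obtain ⟨s, hs⟩ := finite_subcov hY φ hφ
  refine ⟨s.toLeft, ?_⟩
  intro Z a b hab
  have hcov := cov_pullback_snd hs (v i)
  apply hcov
  rintro ⟨m, hm⟩
  have := hmono i
  rcases m with k | j
  · have hk : k ∈ s.toLeft := Finset.mem_toLeft.2 hm
    have h1 : pullback.fst (φ (Sum.inl k)) (v i) ≫ π k = pullback.snd (φ (Sum.inl k)) (v i) := by
      rw [← cancel_mono (v i), Category.assoc]
      exact pullback.condition
    change pullback.snd (φ (Sum.inl k)) (v i) ≫ a = pullback.snd (φ (Sum.inl k)) (v i) ≫ b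
    rw [← h1, Category.assoc, Category.assoc, hab ⟨k, hk⟩]
  · obtain ⟨hI⟩ := hdisj j.1 i j.2 (pullback.fst (φ (Sum.inr j)) (v i)) (pullback.snd _ _)
      pullback.condition
    exact hI.hom_ext _ _

/-- Coproduct injections are monomorphisms. -/
theorem mono_inj {ι : Type w} {X : ι → Sh J} (c : Cofan X) (hc : IsColimit c) (i : ι) :
    Mono (c.inj i) := by
  classical
  let ρ : c.pt ⟶ X i ⨿ ⊤_ (Sh J) := Cofan.IsColimit.desc hc (fun j =>
    if h : j = i then eqToHom (by rw [h]) ≫ coprod.inl else terminal.from _ ≫ coprod.inr)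
  have hρ : c.inj i ≫ ρ = coprod.inl := by
    rw [Cofan.IsColimit.fac]
    simp
  exact mono_of_mono_fac hρ

/-- Coproducts are disjoint. -/
theorem isInitial_of_inj_eq {ι : Type w} {X : ι → Sh J} (c : Cofan X) (hc : IsColimit c) {i j : ι}
    (hij : i ≠ j) {T : Sh J} (a : T ⟶ X i) (b : T ⟶ X j) (hab : a ≫ c.inj i = b ≫ c.inj j) :
    Nonempty (IsInitial T) := by
  classical
  let ρ : c.pt ⟶ (⊤_ (Sh J)) ⨿ (⊤_ (Sh J)) := Cofan.IsColimit.desc hc (fun k =>
    if k = i then terminal.from _ ≫ coprod.inl else terminal.from _ ≫ coprod.inr)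
  have h1 : c.inj i ≫ ρ = terminal.from _ ≫ coprod.inl := by
    rw [Cofan.IsColimit.fac]
    simp
  have h2 : c.inj j ≫ ρ = terminal.from _ ≫ coprod.inr := by
    rw [Cofan.IsColimit.fac]
    simp [Ne.symm hij]
  have h3 : terminal.from T ≫ (coprod.inl : ⊤_ (Sh J) ⟶ (⊤_ (Sh J)) ⨿ (⊤_ (Sh J))) =
      terminal.from T ≫ coprod.inr := by
    have h4 := congrArg (· ≫ ρ) hab
    simp only [Category.assoc, h1, h2] at h4
    rw [← Category.assoc, ← Category.assoc] at h4
    rwa [Subsingleton.elim (a ≫ terminal.from _) (terminal.from T),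
      Subsingleton.elim (b ≫ terminal.from _) (terminal.from T)] at h4
  have hpb := FinitaryExtensive.isPullback_initial_to_binaryCofan
    (coprodIsCoprod (⊤_ (Sh J)) (⊤_ (Sh J)))
  let t : T ⟶ ⊥_ (Sh J) := hpb.lift (terminal.from T) (terminal.from T) h3
  have : IsIso t := initialIsInitial.isIso_to t
  exact ⟨IsInitial.ofIso initialIsInitial (asIso t).symm⟩

/-- Coproduct injections are quasi-compact morphisms. -/
theorem inj_qcHom {ι : Type w} [Small.{u} ι] {X : ι → Sh J} (c : Cofan X) (hc : IsColimit c)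
    (i : ι) : qcHom J (c.inj i) := by
  rw [← isQCHom_iff]
  intro Y' g hY'
  have hm : ∀ j, Mono (c.inj j) := mono_inj c hc
  refine isQC_of_disjoint_cov (A := fun j => pullback (c.inj j) g)
    (fun j => pullback.snd (c.inj j) g)
    (cov_pullback_snd (cov_inj c hc) g) (fun j => inferInstance) ?_ hY' i
  intro j k hjk T a b hab
  refine isInitial_of_inj_eq c hc hjk (a ≫ pullback.fst _ _) (b ≫ pullback.fst _ _) ?_
  rw [Category.assoc, Category.assoc, pullback.condition, pullback.condition, ← Category.assoc,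
    ← Category.assoc, hab]

/-- Quasi-compactness of a morphism can be tested on a finite cover of the source. -/
theorem qcHom_of_finite_cov_source {Y Z : Sh J} (g : Y ⟶ Z) {κ : Type w} [Finite κ]
    {G : κ → Sh J} (ρ : ∀ k, G k ⟶ Y) (hρ : Cov ρ) (h : ∀ k, qcHom J (ρ k ≫ g)) :
    qcHom J g := by
  rw [qcHom_iff_isPullback]
  intro P Z' p q t hpb hZ'
  refine isQC_of_finite_cov (fun k => pullback.snd (ρ k) p) (cov_pullback_snd hρ p) (fun k => ?_)
  have h1 : IsPullback (pullback.fst (ρ k) p) (pullback.snd (ρ k) p ≫ q) (ρ k ≫ g) t :=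
    (IsPullback.of_hasPullback (ρ k) p).paste_vert hpb
  exact (qcHom_iff_isPullback _).1 (h k) _ _ _ h1 hZ'

/-- The equalizer of two maps over `Y` is the pullback of the diagonal. -/
theorem isPullback_equalizer_diagonal {D : Type*} [Category D] [HasPullbacks D] [HasEqualizers D]
    {X Y Y' : D} (f : X ⟶ Y) (g₁ g₂ : Y' ⟶ X) (h : g₁ ≫ f = g₂ ≫ f) :
    IsPullback (equalizer.ι g₁ g₂ ≫ g₁) (equalizer.ι g₁ g₂) (pullback.diagonal f)
      (pullback.lift g₁ g₂ h) := by
  have w : (equalizer.ι g₁ g₂ ≫ g₁) ≫ pullback.diagonal f =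
      equalizer.ι g₁ g₂ ≫ pullback.lift g₁ g₂ h := by
    apply pullback.hom_ext
    · simp only [Category.assoc, pullback.diagonal_fst, pullback.lift_fst, Category.comp_id]
    · simp only [Category.assoc, pullback.diagonal_snd, pullback.lift_snd, Category.comp_id]
      exact equalizer.condition g₁ g₂
  have key : ∀ s : PullbackCone (pullback.diagonal f) (pullback.lift g₁ g₂ h),
      s.fst = s.snd ≫ g₁ ∧ s.fst = s.snd ≫ g₂ := by
    intro s
    have h1 := congrArg (· ≫ pullback.fst f f) s.condition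
    have h2 := congrArg (· ≫ pullback.snd f f) s.condition
    simp only [Category.assoc, pullback.diagonal_fst, pullback.diagonal_snd, pullback.lift_fst,
      pullback.lift_snd, Category.comp_id] at h1 h2
    exact ⟨h1, h2⟩
  refine ⟨⟨w⟩, ⟨PullbackCone.IsLimit.mk w
    (fun s => equalizer.lift s.snd ((key s).1.symm.trans (key s).2)) ?_ ?_ ?_⟩⟩
  · intro s
    rw [← Category.assoc, equalizer.lift_ι]
    exact (key s).1.symm
  · intro s
    exact equalizer.lift_ι _ _
  · intro s m _ hm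
    apply equalizer.hom_ext
    rw [equalizer.lift_ι]
    exact hm

/-- Equalizer form of quasi-separatedness of a morphism. -/
theorem qsHom_iff_equalizer {X Y : Sh J} (f : X ⟶ Y) : qsHom J f ↔
    ∀ ⦃Y' : Sh J⦄ (g₁ g₂ : Y' ⟶ X), g₁ ≫ f = g₂ ≫ f → IsQC Y' → IsQC (equalizer g₁ g₂) := by
  constructor
  · intro hf Y' g₁ g₂ h hY'
    exact (qcHom_iff_isPullback _).1 hf _ _ _ (isPullback_equalizer_diagonal f g₁ g₂ h) hY'
  · intro H
    change qcHom J (pullback.diagonal f)
    rw [qcHom_iff_isPullback]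
    intro P Y' p q g hpb hY'
    have h : (g ≫ pullback.fst f f) ≫ f = (g ≫ pullback.snd f f) ≫ f := by
      simp [pullback.condition]
    have hg : g = pullback.lift (g ≫ pullback.fst f f) (g ≫ pullback.snd f f) h := by
      apply pullback.hom_ext
      · rw [pullback.lift_fst]
      · rw [pullback.lift_snd]
    have hpb' := isPullback_equalizer_diagonal f _ _ h
    rw [← hg] at hpb'
    exact isQC_of_iso (hpb'.isoIsPullback _ _ hpb) (H _ _ h hY')

/-- Quasi-separatedness of a morphism out of a coproduct can be tested on the summands. -/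
theorem qsHom_of_inj {ι : Type w} [Small.{u} ι] {X : ι → Sh J} (c : Cofan X) (hc : IsColimit c)
    {Y : Sh J} (f : c.pt ⟶ Y) (h : ∀ i, qsHom J (c.inj i ≫ f)) : qsHom J f := by
  rw [qsHom_iff_equalizer]
  intro Y' g₁ g₂ hg hY'
  let e := equalizer.ι g₁ g₂
  let α : ∀ i, pullback (c.inj i) g₁ ⟶ Y' := fun i => pullback.snd _ _
  have hα : Cov α := cov_pullback_snd (cov_inj c hc) g₁
  obtain ⟨s, hs⟩ := finite_subcov hY' α hα
  have hA : ∀ i, IsQC (pullback (c.inj i) g₁) :=
    fun i => (isQCHom_iff _).2 (inj_qcHom c hc i) Y' g₁ hY'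
  have hB : ∀ i, IsQC (pullback (c.inj i) (α i ≫ g₂)) :=
    fun i => (isQCHom_iff _).2 (inj_qcHom c hc i) _ _ (hA i)
  let a : ∀ i, pullback (c.inj i) g₁ ⟶ X i := fun i => pullback.fst _ _
  let β : ∀ i, pullback (c.inj i) (α i ≫ g₂) ⟶ pullback (c.inj i) g₁ := fun i => pullback.snd _ _
  let b : ∀ i, pullback (c.inj i) (α i ≫ g₂) ⟶ X i := fun i => pullback.fst _ _
  have ha : ∀ i, a i ≫ c.inj i = α i ≫ g₁ := fun i => pullback.condition
  have hb : ∀ i, b i ≫ c.inj i = β i ≫ α i ≫ g₂ := fun i => pullback.condition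
  have hbb : ∀ i, (β i ≫ a i) ≫ (c.inj i ≫ f) = b i ≫ (c.inj i ≫ f) := by
    intro i
    rw [Category.assoc, reassoc_of% (ha i), reassoc_of% (hb i), hg]
  have hD : ∀ i, IsQC (equalizer (β i ≫ a i) (b i)) :=
    fun i => (qsHom_iff_equalizer _).1 (h i) _ _ (hbb i) (hB i)
  have hδ : ∀ i, (equalizer.ι (β i ≫ a i) (b i) ≫ β i ≫ α i) ≫ g₁ =
      (equalizer.ι (β i ≫ a i) (b i) ≫ β i ≫ α i) ≫ g₂ := by
    intro i
    have h0 := equalizer.condition (β i ≫ a i) (b i)
    calc (equalizer.ι (β i ≫ a i) (b i) ≫ β i ≫ α i) ≫ g₁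
        = (equalizer.ι (β i ≫ a i) (b i) ≫ (β i ≫ a i)) ≫ c.inj i := by
          simp only [Category.assoc, ha i]
      _ = (equalizer.ι (β i ≫ a i) (b i) ≫ b i) ≫ c.inj i := by rw [h0]
      _ = (equalizer.ι (β i ≫ a i) (b i) ≫ β i ≫ α i) ≫ g₂ := by
          simp only [Category.assoc, hb i]
  let δ : ∀ i, equalizer (β i ≫ a i) (b i) ⟶ equalizer g₁ g₂ :=
    fun i => equalizer.lift _ (hδ i)
  refine isQC_of_finite_cov (fun i : s => δ i) ?_ (fun i => hD i)
  intro Z u v huv
  have hcov := cov_pullback_snd hs e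
  apply hcov
  intro i
  let φ := pullback.fst (α i) e
  let ε := pullback.snd (α i) e
  have hφε : φ ≫ α i = ε ≫ e := pullback.condition
  have hψ : (φ ≫ a i) ≫ c.inj i = φ ≫ α i ≫ g₂ := by
    rw [Category.assoc, ha i, reassoc_of% hφε, reassoc_of% hφε, equalizer.condition]
  let ψ : pullback (α i) e ⟶ pullback (c.inj i) (α i ≫ g₂) := pullback.lift (φ ≫ a i) φ hψ
  have hψ1 : ψ ≫ b i = φ ≫ a i := pullback.lift_fst _ _ _
  have hψ2 : ψ ≫ β i = φ := pullback.lift_snd _ _ _
  have hθ : ψ ≫ (β i ≫ a i) = ψ ≫ b i := by rw [reassoc_of% hψ2, hψ1]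
  let θ : pullback (α i) e ⟶ equalizer (β i ≫ a i) (b i) := equalizer.lift ψ hθ
  have hθδ : θ ≫ δ i = ε := by
    apply equalizer.hom_ext
    rw [Category.assoc, equalizer.lift_ι, ← Category.assoc, equalizer.lift_ι, reassoc_of% hψ2]
    exact hφε
  change ε ≫ u = ε ≫ v
  rw [← hθδ, Category.assoc, Category.assoc]
  exact congrArg (θ ≫ ·) (huv i)

end Groth.Agent.H25.TF
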