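import Groth.Agent.H25.ToposFin2
import Mathlib.CategoryTheory.Limits.Shapes.Pullback.Pasting
import Mathlib.CategoryTheory.Adjunction.Basic

/-!
# Toolkit for finiteness conditions in a sheaf topos, part 3: generating sets, refinements,
locality on the target, quasi-separated objects.
-/

set_option autoImplicit false
open CategoryTheory CategoryTheory.Limits Opposite
universe w w' u
open ToposFin

namespace Groth.Agent.H25.TF

variable {C : Type u} [SmallCategory C] {J : GrothendieckTopology C}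

theorem isGenerating_of_hasQCGenerators (h : HasQCGenerators J) :
    IsGenerating {K : Sh J | IsQC K} := by
  intro X
  obtain ⟨ι, F, π, hF, hπ⟩ := h X
  exact ⟨ι, F, π, hF, fun Z a b hab => (epi_sigma_iff π).1 hπ a b hab⟩

theorem exists_cov_of_generating {S : Set (Sh J)} (hgen : IsGenerating S) (X : Sh J) :
    ∃ (ι : Type u) (F : ι → Sh J) (π : ∀ i, F i ⟶ X), (∀ i, F i ∈ S) ∧ Cov π := by
  obtain ⟨ι, F, π, hF, hπ⟩ := hgen X
  exact ⟨ι, F, π, hF, fun Z a b hab => hπ Z a b hab⟩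

theorem exists_finite_cov_of_generating {S : Set (Sh J)} (hgen : IsGenerating S) {X : Sh J}
    (hX : IsQC X) : ∃ (T : Type u) (_ : Finite T) (K : T → Sh J) (k : ∀ n, K n ⟶ X),
      (∀ n, K n ∈ S) ∧ Cov k := by
  obtain ⟨ι, F, π, hF, hπ⟩ := exists_cov_of_generating hgen X
  obtain ⟨s, hs⟩ := (isQC_iff X).1 hX ι F π hπ
  exact ⟨s, inferInstance, fun n => F n, fun n => π n, fun n => hF n, hs⟩

/-- Finite refinement of the pullback of a cover to a quasi-compact object by generators. -/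
theorem exists_finite_refinement {S : Set (Sh J)} (hgen : IsGenerating S) {Y' Y : Sh J}
    (hY' : IsQC Y') (t : Y' ⟶ Y) {ι : Type w} [Small.{u} ι] {Yi : ι → Sh J} (g : ∀ i, Yi i ⟶ Y)
    (hg : Cov g) :
    ∃ (T : Type (max u w)) (_ : Finite T) (K : T → Sh J) (k : ∀ n, K n ⟶ Y') (i : T → ι)
      (m : ∀ n, K n ⟶ Yi (i n)), (∀ n, K n ∈ S) ∧ (∀ n, k n ≫ t = m n ≫ g (i n)) ∧ Cov k := by
  have h1 : Cov (fun i => pullback.snd (g i) t) := cov_pullback_snd hg t
  choose κ G ρ hGS hρ using fun i => exists_cov_of_generating hgen (pullback (g i) t)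
  have h2 : Cov (fun x : Σ i, κ i => ρ x.1 x.2 ≫ pullback.snd (g x.1) t) := cov_comp h1 hρ
  obtain ⟨s, hs⟩ := finite_subcov hY' _ h2
  refine ⟨s, inferInstance, fun n => G n.1.1 n.1.2,
    fun n => ρ n.1.1 n.1.2 ≫ pullback.snd (g n.1.1) t, fun n => n.1.1,
    fun n => ρ n.1.1 n.1.2 ≫ pullback.fst (g n.1.1) t, fun n => hGS _ _, fun n => ?_, hs⟩
  rw [Category.assoc, Category.assoc, pullback.condition]

theorem isQC_pullback_congr {A B X : Sh J} {a a' : A ⟶ X} {b b' : B ⟶ X} (ha : a = a')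
    (hb : b = b') (h : IsQC (pullback a' b')) : IsQC (pullback a b) := by
  subst ha hb
  exact h

theorem isQC_equalizer_congr {A X : Sh J} {a a' b b' : A ⟶ X} (ha : a = a')
    (hb : b = b') (h : IsQC (equalizer a' b')) : IsQC (equalizer a b) := by
  subst ha hb
  exact h

theorem isQC_pullback_of_finite_cov {X Y Y' : Sh J} (f : X ⟶ Y) (g : Y' ⟶ Y) {κ : Type w}
    [Finite κ] {K : κ → Sh J} (k : ∀ t, K t ⟶ Y') (hk : Cov k)
    (h : ∀ t, IsQC (pullback f (k t ≫ g))) : IsQC (pullback f g) := by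
  refine isQC_of_finite_cov (fun t => pullback.snd (k t) (pullback.snd f g))
    (cov_pullback_snd hk _) (fun t => ?_)
  have h1 : IsPullback (pullback.fst (k t) (pullback.snd f g))
      (pullback.snd (k t) (pullback.snd f g) ≫ pullback.fst f g) (k t ≫ g) f :=
    (IsPullback.of_hasPullback (k t) (pullback.snd f g)).paste_vert
      (IsPullback.of_hasPullback f g).flip
  exact isQC_of_iso h1.flip.isoPullback.symm (h t)

/-- Quasi-compactness of a morphism can be tested on generators (SGA 4 VI 1.10). -/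
theorem qcHom_of_generating {S : Set (Sh J)} (hgen : IsGenerating S) {X Y : Sh J} (f : X ⟶ Y)
    (h : ∀ ⦃K : Sh J⦄ (s : K ⟶ Y), K ∈ S → IsQC (pullback f s)) : qcHom J f := by
  rw [← isQCHom_iff]
  intro Y' g hY'
  obtain ⟨T, _, K, k, hK, hk⟩ := exists_finite_cov_of_generating hgen hY'
  exact isQC_pullback_of_finite_cov f g k hk (fun n => h _ (hK n))

theorem isQC_pullback_of_cov {S : Set (Sh J)} (hgen : IsGenerating S) {X Y Y' : Sh J} (f : X ⟶ Y)
    (t : Y' ⟶ Y) (hY' : IsQC Y') {ι : Type w} [Small.{u} ι] {Yi : ι → Sh J} (g : ∀ i, Yi i ⟶ Y)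
    (hg : Cov g)
    (H : ∀ (i : ι) ⦃K : Sh J⦄ (m : K ⟶ Yi i), K ∈ S → IsQC (pullback f (m ≫ g i))) :
    IsQC (pullback f t) := by
  obtain ⟨T, _, K, k, i, m, hKS, hkm, hk⟩ := exists_finite_refinement hgen hY' t g hg
  refine isQC_pullback_of_finite_cov f t k hk (fun n => ?_)
  exact isQC_pullback_congr rfl (hkm n) (H (i n) (m n) (hKS n))

theorem isQC_pullback_comp {X Y Yi K : Sh J} (f : X ⟶ Y) (gi : Yi ⟶ Y) (m : K ⟶ Yi)
    (h : qcHom J (pullback.snd f gi)) (hK : IsQC K) : IsQC (pullback f (m ≫ gi)) :=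
  (qcHom_iff_isPullback _).1 h _ _ m
    (IsPullback.of_right' (IsPullback.of_hasPullback f (m ≫ gi)) (IsPullback.of_hasPullback f gi))
    hK

/-- Quasi-compactness of a morphism is local on the target (SGA 4 VI 1.10). -/
theorem qcHom_of_cov_target {S : Set (Sh J)} (hS : ∀ K ∈ S, IsQC K) (hgen : IsGenerating S)
    {X Y : Sh J} (f : X ⟶ Y) {ι : Type w} [Small.{u} ι] {Yi : ι → Sh J} (g : ∀ i, Yi i ⟶ Y)
    (hg : Cov g) (h : ∀ i, qcHom J (pullback.snd f (g i))) : qcHom J f := by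
  rw [← isQCHom_iff]
  intro Y' t hY'
  exact isQC_pullback_of_cov hgen f t hY' g hg
    (fun i K m hK => isQC_pullback_comp f (g i) m (h i) (hS K hK))

/-! ### Equalizers -/

/-- The map between equalizers induced by precomposition. -/
noncomputable def eqMap {Y' X K : Sh J} (g₁ g₂ : Y' ⟶ X) (k : K ⟶ Y') :
    equalizer (k ≫ g₁) (k ≫ g₂) ⟶ equalizer g₁ g₂ :=
  equalizer.lift (equalizer.ι (k ≫ g₁) (k ≫ g₂) ≫ k) (by
    rw [Category.assoc, Category.assoc]
    exact equalizer.condition _ _)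

theorem eqMap_ι {Y' X K : Sh J} (g₁ g₂ : Y' ⟶ X) (k : K ⟶ Y') :
    eqMap g₁ g₂ k ≫ equalizer.ι g₁ g₂ = equalizer.ι (k ≫ g₁) (k ≫ g₂) ≫ k :=
  equalizer.lift_ι _ _

theorem cov_eqMap {Y' X : Sh J} (g₁ g₂ : Y' ⟶ X) {κ : Type w} {K : κ → Sh J}
    (k : ∀ t, K t ⟶ Y') (hk : Cov k) : Cov (fun t => eqMap g₁ g₂ (k t)) := by
  have h1 := cov_pullback_snd hk (equalizer.ι g₁ g₂)
  refine cov_of_factor h1 _ (fun t => ?_)
  have c : pullback.fst (k t) (equalizer.ι g₁ g₂) ≫ k t =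
      pullback.snd (k t) (equalizer.ι g₁ g₂) ≫ equalizer.ι g₁ g₂ := pullback.condition
  refine ⟨t, equalizer.lift (pullback.fst (k t) (equalizer.ι g₁ g₂)) ?_, ?_⟩
  · rw [reassoc_of% c, reassoc_of% c, equalizer.condition]
  · apply equalizer.hom_ext
    rw [Category.assoc, eqMap_ι, ← Category.assoc, equalizer.lift_ι]
    exact c

theorem isQC_equalizer_of_finite_cov {Y' X : Sh J} (g₁ g₂ : Y' ⟶ X) {κ : Type w} [Finite κ]
    {K : κ → Sh J} (k : ∀ t, K t ⟶ Y') (hk : Cov k)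
    (h : ∀ t, IsQC (equalizer (k t ≫ g₁) (k t ≫ g₂))) : IsQC (equalizer g₁ g₂) :=
  isQC_of_finite_cov _ (cov_eqMap g₁ g₂ k hk) h

/-- Two parallel pairs with the same equalizing maps have isomorphic equalizers. -/
noncomputable def equalizerIsoOfIff {D : Type*} [Category D] [HasEqualizers D] {K A B : D}
    (a₁ a₂ : K ⟶ A) (b₁ b₂ : K ⟶ B)
    (h : ∀ ⦃T : D⦄ (x : T ⟶ K), x ≫ a₁ = x ≫ a₂ ↔ x ≫ b₁ = x ≫ b₂) :
    equalizer a₁ a₂ ≅ equalizer b₁ b₂ where
  hom := equalizer.lift (equalizer.ι a₁ a₂) ((h _).1 (equalizer.condition a₁ a₂))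
  inv := equalizer.lift (equalizer.ι b₁ b₂) ((h _).2 (equalizer.condition b₁ b₂))
  hom_inv_id := by
    apply equalizer.hom_ext
    rw [Category.assoc, equalizer.lift_ι, equalizer.lift_ι, Category.id_comp]
  inv_hom_id := by
    apply equalizer.hom_ext
    rw [Category.assoc, equalizer.lift_ι, equalizer.lift_ι, Category.id_comp]

theorem isQC_equalizer_of_cov {S : Set (Sh J)} (hgen : IsGenerating S) {X Y Y' : Sh J}
    (g₁ g₂ : Y' ⟶ X) (t : Y' ⟶ Y) (hY' : IsQC Y') {ι : Type w} [Small.{u} ι] {Yi : ι → Sh J}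
    (g : ∀ i, Yi i ⟶ Y) (hg : Cov g)
    (H : ∀ (i : ι) ⦃K : Sh J⦄ (k : K ⟶ Y') (m : K ⟶ Yi i), K ∈ S → k ≫ t = m ≫ g i →
      IsQC (equalizer (k ≫ g₁) (k ≫ g₂))) : IsQC (equalizer g₁ g₂) := by
  obtain ⟨T, _, K, k, i, m, hKS, hkm, hk⟩ := exists_finite_refinement hgen hY' t g hg
  exact isQC_equalizer_of_finite_cov g₁ g₂ k hk
    (fun n => H (i n) (k n) (m n) (hKS n) (hkm n))

/-- Quasi-separatedness of a morphism is local on the target. -/
theorem qsHom_of_cov_target {S : Set (Sh J)} (hS : ∀ K ∈ S, IsQC K) (hgen : IsGenerating S)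
    {X Y : Sh J} (f : X ⟶ Y) {ι : Type w} [Small.{u} ι] {Yi : ι → Sh J} (g : ∀ i, Yi i ⟶ Y)
    (hg : Cov g) (h : ∀ i, qsHom J (pullback.snd f (g i))) : qsHom J f := by
  rw [qsHom_iff_equalizer]
  intro Y' g₁ g₂ h12 hY'
  refine isQC_equalizer_of_cov hgen g₁ g₂ (g₁ ≫ f) hY' g hg (fun i K k m hK hkm => ?_)
  have e1 : (k ≫ g₁) ≫ f = m ≫ g i := by
    rw [Category.assoc]
    exact hkm
  have e2 : (k ≫ g₂) ≫ f = m ≫ g i := by
    rw [Category.assoc, ← h12]
    exact hkm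
  obtain ⟨γ₁, hγ₁f, hγ₁s⟩ : ∃ γ : K ⟶ pullback f (g i),
      γ ≫ pullback.fst f (g i) = k ≫ g₁ ∧ γ ≫ pullback.snd f (g i) = m :=
    ⟨pullback.lift _ _ e1, pullback.lift_fst _ _ _, pullback.lift_snd _ _ _⟩
  obtain ⟨γ₂, hγ₂f, hγ₂s⟩ : ∃ γ : K ⟶ pullback f (g i),
      γ ≫ pullback.fst f (g i) = k ≫ g₂ ∧ γ ≫ pullback.snd f (g i) = m :=
    ⟨pullback.lift _ _ e2, pullback.lift_fst _ _ _, pullback.lift_snd _ _ _⟩
  have hq : IsQC (equalizer γ₁ γ₂) :=
    (qsHom_iff_equalizer _).1 (h i) γ₁ γ₂ (hγ₁s.trans hγ₂s.symm) (hS K hK)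
  refine isQC_of_iso (equalizerIsoOfIff γ₁ γ₂ (k ≫ g₁) (k ≫ g₂) (fun T x => ?_)) hq
  constructor
  · intro hx
    have h3 := congrArg (· ≫ pullback.fst f (g i)) hx
    simpa only [Category.assoc, hγ₁f, hγ₂f] using h3
  · intro hx
    apply pullback.hom_ext
    · rw [Category.assoc, Category.assoc, hγ₁f, hγ₂f]
      exact hx
    · rw [Category.assoc, Category.assoc, hγ₁s, hγ₂s]

/-! ### Quasi-separated objects -/

/-- The source of a quasi-separated morphism with quasi-separated target is quasi-separated. -/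
theorem isQS_of_qsHom {X Y : Sh J} (f : X ⟶ Y) (hf : qsHom J f) (hY : IsQS Y) : IsQS X := by
  intro A B a b hA hB
  have hW : IsQC (pullback (a ≫ f) (b ≫ f)) := hY A B _ _ hA hB
  exact (qcHom_iff_isPullback _).1 hf _ _ _ (pullback_map_diagonal_isPullback a b f) hW

/-- A subobject of a quasi-separated object is quasi-separated. -/
theorem isQS_of_mono {X Y : Sh J} (i : X ⟶ Y) [Mono i] (hY : IsQS Y) : IsQS X :=
  isQS_of_qsHom i (qsHom_of_mono i) hY

/-- A fibre product is covered by the fibre products of members of covers of the factors. -/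
theorem cov_pullback_map {A B X : Sh J} (a : A ⟶ X) (b : B ⟶ X) {κ : Type w} {μ : Type w'}
    {P : κ → Sh J} (p : ∀ s, P s ⟶ A) (hp : Cov p) {Q : μ → Sh J} (q : ∀ t, Q t ⟶ B)
    (hq : Cov q) :
    Cov (fun x : κ × μ => pullback.map (p x.1 ≫ a) (q x.2 ≫ b) a b (p x.1) (q x.2) (𝟙 X)
      (Category.comp_id _) (Category.comp_id _)) := by
  have h1 : Cov (fun s => pullback.snd (p s) (pullback.fst a b)) := cov_pullback_snd hp _
  have h2 : ∀ s, Cov (fun t => pullback.snd (q t)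
      (pullback.snd (p s) (pullback.fst a b) ≫ pullback.snd a b)) :=
    fun s => cov_pullback_snd hq _
  refine cov_of_factor (cov_comp h1 h2) _ ?_
  rintro ⟨s, t⟩
  have c1 : pullback.fst (p s) (pullback.fst a b) ≫ p s =
      pullback.snd (p s) (pullback.fst a b) ≫ pullback.fst a b := pullback.condition
  have c2 : pullback.fst (q t) (pullback.snd (p s) (pullback.fst a b) ≫ pullback.snd a b) ≫ q t =
      pullback.snd (q t) (pullback.snd (p s) (pullback.fst a b) ≫ pullback.snd a b) ≫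
        pullback.snd (p s) (pullback.fst a b) ≫ pullback.snd a b := pullback.condition
  have c0 : pullback.fst a b ≫ a = pullback.snd a b ≫ b := pullback.condition
  have cτ : (pullback.snd (q t) (pullback.snd (p s) (pullback.fst a b) ≫ pullback.snd a b) ≫
      pullback.fst (p s) (pullback.fst a b)) ≫ (p s ≫ a) =
      pullback.fst (q t) (pullback.snd (p s) (pullback.fst a b) ≫ pullback.snd a b) ≫
        (q t ≫ b) := by
    rw [Category.assoc, reassoc_of% c1, c0, reassoc_of% c2]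
  refine ⟨(s, t), pullback.lift _ _ cτ, ?_⟩
  apply pullback.hom_ext
  · simp only [Category.assoc, pullback.lift_fst, pullback.lift_fst_assoc, c1]
  · simp only [Category.assoc, pullback.lift_snd, pullback.lift_snd_assoc, c2]

/-- Members of a generating set of quasi-compact objects stable under fibre products are
quasi-separated. -/
theorem isQS_of_mem {S : Set (Sh J)} (hS : ∀ K ∈ S, IsQC K) (hgen : IsGenerating S)
    (hpb : ClosedUnderPullbacks S) {M : Sh J} (hM : M ∈ S) : IsQS M := by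
  intro A B a b hA hB
  obtain ⟨T₁, _, P, p, hP, hp⟩ := exists_finite_cov_of_generating hgen hA
  obtain ⟨T₂, _, Q, q, hQ, hq⟩ := exists_finite_cov_of_generating hgen hB
  refine isQC_of_finite_cov _ (cov_pullback_map a b p hp q hq) ?_
  rintro ⟨s, t⟩
  obtain ⟨R, r₁, r₂, hR, hpbR⟩ := hpb (p s ≫ a) (q t ≫ b) (hP s) (hQ t) hM
  exact isQC_of_iso hpbR.isoPullback (hS R hR)

theorem isQC_equalizer_of_isQS_aux {S : Set (Sh J)} (hS : ∀ K ∈ S, IsQC K)
    (hgen : IsGenerating S) (heq : ClosedUnderEqualizers S) {X : Sh J} (hX : IsQS X) {K : Sh J}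
    (hK : K ∈ S) (h₁ h₂ : K ⟶ X) : IsQC (equalizer h₁ h₂) := by
  have hR : IsQC (pullback h₁ h₂) := hX K K h₁ h₂ (hS K hK) (hS K hK)
  obtain ⟨T, _, L, l, hL, hl⟩ := exists_finite_cov_of_generating hgen hR
  obtain ⟨d, hd1, hd2⟩ : ∃ d : equalizer h₁ h₂ ⟶ pullback h₁ h₂,
      d ≫ pullback.fst h₁ h₂ = equalizer.ι h₁ h₂ ∧ d ≫ pullback.snd h₁ h₂ = equalizer.ι h₁ h₂ :=
    ⟨pullback.lift _ _ (equalizer.condition h₁ h₂), pullback.lift_fst _ _ _,
      pullback.lift_snd _ _ _⟩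
  have hT : ∀ n, IsQC (equalizer (l n ≫ pullback.fst h₁ h₂) (l n ≫ pullback.snd h₁ h₂)) := by
    intro n
    obtain ⟨P, e, w, hP, ⟨hlim⟩⟩ :=
      heq (l n ≫ pullback.fst h₁ h₂) (l n ≫ pullback.snd h₁ h₂) (hL n) hK
    exact isQC_of_iso (hlim.conePointUniqueUpToIso (limit.isLimit _)) (hS P hP)
  have hτ : ∀ n, (equalizer.ι (l n ≫ pullback.fst h₁ h₂) (l n ≫ pullback.snd h₁ h₂) ≫
      l n ≫ pullback.fst h₁ h₂) ≫ h₁ =
      (equalizer.ι (l n ≫ pullback.fst h₁ h₂) (l n ≫ pullback.snd h₁ h₂) ≫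
        l n ≫ pullback.fst h₁ h₂) ≫ h₂ := by
    intro n
    have c := equalizer.condition (l n ≫ pullback.fst h₁ h₂) (l n ≫ pullback.snd h₁ h₂)
    have c' : pullback.fst h₁ h₂ ≫ h₁ = pullback.snd h₁ h₂ ≫ h₂ := pullback.condition
    calc (equalizer.ι (l n ≫ pullback.fst h₁ h₂) (l n ≫ pullback.snd h₁ h₂) ≫
          l n ≫ pullback.fst h₁ h₂) ≫ h₁
        = equalizer.ι (l n ≫ pullback.fst h₁ h₂) (l n ≫ pullback.snd h₁ h₂) ≫
          l n ≫ pullback.snd h₁ h₂ ≫ h₂ := by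
          simp only [Category.assoc, c']
      _ = (equalizer.ι (l n ≫ pullback.fst h₁ h₂) (l n ≫ pullback.snd h₁ h₂) ≫
          l n ≫ pullback.snd h₁ h₂) ≫ h₂ := by
          simp only [Category.assoc]
      _ = (equalizer.ι (l n ≫ pullback.fst h₁ h₂) (l n ≫ pullback.snd h₁ h₂) ≫
          l n ≫ pullback.fst h₁ h₂) ≫ h₂ := by
          rw [← c]
  refine isQC_of_finite_cov (fun n => equalizer.lift _ (hτ n)) ?_ hT
  have hc := cov_pullback_snd hl d
  refine cov_of_factor hc _ (fun n => ?_)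
  have c : pullback.fst (l n) d ≫ l n = pullback.snd (l n) d ≫ d := pullback.condition
  refine ⟨n, equalizer.lift (pullback.fst (l n) d) ?_, ?_⟩
  · rw [reassoc_of% c, reassoc_of% c, hd1, hd2]
  · apply equalizer.hom_ext
    rw [Category.assoc, equalizer.lift_ι, ← Category.assoc, equalizer.lift_ι, reassoc_of% c, hd1]

/-- In an algebraic topos, equalizers of maps from a quasi-compact object to a quasi-separated
object are quasi-compact. -/
theorem isQC_equalizer_of_isQS {S : Set (Sh J)} (hS : ∀ K ∈ S, IsQC K) (hgen : IsGenerating S)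
    (heq : ClosedUnderEqualizers S) {X : Sh J} (hX : IsQS X) {Y' : Sh J} (hY' : IsQC Y')
    (g₁ g₂ : Y' ⟶ X) : IsQC (equalizer g₁ g₂) := by
  obtain ⟨T, _, K, k, hK, hk⟩ := exists_finite_cov_of_generating hgen hY'
  exact isQC_equalizer_of_finite_cov g₁ g₂ k hk
    (fun n => isQC_equalizer_of_isQS_aux hS hgen heq hX (hK n) _ _)

/-- In an algebraic topos every morphism with quasi-separated source is quasi-separated. -/
theorem qsHom_of_isQS {S : Set (Sh J)} (hS : ∀ K ∈ S, IsQC K) (hgen : IsGenerating S)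
    (heq : ClosedUnderEqualizers S) {X Y : Sh J} (f : X ⟶ Y) (hX : IsQS X) : qsHom J f :=
  (qsHom_iff_equalizer f).2
    (fun _ g₁ g₂ _ hY' => isQC_equalizer_of_isQS hS hgen heq hX hY' g₁ g₂)

/-- Criterion for quasi-separatedness of an object via a cover (SGA 4 VI 1.17). -/
theorem isQS_of_cov {S : Set (Sh J)} (hS : ∀ K ∈ S, IsQC K) (hgen : IsGenerating S) {Y : Sh J}
    {ι : Type w} [Small.{u} ι] {Yi : ι → Sh J} (g : ∀ i, Yi i ⟶ Y) (hg : Cov g)
    (hqs : ∀ i, IsQS (Yi i)) (hij : ∀ i j, IsQC (pullback (g i) (g j))) : IsQS Y := by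
  intro A B a b hA hB
  obtain ⟨T₁, _, G, γ, i, c, hGS, hc, hγ⟩ := exists_finite_refinement hgen hA a g hg
  obtain ⟨T₂, _, H, η, j, d, hHS, hd, hη⟩ := exists_finite_refinement hgen hB b g hg
  refine isQC_of_finite_cov _ (cov_pullback_map a b γ hγ η hη) ?_
  rintro ⟨s, t⟩
  refine isQC_pullback_congr (hc s) (hd t) ?_
  have h1 : IsQC (pullback (c s) (pullback.fst (g (i s)) (g (j t)))) :=
    hqs (i s) _ _ _ _ (hS _ (hGS s)) (hij _ _)
  have h2 : IsQC (pullback (c s ≫ g (i s)) (g (j t))) :=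
    isQC_of_iso (pullbackRightPullbackFstIso (g (i s)) (g (j t)) (c s)) h1
  have h3 : IsQC (pullback (pullback.snd (c s ≫ g (i s)) (g (j t))) (d t)) :=
    hqs (j t) _ _ _ _ h2 (hS _ (hHS t))
  exact isQC_of_iso (pullbackLeftPullbackSndIso (c s ≫ g (i s)) (g (j t)) (d t)) h3

/-! ### Inverse image functors -/

section Adj

variable {D : Type u} [SmallCategory D] {K : GrothendieckTopology D}

/-- A left adjoint preserves covers. -/
theorem cov_map_of_adj (F : Sh K ⥤ Sh J) (R : Sh J ⥤ Sh K) (adj : F ⊣ R) {X : Sh K} {ι : Type w}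
    {G : ι → Sh K} {π : ∀ i, G i ⟶ X} (hπ : Cov π) : Cov (fun i => F.map (π i)) := by
  intro Z a b hab
  apply (adj.homEquiv X Z).injective
  apply hπ
  intro i
  have := congrArg (adj.homEquiv _ _) (hab i)
  simpa [Adjunction.homEquiv_naturality_left] using this

theorem isQC_map_of_generating (F : Sh K ⥤ Sh J) (R : Sh J ⥤ Sh K) (adj : F ⊣ R)
    {S : Set (Sh K)} (hgen : IsGenerating S) (h : ∀ X ∈ S, IsQC (F.obj X)) {X : Sh K}
    (hX : IsQC X) : IsQC (F.obj X) := by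
  obtain ⟨T, _, G, k, hG, hk⟩ := exists_finite_cov_of_generating hgen hX
  exact isQC_of_finite_cov (fun n => F.map (k n)) (cov_map_of_adj F R adj hk)
    (fun n => h _ (hG n))

end Adj

end Groth.Agent.H25.TF
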