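import Groth.Agent.H25.ToposFin3
import Mathlib.CategoryTheory.Limits.Shapes.Pullback.Mono

/-!
# Toolkit for finiteness conditions in a sheaf topos, part 4.
-/

set_option autoImplicit false
open CategoryTheory CategoryTheory.Limits Opposite
universe w w' u
open ToposFin

namespace Groth.Agent.H25.TF

variable {C : Type u} [SmallCategory C] {J : GrothendieckTopology C}

theorem isGenerating_range {α : Type u} (G : α → Sh J)
    (hgen : ∀ X : Sh J, ∃ (ι : Type u) (a : ι → α) (π : ∀ i, G (a i) ⟶ X), Epi (Sigma.desc π)) :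
    IsGenerating (Set.range G) := by
  intro X
  obtain ⟨ι, a, π, hπ⟩ := hgen X
  exact ⟨ι, fun i => G (a i), π, fun i => ⟨a i, rfl⟩,
    fun Z x y hxy => (epi_sigma_iff π).1 hπ x y hxy⟩

/-- Target-locality of quasi-compactness, pullback-square form. -/
theorem qcHom_of_cov_target' {S : Set (Sh J)} (hS : ∀ K ∈ S, IsQC K) (hgen : IsGenerating S)
    {X Y : Sh J} (f : X ⟶ Y) {ι : Type w} [Small.{u} ι] {Yi : ι → Sh J} (g : ∀ i, Yi i ⟶ Y)
    (hg : Cov g) {P : ι → Sh J} (p : ∀ i, P i ⟶ X) (q : ∀ i, P i ⟶ Yi i)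
    (hpb : ∀ i, IsPullback (p i) (q i) f (g i)) (h : ∀ i, qcHom J (q i)) : qcHom J f :=
  qcHom_of_cov_target hS hgen f g hg (fun i => by
    rw [← (hpb i).isoPullback_inv_snd, (qcHom J).cancel_left_of_respectsIso]
    exact h i)

/-- A morphism from a quasi-compact object to a quasi-separated object is quasi-compact. -/
theorem qcHom_of_isQC_of_isQS {A B : Sh J} (v : A ⟶ B) (hA : IsQC A) (hB : IsQS B) :
    qcHom J v :=
  (isQCHom_iff v).1 (fun Y' t hY' => hB A Y' v t hA hY')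

/-- Variant of `isQS_of_cov` (SGA 4 VI 1.17). -/
theorem isQS_of_cov_qcHom {S : Set (Sh J)} (hS : ∀ K ∈ S, IsQC K) (hgen : IsGenerating S)
    {Y : Sh J} {ι : Type w} [Small.{u} ι] {Yi : ι → Sh J} (g : ∀ i, Yi i ⟶ Y) (hg : Cov g)
    (hqs : ∀ i, IsQS (Yi i)) (hqc : ∀ i, qcHom J (g i)) : IsQS Y := by
  intro A B a b hA hB
  obtain ⟨T₁, _, G, γ, i, c, hGS, hc, hγ⟩ := exists_finite_refinement hgen hA a g hg
  obtain ⟨T₂, _, H, η, j, d, hHS, hd, hη⟩ := exists_finite_refinement hgen hB b g hg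
  refine isQC_of_finite_cov _ (cov_pullback_map a b γ hγ η hη) ?_
  rintro ⟨s, t⟩
  refine isQC_pullback_congr (hc s) (hd t) ?_
  have h1 : IsQC (pullback (g (i s)) (d t ≫ g (j t))) :=
    (isQCHom_iff _).2 (hqc (i s)) _ _ (hS _ (hHS t))
  have h2 : IsQC (pullback (c s) (pullback.fst (g (i s)) (d t ≫ g (j t)))) :=
    hqs (i s) _ _ _ _ (hS _ (hGS s)) h1
  exact isQC_of_iso (pullbackRightPullbackFstIso (g (i s)) (d t ≫ g (j t)) (c s)) h2

/-- An object covered by initial objects is initial. -/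
theorem isInitial_of_cov {X : Sh J} {ι : Type w} {F : ι → Sh J} {π : ∀ i, F i ⟶ X} (h : Cov π)
    (hI : ∀ i, Nonempty (IsInitial (F i))) : Nonempty (IsInitial X) := by
  have he : Epi (initial.to X) := ⟨fun a b _ => h a b (fun i => (hI i).some.hom_ext _ _)⟩
  have hm : Mono (initial.to X) := inferInstance
  have : IsIso (initial.to X) := isIso_of_mono_of_epi _
  exact ⟨IsInitial.ofIso initialIsInitial (asIso (initial.to X))⟩

theorem isQC_equalizer_of_lift {X Y Z T : Sh J} (fi : X ⟶ Y) (g : Y ⟶ Z) (hqc : qcHom J fi)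
    (hqs : qsHom J (fi ≫ g)) (hT : IsQC T) (x₁ : T ⟶ X) (u₂ : T ⟶ Y)
    (h12 : (x₁ ≫ fi) ≫ g = u₂ ≫ g) : IsQC (equalizer (x₁ ≫ fi) u₂) := by
  have hT' : IsQC (pullback fi u₂) := (isQCHom_iff _).2 hqc _ u₂ hT
  have c : pullback.fst fi u₂ ≫ fi = pullback.snd fi u₂ ≫ u₂ := pullback.condition
  have hE'cond : (pullback.snd fi u₂ ≫ x₁) ≫ (fi ≫ g) = pullback.fst fi u₂ ≫ (fi ≫ g) := by
    rw [Category.assoc, ← Category.assoc x₁, h12, reassoc_of% c]
  have hE' : IsQC (equalizer (pullback.snd fi u₂ ≫ x₁) (pullback.fst fi u₂)) :=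
    (qsHom_iff_equalizer _).1 hqs _ _ hE'cond hT'
  have e := equalizer.condition (pullback.snd fi u₂ ≫ x₁) (pullback.fst fi u₂)
  have hmap : (equalizer.ι (pullback.snd fi u₂ ≫ x₁) (pullback.fst fi u₂) ≫ pullback.snd fi u₂) ≫
      (x₁ ≫ fi) =
      (equalizer.ι (pullback.snd fi u₂ ≫ x₁) (pullback.fst fi u₂) ≫ pullback.snd fi u₂) ≫ u₂ := by
    calc (equalizer.ι (pullback.snd fi u₂ ≫ x₁) (pullback.fst fi u₂) ≫ pullback.snd fi u₂) ≫
          (x₁ ≫ fi)
        = (equalizer.ι (pullback.snd fi u₂ ≫ x₁) (pullback.fst fi u₂) ≫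
            pullback.snd fi u₂ ≫ x₁) ≫ fi := by simp only [Category.assoc]
      _ = (equalizer.ι (pullback.snd fi u₂ ≫ x₁) (pullback.fst fi u₂) ≫
            pullback.fst fi u₂) ≫ fi := by rw [e]
      _ = (equalizer.ι (pullback.snd fi u₂ ≫ x₁) (pullback.fst fi u₂) ≫ pullback.snd fi u₂) ≫
            u₂ := by simp only [Category.assoc, c]
  have hσ : (equalizer.ι (x₁ ≫ fi) u₂ ≫ x₁) ≫ fi = equalizer.ι (x₁ ≫ fi) u₂ ≫ u₂ := by
    rw [Category.assoc]
    exact equalizer.condition _ _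
  obtain ⟨σ, hσ1, hσ2⟩ : ∃ σ : equalizer (x₁ ≫ fi) u₂ ⟶ pullback fi u₂,
      σ ≫ pullback.fst fi u₂ = equalizer.ι (x₁ ≫ fi) u₂ ≫ x₁ ∧
      σ ≫ pullback.snd fi u₂ = equalizer.ι (x₁ ≫ fi) u₂ :=
    ⟨pullback.lift _ _ hσ, pullback.lift_fst _ _ _, pullback.lift_snd _ _ _⟩
  have hσ' : σ ≫ (pullback.snd fi u₂ ≫ x₁) = σ ≫ pullback.fst fi u₂ := by
    rw [reassoc_of% hσ2, hσ1]
  have hse : IsSplitEpi (equalizer.lift _ hmap) := IsSplitEpi.mk' ⟨equalizer.lift σ hσ', by
    apply equalizer.hom_ext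
    rw [Category.assoc, equalizer.lift_ι, ← Category.assoc, equalizer.lift_ι, hσ2,
      Category.id_comp]⟩
  exact isQC_of_epi (equalizer.lift _ hmap) hE'

/-- Quasi-separatedness can be tested on a cover of the source by quasi-compact morphisms
(SGA 4 VI 1.19). -/
theorem qsHom_of_cov_source {Y Z : Sh J} (g : Y ⟶ Z) {ι : Type w} [Small.{u} ι] {X : ι → Sh J}
    (f : ∀ i, X i ⟶ Y) (hf : Cov f) (hqc : ∀ i, qcHom J (f i)) (hqs : ∀ i, qsHom J (f i ≫ g)) :
    qsHom J g := by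
  rw [qsHom_iff_equalizer]
  intro Y' y₁ y₂ h12 hY'
  have hcov : Cov (fun i => pullback.snd (f i) y₁) := cov_pullback_snd hf y₁
  obtain ⟨s, hs⟩ := finite_subcov hY' _ hcov
  refine isQC_equalizer_of_finite_cov y₁ y₂ (fun i : s => pullback.snd (f i) y₁) hs (fun i => ?_)
  have hT : IsQC (pullback (f i) y₁) := (isQCHom_iff _).2 (hqc i) _ y₁ hY'
  have hx₁ : pullback.fst (f i) y₁ ≫ f i = pullback.snd (f i) y₁ ≫ y₁ := pullback.condition
  refine isQC_equalizer_congr hx₁.symm rfl ?_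
  refine isQC_equalizer_of_lift (f i) g (hqc i) (hqs i) hT _ _ ?_
  rw [hx₁, Category.assoc, Category.assoc, h12]

/-- A coproduct of quasi-separated objects is quasi-separated. -/
theorem isQS_of_isColimit_cofan {ι : Type w} [Small.{u} ι] {F : ι → Sh J} (c : Cofan F)
    (hc : IsColimit c) (h : ∀ i, IsQS (F i)) : IsQS c.pt := by
  intro A B a b hA hB
  have hA' : Cov (fun i => pullback.snd (c.inj i) a) := cov_pullback_snd (cov_inj c hc) a
  have hB' : Cov (fun i => pullback.snd (c.inj i) b) := cov_pullback_snd (cov_inj c hc) b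
  obtain ⟨s₁, hs₁⟩ := finite_subcov hA _ hA'
  obtain ⟨s₂, hs₂⟩ := finite_subcov hB _ hB'
  refine isQC_of_finite_cov _ (cov_pullback_map a b _ hs₁ _ hs₂) ?_
  rintro ⟨⟨i, hi⟩, ⟨j, hj⟩⟩
  refine isQC_pullback_congr (pullback.condition (f := c.inj i) (g := a)).symm
    (pullback.condition (f := c.inj j) (g := b)).symm ?_
  by_cases hij : i = j
  · subst hij
    have hm := mono_inj c hc i
    have hA_i : IsQC (pullback (c.inj i) a) := (isQCHom_iff _).2 (inj_qcHom c hc i) _ a hA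
    have hB_i : IsQC (pullback (c.inj i) b) := (isQCHom_iff _).2 (inj_qcHom c hc i) _ b hB
    have h1 : IsQC (pullback (pullback.fst (c.inj i) a) (pullback.fst (c.inj i) b)) :=
      h i _ _ _ _ hA_i hB_i
    have h2 : IsPullback (pullback.fst (pullback.fst (c.inj i) a) (pullback.fst (c.inj i) b))
        (pullback.snd (pullback.fst (c.inj i) a) (pullback.fst (c.inj i) b))
        (pullback.fst (c.inj i) a ≫ c.inj i) (pullback.fst (c.inj i) b ≫ c.inj i) :=
      IsPullback.of_isLimit (pullbackIsPullbackOfCompMono _ _ (c.inj i))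
    exact isQC_of_iso h2.isoPullback h1
  · obtain ⟨hI⟩ := isInitial_of_inj_eq c hc hij
      (pullback.fst _ _ ≫ pullback.fst (c.inj i) a) (pullback.snd _ _ ≫ pullback.fst (c.inj j) b)
      (by simpa only [Category.assoc] using pullback.condition)
    exact isQC_of_isInitial hI

end Groth.Agent.H25.TF
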