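import Groth.Agent.H25.ToposFin4
import Mathlib.CategoryTheory.Sites.LocallyInjective
import Mathlib.CategoryTheory.Limits.Yoneda

/-!
# Toolkit for finiteness conditions in a sheaf topos, part 5: sheaves associated to
representable presheaves.
-/

set_option autoImplicit false
open CategoryTheory CategoryTheory.Limits Opposite
universe w w' u
open ToposFin

namespace Groth.Agent.H25.TF

variable {C : Type u} [SmallCategory C] {J : GrothendieckTopology C}

/-- `eta J X h` : the section of `eps J X` over `V` attached to `h : V ⟶ X`. -/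
noncomputable def eta (J : GrothendieckTopology C) (X : C) {V : C} (h : V ⟶ X) :
    (eps J X).obj.obj (op V) :=
  (toSheafify J (yoneda.obj X)).app (op V) h

theorem eta_comp (X : C) {V W : C} (r : W ⟶ V) (h : V ⟶ X) :
    eta J X (r ≫ h) = (eps J X).obj.map r.op (eta J X h) :=
  NatTrans.naturality_apply (toSheafify J (yoneda.obj X)) r.op h

/-- Every section of `eps J X` is locally of the form `eta`. -/
theorem exists_eta_eq (X : C) {U : C} (z : (eps J X).obj.obj (op U)) :
    ∃ R : Sieve U, R ∈ J U ∧ ∀ ⦃V : C⦄ (r : V ⟶ U), R r →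
      ∃ h : V ⟶ X, eta J X h = (eps J X).obj.map r.op z :=
  ⟨Presheaf.imageSieve (toSheafify J (yoneda.obj X)) z,
    Presheaf.imageSieve_mem J (toSheafify J (yoneda.obj X)) z, fun _ _ hr => hr⟩

/-- `eta` is locally injective. -/
theorem exists_of_eta_eq (X : C) {V : C} (h h' : V ⟶ X) (e : eta J X h = eta J X h') :
    ∃ R : Sieve V, R ∈ J V ∧ ∀ ⦃W : C⦄ (r : W ⟶ V), R r → r ≫ h = r ≫ h' :=
  ⟨Presheaf.equalizerSieve (F := yoneda.obj X) (X := op V) h h',
    Presheaf.equalizerSieve_mem J (toSheafify J (yoneda.obj X)) h h' e, fun _ _ hr => hr⟩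

/-- The map `eps J U ⟶ eps J W` induced by `f : U ⟶ W`. -/
noncomputable def epsMap (J : GrothendieckTopology C) {U W : C} (f : U ⟶ W) : eps J U ⟶ eps J W :=
  (presheafToSheaf J (Type u)).map (yoneda.map f)

theorem epsMap_eta {U W V : C} (f : U ⟶ W) (h : V ⟶ U) :
    (epsMap J f).hom.app (op V) (eta J U h) = eta J W (h ≫ f) :=
  (ConcreteCategory.congr_hom
    (NatTrans.congr_app (toSheafify_naturality J (yoneda.map f)) (op V)) h).symm

theorem epsMap_comp {U V W : C} (f : U ⟶ V) (g : V ⟶ W) :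
    epsMap J (f ≫ g) = epsMap J f ≫ epsMap J g := by
  unfold epsMap
  rw [Functor.map_comp, Functor.map_comp]

/-- The map `eps J U ⟶ F` attached to a section of `F` over `U`. -/
noncomputable def secMap {F : Sh J} {U : C} (x : F.obj.obj (op U)) : eps J U ⟶ F :=
  ((sheafificationAdjunction J (Type u)).homEquiv _ F).symm (yonedaEquiv.symm x)

theorem toSheafify_secMap {F : Sh J} {U : C} (x : F.obj.obj (op U)) :
    toSheafify J (yoneda.obj U) ≫ (secMap x).hom = yonedaEquiv.symm x := by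
  have h2 := ((sheafificationAdjunction J (Type u)).homEquiv (yoneda.obj U) F).apply_symm_apply
    (yonedaEquiv.symm x)
  rw [Adjunction.homEquiv_unit] at h2
  exact h2

theorem secMap_eta {F : Sh J} {U V : C} (x : F.obj.obj (op U)) (h : V ⟶ U) :
    (secMap x).hom.app (op V) (eta J U h) = F.obj.map h.op x :=
  ConcreteCategory.congr_hom (NatTrans.congr_app (toSheafify_secMap x) (op V)) h

theorem hom_eta {F : Sh J} {U V : C} (φ : eps J U ⟶ F) (h : V ⟶ U) :
    φ.hom.app (op V) (eta J U h) = F.obj.map h.op (φ.hom.app (op U) (eta J U (𝟙 U))) := by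
  have h1 := NatTrans.naturality_apply φ.hom h.op (eta J U (𝟙 U))
  rw [← h1, ← eta_comp, Category.comp_id]

/-- Maps out of `eps J U` are determined by the image of the canonical section. -/
theorem epsHom_ext {F : Sh J} {U : C} (φ ψ : eps J U ⟶ F)
    (h : φ.hom.app (op U) (eta J U (𝟙 U)) = ψ.hom.app (op U) (eta J U (𝟙 U))) : φ = ψ := by
  apply ((sheafificationAdjunction J (Type u)).homEquiv (yoneda.obj U) F).injective
  rw [Adjunction.homEquiv_unit, Adjunction.homEquiv_unit]
  apply yonedaEquiv.injective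
  exact h

theorem epsHom_eq_secMap {F : Sh J} {U : C} (φ : eps J U ⟶ F) :
    φ = secMap (φ.hom.app (op U) (eta J U (𝟙 U))) := by
  apply epsHom_ext
  rw [secMap_eta, op_id, Functor.map_id_apply]

/-- The sheaves `eps J U` form a generating family. -/
theorem isGenerating_eps : IsGenerating (Set.range (eps J)) := by
  intro X
  refine ⟨(Σ U : C, X.obj.obj (op U)), fun i => eps J i.1, fun i => secMap i.2,
    fun i => ⟨i.1, rfl⟩, ?_⟩
  intro Z a b hab
  refine cov_of_lsurj _ (fun U x => ⟨⊤, J.top_mem U, fun V f _ => ?_⟩) a b hab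
  refine ⟨⟨V, X.obj.map f.op x⟩, eta J V (𝟙 V), ?_⟩
  rw [secMap_eta, op_id, Functor.map_id_apply]

/-- A covering family of arrows induces a cover of the associated sheaves. -/
theorem cov_epsMap_of_mem {X : C} {κ : Type w} {V : κ → C} (g : ∀ k, V k ⟶ X)
    (hg : Sieve.ofArrows V g ∈ J X) : Cov (fun k => epsMap J (g k)) := by
  apply cov_of_lsurj
  intro U z
  obtain ⟨R, hR, hRf⟩ := exists_eta_eq X z
  let T : Sieve U :=
    { arrows := fun V' r => ∃ (k : κ) (w : V' ⟶ V k),
        (eps J X).obj.map r.op z = eta J X (w ≫ g k)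
      downward_closed := by
        rintro Y Z f ⟨k, w, hw⟩ r'
        refine ⟨k, r' ≫ w, ?_⟩
        rw [op_comp, Functor.map_comp_apply, hw, ← eta_comp, Category.assoc] }
  have hT : T ∈ J U := by
    refine J.transitive hR T (fun V' r hr => ?_)
    obtain ⟨h, hh⟩ := hRf r hr
    refine J.superset_covering ?_ (J.pullback_stable h hg)
    intro V'' r' hr'
    obtain ⟨k, w, hw⟩ := (Sieve.mem_ofArrows_iff V g (r' ≫ h)).1 hr'
    refine ⟨k, w, ?_⟩
    rw [op_comp, Functor.map_comp_apply, ← hh, ← eta_comp, hw]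
  refine ⟨T, hT, fun V' r hr => ?_⟩
  obtain ⟨k, w, hw⟩ := hr
  exact ⟨k, eta J (V k) w, by rw [epsMap_eta, hw]⟩

/-- Conversely, a family of arrows inducing a cover of the associated sheaves is covering. -/
theorem mem_of_cov_epsMap {X : C} {κ : Type w} {V : κ → C} (g : ∀ k, V k ⟶ X)
    (h : Cov (fun k => epsMap J (g k))) : Sieve.ofArrows V g ∈ J X := by
  obtain ⟨T, hT, hTf⟩ := lsurj_of_cov _ h X (eta J X (𝟙 X))
  refine J.transitive hT _ (fun W t ht => ?_)
  obtain ⟨k, y, hy⟩ := hTf t ht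
  obtain ⟨R, hR, hRf⟩ := exists_eta_eq (V k) y
  refine J.transitive hR _ (fun W' r hr => ?_)
  obtain ⟨w, hw⟩ := hRf r hr
  have e : eta J X (w ≫ g k) = eta J X (r ≫ t) := by
    have h1 := NatTrans.naturality_apply (epsMap J (g k)).hom r.op y
    rw [← hw, epsMap_eta, hy, ← eta_comp, ← eta_comp, Category.comp_id] at h1
    exact h1
  obtain ⟨Q, hQ, hQf⟩ := exists_of_eta_eq X _ _ e
  refine J.superset_covering ?_ hQ
  intro W'' q hq
  show Sieve.ofArrows V g ((q ≫ r) ≫ t)
  refine (Sieve.mem_ofArrows_iff V g _).2 ⟨k, q ≫ w, ?_⟩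
  rw [Category.assoc, Category.assoc]
  exact (hQf q hq).symm

/-- The sheaf associated to a quasi-compact object of the site is quasi-compact. -/
theorem isQC_eps {X : C} (hX : IsQCSite J X) : IsQC (eps J X) := by
  classical
  rw [isQC_iff]
  intro ι F π hπ
  obtain ⟨S, hS, hSf⟩ := lsurj_of_cov π hπ X (eta J X (𝟙 X))
  obtain ⟨n, V, g, hgS, hgcov⟩ := hX S hS
  choose i y hy using fun k => hSf (g k) (hgS k)
  refine ⟨Finset.univ.image i, ?_⟩
  refine cov_of_factor (cov_epsMap_of_mem g hgcov) _ (fun k => ?_)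
  refine ⟨⟨i k, Finset.mem_image_of_mem i (Finset.mem_univ k)⟩, secMap (y k), ?_⟩
  apply epsHom_ext
  show (π (i k)).hom.app _ ((secMap (y k)).hom.app _ (eta J (V k) (𝟙 _))) = _
  rw [secMap_eta, op_id, Functor.map_id_apply, hy k, ← eta_comp, Category.comp_id, epsMap_eta,
    Category.id_comp]

theorem isQCSite_of_isQC_eps {X : C} (h : IsQC (eps J X)) : IsQCSite J X := by
  classical
  intro S hS
  have hcov : Cov (fun i : (Σ V : C, {f : V ⟶ X // S f}) => epsMap J i.2.1) := by
    apply cov_epsMap_of_mem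
    refine J.superset_covering ?_ hS
    intro V f hf
    exact Sieve.ofArrows_mk _ _ (⟨V, f, hf⟩ : Σ V : C, {f : V ⟶ X // S f})
  obtain ⟨s, hs⟩ := (isQC_iff _).1 h _ _ _ hcov
  refine ⟨s.card, fun k => (s.equivFin.symm k).1.1, fun k => (s.equivFin.symm k).1.2.1,
    fun k => (s.equivFin.symm k).1.2.2, ?_⟩
  apply mem_of_cov_epsMap
  have aux : ∀ (i i' : s), i' = i →
      ∃ t : eps J i.1.1 ⟶ eps J i'.1.1, t ≫ epsMap J i'.1.2.1 = epsMap J i.1.2.1 := by
    rintro i _ rfl
    exact ⟨𝟙 _, Category.id_comp _⟩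
  exact cov_of_factor hs _ (fun i => ⟨s.equivFin i, aux i _ (s.equivFin.symm_apply_apply i)⟩)

/-- Maps `eps J U ⟶ eps J X` are locally induced by morphisms of the site. -/
theorem exists_local_rep {U X : C} (hU : IsQCSite J U) (α : eps J U ⟶ eps J X) :
    ∃ (n : ℕ) (V : Fin n → C) (r : ∀ k, V k ⟶ U) (h : ∀ k, V k ⟶ X),
      Sieve.ofArrows V r ∈ J U ∧ ∀ k, epsMap J (r k) ≫ α = epsMap J (h k) := by
  obtain ⟨R, hR, hRf⟩ := exists_eta_eq X (α.hom.app (op U) (eta J U (𝟙 U)))
  obtain ⟨n, V, r, hrR, hcov⟩ := hU R hR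
  choose h hh using fun k => hRf (r k) (hrR k)
  refine ⟨n, V, r, h, hcov, fun k => ?_⟩
  apply epsHom_ext
  show α.hom.app _ ((epsMap J (r k)).hom.app _ (eta J (V k) (𝟙 _))) = _
  rw [epsMap_eta, Category.id_comp, hom_eta, ← hh k, epsMap_eta, Category.id_comp]

theorem isPullback_epsMap [HasPullbacks C] {X Y Z : C} (f : X ⟶ Z) (g : Y ⟶ Z) :
    IsPullback (epsMap J (pullback.fst f g)) (epsMap J (pullback.snd f g)) (epsMap J f)
      (epsMap J g) :=
  (IsPullback.of_hasPullback f g).map (yoneda ⋙ presheafToSheaf J (Type u))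

theorem isQC_pullback_eps [HasPullbacks C] (hC : ∀ X : C, IsQCSite J X) {U W X : C}
    (α : eps J U ⟶ eps J X) (β : eps J W ⟶ eps J X) : IsQC (pullback α β) := by
  obtain ⟨n, V, r, h, hr, hrh⟩ := exists_local_rep (hC U) α
  obtain ⟨m, V', s, h', hs, hsh⟩ := exists_local_rep (hC W) β
  refine isQC_of_finite_cov _
    (cov_pullback_map α β _ (cov_epsMap_of_mem r hr) _ (cov_epsMap_of_mem s hs)) ?_
  rintro ⟨k, l⟩
  refine isQC_pullback_congr (hrh k) (hsh l) ?_
  exact isQC_of_iso (isPullback_epsMap (h k) (h' l)).isoPullback (isQC_eps (hC _))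

theorem isQC_of_mem_range_eps (hC : ∀ X : C, IsQCSite J X) :
    ∀ K ∈ Set.range (eps J), IsQC K := by
  rintro _ ⟨U, rfl⟩
  exact isQC_eps (hC U)

/-- On a site with fibre products all of whose objects are quasi-compact, the sheaves associated
to representable presheaves are coherent. -/
theorem isCoherent_eps [HasPullbacks C] (hC : ∀ X : C, IsQCSite J X) (X : C) :
    IsCoherent (eps J X) := by
  refine ⟨isQC_eps (hC X), ?_⟩
  intro A B a b hA hB
  obtain ⟨T₁, _, P, p, hP, hp⟩ := exists_finite_cov_of_generating (isGenerating_eps (J := J)) hA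
  obtain ⟨T₂, _, Q, q, hQ, hq⟩ := exists_finite_cov_of_generating (isGenerating_eps (J := J)) hB
  refine isQC_of_finite_cov _ (cov_pullback_map a b p hp q hq) ?_
  rintro ⟨s, t⟩
  have aux : ∀ (L M : Sh J) (l : L ⟶ eps J X) (m : M ⟶ eps J X), L ∈ Set.range (eps J) →
      M ∈ Set.range (eps J) → IsQC (pullback l m) := by
    rintro _ _ l m ⟨U, rfl⟩ ⟨W, rfl⟩
    exact isQC_pullback_eps hC l m
  exact aux _ _ _ _ (hP s) (hQ t)

theorem isQS_of_iso {X Y : Sh J} (e : X ≅ Y) (h : IsQS Y) : IsQS X :=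
  isQS_of_mono e.hom h

theorem qsHom_epsMap [HasPullbacks C] (hC : ∀ X : C, IsQCSite J X) {U X : C} (h : U ⟶ X) :
    qsHom J (epsMap J h) := by
  change qcHom J (pullback.diagonal (epsMap J h))
  refine qcHom_of_isQC_of_isQS _ (isQC_eps (hC U)) ?_
  exact isQS_of_iso (isPullback_epsMap h h).isoPullback.symm (isCoherent_eps hC _).2

/-- Every morphism between sheaves associated to representables is quasi-separated. -/
theorem qsHom_of_eps [HasPullbacks C] (hC : ∀ X : C, IsQCSite J X) {U X : C}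
    (μ : eps J U ⟶ eps J X) : qsHom J μ := by
  obtain ⟨n, V, r, h, hr, hrh⟩ := exists_local_rep (hC U) μ
  refine qsHom_of_cov_source μ (fun k => epsMap J (r k)) (cov_epsMap_of_mem r hr)
    (fun k => ?_) (fun k => ?_)
  · exact qcHom_of_isQC_of_isQS _ (isQC_eps (hC _)) (isCoherent_eps hC _).2
  · rw [hrh k]
    exact qsHom_epsMap hC (h k)

/-- Every morphism from a quasi-separated object to `eps J X` is quasi-separated. -/
theorem qsHom_to_eps [HasPullbacks C] (hC : ∀ X : C, IsQCSite J X) {X : C} {G : Sh J}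
    (g : G ⟶ eps J X) (hG : IsQS G) : qsHom J g := by
  obtain ⟨ι, F, π, hF, hπ⟩ := exists_cov_of_generating (isGenerating_eps (J := J)) G
  have hqcS := isQC_of_mem_range_eps hC
  change qcHom J (pullback.diagonal g)
  refine qcHom_of_cov_target' hqcS isGenerating_eps (pullback.diagonal g) _
    (cov_pullback_map g g π hπ π hπ) _ _
    (fun x => pullback_map_diagonal_isPullback (π x.1) (π x.2) g) (fun x => ?_)
  refine qcHom_of_isQC_of_isQS _ (hG _ _ _ _ (hqcS _ (hF x.1)) (hqcS _ (hF x.2))) ?_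
  have aux : ∀ (L M : Sh J) (l : L ⟶ eps J X) (m : M ⟶ eps J X), L ∈ Set.range (eps J) →
      M ∈ Set.range (eps J) → IsQS (pullback l m) := by
    rintro _ _ l m ⟨U, rfl⟩ ⟨W, rfl⟩
    exact isQS_of_qsHom (pullback.fst l m) ((qsHom J).pullback_fst l m (qsHom_of_eps hC m))
      (isCoherent_eps hC U).2
  exact aux _ _ _ _ (hF x.1) (hF x.2)

end Groth.Agent.H25.TF
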