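import Groth.Agent.H25.ToposFin5
import Mathlib.CategoryTheory.Sites.Pullback

/-!
# Toolkit for finiteness conditions in a sheaf topos, part 6: inverse images of sheaves associated
to representables.
-/

set_option autoImplicit false
open CategoryTheory CategoryTheory.Limits Opposite
universe w w' u
open ToposFin

namespace Groth.Agent.H25.TF

variable {C : Type u} [SmallCategory C] {J : GrothendieckTopology C}

theorem hasQCGenerators_of_isQCSite (hC : ∀ X : C, IsQCSite J X) : HasQCGenerators J := by
  intro X
  obtain ⟨ι, F, π, hF, hπ⟩ := exists_cov_of_generating (isGenerating_eps (J := J)) X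
  exact ⟨ι, F, π, fun i => isQC_of_mem_range_eps hC _ (hF i), (epi_sigma_iff π).2 hπ⟩

theorem isCoherent_of_iso {X Y : Sh J} (e : X ≅ Y) (h : IsCoherent Y) : IsCoherent X :=
  ⟨isQC_of_iso e.symm h.1, isQS_of_iso e h.2⟩

/-- The functor of sections over `Y`. -/
def secFunctor (J : GrothendieckTopology C) (Y : C) : Sh J ⥤ Type u :=
  sheafToPresheaf J (Type u) ⋙ (evaluation Cᵒᵖ (Type u)).obj (op Y)

/-- `eps J Y` corepresents the functor of sections over `Y`. -/
noncomputable def corepEps (J : GrothendieckTopology C) (Y : C) :
    (secFunctor J Y).CorepresentableBy (eps J Y) where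
  homEquiv {P} :=
    { toFun := fun φ => φ.hom.app (op Y) (eta J Y (𝟙 Y))
      invFun := fun x => secMap x
      left_inv := fun φ => (epsHom_eq_secMap φ).symm
      right_inv := fun x => by
        show (secMap x).hom.app (op Y) (eta J Y (𝟙 Y)) = x
        rw [secMap_eta, op_id, Functor.map_id_apply] }
  homEquiv_comp g f := rfl

variable {D : Type u} [SmallCategory D] {K : GrothendieckTopology D}

/-- The inverse image of `eps J X` corepresents sections over `G.obj X`. -/
noncomputable def corepPullback (G : C ⥤ D) [Functor.IsContinuous G J K] (F : Sh J ⥤ Sh K)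
    (adj : F ⊣ G.sheafPushforwardContinuous (Type u) J K) (X : C) :
    (secFunctor K (G.obj X)).CorepresentableBy (F.obj (eps J X)) where
  homEquiv {P} := (adj.homEquiv (eps J X) P).trans (corepEps J X).homEquiv
  homEquiv_comp g f := by
    simp only [Equiv.trans_apply, Adjunction.homEquiv_naturality_right]
    rfl

/-- The inverse image of `eps J X` is `eps K (G.obj X)`. -/
noncomputable def pullbackEpsIso (G : C ⥤ D) [Functor.IsContinuous G J K] (F : Sh J ⥤ Sh K)
    (adj : F ⊣ G.sheafPushforwardContinuous (Type u) J K) (X : C) :
    F.obj (eps J X) ≅ eps K (G.obj X) :=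
  (corepPullback G F adj X).uniqueUpToIso (corepEps K (G.obj X))

end Groth.Agent.H25.TF
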