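import Groth.Agent.H25.ToposFin6
import Mathlib.CategoryTheory.Sites.RegularEpi
import Mathlib.CategoryTheory.Limits.FunctorCategory.Basic
import Mathlib.CategoryTheory.Filtered.Basic
import Mathlib.CategoryTheory.Limits.Types.Filtered

/-!
# Toolkit for finiteness conditions in a sheaf topos, part 7: filtered colimits
(SGA 4 VI 1.23, 1.24).
-/

set_option autoImplicit false
open CategoryTheory CategoryTheory.Limits Opposite
universe w w' u
open ToposFin

namespace Groth.Agent.H25.TF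

variable {C : Type u} [SmallCategory C] {J : GrothendieckTopology C}

section Post

variable {I : Type u} [SmallCategory I]

theorem post_ι (D : I ⥤ Sh J) (X : Sh J) (i : I) (f : X ⟶ D.obj i) :
    colimit.post D (coyoneda.obj (op X)) (colimit.ι (D ⋙ coyoneda.obj (op X)) i f) =
      f ≫ colimit.ι D i :=
  ConcreteCategory.congr_hom (colimit.ι_post D (coyoneda.obj (op X)) i) f

theorem injective_post_iff [IsFiltered I] (D : I ⥤ Sh J) (X : Sh J) :
    Function.Injective (colimit.post D (coyoneda.obj (op X))) ↔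
      ∀ (i : I) (f g : X ⟶ D.obj i), f ≫ colimit.ι D i = g ≫ colimit.ι D i →
        ∃ (k : I) (a : i ⟶ k), f ≫ D.map a = g ≫ D.map a := by
  constructor
  · intro h i f g hfg
    have h1 : colimit.ι (D ⋙ coyoneda.obj (op X)) i f =
        colimit.ι (D ⋙ coyoneda.obj (op X)) i g := by
      apply h
      rw [post_ι, post_ι, hfg]
    obtain ⟨k, a, ha⟩ := (Types.FilteredColimit.isColimit_eq_iff'
      (colimit.isColimit (D ⋙ coyoneda.obj (op X))) f g).1 h1
    exact ⟨k, a, ha⟩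
  · intro h x y hxy
    obtain ⟨i, f, g, hf, hg⟩ := Types.FilteredColimit.jointly_surjective_of_isColimit₂
      (colimit.isColimit (D ⋙ coyoneda.obj (op X))) x y
    have hf' : colimit.ι (D ⋙ coyoneda.obj (op X)) i f = x := hf
    have hg' : colimit.ι (D ⋙ coyoneda.obj (op X)) i g = y := hg
    rw [← hf', ← hg', post_ι, post_ι] at hxy
    obtain ⟨k, a, ha⟩ := h i f g hxy
    rw [← hf', ← hg']
    exact (Types.FilteredColimit.isColimit_eq_iff'
      (colimit.isColimit (D ⋙ coyoneda.obj (op X))) f g).2 ⟨k, a, ha⟩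

theorem surjective_post_iff (D : I ⥤ Sh J) (X : Sh J) :
    Function.Surjective (colimit.post D (coyoneda.obj (op X))) ↔
      ∀ φ : X ⟶ colimit D, ∃ (i : I) (ψ : X ⟶ D.obj i), ψ ≫ colimit.ι D i = φ := by
  constructor
  · intro h φ
    obtain ⟨x, hx⟩ := h φ
    obtain ⟨i, ψ, hψ⟩ := Types.jointly_surjective' x
    refine ⟨i, ψ, ?_⟩
    rw [← post_ι, hψ]
    exact hx
  · intro h φ
    obtain ⟨i, ψ, hψ⟩ := h φ
    exact ⟨colimit.ι (D ⋙ coyoneda.obj (op X)) i ψ, (post_ι D X i ψ).trans hψ⟩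

/-- Two sections of a member of a filtered diagram which agree in the colimit agree locally at
a later stage. -/
theorem exists_local_eq [IsFiltered I] (D : I ⥤ Sh J) {i : I} {U : C}
    (y y' : (D.obj i).obj.obj (op U))
    (h : (colimit.ι D i).hom.app (op U) y = (colimit.ι D i).hom.app (op U) y') :
    ∃ S : Sieve U, S ∈ J U ∧ ∀ ⦃V : C⦄ (r : V ⟶ U), S r → ∃ (k : I) (a : i ⟶ k),
      (D.map a).hom.app (op V) ((D.obj i).obj.map r.op y) =
        (D.map a).hom.app (op V) ((D.obj i).obj.map r.op y') := by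
  obtain ⟨E, ⟨hE⟩⟩ : ∃ E : Cocone (D ⋙ sheafToPresheaf J (Type u)), Nonempty (IsColimit E) :=
    ⟨colimit.cocone _, ⟨colimit.isColimit _⟩⟩
  have hc : IsColimit (Sheaf.sheafifyCocone E) := Sheaf.isColimitSheafifyCocone E hE
  have he : ∀ k, colimit.ι D k ≫ ((colimit.isColimit D).coconePointUniqueUpToIso hc).hom =
      (Sheaf.sheafifyCocone E).ι.app k := fun k =>
    IsColimit.comp_coconePointUniqueUpToIso_hom (colimit.isColimit D) hc k
  have h1 : ((Sheaf.sheafifyCocone E).ι.app i).hom.app (op U) y =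
      ((Sheaf.sheafifyCocone E).ι.app i).hom.app (op U) y' := by
    rw [← he i]
    exact congrArg
      (fun z => ((colimit.isColimit D).coconePointUniqueUpToIso hc).hom.hom.app (op U) z) h
  rw [Sheaf.sheafifyCocone_ι_app_val] at h1
  have h2 : (toSheafify J E.pt).app (op U) ((E.ι.app i).app (op U) y) =
      (toSheafify J E.pt).app (op U) ((E.ι.app i).app (op U) y') := h1
  refine ⟨_, Presheaf.equalizerSieve_mem J (toSheafify J E.pt) _ _ h2, fun V r hr => ?_⟩
  have hr2 : E.pt.map r.op ((E.ι.app i).app (op U) y) =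
      E.pt.map r.op ((E.ι.app i).app (op U) y') := hr
  have n1 := NatTrans.naturality_apply (E.ι.app i) r.op y
  have n2 := NatTrans.naturality_apply (E.ι.app i) r.op y'
  have hr' : (E.ι.app i).app (op V) ((D.obj i).obj.map r.op y) =
      (E.ι.app i).app (op V) ((D.obj i).obj.map r.op y') := n1.trans (hr2.trans n2.symm)
  have hev := isColimitOfPreserves ((evaluation Cᵒᵖ (Type u)).obj (op V)) hE
  obtain ⟨k, a, ha⟩ := (Types.FilteredColimit.isColimit_eq_iff' hev
    ((D.obj i).obj.map r.op y) ((D.obj i).obj.map r.op y')).1 hr'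
  exact ⟨k, a, ha⟩

theorem exists_common_factor [IsFiltered I] {i : I} (s : Finset (Σ k : I, (i ⟶ k))) :
    ∃ (k : I) (a : i ⟶ k), ∀ p ∈ s, ∃ b : p.1 ⟶ k, p.2 ≫ b = a := by
  classical
  induction s using Finset.induction_on with
  | empty => exact ⟨i, 𝟙 i, fun p hp => by simp at hp⟩
  | insert p s _ ih =>
    obtain ⟨k₁, a₁, h₁⟩ := ih
    obtain ⟨k, l, r, hlr⟩ := IsFiltered.span p.2 a₁
    refine ⟨k, a₁ ≫ r, fun q hq => ?_⟩
    rcases Finset.mem_insert.1 hq with rfl | hq'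
    · exact ⟨l, hlr⟩
    · obtain ⟨b, hb⟩ := h₁ q hq'
      exact ⟨b ≫ r, by rw [← Category.assoc, hb]⟩

/-- SGA 4 VI 1.23 (i), direct part: maps from a quasi-compact object into a filtered diagram
which agree in the colimit agree at a later stage. -/
theorem exists_map_eq_of_isQC [IsFiltered I] {X : Sh J} (hX : IsQC X) (D : I ⥤ Sh J) (i : I)
    (f g : X ⟶ D.obj i) (h : f ≫ colimit.ι D i = g ≫ colimit.ι D i) :
    ∃ (k : I) (a : i ⟶ k), f ≫ D.map a = g ≫ D.map a := by
  have hcov : Cov (fun p : Σ k : I, (i ⟶ k) =>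
      equalizer.ι (f ≫ D.map p.2) (g ≫ D.map p.2)) := by
    apply cov_of_lsurj
    intro U x
    have hx : (colimit.ι D i).hom.app (op U) (f.hom.app (op U) x) =
        (colimit.ι D i).hom.app (op U) (g.hom.app (op U) x) :=
      congrArg (fun t : X ⟶ colimit D => t.hom.app (op U) x) h
    obtain ⟨S, hS, hSf⟩ := exists_local_eq D _ _ hx
    refine ⟨S, hS, fun V r hr => ?_⟩
    obtain ⟨k, a, ha⟩ := hSf r hr
    obtain ⟨s, hs0⟩ : ∃ s : eps J V ⟶ X,
        s.hom.app (op V) (eta J V (𝟙 V)) = X.obj.map r.op x :=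
      ⟨secMap (X.obj.map r.op x), by rw [secMap_eta, op_id, Functor.map_id_apply]⟩
    have hs : s ≫ (f ≫ D.map a) = s ≫ (g ≫ D.map a) := by
      apply epsHom_ext
      have n1 := NatTrans.naturality_apply f.hom r.op x
      have n2 := NatTrans.naturality_apply g.hom r.op x
      show (D.map a).hom.app (op V) (f.hom.app (op V) (s.hom.app (op V) (eta J V (𝟙 V)))) =
        (D.map a).hom.app (op V) (g.hom.app (op V) (s.hom.app (op V) (eta J V (𝟙 V))))
      rw [hs0, n1, n2]
      exact ha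
    refine ⟨⟨k, a⟩, (equalizer.lift s hs).hom.app (op V) (eta J V (𝟙 V)), ?_⟩
    have h3 : equalizer.lift s hs ≫ equalizer.ι (f ≫ D.map a) (g ≫ D.map a) = s :=
      equalizer.lift_ι s hs
    exact (congrArg (fun t : eps J V ⟶ X => t.hom.app (op V) (eta J V (𝟙 V))) h3).trans hs0
  obtain ⟨s, hs⟩ := (isQC_iff X).1 hX _ _ _ hcov
  obtain ⟨k, a, hka⟩ := exists_common_factor s
  refine ⟨k, a, ?_⟩
  apply hs
  intro p
  obtain ⟨b, hb⟩ := hka p.1 p.2
  show equalizer.ι (f ≫ D.map p.1.2) (g ≫ D.map p.1.2) ≫ f ≫ D.map a =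
    equalizer.ι (f ≫ D.map p.1.2) (g ≫ D.map p.1.2) ≫ g ≫ D.map a
  have hc := equalizer.condition (f ≫ D.map p.1.2) (g ≫ D.map p.1.2)
  rw [← hb, D.map_comp, reassoc_of% hc]

end Post

section CQ

variable {A : Type u} {H : A → Sh J} {K : Sh J} (l r : ∀ α, H α ⟶ K)

/-- The coequalizer of the finitely many pairs `(l α, r α)`, `α ∈ t`. -/
noncomputable def cqObj (t : Finset A) : Sh J :=
  coequalizer (Sigma.desc fun α : t => l α) (Sigma.desc fun α : t => r α)

noncomputable def cqπ (t : Finset A) : K ⟶ cqObj l r t := coequalizer.π _ _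

theorem cqπ_cond (t : Finset A) {α : A} (hα : α ∈ t) :
    l α ≫ cqπ l r t = r α ≫ cqπ l r t := by
  have e1 : Sigma.ι (fun α : t => H α) ⟨α, hα⟩ ≫ Sigma.desc (fun α : t => l α) = l α :=
    Sigma.ι_desc _ _
  have e2 : Sigma.ι (fun α : t => H α) ⟨α, hα⟩ ≫ Sigma.desc (fun α : t => r α) = r α :=
    Sigma.ι_desc _ _
  have h := coequalizer.condition (Sigma.desc fun α : t => l α) (Sigma.desc fun α : t => r α)
  calc l α ≫ cqπ l r t
      = (Sigma.ι (fun α : t => H α) ⟨α, hα⟩ ≫ Sigma.desc (fun α : t => l α)) ≫ cqπ l r t := by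
        rw [e1]
    _ = (Sigma.ι (fun α : t => H α) ⟨α, hα⟩ ≫ Sigma.desc (fun α : t => r α)) ≫ cqπ l r t := by
        rw [Category.assoc, Category.assoc]
        exact congrArg (fun m => Sigma.ι (fun α : t => H α) ⟨α, hα⟩ ≫ m) h
    _ = r α ≫ cqπ l r t := by rw [e2]

theorem cq_hom_ext {t : Finset A} {Z : Sh J} {a b : cqObj l r t ⟶ Z}
    (h : cqπ l r t ≫ a = cqπ l r t ≫ b) : a = b :=
  coequalizer.hom_ext h

noncomputable def cqDesc (t : Finset A) {Z : Sh J} (g : K ⟶ Z)
    (hg : ∀ α ∈ t, l α ≫ g = r α ≫ g) : cqObj l r t ⟶ Z :=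
  coequalizer.desc g (by
    apply Sigma.hom_ext
    intro α
    rw [Sigma.ι_desc_assoc, Sigma.ι_desc_assoc]
    exact hg α.1 α.2)

theorem cqπ_desc (t : Finset A) {Z : Sh J} (g : K ⟶ Z) (hg : ∀ α ∈ t, l α ≫ g = r α ≫ g) :
    cqπ l r t ≫ cqDesc l r t g hg = g :=
  coequalizer.π_desc _ _

noncomputable def cqMap {t t' : Finset A} (h : t ⊆ t') : cqObj l r t ⟶ cqObj l r t' :=
  cqDesc l r t (cqπ l r t') (fun _ hα => cqπ_cond l r t' (h hα))

theorem cqπ_map {t t' : Finset A} (h : t ⊆ t') : cqπ l r t ≫ cqMap l r h = cqπ l r t' :=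
  cqπ_desc l r t _ _

theorem cqMap_desc {t t' : Finset A} (h : t ⊆ t') {Z : Sh J} (g : K ⟶ Z)
    (hg : ∀ α ∈ t', l α ≫ g = r α ≫ g) :
    cqMap l r h ≫ cqDesc l r t' g hg = cqDesc l r t g (fun α hα => hg α (h hα)) := by
  apply cq_hom_ext
  rw [← Category.assoc, cqπ_map, cqπ_desc, cqπ_desc]

/-- The filtered diagram of the finite coequalizers. -/
noncomputable abbrev cqFunctor : Finset A ⥤ Sh J where
  obj t := cqObj l r t
  map f := cqMap l r (leOfHom f)
  map_id t := by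
    apply cq_hom_ext
    rw [cqπ_map, Category.comp_id]
  map_comp f g := by
    apply cq_hom_ext
    rw [cqπ_map, ← Category.assoc, cqπ_map, cqπ_map]

theorem cqπ_functor_map {t t' : Finset A} (f : t ⟶ t') :
    cqπ l r t ≫ (cqFunctor l r).map f = cqπ l r t' :=
  cqπ_map l r (leOfHom f)

theorem cqπ_ι (t : Finset A) :
    cqπ l r t ≫ colimit.ι (cqFunctor l r) t = cqπ l r ∅ ≫ colimit.ι (cqFunctor l r) ∅ := by
  have h := colimit.w (cqFunctor l r)
    (homOfLE (show (∅ : Finset A) ≤ t from Finset.empty_subset t))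
  rw [← h, ← Category.assoc, cqπ_functor_map]

variable {X : Sh J} (p : K ⟶ X) (hp : ∀ α, l α ≫ p = r α ≫ p)

/-- The cocone over the diagram of finite coequalizers given by a map coequalizing all pairs. -/
noncomputable abbrev cqCocone : Cocone (cqFunctor l r) where
  pt := X
  ι :=
    { app := fun t => cqDesc l r t p (fun α _ => hp α)
      naturality := fun t t' f => by
        refine (cqMap_desc l r (leOfHom f) p (fun α _ => hp α)).trans ?_
        exact (Category.comp_id _).symm }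

theorem cq_ι_desc (t : Finset A) :
    colimit.ι (cqFunctor l r) t ≫ colimit.desc (cqFunctor l r) (cqCocone l r p hp) =
      cqDesc l r t p (fun α _ => hp α) :=
  colimit.ι_desc _ _

theorem exists_to_colimit
    (huniv : ∀ ⦃Z : Sh J⦄ (g : K ⟶ Z), (∀ α, l α ≫ g = r α ≫ g) → ∃ h : X ⟶ Z, p ≫ h = g) :
    ∃ φ : X ⟶ colimit (cqFunctor l r),
      p ≫ φ = cqπ l r ∅ ≫ colimit.ι (cqFunctor l r) ∅ := by
  apply huniv
  intro α
  have h1 := cqπ_ι l r {α}
  rw [← h1, ← Category.assoc, ← Category.assoc,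
    cqπ_cond l r {α} (Finset.mem_singleton_self α)]

theorem exists_retract_of_surj [Epi p]
    (huniv : ∀ ⦃Z : Sh J⦄ (g : K ⟶ Z), (∀ α, l α ≫ g = r α ≫ g) → ∃ h : X ⟶ Z, p ≫ h = g)
    (hsurj : ∀ φ : X ⟶ colimit (cqFunctor l r), ∃ (t : Finset A)
      (ψ : X ⟶ (cqFunctor l r).obj t), ψ ≫ colimit.ι (cqFunctor l r) t = φ) :
    ∃ (t : Finset A) (ψ : X ⟶ cqObj l r t), ψ ≫ cqDesc l r t p (fun α _ => hp α) = 𝟙 X := by
  obtain ⟨φ, hφ⟩ := exists_to_colimit l r p huniv
  obtain ⟨t, ψ, hψ⟩ := hsurj φ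
  refine ⟨t, ψ, ?_⟩
  rw [← cq_ι_desc l r p hp t, ← Category.assoc, hψ, ← cancel_epi p, ← Category.assoc, hφ,
    Category.assoc, cq_ι_desc, cqπ_desc, Category.comp_id]

end CQ

/-- SGA 4 VI 1.23 (i), converse part. -/
theorem isQC_of_inj {X : Sh J}
    (h : ∀ (I : Type u) [SmallCategory I] [IsFiltered I] (D : I ⥤ Sh J) (i : I)
      (f g : X ⟶ D.obj i), f ≫ colimit.ι D i = g ≫ colimit.ι D i →
        ∃ (k : I) (a : i ⟶ k), f ≫ D.map a = g ≫ D.map a) : IsQC X := by
  classical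
  rw [isQC_iff]
  intro ι F π hπ
  obtain ⟨l, hl⟩ : ∃ l : ∀ i, F i ⟶ X ⨿ X, ∀ i, l i = π i ≫ coprod.inl := ⟨_, fun _ => rfl⟩
  obtain ⟨r, hr⟩ : ∃ r : ∀ i, F i ⟶ X ⨿ X, ∀ i, r i = π i ≫ coprod.inr := ⟨_, fun _ => rfl⟩
  have key : (coprod.inl ≫ cqπ l r ∅) ≫ colimit.ι (cqFunctor l r) ∅ =
      (coprod.inr ≫ cqπ l r ∅) ≫ colimit.ι (cqFunctor l r) ∅ := by
    apply hπ
    intro i
    have e1 : cqπ l r {i} ≫ colimit.ι (cqFunctor l r) {i} =
        cqπ l r ∅ ≫ colimit.ι (cqFunctor l r) ∅ := cqπ_ι l r {i}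
    have hc : l i ≫ cqπ l r {i} = r i ≫ cqπ l r {i} :=
      cqπ_cond l r {i} (Finset.mem_singleton_self i)
    rw [hl, hr, Category.assoc, Category.assoc] at hc
    rw [Category.assoc, Category.assoc, ← e1]
    have h2 := congrArg (fun m => m ≫ colimit.ι (cqFunctor l r) {i}) hc
    simpa only [Category.assoc] using h2
  obtain ⟨t, a, ha⟩ := h (Finset ι) (cqFunctor l r) ∅ _ _ key
  rw [Category.assoc, Category.assoc, cqπ_functor_map] at ha
  refine ⟨t, ?_⟩
  intro Z x y hxy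
  have hg : ∀ α ∈ t, l α ≫ coprod.desc x y = r α ≫ coprod.desc x y := by
    intro α hα
    rw [hl, hr, Category.assoc, Category.assoc, coprod.inl_desc, coprod.inr_desc]
    exact hxy ⟨α, hα⟩
  have e3 := cqπ_desc l r t (coprod.desc x y) hg
  calc x = coprod.inl ≫ coprod.desc x y := (coprod.inl_desc x y).symm
    _ = coprod.inl ≫ cqπ l r t ≫ cqDesc l r t (coprod.desc x y) hg := by rw [e3]
    _ = coprod.inr ≫ cqπ l r t ≫ cqDesc l r t (coprod.desc x y) hg := by
        rw [← Category.assoc, ha, Category.assoc]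
    _ = coprod.inr ≫ coprod.desc x y := by rw [e3]
    _ = y := coprod.inr_desc x y

/-- In a sheaf topos every epimorphism is the coequalizer of its kernel pair. -/
theorem exists_desc_of_epi {K X Z : Sh J} (p : K ⟶ X) [Epi p] (g : K ⟶ Z)
    (hg : pullback.fst p p ≫ g = pullback.snd p p ≫ g) : ∃ h : X ⟶ Z, p ≫ h = g := by
  have hr : RegularEpi p := regularEpiOfEpi p
  have e1 : pullback.lift hr.left hr.right hr.w ≫ pullback.fst p p = hr.left :=
    pullback.lift_fst _ _ _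
  have e2 : pullback.lift hr.left hr.right hr.w ≫ pullback.snd p p = hr.right :=
    pullback.lift_snd _ _ _
  have h1 : hr.left ≫ g = hr.right ≫ g := by
    calc hr.left ≫ g
        = (pullback.lift hr.left hr.right hr.w ≫ pullback.fst p p) ≫ g := by rw [e1]
      _ = (pullback.lift hr.left hr.right hr.w ≫ pullback.snd p p) ≫ g := by
          rw [Category.assoc, Category.assoc, hg]
      _ = hr.right ≫ g := by rw [e2]
  exact ⟨(Cofork.IsColimit.desc' hr.isColimit g h1).1,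
    (Cofork.IsColimit.desc' hr.isColimit g h1).2⟩

theorem nonempty_coeq_iso {K X L : Sh J} (p : K ⟶ X) [Epi p] (q : L ⟶ pullback p p) [Epi q] :
    Nonempty (coequalizer (q ≫ pullback.fst p p) (q ≫ pullback.snd p p) ≅ X) := by
  have w : (q ≫ pullback.fst p p) ≫ p = (q ≫ pullback.snd p p) ≫ p := by
    rw [Category.assoc, Category.assoc, pullback.condition]
  obtain ⟨h, hh⟩ := exists_desc_of_epi p
    (coequalizer.π (q ≫ pullback.fst p p) (q ≫ pullback.snd p p)) (by
      rw [← cancel_epi q, ← Category.assoc, ← Category.assoc]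
      exact coequalizer.condition _ _)
  refine ⟨⟨coequalizer.desc p w, h, ?_, ?_⟩⟩
  · apply coequalizer.hom_ext
    rw [← Category.assoc, coequalizer.π_desc, hh, Category.comp_id]
  · rw [← cancel_epi p, ← Category.assoc, hh, coequalizer.π_desc, Category.comp_id]

theorem exists_common_target {I : Type u} [SmallCategory I] [IsFiltered I] {T : Type w}
    [Finite T] (i : T → I) : ∃ j : I, ∀ n, Nonempty (i n ⟶ j) := by
  classical
  have := Fintype.ofFinite T
  obtain ⟨j, hj⟩ := IsFiltered.sup_objs_exists (Finset.univ.image i)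
  exact ⟨j, fun n => hj (Finset.mem_image_of_mem i (Finset.mem_univ n))⟩

/-- SGA 4 VI 1.23 (ii), surjectivity. -/
theorem exists_lift_of_isCoherent (hE : HasQCGenerators J) {X : Sh J} (hX : IsCoherent X)
    {I : Type u} [SmallCategory I] [IsFiltered I] (D : I ⥤ Sh J) (φ : X ⟶ colimit D) :
    ∃ (i : I) (ψ : X ⟶ D.obj i), ψ ≫ colimit.ι D i = φ := by
  have hgen := isGenerating_of_hasQCGenerators hE
  have hcov : Cov (fun i => colimit.ι D i) := fun Z a b hab => colimit.hom_ext hab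
  obtain ⟨T, _, K, k, i, m, hKS, hkm, hk⟩ := exists_finite_refinement hgen hX.1 φ _ hcov
  obtain ⟨j, hj⟩ := exists_common_target i
  obtain ⟨b⟩ : Nonempty (∀ n, i n ⟶ j) := ⟨fun n => (hj n).some⟩
  have hp : Epi (Sigma.desc k) := (epi_sigma_iff k).2 hk
  have hG : IsQC (∐ K) := isQC_of_finite_cov (fun n => Sigma.ι K n)
    (cov_inj (Cofan.mk (∐ K) (Sigma.ι K)) (coproductIsCoproduct K)) (fun n => hKS n)
  have hR : IsQC (pullback (Sigma.desc k) (Sigma.desc k)) := hX.2 _ _ _ _ hG hG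
  have hpψ : Sigma.desc k ≫ φ =
      Sigma.desc (fun n => m n ≫ D.map (b n)) ≫ colimit.ι D j := by
    apply Sigma.hom_ext
    intro n
    rw [Sigma.ι_desc_assoc, Sigma.ι_desc_assoc, hkm n, Category.assoc, colimit.w]
  obtain ⟨l, a, hla⟩ := exists_map_eq_of_isQC hR D j
    (pullback.fst _ _ ≫ Sigma.desc (fun n => m n ≫ D.map (b n)))
    (pullback.snd _ _ ≫ Sigma.desc (fun n => m n ≫ D.map (b n))) (by
      rw [Category.assoc, Category.assoc, ← hpψ, ← Category.assoc, ← Category.assoc,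
        pullback.condition])
  obtain ⟨χ, hχ⟩ := exists_desc_of_epi (Sigma.desc k)
    (Sigma.desc (fun n => m n ≫ D.map (b n)) ≫ D.map a) (by
      rw [← Category.assoc, ← Category.assoc]
      exact hla)
  refine ⟨l, χ, ?_⟩
  rw [← cancel_epi (Sigma.desc k), ← Category.assoc, hχ, Category.assoc, colimit.w, hpψ]

end Groth.Agent.H25.TF
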