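import Groth.Agent.H25.ToposFin7

/-!
# Toolkit for finiteness conditions in a sheaf topos, part 8: objects of finite presentation
(SGA 4 VI 1.23, 1.24).
-/

set_option autoImplicit false
open CategoryTheory CategoryTheory.Limits Opposite
universe w w' u
open ToposFin

namespace Groth.Agent.H25.TF

variable {C : Type u} [SmallCategory C] {J : GrothendieckTopology C}

/-- Elementwise form of the injectivity of the comparison maps. -/
def InjP (X : Sh J) : Prop :=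
  ∀ (I : Type u) [SmallCategory I] [IsFiltered I] (D : I ⥤ Sh J) (i : I) (f g : X ⟶ D.obj i),
    f ≫ colimit.ι D i = g ≫ colimit.ι D i → ∃ (k : I) (a : i ⟶ k), f ≫ D.map a = g ≫ D.map a

/-- Elementwise form of the surjectivity of the comparison maps. -/
def SurjP (X : Sh J) : Prop :=
  ∀ (I : Type u) [SmallCategory I] [IsFiltered I] (D : I ⥤ Sh J) (φ : X ⟶ colimit D),
    ∃ (i : I) (ψ : X ⟶ D.obj i), ψ ≫ colimit.ι D i = φ

theorem isFP_iff (X : Sh J) : IsFP X ↔ InjP X ∧ SurjP X := by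
  constructor
  · intro h
    exact ⟨fun I _ _ D => (injective_post_iff D X).1 (h I D).1,
      fun I _ _ D => (surjective_post_iff D X).1 (h I D).2⟩
  · intro h I _ _ D
    exact ⟨(injective_post_iff D X).2 (h.1 I D), (surjective_post_iff D X).2 (h.2 I D)⟩

theorem injP_of_isQC {X : Sh J} (hX : IsQC X) : InjP X :=
  fun _ _ _ D i f g h => exists_map_eq_of_isQC hX D i f g h

theorem isQC_of_injP {X : Sh J} (h : InjP X) : IsQC X := isQC_of_inj h

theorem isFP_of_isCoherent (hE : HasQCGenerators J) {X : Sh J} (hX : IsCoherent X) : IsFP X :=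
  (isFP_iff X).2 ⟨injP_of_isQC hX.1, fun _ _ _ D φ => exists_lift_of_isCoherent hE hX D φ⟩

theorem injP_coequalizer {X₀ X₁ : Sh J} (a b : X₁ ⟶ X₀) (h0 : InjP X₀) :
    InjP (coequalizer a b) := by
  intro I _ _ D i f g h
  obtain ⟨k, c, hc⟩ := h0 I D i (coequalizer.π a b ≫ f) (coequalizer.π a b ≫ g) (by
    rw [Category.assoc, Category.assoc, h])
  exact ⟨k, c, coequalizer.hom_ext (by rw [← Category.assoc, hc, Category.assoc])⟩

theorem surjP_coequalizer {X₀ X₁ : Sh J} (a b : X₁ ⟶ X₀) (h0 : SurjP X₀) (h1 : InjP X₁) :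
    SurjP (coequalizer a b) := by
  intro I _ _ D φ
  obtain ⟨i, ψ, hψ⟩ := h0 I D (coequalizer.π a b ≫ φ)
  obtain ⟨k, c, hc⟩ := h1 I D i (a ≫ ψ) (b ≫ ψ) (by
    rw [Category.assoc, Category.assoc, hψ, ← Category.assoc, ← Category.assoc,
      coequalizer.condition])
  refine ⟨k, coequalizer.desc (ψ ≫ D.map c) (by
    rw [← Category.assoc, ← Category.assoc]
    exact hc), ?_⟩
  apply coequalizer.hom_ext
  rw [← Category.assoc, coequalizer.π_desc, Category.assoc, colimit.w, hψ]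

theorem injP_of_retract {X Q : Sh J} (i : X ⟶ Q) (p : Q ⟶ X) (h : i ≫ p = 𝟙 X) (hQ : InjP Q) :
    InjP X := by
  intro I _ _ D j f g hfg
  obtain ⟨k, c, hc⟩ := hQ I D j (p ≫ f) (p ≫ g) (by rw [Category.assoc, Category.assoc, hfg])
  refine ⟨k, c, ?_⟩
  calc f ≫ D.map c = (i ≫ p) ≫ f ≫ D.map c := by rw [h, Category.id_comp]
    _ = i ≫ (p ≫ f) ≫ D.map c := by simp only [Category.assoc]
    _ = i ≫ (p ≫ g) ≫ D.map c := by rw [hc]
    _ = (i ≫ p) ≫ g ≫ D.map c := by simp only [Category.assoc]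
    _ = g ≫ D.map c := by rw [h, Category.id_comp]

theorem surjP_of_retract {X Q : Sh J} (i : X ⟶ Q) (p : Q ⟶ X) (h : i ≫ p = 𝟙 X)
    (hQ : SurjP Q) : SurjP X := by
  intro I _ _ D φ
  obtain ⟨j, ψ, hψ⟩ := hQ I D (p ≫ φ)
  exact ⟨j, i ≫ ψ, by rw [Category.assoc, hψ, ← Category.assoc, h, Category.id_comp]⟩

theorem isFP_coequalizer {X₀ X₁ : Sh J} (a b : X₁ ⟶ X₀) (h0 : IsFP X₀) (h1 : IsFP X₁) :
    IsFP (coequalizer a b) := by
  have f0 := (isFP_iff X₀).1 h0
  have f1 := (isFP_iff X₁).1 h1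
  exact (isFP_iff _).2 ⟨injP_coequalizer a b f0.1, surjP_coequalizer a b f0.2 f1.1⟩

theorem isFP_of_retract {X Q : Sh J} (i : X ⟶ Q) (p : Q ⟶ X) (h : i ≫ p = 𝟙 X) (hQ : IsFP Q) :
    IsFP X := by
  have fQ := (isFP_iff Q).1 hQ
  exact (isFP_iff X).2 ⟨injP_of_retract i p h fQ.1, surjP_of_retract i p h fQ.2⟩

theorem isCoherent_of_retract {X Q : Sh J} (i : X ⟶ Q) (p : Q ⟶ X) (h : i ≫ p = 𝟙 X)
    (hQ : IsCoherent Q) : IsCoherent X := by
  have h1 : Epi (i ≫ p) := by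
    rw [h]
    infer_instance
  have h2 : Mono (i ≫ p) := by
    rw [h]
    infer_instance
  have h3 : Epi p := epi_of_epi i p
  have h4 : Mono i := mono_of_mono i p
  exact ⟨isQC_of_epi p hQ.1, isQS_of_mono i hQ.2⟩

theorem hasQCGenerators_of_hasCoherentGenerators (h : HasCoherentGenerators J) :
    HasQCGenerators J := by
  intro X
  obtain ⟨ι, F, π, hF, hπ⟩ := h X
  exact ⟨ι, F, π, fun i => (hF i).1, hπ⟩

theorem isGenerating_of_hasCoherentGenerators (h : HasCoherentGenerators J) :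
    IsGenerating {K : Sh J | IsCoherent K} := by
  intro X
  obtain ⟨ι, F, π, hF, hπ⟩ := h X
  exact ⟨ι, F, π, hF, fun Z a b hab => (epi_sigma_iff π).1 hπ a b hab⟩

theorem isCoherent_sigma {T : Type u} [Finite T] (K : T → Sh J) (h : ∀ n, IsCoherent (K n)) :
    IsCoherent (∐ K) :=
  ⟨isQC_of_finite_cov (fun n => Sigma.ι K n)
      (cov_inj (Cofan.mk (∐ K) (Sigma.ι K)) (coproductIsCoproduct K)) (fun n => (h n).1),
    isQS_of_isColimit_cofan (Cofan.mk (∐ K) (Sigma.ι K)) (coproductIsCoproduct K)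
      (fun n => (h n).2)⟩

/-- SGA 4 VI 1.24, key step: an object of finite presentation is a retract of the coequalizer
of a pair of arrows between finite coproducts of generators. -/
theorem exists_retract_of_isFP {S : Set (Sh J)} (hgen : IsGenerating S) {X : Sh J}
    (hX : IsFP X) :
    ∃ (T : Type u) (_ : Finite T) (K : T → Sh J) (A : Type u) (H : A → Sh J) (t : Finset A)
      (a b : (∐ fun α : t => H α) ⟶ ∐ K) (i : X ⟶ coequalizer a b) (p : coequalizer a b ⟶ X),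
      (∀ n, K n ∈ S) ∧ (∀ α, H α ∈ S) ∧ i ≫ p = 𝟙 X := by
  classical
  obtain ⟨hinj, hsurj⟩ := (isFP_iff X).1 hX
  have hqc : IsQC X := isQC_of_injP hinj
  obtain ⟨T, _, K, k, hK, hk⟩ := exists_finite_cov_of_generating hgen hqc
  have hp : Epi (Sigma.desc k) := (epi_sigma_iff k).2 hk
  obtain ⟨A, H, ρ, hH, hρ⟩ :=
    exists_cov_of_generating hgen (pullback (Sigma.desc k) (Sigma.desc k))
  obtain ⟨l, hl⟩ : ∃ l : ∀ α, H α ⟶ ∐ K, ∀ α, l α = ρ α ≫ pullback.fst _ _ :=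
    ⟨_, fun _ => rfl⟩
  obtain ⟨r, hr⟩ : ∃ r : ∀ α, H α ⟶ ∐ K, ∀ α, r α = ρ α ≫ pullback.snd _ _ :=
    ⟨_, fun _ => rfl⟩
  have hlr : ∀ α, l α ≫ Sigma.desc k = r α ≫ Sigma.desc k := fun α => by
    rw [hl, hr, Category.assoc, Category.assoc, pullback.condition]
  have huniv : ∀ ⦃Z : Sh J⦄ (g : ∐ K ⟶ Z), (∀ α, l α ≫ g = r α ≫ g) →
      ∃ h : X ⟶ Z, Sigma.desc k ≫ h = g := by
    intro Z g hg
    apply exists_desc_of_epi
    apply hρ
    intro α
    rw [← Category.assoc, ← Category.assoc, ← hl, ← hr]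
    exact hg α
  obtain ⟨t, ψ, hψ⟩ := exists_retract_of_surj l r (Sigma.desc k) hlr huniv
    (fun φ => hsurj (Finset A) (cqFunctor l r) φ)
  exact ⟨T, inferInstance, K, A, H, t, _, _, ψ,
    cqDesc l r t (Sigma.desc k) (fun α _ => hlr α), hK, hH, hψ⟩

end Groth.Agent.H25.TF
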