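import Groth.Agent.H25.ToposFin8
import Mathlib.CategoryTheory.Presentable.StrongGenerator
import Mathlib.CategoryTheory.Presentable.Finite

/-!
# Toolkit for finiteness conditions in a sheaf topos, part 9: a topos with coherent generators
is locally finitely presentable (every object is a small filtered colimit of objects of finite
presentation).
-/

set_option autoImplicit false
open CategoryTheory CategoryTheory.Limits Opposite
universe w w' u
open ToposFin

namespace Groth.Agent.H25.TF

variable {C : Type u} [SmallCategory C] {J : GrothendieckTopology C}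

section LFP

open Cardinal
attribute [local instance] Cardinal.fact_isRegular_aleph0

theorem isFinitelyPresentable_of_isFP {X : Sh J} (h : IsFP X) : IsFinitelyPresentable.{u} X := by
  rw [isFinitelyPresentable_iff_preservesFilteredColimitsOfSize]
  refine ⟨fun I _ _ => ⟨?_⟩⟩
  intro D
  have : IsIso (colimit.post D (coyoneda.obj (op X))) := (isIso_iff_bijective _).2 (h I D)
  exact preservesColimit_of_isIso_post _ _

theorem isFP_of_isFinitelyPresentable {X : Sh J} (h : IsFinitelyPresentable.{u} X) : IsFP X := by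
  intro I _ _ D
  have h1 : PreservesFilteredColimitsOfSize.{u, u} (coyoneda.obj (op X)) :=
    isFinitelyPresentable_iff_preservesFilteredColimitsOfSize.1 h
  have h2 : PreservesColimitsOfShape I (coyoneda.obj (op X)) :=
    h1.preserves_filtered_colimits I
  exact (isIso_iff_bijective _).1 inferInstance

/-- Every object of a topos with coherent generators is a small filtered colimit of objects of
finite presentation. -/
theorem exists_filtered_presentation (hE : HasCoherentGenerators J) (X : Sh J) :
    ∃ (I : Type u) (_ : SmallCategory I) (_ : IsFiltered I) (D : I ⥤ Sh J),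
      (∀ i, IsFP (D.obj i)) ∧ Nonempty (X ≅ colimit D) := by
  have hE' := hasQCGenerators_of_hasCoherentGenerators hE
  choose ιU FU πU hFU hπU using fun U : C => hE (eps J U)
  obtain ⟨G, hG⟩ : ∃ G : (Σ U : C, ιU U) → Sh J, ∀ x, G x = FU x.1 x.2 := ⟨_, fun _ => rfl⟩
  have hGc : ∀ x, IsCoherent (G x) := fun x => by
    rw [hG]
    exact hFU x.1 x.2
  have hstrong : (ObjectProperty.ofObj G).IsStrongGenerator := by
    apply ObjectProperty.IsStrongGenerator.mk_of_exists_extremalEpi
    intro Y
    have h1 : Cov (fun i : (Σ V : C, Y.obj.obj (op V)) => secMap i.2) := by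
      refine cov_of_lsurj _ (fun U x => ⟨⊤, J.top_mem U, fun V f _ => ?_⟩)
      refine ⟨⟨V, Y.obj.map f.op x⟩, eta J V (𝟙 V), ?_⟩
      rw [secMap_eta, op_id, Functor.map_id_apply]
    have h2 : Cov (fun x : (Σ i : (Σ V : C, Y.obj.obj (op V)), ιU i.1) =>
        πU x.1.1 x.2 ≫ secMap x.1.2) :=
      cov_comp h1 (fun i => (epi_sigma_iff _).1 (hπU i.1))
    have hp : Epi (Sigma.desc (fun x : (Σ i : (Σ V : C, Y.obj.obj (op V)), ιU i.1) =>
        πU x.1.1 x.2 ≫ secMap x.1.2)) := (epi_sigma_iff _).2 h2
    have hs : StrongEpi (Sigma.desc (fun x : (Σ i : (Σ V : C, Y.obj.obj (op V)), ιU i.1) =>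
        πU x.1.1 x.2 ≫ secMap x.1.2)) := StrongEpiCategory.strongEpi_of_epi _
    refine ⟨(Σ i : (Σ V : C, Y.obj.obj (op V)), ιU i.1), fun x => FU x.1.1 x.2, fun x => ?_,
      Cofan.mk _ (Sigma.ι _), coproductIsCoproduct _,
      Sigma.desc (fun x => πU x.1.1 x.2 ≫ secMap x.1.2), inferInstance⟩
    have e := hG ⟨x.1.1, x.2⟩
    have h3 := ObjectProperty.ofObj_apply G ⟨x.1.1, x.2⟩
    rw [e] at h3
    exact h3
  have hle : ObjectProperty.ofObj G ≤ isCardinalPresentable (Sh J) (ℵ₀ : Cardinal.{u}) := by
    rw [ObjectProperty.ofObj_le_iff]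
    intro x
    exact isFinitelyPresentable_of_isFP (isFP_of_isCoherent hE' (hGc x))
  have hlp : IsCardinalLocallyPresentable (Sh J) (ℵ₀ : Cardinal.{u}) :=
    (IsCardinalLocallyPresentable.iff_exists_isStrongGenerator (Sh J) ℵ₀).2
      ⟨_, inferInstance, hstrong, hle⟩
  obtain ⟨P', _, hP'⟩ :=
    HasCardinalFilteredGenerator.exists_small_generator (Sh J) (ℵ₀ : Cardinal.{u})
  obtain ⟨I, hI1, hI2, ⟨pres⟩⟩ := hP'.exists_colimitsOfShape X
  have hI3 : IsFiltered I := (isCardinalFiltered_aleph0_iff I).1 hI2
  refine ⟨I, hI1, hI3, pres.diag, fun i => ?_,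
    ⟨pres.isColimit.coconePointUniqueUpToIso (colimit.isColimit pres.diag)⟩⟩
  exact isFP_of_isFinitelyPresentable (hP'.le_isCardinalPresentable _ (pres.prop_diag_obj i))

end LFP

end Groth.Agent.H25.TF
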