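import Mathlib

set_option autoImplicit false

namespace Groth.Agent.H25
open MvPolynomial

universe u

section wtmono
variable {k : Type u} [CommRing k] {σ : Type*} {M : Type*} [AddCommGroup M]

theorem monomial_split (d e : σ →₀ ℕ) (h : e ≤ d) (c : k) :
    monomial d c = monomial (d - e) c * monomial e (1 : k) := by
  rw [monomial_mul, mul_one, tsub_add_cancel_of_le h]

theorem weight_tsub (w : σ → M) (d e : σ →₀ ℕ) (h : e ≤ d) :
    Finsupp.weight w (d - e) = Finsupp.weight w d - Finsupp.weight w e := by
  rw [eq_sub_iff_add_eq, ← map_add, tsub_add_cancel_of_le h]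

theorem mem_of_forall_monomial (S : Submodule k (MvPolynomial σ k)) (f : MvPolynomial σ k)
    (h : ∀ d ∈ f.support, monomial d (coeff d f) ∈ S) : f ∈ S := by
  rw [← f.support_sum_monomial_coeff]
  exact Submodule.sum_mem _ h

theorem monomial_sub_mem_wh (w : σ → M) (d e : σ →₀ ℕ) (h : e ≤ d) (c : k) (ν : M)
    (hd : Finsupp.weight w d = ν) (he : Finsupp.weight w e = ν) :
    monomial (d - e) c ∈ weightedHomogeneousSubmodule k w 0 := by
  apply isWeightedHomogeneous_monomial
  rw [weight_tsub w d e h, hd, he, sub_self]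

theorem monomial_mem_map_mulRight (w : σ → M) (d e : σ →₀ ℕ) (h : e ≤ d) (c : k) (ν : M)
    (hd : Finsupp.weight w d = ν) (he : Finsupp.weight w e = ν) (G : MvPolynomial σ k)
    (hG : monomial e (1 : k) = G) :
    monomial d c ∈ (weightedHomogeneousSubmodule k w 0).map (LinearMap.mulRight k G) :=
  Submodule.mem_map.mpr ⟨monomial (d - e) c, monomial_sub_mem_wh w d e h c ν hd he, by
    rw [LinearMap.mulRight_apply, ← hG, ← monomial_split d e h]⟩

theorem single_le' (i : σ) (n : ℕ) (d : σ →₀ ℕ) (h : n ≤ d i) : Finsupp.single i n ≤ d := by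
  classical
  intro j
  rw [Finsupp.single_apply]
  split_ifs with hij
  · subst hij; exact h
  · exact Nat.zero_le _

theorem single_add_single_le (i j : σ) (hij : i ≠ j) (d : σ →₀ ℕ) (hi : 1 ≤ d i) (hj : 1 ≤ d j) :
    Finsupp.single i 1 + Finsupp.single j 1 ≤ d := by
  classical
  intro l
  rw [Finsupp.add_apply, Finsupp.single_apply, Finsupp.single_apply]
  split_ifs with h1 h2 h2
  · exact absurd (h1.trans h2.symm) hij
  · subst h1; simpa using hi
  · subst h2; simpa using hj
  · simp

theorem X_mul_X_eq_monomial (i j : σ) :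
    (X i * X j : MvPolynomial σ k) = monomial (Finsupp.single i 1 + Finsupp.single j 1) 1 := by
  show monomial _ 1 * monomial _ 1 = _
  rw [monomial_mul, mul_one]

theorem monomial_mul_X (d : σ →₀ ℕ) (c : k) (i : σ) :
    monomial d c * X i = monomial (d + Finsupp.single i 1) c := by
  show monomial d c * monomial _ 1 = _
  rw [monomial_mul, mul_one]

end wtmono

end Groth.Agent.H25
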